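import Mathlib

/-!
# Stalks of `Proj` of a normal graded ring (helper9)

`HomogeneousLocalization.AtPrime 𝒜 p` is an integrally closed domain as soon as the ordinary
localization `A_p` is one: an element of the fraction field integral over `A_(p)` lies in `A_p`,
and comparing homogeneous components of a suitable degree produces a representative of degree `0`
with homogeneous denominator.
-/

set_option autoImplicit false
universe u

namespace Groth.Agent.Lib.T2H9.ProjNormal

open HomogeneousLocalization

variable {A : Type u} [CommRing A] (𝒜 : ℕ → AddSubgroup A) [GradedRing 𝒜]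

/-- a non-member of a homogeneous ideal has a homogeneous component outside it -/
theorem exists_proj_notMem (p : Ideal A) {s : A} (hs : s ∉ p) :
    ∃ i : ℕ, (GradedRing.proj 𝒜 i s) ∉ p := by
  classical
  by_contra hcon
  push Not at hcon
  apply hs
  rw [← DirectSum.sum_support_decompose 𝒜 s]
  exact p.sum_mem fun i _ => hcon i

theorem atPrime_isDomain_and_isIntegrallyClosed (p : Ideal A) [p.IsPrime]
    [IsDomain (Localization.AtPrime p)] [IsIntegrallyClosed (Localization.AtPrime p)] :
    IsDomain (HomogeneousLocalization.AtPrime 𝒜 p) ∧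
      IsIntegrallyClosed (HomogeneousLocalization.AtPrime 𝒜 p) := by
  classical
  have hinj : Function.Injective
      (algebraMap (HomogeneousLocalization.AtPrime 𝒜 p) (Localization.AtPrime p)) :=
    HomogeneousLocalization.val_injective _
  haveI : IsDomain (HomogeneousLocalization.AtPrime 𝒜 p) :=
    hinj.isDomain (algebraMap (HomogeneousLocalization.AtPrime 𝒜 p) (Localization.AtPrime p))
  refine ⟨inferInstance, ?_⟩
  rw [isIntegrallyClosed_iff (FractionRing (HomogeneousLocalization.AtPrime 𝒜 p))]
  intro x hx
  obtain ⟨u, v, hv, rfl⟩ := IsFractionRing.div_surjective (A := HomogeneousLocalization.AtPrime 𝒜 p) x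
  have hv0 : v ≠ 0 := nonZeroDivisors.ne_zero hv
  -- the map to the fraction field of `A_p`
  let g : HomogeneousLocalization.AtPrime 𝒜 p →+* FractionRing (Localization.AtPrime p) :=
    (algebraMap (Localization.AtPrime p) (FractionRing (Localization.AtPrime p))).comp
      (algebraMap (HomogeneousLocalization.AtPrime 𝒜 p) (Localization.AtPrime p))
  have hg : Function.Injective g :=
    (IsFractionRing.injective (Localization.AtPrime p) _).comp hinj
  let φ : FractionRing (HomogeneousLocalization.AtPrime 𝒜 p) →+*
      FractionRing (Localization.AtPrime p) := IsFractionRing.lift hg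
  have hφ : ∀ r, φ (algebraMap _ _ r) = g r := fun r => IsFractionRing.lift_algebraMap hg r
  -- image of `x` is integral over `A_p`
  have hint : IsIntegral (Localization.AtPrime p)
      (φ (algebraMap _ _ u / algebraMap _ _ v)) := by
    obtain ⟨P, hP, hPx⟩ := hx
    refine ⟨P.map (algebraMap (HomogeneousLocalization.AtPrime 𝒜 p) (Localization.AtPrime p)),
      hP.map _, ?_⟩
    have h1 := congrArg φ hPx
    rw [map_zero, Polynomial.eval₂_eq_eval_map, ← Polynomial.eval₂_at_apply,
      Polynomial.eval₂_map] at h1
    rw [Polynomial.eval₂_map]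
    have h2 : φ.comp (algebraMap (HomogeneousLocalization.AtPrime 𝒜 p)
        (FractionRing (HomogeneousLocalization.AtPrime 𝒜 p))) = g := RingHom.ext hφ
    rw [h2] at h1
    exact h1
  obtain ⟨y, hy⟩ := (isIntegrallyClosed_iff (FractionRing (Localization.AtPrime p))).1
    inferInstance hint
  -- `y * val v = val u` in `A_p`
  have hyv : y * v.val = u.val := by
    apply IsFractionRing.injective (Localization.AtPrime p) (FractionRing (Localization.AtPrime p))
    rw [map_mul, hy, map_div₀, hφ, hφ]
    have : g v ≠ 0 := fun h => hv0 (hg (by rw [h, map_zero]))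
    change g u / g v * g v = g u
    rw [div_mul_cancel₀ _ this]
  obtain ⟨a, s, rfl⟩ := IsLocalization.exists_mk'_eq p.primeCompl y
  rw [u.eq_num_div_den, v.eq_num_div_den, Localization.mk_eq_mk'] at hyv
  rw [← IsLocalization.mk'_mul, IsLocalization.eq] at hyv
  obtain ⟨c, hc⟩ := hyv
  -- `a' * D = s' * N` with `s' ∉ p` and `D`, `N` homogeneous of the same degree
  have hs' : (c : A) * (s : A) ∉ p := fun h =>
    (Ideal.IsPrime.mem_or_mem inferInstance h).elim c.2 s.2
  obtain ⟨i, hi⟩ := exists_proj_notMem 𝒜 p hs'
  have hD : (v.num * u.den : A) ∈ 𝒜 (v.deg + u.deg) :=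
    SetLike.mul_mem_graded v.num_mem_deg u.den_mem_deg
  have hN : (u.num * v.den : A) ∈ 𝒜 (v.deg + u.deg) := by
    rw [add_comm]
    exact SetLike.mul_mem_graded u.num_mem_deg v.den_mem_deg
  have key : GradedRing.proj 𝒜 i ((c : A) * a) * (v.num * u.den) =
      GradedRing.proj 𝒜 i ((c : A) * s) * (u.num * v.den) := by
    have e1 : ((c : A) * a) * (v.num * u.den) = ((c : A) * s) * (u.num * v.den) := by
      simp only [Submonoid.coe_mul] at hc
      linear_combination hc
    have e2 := congrArg (GradedRing.proj 𝒜 (i + (v.deg + u.deg))) e1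
    simp only [GradedRing.proj_apply] at e2 ⊢
    rwa [DirectSum.coe_decompose_mul_add_of_right_mem 𝒜 hD,
      DirectSum.coe_decompose_mul_add_of_right_mem 𝒜 hN] at e2
  refine ⟨HomogeneousLocalization.mk ⟨i, ⟨GradedRing.proj 𝒜 i ((c : A) * a), ?_⟩,
    ⟨GradedRing.proj 𝒜 i ((c : A) * s), ?_⟩, hi⟩, ?_⟩
  · simp only [GradedRing.proj_apply]; exact SetLike.coe_mem _
  · simp only [GradedRing.proj_apply]; exact SetLike.coe_mem _
  · rw [eq_div_iff (fun h => hv0 ((IsFractionRing.injective _ _) (by rw [h, map_zero]))),
      ← map_mul]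
    congr 1
    apply HomogeneousLocalization.val_injective
    rw [HomogeneousLocalization.val_mul, HomogeneousLocalization.val_mk, u.eq_num_div_den,
      v.eq_num_div_den, Localization.mk_mul, Localization.mk_eq_mk_iff, Localization.r_iff_exists]
    refine ⟨1, ?_⟩
    simp only [OneMemClass.coe_one, one_mul, Submonoid.coe_mul]
    linear_combination key

end Groth.Agent.Lib.T2H9.ProjNormal
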