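import Mathlib
import Groth.Prelude.Def_CohB1
import Groth.Agent.Lib.Helper27PnSections

/-!
# T2H9ProjPt1 (helper9): rational points of `P^{n+1}_k` outside a proper closed subset (`k` infinite)
and the linear forms vanishing at them
-/

set_option autoImplicit false
set_option linter.unusedSectionVars false
set_option linter.unusedVariables false
set_option linter.style.haveILetI false
universe u

open AlgebraicGeometry MvPolynomial

namespace Groth.Agent.Lib.T2H9.ProjPt

variable (k : Type u) [Field k] (n : ℕ)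

local notation "PG" => CohB1.polyGrading (n + 1) k

/-- the linear forms `a_0 T_{i+1} - a_{i+1} T_0` vanishing at `a` -/
noncomputable def lform (a : Fin (n + 2) → k) (i : Fin (n + 1)) : MvPolynomial (Fin (n + 2)) k :=
  C (a 0) * X i.succ - C (a i.succ) * X 0

theorem lform_mem (a : Fin (n + 2) → k) (i : Fin (n + 1)) : lform k n a i ∈ PG 1 := by
  unfold lform
  refine Submodule.sub_mem _ ?_ ?_
  · have := (isHomogeneous_C (Fin (n + 2)) (a 0)).mul (isHomogeneous_X k i.succ)
    simpa using this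
  · have := (isHomogeneous_C (Fin (n + 2)) (a i.succ)).mul (isHomogeneous_X k (0 : Fin (n + 2)))
    simpa using this

variable {k n}

theorem sub_aeval_mem (a : Fin (n + 2) → k) (ha : a 0 ≠ 0) (f : MvPolynomial (Fin (n + 2)) k) :
    f - aeval (fun j => C (a j / a 0) * (X 0 : MvPolynomial (Fin (n + 2)) k)) f ∈
      Ideal.span (Set.range (lform k n a)) := by
  induction f using MvPolynomial.induction_on with
  | C c => simp
  | add p q hp hq =>
    rw [map_add, add_sub_add_comm]
    exact Ideal.add_mem _ hp hq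
  | mul_X p j hp =>
    rw [map_mul, aeval_X]
    have h1 : p * X j - aeval (fun j => C (a j / a 0) * (X 0 : MvPolynomial (Fin (n + 2)) k)) p *
        (C (a j / a 0) * X 0) =
        (p - aeval (fun j => C (a j / a 0) * (X 0 : MvPolynomial (Fin (n + 2)) k)) p) * X j +
          aeval (fun j => C (a j / a 0) * (X 0 : MvPolynomial (Fin (n + 2)) k)) p *
            (X j - C (a j / a 0) * X 0) := by ring
    rw [h1]
    refine Ideal.add_mem _ (Ideal.mul_mem_right _ _ hp) (Ideal.mul_mem_left _ _ ?_)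
    refine Fin.cases ?_ (fun i => ?_) j
    · rw [div_self ha, map_one, one_mul, sub_self]
      exact zero_mem _
    · have h2 : (X i.succ - C (a i.succ / a 0) * X 0 : MvPolynomial (Fin (n + 2)) k) =
          C (a 0)⁻¹ * lform k n a i := by
        unfold lform
        rw [mul_sub, ← mul_assoc, ← mul_assoc, ← map_mul, ← map_mul, inv_mul_cancel₀ ha, map_one,
          one_mul, div_eq_inv_mul]
      rw [h2]
      exact Ideal.mul_mem_left _ _ (Ideal.subset_span ⟨i, rfl⟩)

theorem sum_eq_of_isHomogeneous {g : MvPolynomial (Fin (n + 2)) k} {e : ℕ}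
    (hg : g.IsHomogeneous e) {d : Fin (n + 2) →₀ ℕ} (hd : d ∈ g.support) : ∑ i, d i = e := by
  have h := hg (mem_support_iff.mp hd)
  have h2 : (Finsupp.weight (1 : Fin (n + 2) → ℕ)) d = Finsupp.degree d :=
    (DFunLike.congr_fun (Finsupp.degree_eq_weight_one (R := ℕ) (σ := Fin (n + 2))) d).symm
  rw [h2] at h
  rw [← h, Finsupp.degree_eq_sum]

theorem aeval_of_isHomogeneous (c : Fin (n + 2) → k) {g : MvPolynomial (Fin (n + 2)) k} {e : ℕ}
    (hg : g.IsHomogeneous e) :
    aeval (fun j => C (c j) * (X 0 : MvPolynomial (Fin (n + 2)) k)) g = C (eval c g) * X 0 ^ e := by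
  rw [aeval_def, eval₂_eq', eval_eq', map_sum, Finset.sum_mul]
  refine Finset.sum_congr rfl (fun d hd => ?_)
  rw [map_mul, map_prod, mul_assoc]
  congr 1
  simp only [mul_pow, Finset.prod_mul_distrib, map_pow]
  congr 1
  rw [Finset.prod_pow_eq_pow_sum, sum_eq_of_isHomogeneous hg hd]

theorem eval_smul_of_isHomogeneous (t : k) (a : Fin (n + 2) → k)
    {g : MvPolynomial (Fin (n + 2)) k} {e : ℕ} (hg : g.IsHomogeneous e) :
    eval (fun j => t * a j) g = t ^ e * eval a g := by
  rw [eval_eq', eval_eq', Finset.mul_sum]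
  refine Finset.sum_congr rfl (fun d hd => ?_)
  simp only [mul_pow, Finset.prod_mul_distrib]
  rw [Finset.prod_pow_eq_pow_sum, sum_eq_of_isHomogeneous hg hd]
  ring

theorem not_mem_of_lform_mem (a : Fin (n + 2) → k) (ha : a 0 ≠ 0)
    {g : MvPolynomial (Fin (n + 2)) k} {e : ℕ} (hg : g.IsHomogeneous e) (hga : eval a g ≠ 0)
    (y : ProjectiveSpectrum PG) (hy : ∀ i, lform k n a i ∈ y.asHomogeneousIdeal) :
    g ∉ y.asHomogeneousIdeal := by
  intro hgy
  have hI : Ideal.span (Set.range (lform k n a)) ≤ y.asHomogeneousIdeal.toIdeal := by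
    rw [Ideal.span_le]
    rintro _ ⟨i, rfl⟩
    exact hy i
  have h1 := hI (sub_aeval_mem a ha g)
  have h2 : aeval (fun j => C (a j / a 0) * (X 0 : MvPolynomial (Fin (n + 2)) k)) g ∈
      y.asHomogeneousIdeal.toIdeal := by
    have := Ideal.sub_mem _ hgy h1
    rwa [sub_sub_cancel] at this
  rw [aeval_of_isHomogeneous (fun j => a j / a 0) hg] at h2
  have h3 : eval (fun j => a j / a 0) g ≠ 0 := by
    have h4 : (fun j => a j / a 0) = fun j => (a 0)⁻¹ * a j := by
      funext j
      rw [div_eq_inv_mul]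
    rw [h4, eval_smul_of_isHomogeneous _ a hg]
    exact mul_ne_zero (pow_ne_zero _ (inv_ne_zero ha)) hga
  have hunit : IsUnit (C (eval (fun j => a j / a 0) g) : MvPolynomial (Fin (n + 2)) k) :=
    (isUnit_iff_ne_zero.mpr h3).map C
  have h7 : (X 0 : MvPolynomial (Fin (n + 2)) k) ^ e ∈ y.asHomogeneousIdeal.toIdeal := by
    obtain ⟨u, hu⟩ := hunit
    have := Ideal.mul_mem_left _ (↑u⁻¹ : MvPolynomial (Fin (n + 2)) k) h2
    rwa [← hu, ← mul_assoc, Units.inv_mul, one_mul] at this
  have h8 : (X 0 : MvPolynomial (Fin (n + 2)) k) ∈ y.asHomogeneousIdeal.toIdeal :=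
    y.isPrime.mem_of_pow_mem e h7
  obtain ⟨j, hj⟩ := Groth.Agent.Lib.Helper27PnSections.exists_X_not_mem (n + 1) k y
  apply hj
  refine Fin.cases h8 (fun i => ?_) j
  have h9 : C (a 0) * (X i.succ : MvPolynomial (Fin (n + 2)) k) ∈ y.asHomogeneousIdeal.toIdeal := by
    have := Ideal.add_mem _ (hy i) (Ideal.mul_mem_left _ (C (a i.succ)) h8)
    unfold lform at this
    rwa [sub_add_cancel] at this
  have hunit0 : IsUnit (C (a 0) : MvPolynomial (Fin (n + 2)) k) := (isUnit_iff_ne_zero.mpr ha).map C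
  obtain ⟨u, hu⟩ := hunit0
  have := Ideal.mul_mem_left _ (↑u⁻¹ : MvPolynomial (Fin (n + 2)) k) h9
  rwa [← hu, ← mul_assoc, Units.inv_mul, one_mul] at this

/-- over an infinite field, a proper closed subset of `P^{n+1}_k` misses a rational point `a`
(with `a_0 ≠ 0`), in the form: every point at which the linear forms vanishing at `a` vanish is
outside the closed subset -/
theorem exists_point [Infinite k] (Z : Set (ProjectiveSpectrum PG)) (hZ : IsClosed Z)
    (hne : Z ≠ Set.univ) :
    ∃ a : Fin (n + 2) → k, a 0 ≠ 0 ∧ ∀ y : ProjectiveSpectrum PG,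
      (∀ i, lform k n a i ∈ y.asHomogeneousIdeal) → y ∉ Z := by
  classical
  obtain ⟨s, hs⟩ := (ProjectiveSpectrum.isClosed_iff_zeroLocus PG Z).1 hZ
  obtain ⟨p, hp⟩ := (Set.ne_univ_iff_exists_notMem Z).1 hne
  rw [hs, ProjectiveSpectrum.mem_zeroLocus, Set.not_subset] at hp
  obtain ⟨f, hfs, hfp⟩ := hp
  obtain ⟨i, hi⟩ : ∃ i, (GradedRing.proj PG i f) ∉ p.asHomogeneousIdeal := by
    by_contra hcon
    push Not at hcon
    apply hfp
    change f ∈ p.asHomogeneousIdeal.toIdeal
    rw [← DirectSum.sum_support_decompose PG f]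
    exact Ideal.sum_mem _ (fun j _ => hcon j)
  have hghom : (GradedRing.proj PG i f).IsHomogeneous i := by
    have : (GradedRing.proj PG i f) ∈ PG i := by
      rw [GradedRing.proj_apply]
      exact SetLike.coe_mem _
    exact this
  have hgZ : ∀ q ∈ Z, (GradedRing.proj PG i f) ∈ q.asHomogeneousIdeal := by
    intro q hq
    rw [hs, ProjectiveSpectrum.mem_zeroLocus] at hq
    have hfq : f ∈ q.asHomogeneousIdeal.toIdeal := hq hfs
    rw [GradedRing.proj_apply]
    exact q.asHomogeneousIdeal.2 i hfq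
  have hg0 : (GradedRing.proj PG i f) ≠ 0 := by
    intro h0
    apply hi
    rw [h0]
    exact zero_mem _
  have hg'0 : (GradedRing.proj PG i f) * (X 0 : MvPolynomial (Fin (n + 2)) k) ≠ 0 :=
    mul_ne_zero hg0 (X_ne_zero _)
  obtain ⟨a, ha⟩ : ∃ a : Fin (n + 2) → k,
      eval a ((GradedRing.proj PG i f) * (X 0 : MvPolynomial (Fin (n + 2)) k)) ≠ 0 := by
    by_contra hcon
    push Not at hcon
    apply hg'0
    apply MvPolynomial.funext
    intro x
    rw [hcon x, map_zero]
  rw [map_mul, eval_X] at ha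
  refine ⟨a, right_ne_zero_of_mul ha, fun y hy hyZ => ?_⟩
  exact not_mem_of_lform_mem a (right_ne_zero_of_mul ha) hghom (left_ne_zero_of_mul ha) y hy
    (hgZ y hyZ)

end Groth.Agent.Lib.T2H9.ProjPt
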