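import Groth.Agent.Lib.T2H9ProjPt1
import Groth.Agent.Lib.Helper27OpenImmAmple
import Groth.Agent.Lib.T2H6VAmpleC
import Groth.Agent.Lib.T3H9Rig5
import Groth.Agent.S9705

/-!
# T2H9ProjPt2 (helper9): linear projection of a finite `X → P^{n+1}_k` from a rational point outside the image
-/

set_option autoImplicit false
set_option linter.unusedSectionVars false
set_option linter.unusedVariables false
set_option linter.style.haveILetI false
universe u

open CategoryTheory CategoryTheory.Limits AlgebraicGeometry TopologicalSpace Opposite MvPolynomial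
open Groth.Agent.Lib.T3H9.Rig
open Groth.Agent.Lib.Helper27GrTildeSect Groth.Agent.Lib.Helper23.SecTw

namespace Groth.Agent.Lib.T2H9.ProjPt

variable (k : Type u) [Field k] (n : ℕ)

/-- projection from a rational point outside the image of a finite morphism -/
theorem step {X : Scheme.{u}} (ι : X ⟶ CohB1.ProjSpace (n + 1) k) [IsFinite ι]
    (a : Fin (n + 2) → k)
    (hmiss : ∀ x : X, ∃ i, lform k n a i ∉
      (show ProjectiveSpectrum (CohB1.polyGrading (n + 1) k) from ι x).asHomogeneousIdeal) :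
    ∃ ρ : X ⟶ CohB1.ProjSpace n k,
      ρ ≫ CohB1.ProjSpace.toSpec n k = ι ≫ CohB1.ProjSpace.toSpec (n + 1) k ∧ IsFinite ρ ∧
      Nonempty ((Scheme.Modules.pullback ρ).obj (Twist.twistProjSpace n k 1) ≅
        (Scheme.Modules.pullback ι).obj (Twist.twistProjSpace (n + 1) k 1)) := by
  have hinv : PicF.IsInvertible ((Scheme.Modules.pullback ι).obj (Twist.twistProjSpace (n + 1) k 1)) :=
    Groth.Agent.Lib.Helper23.PB.isInvertible_pullback ι _ (Dat.isInvertible_univ (n + 1) k)
  have hcov : ∀ x : X, ∃ i, ι x ∈ Proj.basicOpen (CohB1.polyGrading (n + 1) k) (lform k n a i) := by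
    intro x
    obtain ⟨i, hi⟩ := hmiss x
    exact ⟨i, (ProjectiveSpectrum.mem_basicOpen (CohB1.polyGrading (n + 1) k) _ _).mpr hi⟩
  let t : Fin (n + 1) → ProjUP.Γm ((Scheme.Modules.pullback ι).obj (Twist.twistProjSpace (n + 1) k 1)) :=
    fun i => ProjUP.pullSec ι (Twist.twistProjSpace (n + 1) k 1)
      (gsec (CohB1.polyGrading (n + 1) k) 1 ⊤ (lform_mem k n a i))
  have hgl : ∀ i, CohB1.genLocus ((Scheme.Modules.pullback ι).obj (Twist.twistProjSpace (n + 1) k 1))
      (secHom _ (t i)) = ι ⁻¹ᵁ Proj.basicOpen (CohB1.polyGrading (n + 1) k) (lform k n a i) :=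
    fun i => genLocus_pullSec_gsec (CohB1.polyGrading (n + 1) k) 1 (lform k n a) (lform_mem k n a) ι hcov i
  have hgen : ProjUP.GeneratedBy _ t := by
    refine Groth.Agent.Lib.T2H6.VAmple.generatedBy_of_cover _ t (fun x => ?_)
    obtain ⟨i, hi⟩ := hcov x
    refine ⟨i, ?_⟩
    rw [hgl i]
    exact hi
  obtain ⟨ρ, hρ, hchart, τ, -⟩ := Groth.Agent.Lib.T2H6.VAmpleC.exists_mor_Pn n
    (ι ≫ CohB1.ProjSpace.toSpec (n + 1) k) _ hinv t hgen
  refine ⟨ρ, hρ, ?_, ⟨τ⟩⟩
  haveI : IsProper (CohB1.ProjSpace.toSpec (n + 1) k) :=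
    Groth.Agent.S9705.isProper_projSpace_toSpec (n + 1) k
  haveI : IsProper (CohB1.ProjSpace.toSpec n k) :=
    Groth.Agent.S9705.isProper_projSpace_toSpec n k
  haveI : IsProper (ρ ≫ CohB1.ProjSpace.toSpec n k) := by rw [hρ]; infer_instance
  haveI : IsProper ρ := IsProper.of_comp ρ (CohB1.ProjSpace.toSpec n k)
  haveI : IsAffineHom ρ := by
    apply isAffineHom_of_forall_exists_isAffineOpen
    intro y
    obtain ⟨i, hi⟩ := Groth.Agent.Lib.T2H6.SegreB.D_cover k n y
    refine ⟨Groth.Agent.Lib.T2H6.Segre.D k n i, hi, ?_, ?_⟩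
    · exact Proj.isAffineOpen_basicOpen (CohB1.polyGrading n k) (MvPolynomial.X i)
        (MvPolynomial.isHomogeneous_X k i) Nat.one_pos
    · obtain ⟨hle, hge, -⟩ := hchart i
      have heq : ρ ⁻¹ᵁ Groth.Agent.Lib.T2H6.Segre.D k n i =
          ι ⁻¹ᵁ Proj.basicOpen (CohB1.polyGrading (n + 1) k) (lform k n a i) := by
        rw [← hgl i]
        exact le_antisymm hge hle
      rw [heq]
      have hA : IsAffineHom ι := inferInstance
      exact @IsAffineOpen.preimage X (Proj (CohB1.polyGrading (n + 1) k)) _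
        (Proj.isAffineOpen_basicOpen (CohB1.polyGrading (n + 1) k) (lform k n a i)
          (lform_mem k n a i) Nat.one_pos) ι hA
  exact IsFinite.iff_isProper_and_isAffineHom.2 ⟨inferInstance, inferInstance⟩

end Groth.Agent.Lib.T2H9.ProjPt
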