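import Mathlib
import Groth.Prelude.Def_Curv2
import Groth.Agent.Lib.T2H9PtDeg
import Groth.Agent.Lib.T2H6PtTwistB
import Groth.Agent.Lib.T2H6LocGlobD
import Groth.Agent.Lib.T2H4AmpleAffine
import Groth.Agent.Lib.T2H6FieldBC

/-!
# T2H9PtTwistNI (helper9): twisting an invertible module by the ideal of a closed point on an arbitrary proper
curve over a field (no integrality hypothesis): `h⁰(L ⊗ I_x) ≤ h⁰(L) ≤ h⁰(L ⊗ I_x) + [κ(x):k]`
-/

set_option autoImplicit false
set_option linter.style.haveILetI false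
set_option linter.unusedSectionVars false
universe u

open AlgebraicGeometry CategoryTheory Limits TopologicalSpace Opposite

namespace Groth.Agent.Lib.T2H9.PtTwistNI

open Groth.Agent.Lib.T2H6.PtTwistA Groth.Agent.Lib.T2H6.PtTwistB Groth.Agent.Lib.T2H5.Twist
  Groth.Agent.Lib.T2H6.AmpleCrit Groth.Agent.Lib.T2H6.ParShC

attribute [local instance] Curv2.resAlgebra

section Ker

variable {X : Scheme.{u}}

/-- the kernel of a morphism from a reduced scheme is radical -/
theorem radical_ker {Y : Scheme.{u}} [IsReduced Y] (s : Y ⟶ X) [QuasiCompact s] : s.ker.radical = s.ker := by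
  ext U : 2
  change (s.ker.ideal U).radical = s.ker.ideal U
  rw [Scheme.Hom.ker_apply]
  apply Ideal.IsRadical.radical
  intro a ha
  obtain ⟨n, hn⟩ := ha
  rw [RingHom.mem_ker] at hn ⊢
  rw [map_pow] at hn
  exact IsReduced.eq_zero _ ⟨n, hn⟩

instance quasiCompact_fromSpecResidueField (x : X) : QuasiCompact (X.fromSpecResidueField x) := by
  constructor
  intro U _ _
  haveI : Subsingleton (Spec (X.residueField x)) :=
    inferInstanceAs (Subsingleton (PrimeSpectrum (X.residueField x)))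
  exact (Set.subsingleton_of_subsingleton).isCompact

/-- the kernel of `Spec κ(x) ⟶ X` is the ideal of the closed point `x` -/
theorem ker_fromSpecResidueField (x : X) (hx : IsClosed ({x} : Set X)) :
    (X.fromSpecResidueField x).ker = ptIdeal x hx := by
  rw [← radical_ker (X.fromSpecResidueField x), ← Scheme.IdealSheafData.vanishingIdeal_support]
  congr 1
  apply TopologicalSpace.Closeds.ext
  rw [Scheme.Hom.support_ker, Scheme.range_fromSpecResidueField, hx.closure_eq]
  rfl

end Ker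

variable (k : Type u) [Field k] {X : Scheme.{u}} [X.Over (Spec (CommRingCat.of k))]
  [IsProper (X ↘ Spec (CommRingCat.of k))]

/-- `h⁰(S₂) = h⁰(S₁) + dim im(H⁰(S₂) → H⁰(S₃))` (no integrality). -/
theorem finrank_H0_eq (S : ShortComplex X.Modules) (hS : S.ShortExact) (h2 : Coh.IsCoh S.X₂) :
    Module.finrank k (Coh.HH X S.X₂ 0) =
      Module.finrank k (Coh.HH X S.X₁ 0) + Module.finrank k (LinearMap.range (Canon.HHlin k S.g 0)) := by
  haveI : Module.Finite k (Coh.HH X S.X₂ 0) := Groth.Agent.Lib.T2H6.EulerField.finite_HH k X _ h2 0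
  have h := LinearMap.finrank_range_add_finrank_ker (Canon.HHlin k S.g 0)
  rw [Groth.Agent.Lib.T2H6.HHLin.exact₂ k S hS 0] at h
  haveI := hS.mono_f
  rw [LinearMap.finrank_range_of_inj
    (Groth.Agent.Lib.T2H6.HHLin.injective_HHlin_zero_of_mono k S.f)] at h
  omega

/-- the twisted point sequence on a proper scheme over a field:
`h⁰(I_p ⊗ M) ≤ h⁰(O ⊗ M) ≤ h⁰(I_p ⊗ M) + [κ(p):k]` -/
theorem h0_twSC (p : X) (hp : IsClosed ({p} : Set X)) (M : X.Modules) (hM : PicF.IsInvertible M) :
    Module.finrank k (Coh.HH X (CohB1.tensorMod (ClSub.idealMod (ptIdeal p hp)) M) 0) ≤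
      Module.finrank k (Coh.HH X (CohB1.tensorMod (Coh.structureModule X) M) 0) ∧
    Module.finrank k (Coh.HH X (CohB1.tensorMod (Coh.structureModule X) M) 0) ≤
      Module.finrank k (Coh.HH X (CohB1.tensorMod (ClSub.idealMod (ptIdeal p hp)) M) 0) +
        Module.finrank k (X.residueField p) := by
  have hS : (twSC (ptIdeal p hp) M).ShortExact :=
    shortExact_map_tr hM (idealSC (ptIdeal p hp)) (idealSC_shortExact (ptIdeal p hp))
  have hOc : Coh.IsCoh (Coh.structureModule X) := Groth.Agent.Lib.T2H5.GenIsoF.isCoh_structureModule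
  have hQc : Coh.IsCoh (ClSub.quotMod (ptIdeal p hp)) := isCoh_quotMod (ptIdeal p hp)
  have hMc := Groth.Agent.Lib.T2H6.CurveDeg.isCoh_of_isInvertible M hM
  have h2c : Coh.IsCoh (twSC (ptIdeal p hp) M).X₂ :=
    Groth.Agent.Lib.T2H6.LocGlob.isCoh_tensorMod' _ M hOc hMc
  have h3c : Coh.IsCoh (CohB1.tensorMod (ClSub.quotMod (ptIdeal p hp)) M) :=
    Groth.Agent.Lib.T2H6.LocGlob.isCoh_tensorMod' _ M hQc hMc
  have hQsupp : CohB1.support (ClSub.quotMod (ptIdeal p hp)) ⊆ {p} := by
    have h := support_quotMod_subset (ptIdeal p hp)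
    rwa [coe_support_ptIdeal] at h
  have hQpts : ∀ x ∈ CohB1.support (ClSub.quotMod (ptIdeal p hp)), IsClosed ({x} : Set X) := by
    intro x hx
    rw [Set.mem_singleton_iff.1 (hQsupp hx)]
    exact hp
  have hQMsupp : CohB1.support (CohB1.tensorMod (ClSub.quotMod (ptIdeal p hp)) M) ⊆ {p} :=
    (Groth.Agent.Lib.T2H5.Dim0.support_tensorMod_subset _ _).trans hQsupp
  have hQMpts : ∀ x ∈ CohB1.support (CohB1.tensorMod (ClSub.quotMod (ptIdeal p hp)) M),
      IsClosed ({x} : Set X) := by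
    intro x hx
    rw [Set.mem_singleton_iff.1 (hQMsupp hx)]
    exact hp
  have hM1 := Groth.Agent.Lib.Helper23.SecTw.isFinLocFreeOfRank_one_of_isInvertible M hM
  have e1 := Groth.Agent.Lib.T2H6.EffCartier.euler_tensor_of_closedPoints k _ hQc hQpts 1 M hM1
  rw [Groth.Agent.Lib.T2H6.PosD.euler_eq_finrank_of_closedPoints k _ h3c hQMpts,
    Groth.Agent.Lib.T2H6.PosD.euler_eq_finrank_of_closedPoints k _ hQc hQpts,
    Groth.Agent.Lib.T2H9.PtDeg.finrank_HH_zero_quotMod_ptIdeal k p hp] at e1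
  have e1' : Module.finrank k (Coh.HH X (twSC (ptIdeal p hp) M).X₃ 0) =
      Module.finrank k (X.residueField p) := by
    have : (Module.finrank k (Coh.HH X (CohB1.tensorMod (ClSub.quotMod (ptIdeal p hp)) M) 0) : ℤ) =
        (Module.finrank k (X.residueField p) : ℤ) := by
      rw [e1]; simp
    exact_mod_cast this
  have ha := finrank_H0_eq k (twSC (ptIdeal p hp) M) hS h2c
  haveI : Module.Finite k (Coh.HH X (twSC (ptIdeal p hp) M).X₃ 0) :=
    Groth.Agent.Lib.T2H6.EulerField.finite_HH k X _ h3c 0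
  have hr1 : Module.finrank k (LinearMap.range (Canon.HHlin k (twSC (ptIdeal p hp) M).g 0)) ≤
      Module.finrank k (X.residueField p) := by
    rw [← e1']
    exact Submodule.finrank_le _
  change Module.finrank k (Coh.HH X (twSC (ptIdeal p hp) M).X₁ 0) ≤
      Module.finrank k (Coh.HH X (twSC (ptIdeal p hp) M).X₂ 0) ∧
    Module.finrank k (Coh.HH X (twSC (ptIdeal p hp) M).X₂ 0) ≤
      Module.finrank k (Coh.HH X (twSC (ptIdeal p hp) M).X₁ 0) + Module.finrank k (X.residueField p)
  constructor <;> omega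

/-- **S7837** -/
theorem main (x : X) (hx : IsClosed ({x} : Set X))
    (L L' : X.Modules) (hL' : PicF.IsInvertible L')
    (hLL' : Nonempty (L ≅ CohB1.tensorMod L' (ClSub.idealMod (X.fromSpecResidueField x).ker))) :
    Module.finrank k (Coh.HH X L 0) ≤ Module.finrank k (Coh.HH X L' 0) ∧
      Module.finrank k (Coh.HH X L' 0) ≤
        Module.finrank k (Coh.HH X L 0) + Module.finrank k (X.residueField x) := by
  obtain ⟨e⟩ := hLL'
  rw [ker_fromSpecResidueField x hx] at e
  have e1 : L ≅ CohB1.tensorMod (ClSub.idealMod (ptIdeal x hx)) L' :=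
    e ≪≫ Groth.Agent.Lib.T2H4.AmpleAffine.tensorComm _ _
  have e2 : CohB1.tensorMod (Coh.structureModule X) L' ≅ L' :=
    (Groth.Agent.Lib.T2H4.AmpleAffine.tensorComm _ _) ≪≫ (trUnitIso (X := X)).app L'
  have h := h0_twSC k x hx L' hL'
  rw [← Groth.Agent.Lib.T2H6.FieldBC.finrank_HH_eq_of_iso k X e1 0,
    Groth.Agent.Lib.T2H6.FieldBC.finrank_HH_eq_of_iso k X e2 0] at h
  exact h

end Groth.Agent.Lib.T2H9.PtTwistNI
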