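import Mathlib
import Groth.Agent.Lib.T2H4ExtShCoh

/-!
# T2H9QAffGen: global generation on quasi-affine schemes (helper9)

Namespace `Groth.Agent.Lib.T2H9.QAffGen`.

* `locGen_top_of_isQuasiAffine`: a quasi-coherent module on a quasi-affine scheme is generated by its global sections.
* `exists_epi_fin`: a coherent module on a quasi-affine scheme is a quotient of a finite free module.
-/

set_option autoImplicit false
set_option linter.style.haveILetI false
set_option linter.unusedVariables false
set_option linter.unusedSectionVars false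
universe u
open CategoryTheory CategoryTheory.Limits Opposite AlgebraicGeometry TopologicalSpace

namespace Groth.Agent.Lib.T2H9.QAffGen

open Groth.Agent.Lib.Helper23.SecTw Groth.Agent.Lib.Helper23.LocGen Groth.Agent.Lib.Helper6
  Groth.Agent.Lib.T2H4.ExtShCoh

variable {X : Scheme.{u}}

/-- a quasi-coherent module on a quasi-affine scheme is generated by its global sections -/
theorem locGen_top_of_isQuasiAffine [X.IsQuasiAffine] (N : X.Modules) [N.IsQuasicoherent] :
    LocGen N ⊤ := by
  intro A hAU z y hy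
  obtain ⟨_, ⟨_, ⟨f, hfaff, rfl⟩, rfl⟩, hyf, hfA⟩ :=
    (Scheme.IsQuasiAffine.isBasis_basicOpen X).exists_subset_of_mem_open hy A.2
  have hqc : IsCompact ((⊤ : X.Opens) : Set X) := isCompact_univ
  have hqs : IsQuasiSeparated ((⊤ : X.Opens) : Set X) := by
    have : QuasiSeparatedSpace X := inferInstance
    exact isQuasiSeparated_univ
  obtain ⟨k, t₀, ht₀⟩ := exists_extension_of_isCompact_of_isQuasiSeparated N hqc hqs f (res N hfA z)
  refine ⟨X.basicOpen f, hfA, hyf, ?_⟩
  have hunit : IsUnit (resf (X.basicOpen_le f) f) := RingedSpace.isUnit_res_basicOpen _ f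
  obtain ⟨u, hu⟩ := hunit.pow k
  have h1 : res N hfA z = (↑u⁻¹ : Γ(X, X.basicOpen f)) • res N (X.basicOpen_le f) t₀ := by
    rw [ht₀, ← hu, ← mul_smul, Units.inv_mul, one_smul]
  rw [h1]
  refine Submodule.smul_mem _ _ (res_mem_gspan _ _ ?_)
  rw [← sv_top_secHom' N t₀]
  exact sv_mem_gspan _ _ _

/-- a coherent module on a quasi-affine scheme is a quotient of a finite free module -/
theorem exists_epi_fin [X.IsQuasiAffine] (N : X.Modules) (hN : Coh.IsCoh N) :
    ∃ (b : ℕ) (ψ : (∐ fun _ : Fin b => Coh.structureModule X) ⟶ N), Epi ψ := by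
  haveI : N.IsQuasicoherent := hN.1
  haveI : SheafOfModules.IsFiniteType (R := X.ringCatSheaf) N := hN.2
  obtain ⟨b, t, ht⟩ := Groth.Agent.Lib.T2H4.FinGlobGen.exists_fin_epi N
    (fun x => ⟨⊤, trivial, locGen_top_of_isQuasiAffine N⟩)
  exact ⟨b, Sigma.desc t, ht⟩

end Groth.Agent.Lib.T2H9.QAffGen
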