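import Mathlib
import Groth.Agent.Lib.T2H9QAffGen
import Groth.Agent.Lib.T2H9ShHom9
import Groth.Agent.Lib.T2H5GenIsoF

/-!
# T2H9QAffFF: formal functions in degree `0` for finite locally free modules on quasi-affine schemes (helper9)

Namespace `Groth.Agent.Lib.T2H9.QAffFF`.

* `homDualEquivSw`, `homDualIsoSw`, `homH0IsoSw`: `Hom(E^∨, -) ≅ H^0(X, - ⊗ E)` for `E` finite locally free
  (from `Helper21Dual12.dualAdjSw`).
* `toHHlim_bijective_of_sections`: converse of `T2H9ShHom9.sections_of_toHHlim_bijective`.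
* `hom_of_sections`: formal functions (sections form) for `F` imply the `Hom(D, -)` form, `D` finitely presented by free modules.
* `cokMap`, `cokIso`, `toHHlim_bijective_of_iso`: functoriality of `F ↦ F/JF`; iso-invariance of formal functions in degree `0`.
* `toHHlim_bijective_tr`: `Hom(E^∨, -)` form for `F` implies formal functions for `F ⊗ E`.
* `toHHlim_bijective_of_isFinLocFree` (**S0839**).
-/

set_option autoImplicit false
set_option linter.style.haveILetI false
set_option linter.unusedVariables false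
set_option linter.unusedSectionVars false
universe u
open CategoryTheory CategoryTheory.Limits Opposite AlgebraicGeometry TopologicalSpace

namespace Groth.Agent.Lib.T2H9.QAffFF

open Groth.Agent.Lib.Helper21 Groth.Agent.Lib.Helper21.ModTensor3 Groth.Agent.Lib.Helper21.Dual
  Groth.Agent.Lib.Helper1.PT Groth.Agent.Lib.T2H5.Twist Groth.Agent.Lib.T2H9.DualHom
  Groth.Agent.Lib.T2H9.BridgeH0 Groth.Agent.Lib.T2H9.FibLift Groth.Agent.Lib.T2H9.ShHom

attribute [local instance] Groth.Agent.Lib.Helper21.ExtShDelta.hasSheafHom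

section site

variable {C : Type u} [SmallCategory C] {J : GrothendieckTopology C} {O : Sheaf J CommRingCat.{u}}

/-- `Hom(E^∨, N) ≃+ Hom(O, N ⊗ E)` -/
noncomputable def homDualEquivSw (E : ModSite.Mod O) (hE : IsLocFF E) (N : ModSite.Mod O) :
    (dual E ⟶ N) ≃+ (ModSite.unit O ⟶ (tR O E).obj N) :=
  ({ toFun := fun φ => (unitTR (dual E)).hom ≫ φ
     invFun := fun ψ => (unitTR (dual E)).inv ≫ ψ
     left_inv := fun φ => by simp
     right_inv := fun ψ => by simp
     map_add' := fun φ φ' => Preadditive.comp_add _ _ _ _ _ _ } :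
    (dual E ⟶ N) ≃+ ((tR O (dual E)).obj (ModSite.unit O) ⟶ N)).trans
  ((dualAdjSw E hE).homAddEquiv (ModSite.unit O) N)

theorem homDualEquivSw_naturality (E : ModSite.Mod O) (hE : IsLocFF E) {N N' : ModSite.Mod O}
    (g : N ⟶ N') (φ : dual E ⟶ N) :
    homDualEquivSw E hE N' (φ ≫ g) = homDualEquivSw E hE N φ ≫ (tR O E).map g := by
  change (dualAdjSw E hE).homEquiv _ _ ((unitTR (dual E)).hom ≫ φ ≫ g) =
    (dualAdjSw E hE).homEquiv _ _ ((unitTR (dual E)).hom ≫ φ) ≫ (tR O E).map g
  rw [← Category.assoc, Adjunction.homEquiv_naturality_right]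

/-- `Hom(E^∨, -) ≅ Hom(O, - ⊗ E)` as functors to abelian groups -/
noncomputable def homDualIsoSw (E : ModSite.Mod O) (hE : IsLocFF E) :
    preadditiveCoyoneda.obj (op (dual E)) ≅
      tR O E ⋙ preadditiveCoyoneda.obj (op (ModSite.unit O)) :=
  NatIso.ofComponents (fun N => (homDualEquivSw E hE N).toAddCommGrpIso) (by
    intro N N' g
    ext φ
    exact homDualEquivSw_naturality E hE g φ)

end site

section scheme

variable {A : Type u} [CommRing A]
variable (X : Scheme.{u}) [X.Over (Spec (CommRingCat.of A))]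

/-- `Hom(E^∨, -) ≅ H^0(X, - ⊗ E)` for `E` finite locally free -/
noncomputable def homH0IsoSw (E : X.Modules) (hL : IsLocFF (O := X.sheaf) E) :
    preadditiveCoyoneda.obj (op (dual (O := X.sheaf) E)) ≅ tr E ⋙ CohIII.HAb X 0 :=
  homDualIsoSw (O := X.sheaf) E hL ≪≫
    Functor.isoWhiskerLeft (tR X.sheaf E) (unitGammaIso A ≪≫ (H0Iso A).symm)

end scheme

section main

variable {A : Type u} [CommRing A] (I : Ideal A)
variable (X : Scheme.{u}) [X.Over (Spec (CommRingCat.of A))]

/-- converse of `sections_of_toHHlim_bijective` -/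
theorem toHHlim_bijective_of_sections (F : X.Modules)
    (hsurj : ∀ p : ∀ n, Γ(Formal.modPow I (n + 1) F, ⊤),
      (∀ n, (Formal.modPowTrans I (n + 1) F).app ⊤ (p (n + 1)) = p n) →
        ∃ s : Γ(F, ⊤), ∀ n, (Formal.modPowπ I (n + 1) F).app ⊤ s = p n)
    (hinj : ∀ s : Γ(F, ⊤), (∀ n, (Formal.modPowπ I (n + 1) F).app ⊤ s = 0) → s = 0) :
    Function.Bijective (Formal.toHHlim I F 0) := by
  constructor
  · rw [injective_iff_map_eq_zero]
    intro x hx
    have h1 : ∀ n, (Formal.modPowπ I (n + 1) F).app ⊤ (γ X F x) = 0 := by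
      intro n
      rw [← γ_naturality]
      have h2 : Formal.toHHmodPow I F 0 n x = 0 :=
        congrArg (fun z : Formal.HHlim I F 0 => z.1 n) hx
      change γ X _ (Formal.toHHmodPow I F 0 n x) = 0
      rw [h2, map_zero]
    have h3 := hinj _ h1
    exact (γ X F).injective (h3.trans (map_zero _).symm)
  · intro y
    let p : ∀ n, Γ(Formal.modPow I (n + 1) F, ⊤) := fun n => γ X _ (y.1 n)
    have hp : ∀ n, (Formal.modPowTrans I (n + 1) F).app ⊤ (p (n + 1)) = p n := by
      intro n
      change _ = γ X _ (y.1 n)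
      rw [← y.2 n]
      exact (γ_naturality X (Formal.modPowTrans I (n + 1) F) (y.1 (n + 1))).symm
    obtain ⟨s, hs⟩ := hsurj p hp
    refine ⟨(γ X F).symm s, ?_⟩
    apply Subtype.ext
    funext n
    apply (γ X _).injective
    change γ X _ (Sheaf.H.map ((SheafOfModules.toSheaf _).map (Formal.modPowπ I (n + 1) F)) 0
      ((γ X F).symm s)) = p n
    rw [γ_naturality, AddEquiv.apply_symm_apply, hs]

/-- from the sections form of formal functions for `F` to the `Hom(D, -)` form, for `D` with a finite presentation by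
free modules -/
theorem hom_of_sections {a b : ℕ} (D : X.Modules) (π : Lb X.sheaf a ⟶ D) [Epi π]
    (q : Lb X.sheaf b ⟶ kernel π) [Epi q] (F : X.Modules)
    (hsurj : ∀ p : ∀ n, Γ(Formal.modPow I (n + 1) F, ⊤),
      (∀ n, (Formal.modPowTrans I (n + 1) F).app ⊤ (p (n + 1)) = p n) →
        ∃ s : Γ(F, ⊤), ∀ n, (Formal.modPowπ I (n + 1) F).app ⊤ s = p n)
    (hinj : ∀ s : Γ(F, ⊤), (∀ n, (Formal.modPowπ I (n + 1) F).app ⊤ s = 0) → s = 0) :
    (∀ w : ∀ n, D ⟶ Formal.modPow I (n + 1) F,
      (∀ n, w (n + 1) ≫ Formal.modPowTrans I (n + 1) F = w n) →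
        ∃ φ : D ⟶ F, ∀ n, φ ≫ Formal.modPowπ I (n + 1) F = w n) ∧
    (∀ φ : D ⟶ F, (∀ n, φ ≫ Formal.modPowπ I (n + 1) F = 0) → φ = 0) := by
  have hcomp : ∀ {G G' : X.Modules} (g : D ⟶ G) (h : G ⟶ G') (j : Fin a),
      coordP X.sheaf isTerminalTop π G' (g ≫ h) j =
        h.app ⊤ (coordP X.sheaf isTerminalTop π G g j) := fun g h j =>
    coordP_comp X.sheaf isTerminalTop π g h j
  constructor
  · intro w hw
    have hex : ∀ j : Fin a, ∃ s : Γ(F, ⊤), ∀ n, (Formal.modPowπ I (n + 1) F).app ⊤ s =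
        coordP X.sheaf isTerminalTop π _ (w n) j := by
      intro j
      refine hsurj (fun n => coordP X.sheaf isTerminalTop π _ (w n) j) (fun n => ?_)
      exact (hcomp (w (n + 1)) _ j).symm.trans
        (congrArg (fun k => coordP X.sheaf isTerminalTop π _ k j) (hw n))
    choose s hs using hex
    have hmem : (s : Fin a → F.val.obj (op ⊤)) ∈ Set.range (coordP X.sheaf isTerminalTop π F) := by
      refine (mem_range_coordP_iff X.sheaf isTerminalTop π q F _).2 ?_
      intro i
      apply hinj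
      intro n
      have h1 := (mem_range_coordP_iff X.sheaf isTerminalTop π q _
        (coordP X.sheaf isTerminalTop π _ (w n))).1 ⟨w n, rfl⟩ i
      have h2 : (Formal.modPowπ I (n + 1) F).app ⊤
          (∑ j, mat X.sheaf isTerminalTop (q ≫ kernel.ι π) i j • (show F.val.obj (op ⊤) from s j)) =
          ∑ j, mat X.sheaf isTerminalTop (q ≫ kernel.ι π) i j •
            coordP X.sheaf isTerminalTop π _ (w n) j := by
        refine (map_sum ((Formal.modPowπ I (n + 1) F).val.app (op ⊤)).hom _ _).trans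
          (Finset.sum_congr rfl fun j _ => ?_)
        refine (map_smul ((Formal.modPowπ I (n + 1) F).val.app (op ⊤)).hom _ _).trans ?_
        exact congrArg (fun z => mat X.sheaf isTerminalTop (q ≫ kernel.ι π) i j • z) (hs j n)
      exact h2.trans h1
    obtain ⟨φ, hφ⟩ := hmem
    refine ⟨φ, fun n => ?_⟩
    apply coordP_injective X.sheaf isTerminalTop π
    funext j
    exact (hcomp φ _ j).trans
      ((congrArg (fun z => (Formal.modPowπ I (n + 1) F).app ⊤ (z j)) hφ).trans (hs j n))
  · intro φ hφ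
    apply coordP_injective X.sheaf isTerminalTop π
    refine Eq.trans ?_ (map_zero (coordP X.sheaf isTerminalTop π F)).symm
    funext j
    apply hinj
    intro n
    refine (hcomp φ _ j).symm.trans ?_
    exact (congrArg (fun k => coordP X.sheaf isTerminalTop π _ k j) (hφ n)).trans
      (congrFun (map_zero (coordP X.sheaf isTerminalTop π _)) j)

/-- functoriality of `M ↦ M/JM` -/
noncomputable def cokMap (J : Ideal A) {F F' : X.Modules} (g : F ⟶ F') :
    cokernel (Formal.smulFamily J F) ⟶ cokernel (Formal.smulFamily J F') :=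
  cokernel.desc _ (g ≫ cokernel.π (Formal.smulFamily J F')) (by
    rw [Groth.Agent.S9530.smulFamily_comp_eq_zero_iff]
    intro a ha
    rw [← Category.assoc, Groth.Agent.S9530.smulMod_comp, Category.assoc]
    have h1 := (Groth.Agent.S9530.smulFamily_comp_eq_zero_iff (J := J)
      (cokernel.π (Formal.smulFamily J F'))).1 (cokernel.condition _) a ha
    rw [h1, comp_zero])

theorem π_cokMap (J : Ideal A) {F F' : X.Modules} (g : F ⟶ F') :
    cokernel.π (Formal.smulFamily J F) ≫ cokMap X J g = g ≫ cokernel.π (Formal.smulFamily J F') :=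
  cokernel.π_desc _ _ _

theorem cokMap_id (J : Ideal A) (F : X.Modules) : cokMap X J (𝟙 F) = 𝟙 _ := by
  rw [← cancel_epi (cokernel.π (Formal.smulFamily J F)), π_cokMap, Category.id_comp, Category.comp_id]

theorem cokMap_comp (J : Ideal A) {F F' F'' : X.Modules} (g : F ⟶ F') (g' : F' ⟶ F'') :
    cokMap X J (g ≫ g') = cokMap X J g ≫ cokMap X J g' := by
  rw [← cancel_epi (cokernel.π (Formal.smulFamily J F)), π_cokMap, ← Category.assoc, π_cokMap,
    Category.assoc, Category.assoc, π_cokMap]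

/-- `F/JF ≅ F'/JF'` for `F ≅ F'` -/
noncomputable def cokIso (J : Ideal A) {F F' : X.Modules} (ε : F ≅ F') :
    cokernel (Formal.smulFamily J F) ≅ cokernel (Formal.smulFamily J F') where
  hom := cokMap X J ε.hom
  inv := cokMap X J ε.inv
  hom_inv_id := by rw [← cokMap_comp, ε.hom_inv_id, cokMap_id]
  inv_hom_id := by rw [← cokMap_comp, ε.inv_hom_id, cokMap_id]

/-- the bijectivity of `H^0(X, F) → lim H^0(X, F/I^{n+1}F)` is invariant under isomorphisms -/
theorem toHHlim_bijective_of_iso {F F' : X.Modules} (ε : F ≅ F')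
    (h : Function.Bijective (Formal.toHHlim I F 0)) :
    Function.Bijective (Formal.toHHlim I F' 0) := by
  let HH0 := CohIII.HAb X 0
  have hHcomp : ∀ {M N P : X.Modules} (a : M ⟶ N) (b : N ⟶ P) (z : Coh.HH X M 0),
      (HH0.map b).hom ((HH0.map a).hom z) = (HH0.map (a ≫ b)).hom z := by
    intro M N P a b z
    rw [CategoryTheory.Functor.map_comp]
    rfl
  have hHid : ∀ {M : X.Modules} (z : Coh.HH X M 0), (HH0.map (𝟙 M)).hom z = z := by
    intro M z
    rw [CategoryTheory.Functor.map_id]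
    rfl
  let m : ∀ n : ℕ, Formal.modPow I (n + 1) F ≅ Formal.modPow I (n + 1) F' := fun n =>
    cokIso X (I ^ (n + 1)) ε
  have hπ : ∀ n, Formal.modPowπ I (n + 1) F ≫ (m n).hom = ε.hom ≫ Formal.modPowπ I (n + 1) F' :=
    fun n => π_cokMap X (I ^ (n + 1)) ε.hom
  have hπ' : ∀ n, Formal.modPowπ I (n + 1) F' ≫ (m n).inv = ε.inv ≫ Formal.modPowπ I (n + 1) F :=
    fun n => π_cokMap X (I ^ (n + 1)) ε.inv
  have ht' : ∀ n, Formal.modPowTrans I (n + 1) F' ≫ (m n).inv =
      (m (n + 1)).inv ≫ Formal.modPowTrans I (n + 1) F := by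
    intro n
    haveI : Epi (Formal.modPowπ I (n + 1 + 1) F') := by
      unfold Formal.modPowπ; exact coequalizer.π_epi
    rw [← cancel_epi (Formal.modPowπ I (n + 1 + 1) F'), ← Category.assoc, Formal.modPowπ_trans, hπ',
      ← Category.assoc, hπ', Category.assoc, Formal.modPowπ_trans]
  constructor
  · rw [injective_iff_map_eq_zero]
    intro x' hx'
    have hx'n : ∀ n, (HH0.map (Formal.modPowπ I (n + 1) F')).hom x' = 0 := fun n =>
      congrArg (fun z : Formal.HHlim I F' 0 => z.1 n) hx'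
    have h1 : Formal.toHHlim I F 0 ((HH0.map ε.inv).hom x') = 0 := by
      apply Subtype.ext
      funext n
      change (HH0.map (Formal.modPowπ I (n + 1) F)).hom ((HH0.map ε.inv).hom x') = 0
      rw [hHcomp, ← hπ', ← hHcomp, hx'n, map_zero]
    have h2 := h.1 (h1.trans (map_zero _).symm)
    have h3 := congrArg (HH0.map ε.hom).hom h2
    rw [hHcomp, ε.inv_hom_id, hHid] at h3
    exact h3.trans (map_zero (HH0.map ε.hom).hom)
  · intro y'
    let y : ∀ n : ℕ, Formal.HHmodPow I F 0 n := fun n => (HH0.map (m n).inv).hom (y'.1 n)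
    have hy : ∀ n, Formal.HHmodPowTrans I F 0 n (y (n + 1)) = y n := by
      intro n
      change (HH0.map (Formal.modPowTrans I (n + 1) F)).hom
        ((HH0.map (m (n + 1)).inv).hom (y'.1 (n + 1))) = _
      rw [hHcomp, ← ht', ← hHcomp]
      exact congrArg (HH0.map (m n).inv).hom (y'.2 n)
    obtain ⟨x, hx⟩ := h.2 ⟨y, hy⟩
    have hxn : ∀ n, (HH0.map (Formal.modPowπ I (n + 1) F)).hom x = y n := fun n =>
      congrArg (fun z : Formal.HHlim I F 0 => z.1 n) hx
    refine ⟨(HH0.map ε.hom).hom x, ?_⟩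
    apply Subtype.ext
    funext n
    change (HH0.map (Formal.modPowπ I (n + 1) F')).hom ((HH0.map ε.hom).hom x) = y'.1 n
    rw [hHcomp, ← hπ, ← hHcomp, hxn]
    change (HH0.map (m n).hom).hom ((HH0.map (m n).inv).hom (y'.1 n)) = _
    rw [hHcomp, (m n).inv_hom_id, hHid]

/-- from the `Hom(E^∨, -)` form of formal functions for `F` to formal functions for `F ⊗ E`, `E` finite locally free -/
theorem toHHlim_bijective_tr (E : X.Modules) (hL : IsLocFF (O := X.sheaf) E) (F : X.Modules)
    (hsurj : ∀ w : ∀ n, dual (O := X.sheaf) E ⟶ Formal.modPow I (n + 1) F,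
      (∀ n, w (n + 1) ≫ Formal.modPowTrans I (n + 1) F = w n) →
        ∃ φ : dual (O := X.sheaf) E ⟶ F, ∀ n, φ ≫ Formal.modPowπ I (n + 1) F = w n)
    (hinj : ∀ φ : dual (O := X.sheaf) E ⟶ F,
      (∀ n, φ ≫ Formal.modPowπ I (n + 1) F = 0) → φ = 0) :
    Function.Bijective (Formal.toHHlim I ((tr E).obj F) 0) := by
  set D : X.Modules := dual (O := X.sheaf) E with hDdef
  let T : X.Modules ⥤ X.Modules := tr E
  haveI : PreservesColimitsOfSize.{u, u} T :=
    (⟨fun {K} _ => inferInstance⟩ : PreservesColimitsOfSize.{u, u} (tR X.sheaf E))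
  have hT : ∀ (M : X.Modules) (a : A), T.map (Formal.smulMod A M a) = Formal.smulMod A (T.obj M) a :=
    tr_map_smulMod X E
  let 𝓗 : X.Modules := T.obj F
  let Φ := homH0IsoSw (A := A) X E hL
  let HH0 := CohIII.HAb X 0
  have hΦnat : ∀ {M M' : X.Modules} (g : M ⟶ M') (w : D ⟶ M),
      (Φ.hom.app M').hom (w ≫ g) = (HH0.map (T.map g)).hom ((Φ.hom.app M).hom w) := by
    intro M M' g w
    have hnat := congrArg (fun φ => φ.hom w) (Φ.hom.naturality g)
    simp only [AddCommGrpCat.hom_comp, AddMonoidHom.comp_apply] at hnat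
    exact hnat
  have hΦinj : ∀ M : X.Modules, Function.Injective (Φ.hom.app M).hom := fun M =>
    Function.LeftInverse.injective (g := (Φ.inv.app M).hom)
      (fun z => congrArg (fun φ => φ.hom z) (Φ.hom_inv_id_app M))
  have hΦsurj : ∀ M : X.Modules, Function.Surjective (Φ.hom.app M).hom := fun M =>
    Function.RightInverse.surjective (g := (Φ.inv.app M).hom)
      (fun z => congrArg (fun φ => φ.hom z) (Φ.inv_hom_id_app M))
  have hHcomp : ∀ {M N P : X.Modules} (a : M ⟶ N) (b : N ⟶ P) (z : Coh.HH X M 0),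
      (HH0.map b).hom ((HH0.map a).hom z) = (HH0.map (a ≫ b)).hom z := by
    intro M N P a b z
    rw [CategoryTheory.Functor.map_comp]
    rfl
  have hHid : ∀ {M : X.Modules} (z : Coh.HH X M 0), (HH0.map (𝟙 M)).hom z = z := by
    intro M z
    rw [CategoryTheory.Functor.map_id]
    rfl
  have hex : ∀ n : ℕ, ∃ e : T.obj (Formal.modPow I (n + 1) F) ≅ Formal.modPow I (n + 1) 𝓗,
      T.map (Formal.modPowπ I (n + 1) F) ≫ e.hom = Formal.modPowπ I (n + 1) 𝓗 := fun n =>
    exists_iso_cokernel_map T hT (I ^ (n + 1)) F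
  choose e he using hex
  haveI : T.PreservesEpimorphisms := inferInstance
  have hetr : ∀ n, T.map (Formal.modPowTrans I (n + 1) F) ≫ (e n).hom =
      (e (n + 1)).hom ≫ Formal.modPowTrans I (n + 1) 𝓗 := by
    intro n
    haveI : Epi (Formal.modPowπ I (n + 1 + 1) F) := by
      unfold Formal.modPowπ; exact coequalizer.π_epi
    rw [← cancel_epi (T.map (Formal.modPowπ I (n + 1 + 1) F))]
    rw [← Category.assoc, ← T.map_comp, Formal.modPowπ_trans, he, ← Category.assoc, he,
      Formal.modPowπ_trans]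
  have hetr' : ∀ n, (e (n + 1)).inv ≫ T.map (Formal.modPowTrans I (n + 1) F) =
      Formal.modPowTrans I (n + 1) 𝓗 ≫ (e n).inv := by
    intro n
    rw [Iso.inv_comp_eq, ← Category.assoc, ← hetr, Category.assoc, Iso.hom_inv_id, Category.comp_id]
  have heinj : ∀ n, Function.Injective (HH0.map (e n).hom).hom := by
    intro n
    refine Function.LeftInverse.injective (g := (HH0.map (e n).inv).hom) (fun z => ?_)
    rw [hHcomp, Iso.hom_inv_id, hHid]
  have key : ∀ (φ' : D ⟶ F) (n : ℕ),
      (HH0.map (e n).hom).hom ((Φ.hom.app _).hom (φ' ≫ Formal.modPowπ I (n + 1) F)) =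
        (HH0.map (Formal.modPowπ I (n + 1) 𝓗)).hom ((Φ.hom.app F).hom φ') := by
    intro φ' n
    rw [hΦnat, hHcomp, he]
  constructor
  · rw [injective_iff_map_eq_zero]
    intro x₀ hx₀
    have hx₀n : ∀ n, (HH0.map (Formal.modPowπ I (n + 1) 𝓗)).hom x₀ = 0 := fun n =>
      congrArg (fun z : Formal.HHlim I 𝓗 0 => z.1 n) hx₀
    obtain ⟨φ, hφ⟩ := hΦsurj F x₀
    have h1 : ∀ n, φ ≫ Formal.modPowπ I (n + 1) F = 0 := by
      intro n
      apply hΦinj
      apply heinj n
      rw [key, hφ, hx₀n]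
      exact ((congrArg (HH0.map (e n).hom).hom (map_zero (Φ.hom.app _).hom)).trans
        (map_zero (HH0.map (e n).hom).hom)).symm
    have h2 := hinj φ h1
    rw [← hφ, h2]
    exact map_zero (Φ.hom.app F).hom
  · intro y
    let w : ∀ n : ℕ, D ⟶ Formal.modPow I (n + 1) F := fun n =>
      (Φ.inv.app _).hom ((HH0.map (e n).inv).hom (y.1 n))
    have hΦw : ∀ n, (Φ.hom.app _).hom (w n) = (HH0.map (e n).inv).hom (y.1 n) := fun n =>
      congrArg (fun φ => φ.hom ((HH0.map (e n).inv).hom (y.1 n))) (Φ.inv_hom_id_app _)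
    have hw : ∀ n, w (n + 1) ≫ Formal.modPowTrans I (n + 1) F = w n := by
      intro n
      apply hΦinj
      refine (hΦnat (Formal.modPowTrans I (n + 1) F) (w (n + 1))).trans ?_
      refine Eq.trans ?_ (hΦw n).symm
      refine (congrArg (HH0.map (T.map (Formal.modPowTrans I (n + 1) F))).hom (hΦw (n + 1))).trans ?_
      rw [hHcomp, hetr', ← hHcomp]
      exact congrArg (HH0.map (e n).inv).hom (y.2 n)
    obtain ⟨φ, hφ⟩ := hsurj w hw
    refine ⟨(Φ.hom.app F).hom φ, ?_⟩
    apply Subtype.ext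
    funext n
    change (HH0.map (Formal.modPowπ I (n + 1) 𝓗)).hom ((Φ.hom.app F).hom φ) = y.1 n
    refine (key φ n).symm.trans ?_
    refine (congrArg (fun k => (HH0.map (e n).hom).hom ((Φ.hom.app _).hom k)) (hφ n)).trans ?_
    refine (congrArg (HH0.map (e n).hom).hom (hΦw n)).trans ?_
    rw [hHcomp, Iso.inv_hom_id, hHid]

/-- **S0839**: on a Noetherian quasi-affine `X` over `Spec A`, formal functions in degree `0` for `O_X` imply formal
functions in degree `0` for every finite locally free module. -/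
theorem toHHlim_bijective_of_isFinLocFree [IsNoetherian X] [X.IsQuasiAffine]
    (h : Function.Bijective (Formal.toHHlim I (Coh.structureModule X) 0))
    (E : X.Modules) (hE : FlatMod.IsFinLocFree E) : Function.Bijective (Formal.toHHlim I E 0) := by
  have hL : IsLocFF (O := X.sheaf) E := isLocFF_of_isFinLocFree E hE
  set D : X.Modules := dual (O := X.sheaf) E with hDdef
  have hD : FlatMod.IsFinLocFree D := Groth.Agent.Lib.T2H9.LocFF.isFinLocFree_dual E hE
  have hDc : Coh.IsCoh D := Groth.Agent.Lib.T2H5.RegPush.isCoh_of_isFinLocFree D hD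
  obtain ⟨a, π, hπ⟩ := Groth.Agent.Lib.T2H9.QAffGen.exists_epi_fin D hDc
  have hK : Coh.IsCoh (kernel π) :=
    Groth.Agent.Lib.T2H5.GenIsoB.isCoh_kernel π
      (Groth.Agent.Lib.T2H5.GenIsoA.isCoh_sigma _
        fun _ => Groth.Agent.Lib.T2H5.GenIsoF.isCoh_structureModule) hDc
  obtain ⟨b, q, hq⟩ := Groth.Agent.Lib.T2H9.QAffGen.exists_epi_fin (kernel π) hK
  obtain ⟨hs, hi⟩ := sections_of_toHHlim_bijective X I _ h
  let π' : Lb X.sheaf a ⟶ D := π
  haveI : Epi π' := hπ
  let q' : Lb X.sheaf b ⟶ kernel π' := q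
  haveI : Epi q' := hq
  obtain ⟨hs', hi'⟩ := hom_of_sections I X D π' q' (Coh.structureModule X) hs hi
  have h1 := toHHlim_bijective_tr I X E hL (Coh.structureModule X) hs' hi'
  exact toHHlim_bijective_of_iso I X (unitTR (O := X.sheaf) E) h1

end main

end Groth.Agent.Lib.T2H9.QAffFF
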