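import Groth.Agent.Lib.Helper4ProjCone7
import Groth.Agent.Lib.Helper6DimAff
import Groth.Agent.Lib.T2H5QProjRes
import Groth.Agent.S9705

/-!
# T2H9QProjAff (helper9): a quasi-projective `k`-scheme of dimension `r` is covered by `r + 1` affine opens
-/

set_option autoImplicit false
set_option linter.unusedSectionVars false
set_option linter.unusedVariables false
set_option linter.style.haveILetI false
universe u

open CategoryTheory CategoryTheory.Limits AlgebraicGeometry TopologicalSpace Opposite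

namespace Groth.Agent.Lib.T2H9.QProjAff

variable (k : Type u) [Field k] (n r : ℕ)

theorem exists_affine_cover {X : Scheme.{u}} (j : X ⟶ CohB1.ProjSpace n k) [IsImmersion j]
    (hX : topologicalKrullDim ↥X = r) :
    ∃ U : Fin (r + 1) → X.Opens, (∀ i, IsAffineOpen (U i)) ∧ ⨆ i, U i = ⊤ := by
  haveI hN : IsNoetherian X := Groth.Agent.Lib.T2H5.QProjRes.isNoetherian_of_immersion k n j
  haveI : QuasiCompact j := inferInstance
  -- the scheme-theoretic image
  obtain ⟨Z, o, ι, hoι, ho, hod, hι⟩ : ∃ (Z : Scheme.{u}) (o : X ⟶ Z) (ι : Z ⟶ CohB1.ProjSpace n k),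
      o ≫ ι = j ∧ IsOpenImmersion o ∧ IsDominant o ∧ IsClosedImmersion ι :=
    ⟨j.image, j.toImage, j.imageι, j.toImage_imageι, inferInstance, inferInstance, inferInstance⟩
  haveI : IsProper (CohB1.ProjSpace.toSpec n k) := Groth.Agent.S9705.isProper_projSpace_toSpec n k
  -- dimension of the image
  haveI : CompactSpace (CohB1.ProjSpace n k) :=
    (Groth.Agent.Lib.T2H5.QProjRes.isNoetherian_projSpace k n).toCompactSpace
  haveI : CompactSpace Z := QuasiCompact.compactSpace_of_compactSpace ι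
  have hdense : Dense ((o.opensRange : Z.Opens) : Set Z) := by
    change Dense (Set.range o)
    exact o.denseRange
  have hdimZ : topologicalKrullDim ↥Z = r := by
    rw [Groth.Agent.Lib.Helper6.DimAff.topologicalKrullDim_eq_of_dense k
      (ι ≫ CohB1.ProjSpace.toSpec n k) o.opensRange hdense, ← hX]
    symm
    exact IsHomeomorph.topologicalKrullDim_eq _
      (o.isOpenEmbedding.isEmbedding.toHomeomorph).isHomeomorph
  have hXcl : IsClosed (Set.range ι) := ι.isClosedEmbedding.isClosed_range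
  have hdim : topologicalKrullDim ↥(Set.range ι) = r := by
    rw [← hdimZ]
    symm
    exact IsHomeomorph.topologicalKrullDim_eq _
      (ι.isClosedEmbedding.isEmbedding.toHomeomorph).isHomeomorph
  have hYcl : IsClosed (ι '' (Set.range o)ᶜ) :=
    ι.isClosedEmbedding.isClosedMap _ o.isOpenEmbedding.isOpen_range.isClosed_compl
  obtain ⟨h, hh, hhY, hz⟩ := Groth.Agent.Lib.Helper4.ProjCone.exists_hypersurfaces k n
    (Set.range ι) (ι '' (Set.range o)ᶜ) hXcl hYcl r hdim
  refine ⟨fun i => j ⁻¹ᵁ Proj.basicOpen (CohB1.polyGrading n k) (h i), fun i => ?_, ?_⟩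
  · obtain ⟨d, hd, hhom⟩ := hh i
    have hU : @IsAffineOpen (CohB1.ProjSpace n k)
        (Proj.basicOpen (CohB1.polyGrading n k) (h i)) :=
      Proj.isAffineOpen_basicOpen (CohB1.polyGrading n k) (h i)
        ((MvPolynomial.mem_homogeneousSubmodule _ _).mpr hhom) hd
    have hW : IsAffineOpen (ι ⁻¹ᵁ Proj.basicOpen (CohB1.polyGrading n k) (h i)) := hU.preimage ι
    have hle : ι ⁻¹ᵁ Proj.basicOpen (CohB1.polyGrading n k) (h i) ≤ o.opensRange := by
      intro z hz'
      by_contra hcon
      have hzY : ι z ∈ ι '' (Set.range o)ᶜ := ⟨z, hcon, rfl⟩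
      exact hz' (hhY i _ hzY)
    have h2 := hW.preimage_of_isOpenImmersion o hle
    have h3 : o ⁻¹ᵁ ι ⁻¹ᵁ Proj.basicOpen (CohB1.polyGrading n k) (h i) =
        j ⁻¹ᵁ Proj.basicOpen (CohB1.polyGrading n k) (h i) := by
      subst hoι
      rfl
    change IsAffineOpen (j ⁻¹ᵁ (show (CohB1.ProjSpace n k).Opens from
      Proj.basicOpen (CohB1.polyGrading n k) (h i)))
    exact Eq.mp (congrArg IsAffineOpen h3) h2
  · rw [eq_top_iff]
    intro x _
    have hjx : j x = ι (o x) := by subst hoι; rfl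
    have h1 : j x ∈ Set.range ι := ⟨o x, hjx.symm⟩
    have h2 : j x ∉ ι '' (Set.range o)ᶜ := by
      rintro ⟨z, hz', hzx⟩
      apply hz'
      refine ⟨x, ι.isClosedEmbedding.injective ?_⟩
      rw [hzx, hjx]
    obtain ⟨i, hi⟩ := hz (j x) h1 h2
    exact Opens.mem_iSup.mpr ⟨i, hi⟩

end Groth.Agent.Lib.T2H9.QProjAff
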