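import Mathlib
import Groth.Agent.Lib.T2H9P1Dom4
import Groth.Agent.Lib.Helper4BirIso
import Groth.Agent.Lib.T2H9PtTwistNI

/-!
# T2H9RatCurve (helper9): an integral projective curve is rational iff it is the image of a morphism from `P^1`
-/

set_option autoImplicit false
set_option linter.style.haveILetI false
set_option linter.unusedSectionVars false
universe u

open AlgebraicGeometry CategoryTheory TopologicalSpace

namespace Groth.Agent.Lib.T2H9.RatCurve

open Groth.Agent.Lib.Helper4.RatMapExt Groth.Agent.Lib Groth.Agent.Lib.T2H9.P1Dom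

/-- an isomorphism of function fields over `S` spreads out to a partial isomorphism over `S` -/
theorem exists_partialIso_of_functionField_iso {X Y S : Scheme.{u}} (p : X ⟶ S) (q : Y ⟶ S)
    [LocallyOfFiniteType p] [LocallyOfFiniteType q] [IsIntegral X] [IsIntegral Y]
    (ψ : Y.functionField ≅ X.functionField)
    (hψ : Spec.map ψ.hom ≫ Y.fromSpecStalk (genericPoint Y) ≫ q =
      X.fromSpecStalk (genericPoint X) ≫ p) :
    ∃ P : X.PartialIso Y, P.iso.hom ≫ P.target.ι ≫ q = P.source.ι ≫ p := by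
  have hψ' : Spec.map ψ.inv ≫ X.fromSpecStalk (genericPoint X) ≫ p =
      Y.fromSpecStalk (genericPoint Y) ≫ q := by
    rw [← hψ, ← Category.assoc, ← Spec.map_comp, ψ.hom_inv_id, Spec.map_id, Category.id_comp]
  obtain ⟨U, hxU, f, hf1, hf2⟩ := spread_out_of_isGermInjective' p q (x := genericPoint X)
    (Spec.map ψ.hom ≫ Y.fromSpecStalk (genericPoint Y)) (by rw [Category.assoc]; exact hψ)
  obtain ⟨V, hyV, g, hg1, hg2⟩ := spread_out_of_isGermInjective' q p (x := genericPoint Y)
    (Spec.map ψ.inv ≫ X.fromSpecStalk (genericPoint X)) (by rw [Category.assoc]; exact hψ')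
  obtain ⟨P, hP, hPf⟩ := Groth.Agent.Lib.Helper4.BirIso.exists_partialIso U V f g
    (genericPoint X) hxU (genericPoint Y) hyV ψ hf1.symm hg1.symm
  refine ⟨P, ?_⟩
  rw [← Category.assoc, hPf, Category.assoc, hf2, ← Category.assoc, Scheme.homOfLE_ι]

section Main

variable (k : Type u) [Field k] {n : ℕ} (C : Scheme.{u}) (i : C ⟶ CohB1.ProjSpace n k)
  [IsClosedImmersion i] [IsIntegral C] (hdim : topologicalKrullDim C = 1)

open Groth.Agent.Lib.T2H6.PnIntegral

include hdim in
/-- the image of a morphism from `P^1` is a rational curve -/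
theorem exists_open_iso_of_ker_eq
    (f : CohB1.ProjSpace 1 k ⟶ CohB1.ProjSpace n k)
    (hf : f ≫ CohB1.ProjSpace.toSpec n k = CohB1.ProjSpace.toSpec 1 k) (hker : f.ker = i.ker) :
    ∃ (U : C.Opens) (V : (CohB1.ProjSpace 1 k).Opens) (e : (↑U : Scheme.{u}) ≅ ↑V),
      Nonempty U ∧
        e.hom ≫ V.ι ≫ CohB1.ProjSpace.toSpec 1 k = U.ι ≫ i ≫ CohB1.ProjSpace.toSpec n k := by
  haveI := Groth.Agent.S9705.isProper_projSpace_toSpec n k
  haveI := Groth.Agent.S9705.isProper_projSpace_toSpec 1 k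
  set p : C ⟶ Spec (CommRingCat.of k) := i ≫ CohB1.ProjSpace.toSpec n k with hp
  haveI : IsProper p := inferInstanceAs (IsProper (i ≫ CohB1.ProjSpace.toSpec n k))
  let g : CohB1.ProjSpace 1 k ⟶ C := IsClosedImmersion.lift i f (le_of_eq hker.symm)
  have hg : g ≫ i = f := IsClosedImmersion.lift_fac i f _
  have hgp : g ≫ p = CohB1.ProjSpace.toSpec 1 k := by
    rw [hp, ← Category.assoc, hg, hf]
  haveI : IsProper (f ≫ CohB1.ProjSpace.toSpec n k) := hf ▸ inferInstance
  haveI : IsProper f := IsProper.of_comp f (CohB1.ProjSpace.toSpec n k)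
  -- `g` is dominant
  have hdense : closure (Set.range g) = Set.univ := by
    have h1 : closure (Set.range f) = Set.range i := by
      have h2 : ((f.ker.support : Closeds _) : Set (CohB1.ProjSpace n k)) = (i.ker.support : Closeds _) := by
        rw [hker]
      rw [Scheme.Hom.support_ker, Scheme.Hom.support_ker] at h2
      rw [h2]
      exact i.isClosedEmbedding.isClosed_range.closure_eq
    have h3 : Set.range f = i '' (Set.range g) := by
      rw [← hg, Scheme.Hom.comp_base, TopCat.coe_comp, Set.range_comp]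
    rw [h3, i.isClosedEmbedding.closure_image_eq] at h1
    exact i.isClosedEmbedding.injective.image_injective (h1.trans Set.image_univ.symm)
  have hη : g (genericPoint (CohB1.ProjSpace 1 k)) = genericPoint C := by
    have h1 : IsGenericPoint (g (genericPoint (CohB1.ProjSpace 1 k)))
        (closure (g '' (Set.univ : Set (CohB1.ProjSpace 1 k)))) :=
      (genericPoint_spec (CohB1.ProjSpace 1 k)).image g.continuous
    rw [Set.image_univ, hdense] at h1
    exact ((genericPoint_spec C).eq h1).symm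
  let φ : C.functionField ⟶ (CohB1.ProjSpace 1 k).functionField :=
    C.presheaf.stalkSpecializes (specializes_of_eq hη) ≫
      g.stalkMap (genericPoint (CohB1.ProjSpace 1 k))
  have hφ1 : (CohB1.ProjSpace 1 k).fromSpecStalk (genericPoint (CohB1.ProjSpace 1 k)) ≫ g =
      Spec.map φ ≫ C.fromSpecStalk (genericPoint C) := fromSpecStalk_genericPoint_comp g hη
  have hφ : ffStr p ≫ φ = ffStr (CohB1.ProjSpace.toSpec 1 k) := by
    apply Spec.map_injective
    rw [Spec.map_comp, SpecMap_ffStr, SpecMap_ffStr, ← Category.assoc, ← hφ1, Category.assoc, hgp]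
  obtain ⟨β, hβ⟩ := exists_ringEquiv_functionField_P1 k
  obtain ⟨ψ, hψ⟩ := exists_ringEquiv_of_luroth (ffStr p).hom
    (ffStr (CohB1.ProjSpace.toSpec 1 k)).hom φ.hom (by rw [← CommRingCat.hom_comp, hφ]) β hβ
    (ffStr_not_surjective k p hdim)
  let ψ' : (CohB1.ProjSpace 1 k).functionField ≅ C.functionField := ψ.toCommRingCatIso
  have hψ' : Spec.map ψ'.hom ≫ (CohB1.ProjSpace 1 k).fromSpecStalk
      (genericPoint (CohB1.ProjSpace 1 k)) ≫ CohB1.ProjSpace.toSpec 1 k =
      C.fromSpecStalk (genericPoint C) ≫ p := by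
    rw [← SpecMap_ffStr, ← SpecMap_ffStr, ← Spec.map_comp]
    congr 1
    ext c
    exact hψ c
  obtain ⟨P, hP⟩ := exists_partialIso_of_functionField_iso p (CohB1.ProjSpace.toSpec 1 k) ψ' hψ'
  obtain ⟨x, hx⟩ := P.dense_source.nonempty
  exact ⟨P.source, P.target, P.iso, ⟨⟨x, hx⟩⟩, hP⟩

/-- a rational projective curve is the image of a morphism from `P^1` -/
theorem exists_ker_eq_of_open_iso (U : C.Opens) (V : (CohB1.ProjSpace 1 k).Opens)
    (e : (↑U : Scheme.{u}) ≅ ↑V) (hU : Nonempty U)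
    (he : e.hom ≫ V.ι ≫ CohB1.ProjSpace.toSpec 1 k = U.ι ≫ i ≫ CohB1.ProjSpace.toSpec n k) :
    ∃ f : CohB1.ProjSpace 1 k ⟶ CohB1.ProjSpace n k,
      f ≫ CohB1.ProjSpace.toSpec n k = CohB1.ProjSpace.toSpec 1 k ∧ f.ker = i.ker := by
  haveI := Groth.Agent.S9705.isProper_projSpace_toSpec n k
  haveI := Groth.Agent.S9705.isProper_projSpace_toSpec 1 k
  have hval : ValuativeCriterion.Existence (CohB1.ProjSpace.toSpec n k) := by
    have h1 : UniversallyClosed (CohB1.ProjSpace.toSpec n k) := inferInstance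
    rw [UniversallyClosed.eq_valuativeCriterion] at h1
    exact h1.1
  obtain ⟨u₀⟩ := hU
  have hVne : (V : Set (CohB1.ProjSpace 1 k)).Nonempty := ⟨(e.hom u₀).1, (e.hom u₀).2⟩
  have hf₀ : (e.inv ≫ U.ι ≫ i) ≫ CohB1.ProjSpace.toSpec n k =
      V.ι ≫ CohB1.ProjSpace.toSpec 1 k := by
    rw [Category.assoc, Category.assoc, ← he, ← Category.assoc, e.inv_hom_id, Category.id_comp]
  obtain ⟨F, hF1, hF2⟩ := exists_extension_of_valuationRing (CohB1.ProjSpace.toSpec 1 k)
    (CohB1.ProjSpace.toSpec n k) hval (valuationRing_stalk_P1 k) V hVne (e.inv ≫ U.ι ≫ i) hf₀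
  refine ⟨F, hF1, ?_⟩
  haveI : IsProper (F ≫ CohB1.ProjSpace.toSpec n k) := hF1 ▸ inferInstance
  haveI : IsProper F := IsProper.of_comp F (CohB1.ProjSpace.toSpec n k)
  -- the range of `F`
  have hUd : Dense (U : Set C) := U.2.dense ⟨u₀.1, u₀.2⟩
  have hVd : Dense (V : Set (CohB1.ProjSpace 1 k)) := V.2.dense hVne
  have hicl : IsClosed (Set.range i) := i.isClosedEmbedding.isClosed_range
  have h1 : Set.range F ⊆ Set.range i := by
    have hcl : IsClosed (F ⁻¹' (Set.range i)) := hicl.preimage F.continuous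
    have hsub : (V : Set (CohB1.ProjSpace 1 k)) ⊆ F ⁻¹' (Set.range i) := by
      intro v hv
      refine ⟨(e.inv ≫ U.ι) ⟨v, hv⟩, ?_⟩
      have h2 := congrArg (fun φ : V.toScheme ⟶ CohB1.ProjSpace n k => φ ⟨v, hv⟩) hF2
      simp only [Scheme.Hom.comp_apply] at h2 ⊢
      exact h2.symm
    have huniv : F ⁻¹' (Set.range i) = Set.univ := by
      apply Set.eq_univ_of_univ_subset
      rw [← hVd.closure_eq]
      exact closure_minimal hsub hcl
    rintro _ ⟨a, rfl⟩
    have : a ∈ F ⁻¹' (Set.range i) := huniv ▸ Set.mem_univ a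
    exact this
  have h2 : i '' (U : Set C) ⊆ Set.range F := by
    rintro _ ⟨c, hc, rfl⟩
    refine ⟨V.ι (e.hom ⟨c, hc⟩), ?_⟩
    have h3 := congrArg (fun φ : V.toScheme ⟶ CohB1.ProjSpace n k => φ (e.hom ⟨c, hc⟩)) hF2
    simp only [Scheme.Hom.comp_apply] at h3
    rw [h3]
    have h4 : e.inv (e.hom ⟨c, hc⟩) = ⟨c, hc⟩ := by
      rw [← Scheme.Hom.comp_apply, e.hom_inv_id]
      rfl
    rw [h4]
    rfl
  have hcl : closure (Set.range F) = Set.range i := by
    apply subset_antisymm (closure_minimal h1 hicl)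
    calc Set.range i = i '' Set.univ := Set.image_univ.symm
      _ = i '' closure (U : Set C) := by rw [hUd.closure_eq]
      _ = closure (i '' (U : Set C)) := (i.isClosedEmbedding.closure_image_eq _).symm
      _ ⊆ closure (Set.range F) := closure_mono h2
  -- both kernels are radical with the same support
  rw [← Groth.Agent.Lib.T2H9.PtTwistNI.radical_ker F, ← Groth.Agent.Lib.T2H9.PtTwistNI.radical_ker i,
    ← Scheme.IdealSheafData.vanishingIdeal_support, ← Scheme.IdealSheafData.vanishingIdeal_support]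
  congr 1
  apply TopologicalSpace.Closeds.ext
  rw [Scheme.Hom.support_ker, Scheme.Hom.support_ker, hcl, hicl.closure_eq]

end Main

end Groth.Agent.Lib.T2H9.RatCurve
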