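import Mathlib
import Groth.Prelude
import Groth.Agent.Lib.T2H9RatTwistC
import Groth.Agent.Lib.T2H4DivIdealMod
import Groth.Agent.Lib.T2H6ParShC
import Groth.Agent.Lib.T2H5LocusMod
import Groth.Agent.Lib.T2H5SuppLim
import Groth.Agent.Lib.T2H5Devissage

/-!
# Twisting down on a base change by pulled-back rational point ideals (helper9): S6487
-/

set_option autoImplicit false
set_option linter.style.haveILetI false
set_option linter.unusedSectionVars false
set_option linter.unusedVariables false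
universe u

open CategoryTheory CategoryTheory.Limits AlgebraicGeometry TopologicalSpace

namespace Groth.Agent.Lib.T2H9.RatTwistC

open Groth.Agent.Lib.T2H6.PtTwistA Groth.Agent.Lib.T2H6.PtTwistB Groth.Agent.Lib.T2H9.RatPt
  Groth.Agent.Lib.T2H5.Twist Groth.Agent.Lib.T2H9.TensorInv Groth.Agent.Lib.T2H9.RatTwist

section droppb

variable (k : Type u) [Field k] {X : Scheme.{u}} [X.Over (Spec (CommRingCat.of k))]
  (K : Type u) [Field K] [Algebra k K] {XK : Scheme.{u}} [XK.Over (Spec (CommRingCat.of K))]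
  (g : XK ⟶ X)
  (hpb : IsPullback g (XK ↘ Spec (CommRingCat.of K)) (X ↘ Spec (CommRingCat.of k))
    (Spec.map (CommRingCat.ofHom (algebraMap k K))))
  (σ : Spec (CommRingCat.of k) ⟶ X) (hσ : σ ≫ (X ↘ Spec (CommRingCat.of k)) = 𝟙 _)
  [IsIntegral X] [IsProper (X ↘ Spec (CommRingCat.of k))]

include hpb hσ in
/-- `h⁰(g^*(O/I_σ)) = 1`. -/
theorem finrank_pbT :
    Module.finrank K (Coh.HH XK (pbT g σ.ker) 0) = 1 := by
  haveI : (ClSub.quotMod σ.ker).IsQuasicoherent :=
    (Groth.Agent.Lib.T2H6.ParShC.isCoh_quotMod σ.ker).1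
  have h1 := finrank_HH_pb k K g hpb (ClSub.quotMod σ.ker) 0
  have h2 := finrank_HH_zero_quotMod_ptIdeal k (pt k σ) (isClosed_pt k σ hσ)
    (resMap_surjective k σ hσ)
  rw [← Groth.Agent.Lib.T2H9.RatTwist.ker_eq_ptIdeal k σ hσ] at h2
  exact h1.trans h2

/-- the support of `g^*(O/I_σ)` is the base-changed rational point. -/
theorem support_pbT :
    CohB1.support (pbT g σ.ker) = {pt K (secK k K g hpb σ hσ)} := by
  have hc := Groth.Agent.Lib.T2H6.ParShC.isCoh_quotMod σ.ker
  haveI : (ClSub.quotMod σ.ker).IsQuasicoherent := hc.1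
  haveI : SheafOfModules.IsFiniteType (R := X.ringCatSheaf) (ClSub.quotMod σ.ker) := hc.2
  have h1 : CohB1.support (pbT g σ.ker) = g ⁻¹' CohB1.support (ClSub.quotMod σ.ker) :=
    Groth.Agent.Lib.T2H5.SuppLim.support_pullback g (ClSub.quotMod σ.ker)
  have h2 : CohB1.support (ClSub.quotMod σ.ker) ⊆ {pt k σ} := by
    have h := Groth.Agent.Lib.T2H6.ParShC.support_quotMod_subset σ.ker
    rw [Groth.Agent.Lib.T2H9.RatTwist.ker_eq_ptIdeal k σ hσ, coe_support_ptIdeal] at h
    rw [Groth.Agent.Lib.T2H9.RatTwist.ker_eq_ptIdeal k σ hσ]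
    exact h
  have h3 : CohB1.support (pbT g σ.ker) ⊆ {pt K (secK k K g hpb σ hσ)} := by
    rw [h1, ← preimage_pt k K g hpb σ hσ]
    exact Set.preimage_mono h2
  have h4 : (CohB1.support (pbT g σ.ker)).Nonempty := by
    rw [Set.nonempty_iff_ne_empty]
    intro he
    have hz := Groth.Agent.Lib.T2H5.Devissage.isZero_of_support_eq_empty _ he
    haveI := Groth.Agent.Lib.T2H5.Chevalley.subsingleton_HH_of_isZero hz 0
    have h5 : Module.finrank K (Coh.HH XK (pbT g σ.ker) 0) = 0 :=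
      Module.finrank_zero_of_subsingleton
    rw [finrank_pbT k K g hpb σ hσ] at h5
    exact one_ne_zero h5
  exact (Set.Nonempty.subset_singleton_iff h4).1 h3

variable [IsIntegral XK] [IsProper (XK ↘ Spec (CommRingCat.of K))]

/-- **twisting down on the base change by a pulled-back rational point ideal**. -/
theorem drop_pb (hdimK : topologicalKrullDim XK = 1) (M : XK.Modules) (hM : PicF.IsInvertible M)
    (s₁ : Coh.structureModule XK ⟶ (tr M).obj (Coh.structureModule XK))
    (hp : pt K (secK k K g hpb σ hσ) ∈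
      CohB1.genLocus ((tr M).obj (Coh.structureModule XK)) s₁) :
    Module.finrank K (Coh.HH XK ((tr M).obj (pbJ g σ.ker)) 0) + 1 =
      Module.finrank K (Coh.HH XK ((tr M).obj (Coh.structureModule XK)) 0) ∧
    Module.finrank K (Coh.HH XK ((tr M).obj (pbJ g σ.ker)) 1) =
      Module.finrank K (Coh.HH XK ((tr M).obj (Coh.structureModule XK)) 1) := by
  haveI : Flat g := flat_g k K g hpb
  haveI := Groth.Agent.Lib.T2H6.CurveDeg.isLocallyNoetherian (X := X) k
  have hJc : Coh.IsCoh (pbJ g σ.ker) :=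
    Groth.Agent.Lib.T2H5.LocusMod.isCoh_pullback g _
      (Groth.Agent.Lib.T2H4.DivIdealMod.isCoh_idealMod (J := σ.ker))
  have hTc : Coh.IsCoh (pbT g σ.ker) :=
    Groth.Agent.Lib.T2H5.LocusMod.isCoh_pullback g _
      (Groth.Agent.Lib.T2H6.ParShC.isCoh_quotMod σ.ker)
  have hsupp := support_pbT k K g hpb σ hσ
  have hpts : ∀ x ∈ CohB1.support (pbT g σ.ker), IsClosed ({x} : Set XK) := by
    intro x hx
    rw [hsupp] at hx
    rw [Set.mem_singleton_iff.1 hx]
    exact isClosed_pt K _ (secK_over k K g hpb σ hσ)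
  have hpT : pt K (secK k K g hpb σ hσ) ∈ CohB1.support (pbT g σ.ker) := by
    rw [hsupp]; exact Set.mem_singleton _
  exact drop_of_shortExact K hdimK (pbf g σ.ker) (pbπ g σ.ker) (pb_w g σ.ker)
    (pbSC_shortExact g σ.ker) hJc hTc hpts (finrank_pbT k K g hpb σ hσ) M hM s₁
    (comp_map_ne_zero (pbT g σ.ker) (pbπ g σ.ker) M hM _ hpT s₁ hp)

end droppb

section selpb

variable (k : Type u) [Field k] {X : Scheme.{u}} [X.Over (Spec (CommRingCat.of k))]
  (K : Type u) [Field K] [Algebra k K] {XK : Scheme.{u}} [XK.Over (Spec (CommRingCat.of K))]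
  (g : XK ⟶ X)
  (hpb : IsPullback g (XK ↘ Spec (CommRingCat.of K)) (X ↘ Spec (CommRingCat.of k))
    (Spec.map (CommRingCat.ofHom (algebraMap k K))))
  [IsIntegral X] [IsProper (X ↘ Spec (CommRingCat.of k))]
  [IsIntegral XK] [IsProper (XK ↘ Spec (CommRingCat.of K))]

include hpb in
/-- over a separably closed base field: twisting an invertible module on the base change with a nonzero section down
by the pullback of a suitable rational point ideal drops `h⁰` by one and keeps `h¹`. -/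
theorem exists_section_drop_pb [IsSepClosed k] [Smooth (X ↘ Spec (CommRingCat.of k))]
    (hdimK : topologicalKrullDim XK = 1)
    (M : XK.Modules) (hM : PicF.IsInvertible M) (h0 : Module.finrank K (Coh.HH XK M 0) ≠ 0) :
    ∃ (σ : Spec (CommRingCat.of k) ⟶ X) (hσ : σ ≫ (X ↘ Spec (CommRingCat.of k)) = 𝟙 _),
      Module.finrank K (Coh.HH XK (CohB1.tensorMod (pbJ g σ.ker) M) 0) + 1 =
        Module.finrank K (Coh.HH XK M 0) ∧
      Module.finrank K (Coh.HH XK (CohB1.tensorMod (pbJ g σ.ker) M) 1) =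
        Module.finrank K (Coh.HH XK M 1) := by
  have e := Groth.Agent.Lib.Helper23.TensorUnit.unitTensorIso M
  have e0 := Groth.Agent.Lib.T2H6.FieldBC.finrank_HH_eq_of_iso K XK e 0
  have e1 := Groth.Agent.Lib.T2H6.FieldBC.finrank_HH_eq_of_iso K XK e 1
  have hOM : PicF.IsInvertible (CohB1.tensorMod (Coh.structureModule XK) M) :=
    Groth.Agent.Lib.Helper23.SecTw.isInvertible_tensorMod
      (Groth.Agent.Lib.Helper23.TensorUnit.isInvertible_structureModule XK) hM
  have hnt : Nontrivial (Coh.HH XK (CohB1.tensorMod (Coh.structureModule XK) M) 0) := by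
    apply Module.nontrivial_of_finrank_pos (R := K)
    rw [e0]
    exact Nat.pos_of_ne_zero h0
  obtain ⟨s₀, hs₀⟩ := Groth.Agent.Lib.T2H6.CurveRR.exists_section_ne_zero _ hnt
  have hgen := Groth.Agent.Lib.T2H6.PosH.genericPoint_mem_genLocus _ hOM s₀ hs₀
  haveI : UniversallyOpen g := universallyOpen_g k K g hpb
  -- the image of the generating locus is a nonempty open of `X`
  let U : X.Opens := ⟨g '' (CohB1.genLocus _ s₀ : Set XK),
    g.isOpenMap _ (CohB1.genLocus _ s₀).isOpen⟩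
  have hxU : g (genericPoint XK) ∈ U := ⟨_, hgen, rfl⟩
  obtain ⟨σ, hσ, hσU⟩ := exists_section_mem_open k (X := X) U _ hxU
  obtain ⟨y, hy, hgy⟩ := hσU
  have hy2 : y ∈ g ⁻¹' {pt k σ} := hgy
  rw [preimage_pt k K g hpb σ hσ] at hy2
  have hy3 : y = pt K (secK k K g hpb σ hσ) := hy2
  have hp' : pt K (secK k K g hpb σ hσ) ∈ CohB1.genLocus _ s₀ := by rw [← hy3]; exact hy
  obtain ⟨d0, d1⟩ := drop_pb k K g hpb σ hσ hdimK M hM s₀ hp'
  exact ⟨σ, hσ, by rw [← e0]; exact d0, by rw [← e1]; exact d1⟩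

end selpb

section tw

variable {X XK : Scheme.{u}} (g : XK ⟶ X)

/-- `M` is a twist of `L` by the pullback of an invertible module on `X`. -/
def IsTw (L M : XK.Modules) : Prop :=
  ∃ L₀ : X.Modules, PicF.IsInvertible L₀ ∧
    Nonempty (M ≅ CohB1.tensorMod L ((Scheme.Modules.pullback g).obj L₀))

theorem isTw_self (L : XK.Modules) : IsTw g L L := by
  refine ⟨Coh.structureModule X,
    Groth.Agent.Lib.Helper23.TensorUnit.isInvertible_structureModule X, ⟨?_⟩⟩
  have e1 : CohB1.tensorMod L ((Scheme.Modules.pullback g).obj (Coh.structureModule X)) ≅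
      CohB1.tensorMod L (Coh.structureModule XK) :=
    Groth.Agent.Lib.Helper23.AmpleIso.tensorModIso (Iso.refl L)
      (Groth.Agent.Lib.Helper23.PB.pullbackUnitIso g)
  have e2 : CohB1.tensorMod L (Coh.structureModule XK) ≅
      CohB1.tensorMod (Coh.structureModule XK) L :=
    Groth.Agent.Lib.T2H4.AmpleAffine.tensorComm L (Coh.structureModule XK)
  have e3 : CohB1.tensorMod (Coh.structureModule XK) L ≅ L :=
    Groth.Agent.Lib.Helper23.TensorUnit.unitTensorIso L
  exact (e1 ≪≫ e2 ≪≫ e3).symm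

theorem isTw_step (L M : XK.Modules) (h : IsTw g L M) (N : X.Modules) (hN : PicF.IsInvertible N) :
    IsTw g L (CohB1.tensorMod ((Scheme.Modules.pullback g).obj N) M) := by
  obtain ⟨L₀, hL₀, ⟨e⟩⟩ := h
  refine ⟨CohB1.tensorMod N L₀, Groth.Agent.Lib.Helper23.SecTw.isInvertible_tensorMod hN hL₀, ⟨?_⟩⟩
  have e1 : CohB1.tensorMod ((Scheme.Modules.pullback g).obj N) M ≅
      CohB1.tensorMod ((Scheme.Modules.pullback g).obj N)
        (CohB1.tensorMod L ((Scheme.Modules.pullback g).obj L₀)) :=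
    Groth.Agent.Lib.Helper23.AmpleIso.tensorModIso (Iso.refl _) e
  have e2 : CohB1.tensorMod ((Scheme.Modules.pullback g).obj N)
        (CohB1.tensorMod L ((Scheme.Modules.pullback g).obj L₀)) ≅
      CohB1.tensorMod L (CohB1.tensorMod ((Scheme.Modules.pullback g).obj N)
        ((Scheme.Modules.pullback g).obj L₀)) :=
    swapIso _ _ _
  have e3 : CohB1.tensorMod L (CohB1.tensorMod ((Scheme.Modules.pullback g).obj N)
        ((Scheme.Modules.pullback g).obj L₀)) ≅
      CohB1.tensorMod L ((Scheme.Modules.pullback g).obj (CohB1.tensorMod N L₀)) :=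
    Groth.Agent.Lib.Helper23.AmpleIso.tensorModIso (Iso.refl L)
      (Groth.Agent.Lib.Helper23.RestrTensor.pullbackTensorIso N L₀ g).symm
  exact e1 ≪≫ e2 ≪≫ e3

theorem isTw_invertible (L M : XK.Modules) (hL : PicF.IsInvertible L) (h : IsTw g L M) :
    PicF.IsInvertible M := by
  obtain ⟨L₀, hL₀, ⟨e⟩⟩ := h
  exact Groth.Agent.Lib.Helper23.AmpleIso.isInvertible_of_iso e.symm
    (Groth.Agent.Lib.Helper23.SecTw.isInvertible_tensorMod hL
      (Groth.Agent.Lib.Helper23.PB.isInvertible_pullback g L₀ hL₀))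

end tw

section main

variable (k : Type u) [Field k] {X : Scheme.{u}} [X.Over (Spec (CommRingCat.of k))]
  (K : Type u) [Field K] [Algebra k K] {XK : Scheme.{u}} [XK.Over (Spec (CommRingCat.of K))]
  (g : XK ⟶ X)
  (hpb : IsPullback g (XK ↘ Spec (CommRingCat.of K)) (X ↘ Spec (CommRingCat.of k))
    (Spec.map (CommRingCat.ofHom (algebraMap k K))))
  [IsIntegral X] [IsProper (X ↘ Spec (CommRingCat.of k))]
  [IsIntegral XK] [IsProper (XK ↘ Spec (CommRingCat.of K))]

include hpb in
/-- twisting up: twists of `L` of every degree `deg L + n`. -/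
theorem exists_isTw_deg (hdim : topologicalKrullDim X = 1) (hdimK : topologicalKrullDim XK = 1)
    (A : X.Modules) (hA : PicF.IsInvertible A) (hAdeg : Curv2.deg k X A 1 = 1)
    (L : XK.Modules) (hL : PicF.IsInvertible L) (n : ℕ) :
    ∃ M : XK.Modules, IsTw g L M ∧ Curv2.deg K XK M 1 = Curv2.deg K XK L 1 + n := by
  induction n with
  | zero => exact ⟨L, isTw_self g L, by simp⟩
  | succ n ih =>
    obtain ⟨M, hM, hd⟩ := ih
    haveI : A.IsQuasicoherent := (Groth.Agent.Lib.T2H6.CurveDeg.isCoh_of_isInvertible A hA).1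
    have hgA : PicF.IsInvertible ((Scheme.Modules.pullback g).obj A) :=
      Groth.Agent.Lib.Helper23.PB.isInvertible_pullback g A hA
    refine ⟨_, isTw_step g L M hM A hA, ?_⟩
    rw [Groth.Agent.Lib.T2H6.PtTwistD.deg_tensor1 K hdimK _ _ hgA (isTw_invertible g L M hL hM),
      deg_pb k K g hpb A 1, hAdeg, hd]
    push_cast
    ring

include hpb in
/-- twisting down to `h⁰ = 1` keeping `h¹ = 0`. -/
theorem exists_isTw_h0_one [IsSepClosed k] [Smooth (X ↘ Spec (CommRingCat.of k))]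
    (hdim : topologicalKrullDim X = 1) (hdimK : topologicalKrullDim XK = 1)
    (L : XK.Modules) (hL : PicF.IsInvertible L) :
    ∀ (m : ℕ) (M : XK.Modules), IsTw g L M → Module.finrank K (Coh.HH XK M 1) = 0 →
      Module.finrank K (Coh.HH XK M 0) = m + 1 →
      ∃ M' : XK.Modules, IsTw g L M' ∧ Module.finrank K (Coh.HH XK M' 0) = 1 ∧
        Module.finrank K (Coh.HH XK M' 1) = 0 := by
  have hreg : ∀ x : X, IsRegularLocalRing (X.presheaf.stalk x) :=
    Groth.Agent.Lib.T2H6.CurveSmooth.isRegularLocalRing_stalk k X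
  intro m
  induction m with
  | zero => exact fun M hM h1 h0 => ⟨M, hM, by omega, h1⟩
  | succ m ih =>
    intro M hM h1 h0
    obtain ⟨σ, hσ, d0, d1⟩ := exists_section_drop_pb k K g hpb hdimK M
      (isTw_invertible g L M hL hM) (by omega)
    have hI := (isInvertible_idealMod_ker k hdim hreg σ hσ).1
    have d0' : Module.finrank K (Coh.HH XK (CohB1.tensorMod
        ((Scheme.Modules.pullback g).obj (ClSub.idealMod σ.ker)) M) 0) + 1 =
        Module.finrank K (Coh.HH XK M 0) := d0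
    have d1' : Module.finrank K (Coh.HH XK (CohB1.tensorMod
        ((Scheme.Modules.pullback g).obj (ClSub.idealMod σ.ker)) M) 1) =
        Module.finrank K (Coh.HH XK M 1) := d1
    exact ih _ (isTw_step g L M hM _ hI) (by rw [d1', h1]) (by omega)

include hpb in
/-- **S6487** (internal form). -/
theorem main6487 [IsSepClosed k] [Smooth (X ↘ Spec (CommRingCat.of k))]
    (hdim : topologicalKrullDim X = 1) (L : XK.Modules) (hL : PicF.IsInvertible L) :
    ∃ L₀ : X.Modules, PicF.IsInvertible L₀ ∧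
      Module.finrank K (Coh.HH XK (CohB1.tensorMod L ((Scheme.Modules.pullback g).obj L₀)) 0) = 1 ∧
      Subsingleton (Coh.HH XK (CohB1.tensorMod L ((Scheme.Modules.pullback g).obj L₀)) 1) := by
  haveI : Smooth (XK ↘ Spec (CommRingCat.of K)) := smooth_bc k K g hpb
  have hdimK : topologicalKrullDim XK = 1 := (dim_bc k K g hpb).trans hdim
  have hgiK : GeometricallyIntegral (XK ↘ Spec (CommRingCat.of K)) :=
    geometricallyIntegral_bc k K g hpb
  have h0K : Module.finrank K (Coh.HH XK (Coh.structureModule XK) 0) = 1 :=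
    (Groth.Agent.Lib.T2H9.CurvH0.main K XK).1.2 ((Groth.Agent.Lib.T2H9.CurvH0.main K XK).2.2 hgiK)
  have hreg : ∀ x : X, IsRegularLocalRing (X.presheaf.stalk x) :=
    Groth.Agent.Lib.T2H6.CurveSmooth.isRegularLocalRing_stalk k X
  obtain ⟨σ₀, hσ₀, -⟩ := exists_section_mem_open k (X := X) ⊤ (genericPoint X) trivial
  obtain ⟨hI, hIdeg⟩ := isInvertible_idealMod_ker k hdim hreg σ₀ hσ₀
  have hA := isInvertible_inv _ hI
  have hAdeg : Curv2.deg k X (inv (ClSub.idealMod σ₀.ker)) 1 = 1 := by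
    rw [Groth.Agent.Lib.T2H6.PtTwistD.deg_inv k hdim _ hI, hIdeg]
    norm_num
  obtain ⟨M, hM, hMd⟩ := exists_isTw_deg k K g hpb hdim hdimK _ hA hAdeg L hL
    (2 * (Curv2.genus K XK : ℤ) - Curv2.deg K XK L 1).toNat
  have hMi := isTw_invertible g L M hL hM
  have hdeg2 : 2 * (Curv2.genus K XK : ℤ) ≤ Curv2.deg K XK M 1 := by
    rw [hMd]
    have := Int.self_le_toNat (2 * (Curv2.genus K XK : ℤ) - Curv2.deg K XK L 1)
    omega
  haveI : M.IsQuasicoherent := (Groth.Agent.Lib.T2H6.CurveDeg.isCoh_of_isInvertible M hMi).1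
  haveI : (Coh.structureModule XK).IsQuasicoherent :=
    (Groth.Agent.Lib.T2H5.GenIsoF.isCoh_structureModule (Z := XK)).1
  haveI h1 : Subsingleton (Coh.HH XK M 1) :=
    Groth.Agent.Lib.T2H9.VBNorm.h1_subsingleton_of_deg_gt K hdimK h0K M hMi (by omega)
  have h1' : Module.finrank K (Coh.HH XK M 1) = 0 := Module.finrank_zero_of_subsingleton
  have eM := Groth.Agent.Lib.T2H6.CurveRR.euler_eq_sub K hdimK M
  have eO := Groth.Agent.Lib.T2H6.CurveRR.euler_eq_sub K hdimK (Coh.structureModule XK)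
  have hgg : (Module.finrank K (Coh.HH XK (Coh.structureModule XK) 1) : ℤ) =
      (Curv2.genus K XK : ℤ) := rfl
  rw [h0K, hgg] at eO
  rw [h1'] at eM
  have hd : Curv2.deg K XK M 1 =
      Curv2.euler K XK M - ((1 : ℕ) : ℤ) * Curv2.euler K XK (Coh.structureModule XK) := rfl
  rw [hd, eM, eO] at hdeg2
  push_cast at hdeg2
  obtain ⟨m, hm⟩ : ∃ m : ℕ, Module.finrank K (Coh.HH XK M 0) = m + 1 :=
    ⟨Module.finrank K (Coh.HH XK M 0) - 1, by omega⟩
  obtain ⟨M', hM', h0', h1''⟩ := exists_isTw_h0_one k K g hpb hdim hdimK L hL m M hM h1' hm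
  have hM'i := isTw_invertible g L M' hL hM'
  obtain ⟨L₀, hL₀, ⟨e⟩⟩ := hM'
  refine ⟨L₀, hL₀, ?_, ?_⟩
  · rw [← Groth.Agent.Lib.T2H6.FieldBC.finrank_HH_eq_of_iso K XK e 0]
    exact h0'
  · have hc := Groth.Agent.Lib.T2H6.CurveDeg.isCoh_of_isInvertible _
      (Groth.Agent.Lib.Helper23.AmpleIso.isInvertible_of_iso e hM'i)
    haveI := Groth.Agent.Lib.T2H6.EulerField.finite_HH K XK _ hc 1
    apply (Module.finrank_zero_iff (R := K)).mp
    rw [← Groth.Agent.Lib.T2H6.FieldBC.finrank_HH_eq_of_iso K XK e 1]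
    exact h1''

end main

end Groth.Agent.Lib.T2H9.RatTwistC
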