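import Mathlib
import Groth.Agent.Lib.T2H9RedGenFree3

/-!
# Generic flatness over a reduced base scheme (helper9)
-/

set_option autoImplicit false
set_option linter.style.haveILetI false
set_option linter.unusedSectionVars false
universe u

namespace Groth.Agent.Lib.T2H9.RedGenFlat

open AlgebraicGeometry CategoryTheory Limits
open Groth.Agent.Lib.T2H9.RedGenFree

/-- ring-hom form of generic freeness over a reduced ring, with persistence under multiples -/
theorem exists_good_ringHom {R B : Type u} [CommRing R] [IsReduced R] [CommRing B] (φ : R →+* B)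
    (hφ : φ.FiniteType) (g : R) (hg : ¬ IsNilpotent g) :
    ∃ f, g ∣ f ∧ ¬ IsNilpotent f ∧ ∀ f', f ∣ f' →
      (Localization.awayMap φ f').Flat ∧ (Localization.awayMap φ f').FinitePresentation := by
  algebraize [φ]
  obtain ⟨f, hgf, hf, hgood⟩ := exists_good_elt R B B g hg
  refine ⟨f, hgf, hf, fun f' hff' => ?_⟩
  have h' := hgood.of_dvd hff'
  exact ⟨h'.flat_awayMap, h'.finitePresentation_awayMap⟩

/-- a property local at the source passes to unions of opens -/
theorem comp_ι_iSup {P : MorphismProperty Scheme.{u}} [IsZariskiLocalAtSource P]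
    {X Y : Scheme.{u}} (f : X ⟶ Y) {ι : Type*} (O : ι → X.Opens) (H : ∀ i, P ((O i).ι ≫ f)) :
    P ((⨆ i, O i).ι ≫ f) := by
  apply IsZariskiLocalAtSource.of_openCover (Scheme.Opens.iSupOpenCover O)
  intro i
  change P (X.homOfLE (le_iSup O i) ≫ _ ≫ f)
  rw [← Category.assoc, Scheme.homOfLE_ι]
  exact H i

/-- restriction over an open of the target whose preimage lies in a good open of the source -/
theorem restrict_of_le {P : MorphismProperty Scheme.{u}} [IsZariskiLocalAtSource P]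
    [P.HasOfPostcompProperty @IsOpenImmersion]
    {X Y : Scheme.{u}} (f : X ⟶ Y) (G : X.Opens) (hG : P (G.ι ≫ f)) (U : Y.Opens)
    (hU : f ⁻¹ᵁ U ≤ G) : P (f ∣_ U) := by
  have h2 : P ((f ∣_ U) ≫ U.ι) := by
    have : (f ∣_ U) ≫ U.ι = X.homOfLE hU ≫ G.ι ≫ f := by
      rw [morphismRestrict_ι, ← Category.assoc, Scheme.homOfLE_ι]
    rw [this]
    exact IsZariskiLocalAtSource.comp hG _
  exact MorphismProperty.of_postcomp (W := P) (W' := @IsOpenImmersion) (f ∣_ U) U.ι
    inferInstance h2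

/-- chart lemma: a localized affine chart whose ring map is flat and finitely presented gives an
open of the source on which the morphism is flat and locally of finite presentation -/
theorem exists_chart {X S : Scheme.{u}} (f : X ⟶ S) {W : S.Opens} (hW : IsAffineOpen W)
    {V : X.Opens} (hV : IsAffineOpen V) (e : V ≤ f ⁻¹ᵁ W) (h : Γ(S, W))
    (hfl : (Localization.awayMap (f.appLE W V e).hom h).Flat)
    (hfp : (Localization.awayMap (f.appLE W V e).hom h).FinitePresentation) :
    ∃ O : X.Opens, Flat (O.ι ≫ f) ∧ LocallyOfFinitePresentation (O.ι ≫ f) ∧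
      ∀ x ∈ V, f x ∈ S.basicOpen h → x ∈ O := by
  obtain ⟨φ, hφ⟩ : ∃ φ, φ = f.appLE W V e := ⟨_, rfl⟩
  rw [← hφ] at hfl hfp
  let a : CommRingCat.of (Localization.Away h) ⟶ CommRingCat.of (Localization.Away (φ.hom h)) :=
    CommRingCat.ofHom (Localization.awayMap φ.hom h)
  let ιB : Γ(X, V) ⟶ CommRingCat.of (Localization.Away (φ.hom h)) :=
    CommRingCat.ofHom (algebraMap _ _)
  let ιR : Γ(S, W) ⟶ CommRingCat.of (Localization.Away h) := CommRingCat.ofHom (algebraMap _ _)
  have hsq : φ ≫ ιB = ιR ≫ a := by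
    ext r
    change algebraMap _ (Localization.Away (φ.hom h)) (φ.hom r) =
      Localization.awayMap φ.hom h (algebraMap _ (Localization.Away h) r)
    simp only [Localization.awayMap, IsLocalization.Away.map, IsLocalization.map_eq]
  haveI : IsOpenImmersion (Spec.map ιB) :=
    Scheme.isOpenImmersion_SpecMap_localizationAway (R := Γ(X, V)) (φ.hom h)
  haveI : IsOpenImmersion (Spec.map ιR) :=
    Scheme.isOpenImmersion_SpecMap_localizationAway (R := Γ(S, W)) h
  let j : Spec (CommRingCat.of (Localization.Away (φ.hom h))) ⟶ X := Spec.map ιB ≫ hV.fromSpec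
  have hjf : j ≫ f = Spec.map a ≫ Spec.map ιR ≫ hW.fromSpec := by
    change (Spec.map ιB ≫ hV.fromSpec) ≫ f = _
    rw [Category.assoc, ← IsAffineOpen.SpecMap_appLE_fromSpec f hW hV e, ← hφ, ← Category.assoc,
      ← Spec.map_comp, hsq, Spec.map_comp, Category.assoc]
  haveI h1 : Flat (Spec.map a) := (HasRingHomProperty.Spec_iff (P := @Flat)).mpr hfl
  haveI h2 : LocallyOfFinitePresentation (Spec.map a) :=
    (HasRingHomProperty.Spec_iff (P := @LocallyOfFinitePresentation)).mpr hfp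
  haveI hF : Flat (j ≫ f) := by rw [hjf]; infer_instance
  haveI hL : LocallyOfFinitePresentation (j ≫ f) := by rw [hjf]; infer_instance
  refine ⟨j.opensRange, ?_, ?_, ?_⟩
  · rw [← j.isoOpensRange_inv_comp, Category.assoc]; infer_instance
  · rw [← j.isoOpensRange_inv_comp, Category.assoc]; infer_instance
  · intro x hxV hfx
    have hq : hV.fromSpec (hV.primeIdealOf ⟨x, hxV⟩) = x := hV.fromSpec_primeIdealOf ⟨x, hxV⟩
    have hq2 : φ.hom h ∉ (hV.primeIdealOf ⟨x, hxV⟩).asIdeal := by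
      have h6 := IsAffineOpen.comap_primeIdealOf_appLE (f := f) W hW V hV e hxV
      have h7 : hW.primeIdealOf ⟨f x, e hxV⟩ ∈ hW.fromSpec ⁻¹ᵁ S.basicOpen h := by
        change hW.fromSpec (hW.primeIdealOf ⟨f x, e hxV⟩) ∈ S.basicOpen h
        rw [hW.fromSpec_primeIdealOf]; exact hfx
      rw [hW.fromSpec_preimage_basicOpen, ← h6, ← hφ] at h7
      exact h7
    have hr : hV.primeIdealOf ⟨x, hxV⟩ ∈ Set.range (Spec.map ιB) := by
      have h8 := PrimeSpectrum.localization_away_comap_range (Localization.Away (φ.hom h))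
        (φ.hom h)
      have h9 : hV.primeIdealOf ⟨x, hxV⟩ ∈
          (PrimeSpectrum.basicOpen (φ.hom h) : Set (PrimeSpectrum Γ(X, V))) := hq2
      rw [← h8] at h9
      exact h9
    obtain ⟨q', hq'⟩ := hr
    refine ⟨q', ?_⟩
    change (Spec.map ιB ≫ hV.fromSpec) q' = x
    rw [Scheme.Hom.comp_apply, hq', hq]

/-- **Generic flatness over a reduced base**: a morphism of finite type to a reduced scheme is
flat and locally of finite presentation over a dense open of the base. -/
theorem main_S0414 {X S : Scheme.{u}} (f : X ⟶ S) [IsReduced S] [LocallyOfFiniteType f]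
    [QuasiCompact f] :
    ∃ U : S.Opens, Dense (U : Set ↑S) ∧ Flat (f ∣_ U) ∧ LocallyOfFinitePresentation (f ∣_ U) := by
  classical
  let 𝒪 := {O : X.Opens // Flat (O.ι ≫ f) ∧ LocallyOfFinitePresentation (O.ι ≫ f)}
  let G : X.Opens := ⨆ O : 𝒪, O.1
  have hGF : Flat (G.ι ≫ f) := comp_ι_iSup (P := @Flat) f (fun O : 𝒪 => O.1) (fun O => O.2.1)
  have hGL : LocallyOfFinitePresentation (G.ι ≫ f) :=
    comp_ι_iSup (P := @LocallyOfFinitePresentation) f (fun O : 𝒪 => O.1) (fun O => O.2.2)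
  let U : S.Opens := ⟨(closure (f '' ((G : Set X)ᶜ)))ᶜ, isClosed_closure.isOpen_compl⟩
  have hle : f ⁻¹ᵁ U ≤ G := by
    intro x hx
    by_contra hxG
    exact hx (subset_closure ⟨x, hxG, rfl⟩)
  refine ⟨U, ?_, restrict_of_le (P := @Flat) f G hGF U hle,
    restrict_of_le (P := @LocallyOfFinitePresentation) f G hGL U hle⟩
  -- density
  rw [dense_iff_inter_open]
  rintro W' hW' ⟨s₀, hs₀⟩
  obtain ⟨_, ⟨W₀, hW₀, rfl⟩, hs₀W, hWW'⟩ :=
    S.isBasis_affineOpens.exists_subset_of_mem_open hs₀ hW'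
  let W : S.Opens := W₀
  have hW : IsAffineOpen W := hW₀
  haveI : Nonempty W := ⟨⟨s₀, hs₀W⟩⟩
  have hcomp : IsCompact ((f ⁻¹ᵁ W : X.Opens) : Set X) :=
    QuasiCompact.isCompact_preimage (f := f) _ W.isOpen hW.isCompact
  obtain ⟨s, hs, hsV⟩ := isCompact_iff_finite_and_eq_biUnion_affineOpens.mp hcomp
  have hleV : ∀ i ∈ s, (i : X.Opens) ≤ f ⁻¹ᵁ W := by
    intro i hi
    rw [hsV]
    exact le_iSup₂ (f := fun (i : X.affineOpens) (_ : i ∈ s) => (i : X.Opens)) i hi
  have hind : ∀ s' : Set X.affineOpens, s'.Finite → s' ⊆ s →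
      ∃ h : Γ(S, W), ¬ IsNilpotent h ∧ ∀ V ∈ s', ∀ (e : (V : X.Opens) ≤ f ⁻¹ᵁ W), ∀ h', h ∣ h' →
        (Localization.awayMap (f.appLE W V e).hom h').Flat ∧
        (Localization.awayMap (f.appLE W V e).hom h').FinitePresentation := by
    intro s' hs'
    induction s', hs' using Set.Finite.induction_on with
    | empty =>
      intro _
      exact ⟨1, not_isNilpotent_one, fun V hV => absurd hV (Set.notMem_empty V)⟩
    | insert hi₀ hfin ih =>
      rename_i V₀ s₁
      intro hsub
      obtain ⟨h₁, hh₁, H₁⟩ := ih (fun j hj => hsub (Set.mem_insert_of_mem _ hj))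
      have e₀ := hleV V₀ (hsub (Set.mem_insert _ _))
      have hft : (f.appLE W V₀ e₀).hom.FiniteType :=
        HasRingHomProperty.appLE (P := @LocallyOfFiniteType) (f := f)
          (inferInstance : LocallyOfFiniteType f) ⟨W, hW⟩ V₀ e₀
      obtain ⟨h₂, h12, hh₂, H₂⟩ := exists_good_ringHom (f.appLE W V₀ e₀).hom hft h₁ hh₁
      refine ⟨h₂, hh₂, ?_⟩
      rintro V hV e h' hh'
      rcases hV with rfl | hV
      · exact H₂ h' hh'
      · exact H₁ V hV e h' (h12.trans hh')
  obtain ⟨h, hh, H⟩ := hind s hs subset_rfl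
  have hD : S.basicOpen h ≤ U := by
    intro y hy hcl
    obtain ⟨_, hz, ⟨x, hxG, rfl⟩⟩ := mem_closure_iff.mp hcl _ (S.basicOpen h).isOpen hy
    apply hxG
    have hxW : x ∈ f ⁻¹ᵁ W := S.basicOpen_le h hz
    rw [hsV] at hxW
    simp only [TopologicalSpace.Opens.mem_iSup] at hxW
    obtain ⟨V, hV, hxV⟩ := hxW
    have e := hleV V hV
    obtain ⟨O, hOF, hOL, hO⟩ := exists_chart f hW V.2 e h (H V hV e h dvd_rfl).1
      (H V hV e h dvd_rfl).2
    exact TopologicalSpace.Opens.mem_iSup.mpr ⟨⟨O, hOF, hOL⟩, hO x hxV hz⟩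
  have hne : S.basicOpen h ≠ ⊥ := by
    intro h0
    have h1 : h = 0 := (AlgebraicGeometry.basicOpen_eq_bot_iff h).mp h0
    exact hh (h1 ▸ IsNilpotent.zero)
  obtain ⟨y, hy⟩ : ∃ y, y ∈ S.basicOpen h := by
    by_contra hcon
    push Not at hcon
    exact hne (TopologicalSpace.Opens.ext (Set.eq_empty_of_forall_notMem hcon))
  exact ⟨y, hWW' (S.basicOpen_le h hy), hD hy⟩

end Groth.Agent.Lib.T2H9.RedGenFlat
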