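import Mathlib
import Groth.Agent.S2082
import Groth.Agent.Lib.Helper28FlatNormal
import Groth.Agent.Lib.Helper28RegLoc
import Groth.Agent.Lib.Helper5RLR3
import Groth.Agent.Lib.Helper5LocalDim

/-!
# Regular local homomorphisms: EGA 0_IV 17.3.3 (helper9)
-/

set_option autoImplicit false
set_option linter.style.haveILetI false
universe u

namespace Groth.Agent.Lib.T2H9.RegLocalHom

open IsLocalRing

variable {A B : Type u} [CommRing A] [IsLocalRing A] [IsNoetherianRing A] [CommRing B]
  [IsLocalRing B] [IsNoetherianRing B] [Algebra A B] [IsLocalHom (algebraMap A B)]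

/-- `embdim B ≤ embdim A + embdim (B / 𝔪_A B)` -/
theorem spanFinrank_maximalIdeal_le
    [IsLocalRing (B ⧸ (maximalIdeal A).map (algebraMap A B))] :
    (maximalIdeal B).spanFinrank ≤ (maximalIdeal A).spanFinrank +
      (maximalIdeal (B ⧸ (maximalIdeal A).map (algebraMap A B))).spanFinrank := by
  classical
  set I : Ideal B := (maximalIdeal A).map (algebraMap A B) with hI
  have hfgA : (maximalIdeal A).FG := (maximalIdeal A).fg_of_isNoetherianRing
  have hfg0 : (maximalIdeal (B ⧸ I)).FG := (maximalIdeal (B ⧸ I)).fg_of_isNoetherianRing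
  set GA : Set A := Submodule.generators (maximalIdeal A) with hGA
  set G0 : Set (B ⧸ I) := Submodule.generators (maximalIdeal (B ⧸ I)) with hG0
  have hGAfin : GA.Finite := Submodule.FG.finite_generators hfgA
  have hG0fin : G0.Finite := Submodule.FG.finite_generators hfg0
  have hGAspan : Ideal.span GA = maximalIdeal A := Submodule.span_generators _
  have hG0span : Ideal.span G0 = maximalIdeal (B ⧸ I) := Submodule.span_generators _
  let σ : (B ⧸ I) → B := Function.surjInv Ideal.Quotient.mk_surjective
  have hσ : ∀ y, Ideal.Quotient.mk I (σ y) = y := Function.surjInv_eq _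
  set T : Set B := algebraMap A B '' GA ∪ σ '' G0 with hT
  have hIle : I ≤ Ideal.span T := by
    rw [hI, ← hGAspan, Ideal.map_span]
    exact Ideal.span_mono Set.subset_union_left
  have hle : maximalIdeal B ≤ Ideal.span T := by
    have h1 : (maximalIdeal B).map (Ideal.Quotient.mk I) ≤ (Ideal.span T).map (Ideal.Quotient.mk I) := by
      rw [← Groth.Agent.Lib.Helper5.maximalIdeal_quotient_eq_map I, ← hG0span, Ideal.map_span]
      apply Ideal.span_mono
      intro y hy
      exact ⟨σ y, Set.mem_union_right _ ⟨y, hy, rfl⟩, hσ y⟩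
    have h2 := Ideal.comap_mono (f := Ideal.Quotient.mk I) h1
    rw [Ideal.comap_map_of_surjective _ Ideal.Quotient.mk_surjective,
      Ideal.comap_map_of_surjective _ Ideal.Quotient.mk_surjective, ← RingHom.ker_eq_comap_bot,
      Ideal.mk_ker, sup_eq_left.mpr hIle] at h2
    exact le_sup_left.trans h2
  have hge : Ideal.span T ≤ maximalIdeal B := by
    rw [Ideal.span_le]
    rintro x (⟨a, ha, rfl⟩ | ⟨y, hy, rfl⟩)
    · have : a ∈ maximalIdeal A := hGAspan ▸ Ideal.subset_span ha
      exact IsLocalRing.map_maximalIdeal_le (algebraMap A B) (Ideal.mem_map_of_mem _ this)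
    · have hy' : y ∈ maximalIdeal (B ⧸ I) := hG0span ▸ Ideal.subset_span hy
      rw [SetLike.mem_coe, mem_maximalIdeal, mem_nonunits_iff]
      intro hu
      have := hu.map (Ideal.Quotient.mk I)
      rw [hσ] at this
      exact (mem_maximalIdeal _).mp hy' this
  have heq : maximalIdeal B = Ideal.span T := le_antisymm hle hge
  have hTfin : T.Finite := (hGAfin.image _).union (hG0fin.image _)
  calc (maximalIdeal B).spanFinrank = (Ideal.span T).spanFinrank := by rw [heq]
    _ ≤ T.ncard := Submodule.spanFinrank_span_le_ncard_of_finite hTfin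
    _ ≤ (algebraMap A B '' GA).ncard + (σ '' G0).ncard := Set.ncard_union_le _ _
    _ ≤ GA.ncard + G0.ncard :=
        add_le_add (Set.ncard_image_le hGAfin) (Set.ncard_image_le hG0fin)
    _ = _ := by rw [Submodule.FG.generators_ncard hfgA, Submodule.FG.generators_ncard hfg0]

theorem isRegularLocalRing_iff_nat (R : Type u) [CommRing R] [IsLocalRing R] [IsNoetherianRing R]
    (n : ℕ) (hn : ringKrullDim R = n) :
    IsRegularLocalRing R ↔ (maximalIdeal R).spanFinrank = n := by
  rw [isRegularLocalRing_iff, hn]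
  exact_mod_cast Iff.rfl

theorem le_spanFinrank_nat (R : Type u) [CommRing R] [IsLocalRing R] [IsNoetherianRing R]
    (n : ℕ) (hn : ringKrullDim R = n) : n ≤ (maximalIdeal R).spanFinrank := by
  have := ringKrullDim_le_spanFinrank_maximalIdeal R
  rw [hn] at this
  exact_mod_cast this

theorem tfae [IsLocalRing (B ⧸ (maximalIdeal A).map (algebraMap A B))] :
    [IsRegularLocalRing B ∧
       Module.finrank (ResidueField B) (CotangentSpace B) =
         Module.finrank (ResidueField A) (CotangentSpace A) +
           Module.finrank (ResidueField (B ⧸ (maximalIdeal A).map (algebraMap A B)))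
            (CotangentSpace (B ⧸ (maximalIdeal A).map (algebraMap A B))),
     IsRegularLocalRing B ∧ IsRegularLocalRing (B ⧸ (maximalIdeal A).map (algebraMap A B)) ∧
       Module.Flat A B,
     IsRegularLocalRing A ∧ IsRegularLocalRing (B ⧸ (maximalIdeal A).map (algebraMap A B)) ∧
       Module.Flat A B,
     IsRegularLocalRing A ∧ IsRegularLocalRing (B ⧸ (maximalIdeal A).map (algebraMap A B)) ∧
       ringKrullDim B = ringKrullDim A +
        ringKrullDim (B ⧸ (maximalIdeal A).map (algebraMap A B))].TFAE := by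
  rw [← spanFinrank_maximalIdeal_eq_finrank_cotangentSpace A,
    ← spanFinrank_maximalIdeal_eq_finrank_cotangentSpace B,
    ← spanFinrank_maximalIdeal_eq_finrank_cotangentSpace
      (B ⧸ (maximalIdeal A).map (algebraMap A B))]
  obtain ⟨nA, hnA⟩ := Groth.Agent.Lib.Helper5.exists_nat_ringKrullDim_eq A
  obtain ⟨nB, hnB⟩ := Groth.Agent.Lib.Helper5.exists_nat_ringKrullDim_eq B
  obtain ⟨n0, hn0⟩ := Groth.Agent.Lib.Helper5.exists_nat_ringKrullDim_eq
    (B ⧸ (maximalIdeal A).map (algebraMap A B))
  have hA := le_spanFinrank_nat A nA hnA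
  have hB := le_spanFinrank_nat B nB hnB
  have h0 := le_spanFinrank_nat _ n0 hn0
  have F1 := spanFinrank_maximalIdeal_le (A := A) (B := B)
  have F2 : nB ≤ nA + n0 := by
    have := Groth.Agent.Lib.Helper5.ringKrullDim_le_add_of_isLocalHom (algebraMap A B)
    rw [hnA, hnB, hn0] at this
    exact_mod_cast this
  have rA := isRegularLocalRing_iff_nat A nA hnA
  have rB := isRegularLocalRing_iff_nat B nB hnB
  have r0 := isRegularLocalRing_iff_nat _ n0 hn0
  have hflat : Module.Flat A B → nB = n0 + nA := by
    intro hfl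
    have := Groth.Agent.Lib.Helper28.ringKrullDim_eq_add_of_flat (R := A) (S := B)
      ((maximalIdeal A).map (algebraMap A B)) rfl
    rw [hnA, hnB, hn0] at this
    exact_mod_cast this
  rw [hnA, hnB, hn0]
  tfae_have 1 → 4 := by
    rintro ⟨h1, h2⟩
    rw [rB] at h1
    refine ⟨rA.mpr (by omega), r0.mpr (by omega), ?_⟩
    have : nB = nA + n0 := by omega
    exact_mod_cast this
  tfae_have 4 → 3 := by
    rintro ⟨h1, h2, h3⟩
    have h3' : nB = nA + n0 := by exact_mod_cast h3
    have hregB : IsRegularLocalRing B := rB.mpr (by rw [rA] at h1; rw [r0] at h2; omega)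
    refine ⟨h1, h2, ?_⟩
    haveI := h1
    haveI : LocCoh.IsCohenMacaulayLocalRing B :=
      Groth.Agent.Lib.Helper5.isCohenMacaulayLocalRing_of_isRegularLocalRing B
    apply Groth.Agent.S2082.result
    rw [hnA, hnB, hn0]
    exact_mod_cast h3'
  tfae_have 3 → 2 := by
    rintro ⟨h1, h2, h3⟩
    haveI := h1
    haveI := h2
    haveI := h3
    exact ⟨Groth.Agent.Lib.Helper28.isRegularLocalRing_of_flat_of_isRegularLocalRing_fibre
      (R := A) (S := B) ((maximalIdeal A).map (algebraMap A B)) rfl, h2, h3⟩
  tfae_have 2 → 1 := by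
    rintro ⟨h1, h2, h3⟩
    haveI := h1
    haveI := h3
    have hregA : IsRegularLocalRing A :=
      Groth.Agent.Lib.Helper28.isRegularLocalRing_of_flat_of_isLocalHom A B
    refine ⟨h1, ?_⟩
    have e := hflat h3
    rw [rA] at hregA
    rw [rB] at h1
    rw [r0] at h2
    omega
  tfae_finish

end Groth.Agent.Lib.T2H9.RegLocalHom
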