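import Mathlib
import Groth.Prelude
import Groth.Agent.Lib.T2H9CIPoly
import Groth.Agent.Lib.T2H9CIAscent
import Groth.Agent.Lib.T2H9TransReg
import Groth.Agent.Lib.T2H9SyntCI2
import Groth.Agent.Lib.T2H9SyntMor
import Groth.Agent.Lib.Helper5RegSeq
import Groth.Agent.Lib.Helper28FibreTrans

/-!
# Local presentations `A[T]/(regular sequence)` (T2H9)

* `isSMulRegular_C_mul_X_sub_one`, `awayEquiv`, `isWeaklyRegular_cons_of_away`,
  `nonempty_away_equiv_poly_quotient`, `exists_regular_presentation_away`: if `as` is weakly
  regular in `A[x]_h` then `(A[x]/(as))_h` is `A[x,t]/(ht-1, as)` with `(ht-1, as)` regular.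
* `regOn_of_forall₂_units`, `exists_list_lift_units`, `exists_spread`: spreading out a regular
  sequence from a localization at a prime of a Noetherian ring to a basic open.
* `isRegularLocalRing_fibLocRing_mvPolynomial`, `exists_regular_ker_localization`.
* `exists_presentation_of_isSyntomic`.
-/

set_option autoImplicit false
set_option linter.unusedSectionVars false
set_option linter.style.haveILetI false
universe u

namespace Groth.Agent.Lib.T2H9.RegPres

open Polynomial IsLocalRing TensorProduct RingTheory.Sequence Groth.Agent.Lib.T2H9.CIPoly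
  Groth.Agent.Lib.Helper5.RegSeq Groth.Agent.Lib.T2H9.CILocus Groth.Agent.Lib.Helper28
  Groth.Agent.Lib.T2H9.CIBaseChange

section Poly

variable {R : Type u} [CommRing R] (h : R)

/-- `h X - 1` is a non-zero-divisor in `R[X]` -/
theorem isSMulRegular_C_mul_X_sub_one : IsSMulRegular R[X] (C h * X - 1 : R[X]) := by
  rw [isSMulRegular_iff_right_eq_zero_of_smul]
  intro p hp
  rw [smul_eq_mul, sub_mul, one_mul, sub_eq_zero] at hp
  have h0 : p.coeff 0 = 0 := by
    rw [← hp, mul_assoc, coeff_C_mul, coeff_X_mul_zero, mul_zero]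
  have hs : ∀ n, p.coeff (n + 1) = h * p.coeff n := by
    intro n
    conv_lhs => rw [← hp, mul_assoc, coeff_C_mul, coeff_X_mul]
  ext n
  induction n with
  | zero => simpa using h0
  | succ n ih => rw [hs, ih]; simp

/-- `R_h ≃ R[X]/(hX-1)` with the ideal in `ofList` form -/
noncomputable def awayEquiv :
    Localization.Away h ≃ₐ[R] (R[X] ⧸ Ideal.ofList [(C h * X - 1 : R[X])]) :=
  (Localization.awayEquivAdjoin h).trans
    (Ideal.quotientEquivAlgOfEq R (Ideal.ofList_singleton _).symm)

theorem awayEquiv_algebraMap (a : R) :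
    awayEquiv h (algebraMap R (Localization.Away h) a) =
      Ideal.Quotient.mk (Ideal.ofList [(C h * X - 1 : R[X])]) (C a) := by
  rw [AlgEquiv.commutes]
  rfl

variable (as : List R)

/-- the sequence `hX - 1, as` is weakly regular in `R[X]` if `as` is weakly regular in `R_h` -/
theorem isWeaklyRegular_cons_of_away
    (hreg : IsWeaklyRegular (Localization.Away h) (as.map (algebraMap R (Localization.Away h)))) :
    IsWeaklyRegular R[X] ((C h * X - 1 : R[X]) :: as.map C) := by
  have h1 : IsWeaklyRegular R[X] [(C h * X - 1 : R[X])] := by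
    rw [isWeaklyRegular_cons_iff]
    exact ⟨isSMulRegular_C_mul_X_sub_one h, IsWeaklyRegular.nil _ _⟩
  have h2 := isWeaklyRegular_map_ringEquiv (awayEquiv h).toRingEquiv _ hreg
  rw [List.map_map] at h2
  have h3 : (⇑(awayEquiv h).toRingEquiv ∘ ⇑(algebraMap R (Localization.Away h))) =
      (⇑(Ideal.Quotient.mk (Ideal.ofList [(C h * X - 1 : R[X])])) ∘ ⇑(C : R →+* R[X])) := by
    funext a
    exact awayEquiv_algebraMap h a
  rw [h3, ← List.map_map] at h2
  exact isWeaklyRegular_append_of_quotient [(C h * X - 1 : R[X])] (as.map C) h1 h2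

/-- `(R/J)_h ≃ R_h / J R_h` -/
theorem nonempty_away_quotient_equiv (J : Ideal R) :
    Nonempty (Localization.Away (Ideal.Quotient.mk J h) ≃ₐ[R]
      (Localization.Away h ⧸ J.map (algebraMap R (Localization.Away h)))) := by
  haveI loc : IsLocalization.Away (Ideal.Quotient.mk J h)
      (Localization.Away h ⧸ J.map (algebraMap R (Localization.Away h))) := by
    have h1 : Algebra.algebraMapSubmonoid (R ⧸ J) (Submonoid.powers h) =
        Submonoid.powers (Ideal.Quotient.mk J h) := by
      unfold Algebra.algebraMapSubmonoid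
      rw [Submonoid.map_powers]
      rfl
    have h2 : IsLocalization (Algebra.algebraMapSubmonoid (R ⧸ J) (Submonoid.powers h))
        (Localization.Away h ⧸ J.map (algebraMap R (Localization.Away h))) := inferInstance
    rw [h1] at h2
    exact h2
  haveI : IsScalarTower R (R ⧸ J)
      (Localization.Away h ⧸ J.map (algebraMap R (Localization.Away h))) :=
    IsScalarTower.of_algebraMap_eq (fun _ => rfl)
  exact ⟨(IsLocalization.algEquiv (Submonoid.powers (Ideal.Quotient.mk J h))
    (Localization.Away (Ideal.Quotient.mk J h))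
    (Localization.Away h ⧸ J.map (algebraMap R (Localization.Away h)))).restrictScalars R⟩

/-- `(R/(as))_h ≃ R[X]/(hX-1, as)` -/
theorem nonempty_away_equiv_poly_quotient :
    Nonempty (Localization.Away (Ideal.Quotient.mk (Ideal.ofList as) h) ≃ₐ[R]
      (R[X] ⧸ Ideal.ofList ((C h * X - 1 : R[X]) :: as.map C))) := by
  obtain ⟨E1⟩ := nonempty_away_quotient_equiv h (Ideal.ofList as)
  have hIJ : ((Ideal.ofList as).map (C : R →+* R[X])).map
      (Ideal.Quotient.mkₐ R (Ideal.ofList [(C h * X - 1 : R[X])])) =
      ((Ideal.ofList as).map (algebraMap R (Localization.Away h))).map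
        ((awayEquiv h : Localization.Away h ≃ₐ[R] _) : Localization.Away h →+* _) := by
    change Ideal.map (Ideal.Quotient.mk (Ideal.ofList [(C h * X - 1 : R[X])]))
      (Ideal.map (C : R →+* R[X]) (Ideal.ofList as)) = _
    rw [Ideal.map_map, Ideal.map_map]
    congr 1
    ext a
    exact (awayEquiv_algebraMap h a).symm
  let E2 := Ideal.quotientEquivAlg ((Ideal.ofList as).map (algebraMap R (Localization.Away h)))
    (((Ideal.ofList as).map (C : R →+* R[X])).map
      (Ideal.Quotient.mkₐ R (Ideal.ofList [(C h * X - 1 : R[X])]))) (awayEquiv h) hIJ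
  let E3 := DoubleQuot.quotQuotEquivQuotSupₐ R (Ideal.ofList [(C h * X - 1 : R[X])])
    ((Ideal.ofList as).map (C : R →+* R[X]))
  have hsup : Ideal.ofList [(C h * X - 1 : R[X])] ⊔ (Ideal.ofList as).map (C : R →+* R[X]) =
      Ideal.ofList ((C h * X - 1 : R[X]) :: as.map C) := by
    rw [Ideal.ofList_singleton, Ideal.ofList_cons, Ideal.map_ofList]
  exact ⟨(E1.trans E2).trans (E3.trans (Ideal.quotientEquivAlgOfEq R hsup))⟩

end Poly

section MvPoly

variable {A : Type u} [CommRing A] (m : ℕ)

/-- `(A[x]/(as))_h` is `A[x, t]` modulo a regular sequence when `as` is weakly regular in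
`A[x]_h` -/
theorem exists_regular_presentation_away (as : List (MvPolynomial (Fin m) A))
    (h : MvPolynomial (Fin m) A)
    (hreg : IsWeaklyRegular (Localization.Away h)
      (as.map (algebraMap (MvPolynomial (Fin m) A) (Localization.Away h))))
    [hnt : Nontrivial (Localization.Away (Ideal.Quotient.mk (Ideal.ofList as) h))] :
    ∃ (d : ℕ) (P : Fin d → MvPolynomial (Fin (m + 1)) A),
      IsRegular (MvPolynomial (Fin (m + 1)) A) (List.ofFn P) ∧
      Nonempty (Localization.Away (Ideal.Quotient.mk (Ideal.ofList as) h) ≃ₐ[A]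
        (MvPolynomial (Fin (m + 1)) A ⧸ Ideal.ofList (List.ofFn P))) := by
  let ε : Polynomial (MvPolynomial (Fin m) A) ≃ₐ[A] MvPolynomial (Fin (m + 1)) A :=
    (MvPolynomial.finSuccEquiv A m).symm
  set L : List (Polynomial (MvPolynomial (Fin m) A)) := (C h * X - 1) :: as.map C with hL
  have hw := isWeaklyRegular_cons_of_away h as hreg
  have hw' := isWeaklyRegular_map_ringEquiv ε.toRingEquiv L hw
  obtain ⟨E⟩ := nonempty_away_equiv_poly_quotient h as
  have hIJ : Ideal.ofList (L.map ε) = (Ideal.ofList L).map (ε : _ →+* _) := by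
    rw [Ideal.map_ofList]
    rfl
  let E4 := Ideal.quotientEquivAlg (Ideal.ofList L) (Ideal.ofList (L.map ε)) ε hIJ
  let E' := (E.restrictScalars A).trans E4
  refine ⟨(L.map ε).length, (L.map ε).get, ?_, ?_⟩
  · rw [List.ofFn_get]
    refine ⟨hw', ?_⟩
    rw [smul_eq_mul, Ideal.mul_top]
    intro htop
    haveI : Nontrivial (MvPolynomial (Fin (m + 1)) A ⧸ Ideal.ofList (L.map ε)) :=
      E'.injective.nontrivial
    exact (Ideal.Quotient.nontrivial_iff.mp this) htop.symm
  · rw [List.ofFn_get]
    exact ⟨E'⟩

end MvPoly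

section Units

variable {C : Type u} [CommRing C]

/-- multiplying the terms of a sequence by units preserves `RegOn` and the ideal -/
theorem regOn_of_forall₂_units {xs ys : List C}
    (hxy : List.Forall₂ (fun y x => ∃ u : C, IsUnit u ∧ y = x * u) ys xs) :
    ∀ I : Ideal C, (RegOn I xs → RegOn I ys) ∧ I ⊔ Ideal.ofList ys = I ⊔ Ideal.ofList xs := by
  induction hxy with
  | nil => exact fun I => ⟨id, rfl⟩
  | @cons y x ys xs hyx _ ih =>
    obtain ⟨u, hu, rfl⟩ := hyx
    intro I
    have hspan : Ideal.span {x * u} = Ideal.span {x} := by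
      rw [mul_comm]
      exact Ideal.span_singleton_mul_left_unit hu x
    refine ⟨?_, ?_⟩
    · rw [regOn_cons, regOn_cons]
      rintro ⟨h1, h2⟩
      refine ⟨fun c hc => ?_, ?_⟩
      · have h3 : c * u * x ∈ I := by
          have : c * u * x = c * (x * u) := by ring
          rw [this]; exact hc
        have h4 := h1 (c * u) h3
        rw [mul_comm] at h4
        exact (Ideal.unit_mul_mem_iff_mem I hu).mp h4
      · rw [hspan]
        exact (ih _).1 h2
    · rw [Ideal.ofList_cons, Ideal.ofList_cons, hspan, ← sup_assoc, ← sup_assoc]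
      exact (ih _).2

end Units

section Spread

variable {R : Type u} [CommRing R] [IsNoetherianRing R] (Q : Ideal R) [Q.IsPrime] (K : Ideal R)

/-- clearing denominators in a list of elements of `K R_Q` -/
theorem exists_list_lift_units (rs : List (Localization.AtPrime Q))
    (h : ∀ r ∈ rs, r ∈ K.map (algebraMap R (Localization.AtPrime Q))) :
    ∃ as : List R, (∀ a ∈ as, a ∈ K) ∧
      List.Forall₂ (fun y x => ∃ u : Localization.AtPrime Q, IsUnit u ∧ y = x * u)
        (as.map (algebraMap R (Localization.AtPrime Q))) rs := by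
  induction rs with
  | nil => exact ⟨[], by simp, List.Forall₂.nil⟩
  | cons r rs ih =>
    obtain ⟨as, has, hF⟩ := ih (fun r' hr' => h r' (List.mem_cons_of_mem _ hr'))
    have hr := h r List.mem_cons_self
    rw [IsLocalization.mem_map_algebraMap_iff Q.primeCompl (Localization.AtPrime Q)] at hr
    obtain ⟨⟨a, s⟩, has'⟩ := hr
    refine ⟨(a : R) :: as, ?_, ?_⟩
    · intro x hx
      rcases List.mem_cons.mp hx with rfl | hx
      · exact a.2
      · exact has x hx
    · rw [List.map_cons]
      exact List.Forall₂.cons ⟨algebraMap R _ (s : R), IsLocalization.map_units _ s, has'.symm⟩ hF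

/-- a regular sequence generating `K R_Q` spreads out to a basic open neighbourhood -/
theorem exists_spread (rs : List (Localization.AtPrime Q))
    (hrs : Ideal.ofList rs = K.map (algebraMap R (Localization.AtPrime Q)))
    (hreg : IsWeaklyRegular (Localization.AtPrime Q) rs) :
    ∃ (h : R) (as : List R), h ∉ Q ∧ (∀ a ∈ as, a ∈ K) ∧ (∀ a ∈ K, h * a ∈ Ideal.ofList as) ∧
      IsWeaklyRegular (Localization.Away h) (as.map (algebraMap R (Localization.Away h))) := by
  obtain ⟨as, hasK, hF⟩ := exists_list_lift_units Q K rs (fun r hr => by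
    rw [← hrs]; exact Ideal.subset_span hr)
  obtain ⟨hR, hI⟩ := regOn_of_forall₂_units hF ⊥
  rw [bot_sup_eq, bot_sup_eq] at hI
  have hreg' : RegOn ((⊥ : Ideal R).map (algebraMap R (Localization.AtPrime Q)))
      (as.map (algebraMap R (Localization.AtPrime Q))) := by
    rw [Ideal.map_bot]
    exact hR ((isWeaklyRegular_iff_regOn rs).mp hreg)
  have hmap : (Ideal.ofList as).map (algebraMap R (Localization.AtPrime Q)) =
      K.map (algebraMap R (Localization.AtPrime Q)) := by
    rw [Ideal.map_ofList, hI, hrs]
  obtain ⟨g₁, hg₁, H₁⟩ := exists_mul_mem_of_map_eq (Ideal.ofList as) K Q hmap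
  obtain ⟨g₃, hg₃, H₃⟩ := exists_notMem_forall_regOn.{u, u} Q (Localization.AtPrime Q) as ⊥ hreg'
  refine ⟨g₁ * g₃, as, fun hmem => (Ideal.IsPrime.mem_or_mem ‹_› hmem).elim hg₁ hg₃, hasK, ?_, ?_⟩
  · intro a ha
    rw [mul_comm g₁ g₃, mul_assoc]
    exact Ideal.mul_mem_left _ _ (H₁ a ha)
  · rw [isWeaklyRegular_iff_regOn]
    have hu : IsUnit (algebraMap R (Localization.Away (g₁ * g₃)) (g₁ * g₃)) :=
      IsLocalization.Away.algebraMap_isUnit (g₁ * g₃)
    rw [map_mul] at hu
    have := H₃ (Submonoid.powers (g₁ * g₃)) (Localization.Away (g₁ * g₃))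
      (isUnit_of_mul_isUnit_right hu)
    rw [Ideal.map_bot] at this
    exact this

end Spread

section Local

variable {A : Type u} [CommRing A] (m : ℕ)

/-- the fibre local rings of a polynomial algebra are regular -/
theorem isRegularLocalRing_fibLocRing_mvPolynomial (Q : Ideal (MvPolynomial (Fin m) A))
    [Q.IsPrime] : IsRegularLocalRing (EGA4.FibLocRing A (MvPolynomial (Fin m) A) Q) := by
  refine (forall_localization_fiber_iff (A := A) (B := MvPolynomial (Fin m) A)
    (fun R _ => IsRegularLocalRing R)
    (fun R S _ _ e h => by haveI := h; exact IsRegularLocalRing.of_ringEquiv e)).mp ?_ Q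
  intro p _ Q' _
  let e : p.Fiber (MvPolynomial (Fin m) A) ≃+* MvPolynomial (Fin m) p.ResidueField :=
    (MvPolynomial.algebraTensorAlgEquiv A p.ResidueField).toRingEquiv
  haveI : IsRegularRing (MvPolynomial (Fin m) p.ResidueField) := inferInstance
  haveI : IsRegularRing (p.Fiber (MvPolynomial (Fin m) A)) := IsRegularRing.of_ringEquiv e.symm
  exact IsRegularRing.isRegularLocalRing_localization _

variable [IsNoetherianRing A] {B : Type u} [CommRing B] [Algebra A B]
  [Algebra (MvPolynomial (Fin m) A) B] [IsScalarTower A (MvPolynomial (Fin m) A) B]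

/-- for a flat quotient `B` of `A[x]` with complete intersection fibre local ring at `q`, the kernel
is generated near `q` by a regular sequence -/
theorem exists_regular_ker_localization
    (hsurj : Function.Surjective (algebraMap (MvPolynomial (Fin m) A) B)) [Module.Flat A B]
    (q : Ideal B) [q.IsPrime] (hq : PCI (EGA4.FibLocRing A B q)) :
    ∃ rs : List (Localization.AtPrime (q.comap (algebraMap (MvPolynomial (Fin m) A) B))),
      Ideal.ofList rs = (RingHom.ker (algebraMap (MvPolynomial (Fin m) A) B)).map
        (algebraMap _ (Localization.AtPrime (q.comap (algebraMap (MvPolynomial (Fin m) A) B)))) ∧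
      IsWeaklyRegular (Localization.AtPrime (q.comap (algebraMap (MvPolynomial (Fin m) A) B)))
        rs := by
  set Q : Ideal (MvPolynomial (Fin m) A) := q.comap (algebraMap (MvPolynomial (Fin m) A) B)
    with hQ
  set P : Ideal A := Q.comap (algebraMap A (MvPolynomial (Fin m) A)) with hP
  have hPq : q.comap (algebraMap A B) = P := by
    rw [hP, hQ, Ideal.comap_comap, ← IsScalarTower.algebraMap_eq]
  haveI l1 : Q.LiesOver P := ⟨rfl⟩
  haveI l2 : q.LiesOver Q := ⟨rfl⟩
  haveI l3 : q.LiesOver P := ⟨hPq.symm⟩
  letI a1 := Localization.AtPrime.algebraOfLiesOver P Q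
  letI a2 := Localization.AtPrime.algebraOfLiesOver Q q
  letI a3 := Localization.AtPrime.algebraOfLiesOver P q
  haveI tower : IsScalarTower (Localization.AtPrime P) (Localization.AtPrime Q)
      (Localization.AtPrime q) := inferInstance
  haveI hloc1 : IsLocalHom (algebraMap (Localization.AtPrime P) (Localization.AtPrime Q)) := by
    rw [RingHom.algebraMap_toAlgebra]
    exact Localization.isLocalHom_localRingHom P Q _ Ideal.LiesOver.over
  haveI hloc3 : IsLocalHom (algebraMap (Localization.AtPrime P) (Localization.AtPrime q)) := by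
    rw [RingHom.algebraMap_toAlgebra]
    exact Localization.isLocalHom_localRingHom P q _ Ideal.LiesOver.over
  -- flatness
  haveI hfl1 : Module.Flat (Localization.AtPrime P) (Localization.AtPrime Q) := by
    haveI : Module.Flat (MvPolynomial (Fin m) A) (Localization.AtPrime Q) :=
      IsLocalization.flat _ Q.primeCompl
    haveI : Module.Flat A (Localization.AtPrime Q) :=
      Module.Flat.trans A (MvPolynomial (Fin m) A) _
    exact (Module.flat_iff_of_isLocalization (Localization.AtPrime P) P.primeCompl _).mpr
      inferInstance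
  have hfl3 : Module.Flat (Localization.AtPrime P) (Localization.AtPrime q) := by
    haveI : Module.Flat B (Localization.AtPrime q) := IsLocalization.flat _ q.primeCompl
    haveI : Module.Flat A (Localization.AtPrime q) := Module.Flat.trans A B _
    exact (Module.flat_iff_of_isLocalization (Localization.AtPrime P) P.primeCompl _).mpr
      inferInstance
  -- the closed fibres
  have hmap1 : P.map (algebraMap A (Localization.AtPrime Q)) =
      (maximalIdeal (Localization.AtPrime P)).map
        (algebraMap (Localization.AtPrime P) (Localization.AtPrime Q)) := by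
    rw [← IsLocalization.AtPrime.map_eq_maximalIdeal P (Localization.AtPrime P), Ideal.map_map,
      ← IsScalarTower.algebraMap_eq]
  have hmap3 : (q.comap (algebraMap A B)).map (algebraMap A (Localization.AtPrime q)) =
      (maximalIdeal (Localization.AtPrime P)).map
        (algebraMap (Localization.AtPrime P) (Localization.AtPrime q)) := by
    rw [hPq, ← IsLocalization.AtPrime.map_eq_maximalIdeal P (Localization.AtPrime P),
      Ideal.map_map, ← IsScalarTower.algebraMap_eq]
  have hreg : IsRegularLocalRing (EGA4.FibRing (Localization.AtPrime P) (Localization.AtPrime Q)) :=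
    haveI := isRegularLocalRing_fibLocRing_mvPolynomial (A := A) m Q
    IsRegularLocalRing.of_ringEquiv (R := EGA4.FibLocRing A (MvPolynomial (Fin m) A) Q)
      (Ideal.quotEquivOfEq hmap1)
  obtain ⟨hl, hn, hci⟩ := hq
  have hCI : Pi1.IsCompleteIntersection
      (EGA4.FibRing (Localization.AtPrime P) (Localization.AtPrime q)) :=
    isCI_of_ringEquiv (Ideal.quotEquivOfEq hmap3) hci
  have hsurj' : Function.Surjective (algebraMap (Localization.AtPrime Q) (Localization.AtPrime q)) := by
    rw [RingHom.algebraMap_toAlgebra]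
    exact RingHom.surjective_localRingHom_of_surjective _ hsurj q
  obtain ⟨rs, hrs, htr⟩ := Groth.Agent.Lib.T2H9.TransReg.backward
    (A := Localization.AtPrime P) (C := Localization.AtPrime Q) (B := Localization.AtPrime q)
    hreg hsurj' hfl3 hCI
  refine ⟨rs, ?_, htr.1⟩
  rw [hrs, RingHom.algebraMap_toAlgebra]
  have hT : Submonoid.map (algebraMap (MvPolynomial (Fin m) A) B) Q.primeCompl = q.primeCompl :=
    Submonoid.map_comap_eq_of_surjective hsurj q.primeCompl
  exact IsLocalization.ker_map (Localization.AtPrime q) (algebraMap (MvPolynomial (Fin m) A) B) hT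

end Local

section Main

open Groth.Agent.Lib.T2H9.SyntCI Groth.Agent.Lib.T2H9.SyntMor

/-- the localization away from an element outside a prime is nontrivial -/
theorem nontrivial_away_of_notMem {B : Type u} [CommRing B] (q : Ideal B) [q.IsPrime] (g : B)
    (hg : g ∉ q) : Nontrivial (Localization.Away g) := by
  have hu : IsUnit (algebraMap B (Localization.AtPrime q) g) :=
    IsLocalization.map_units (Localization.AtPrime q) (⟨g, hg⟩ : q.primeCompl)
  exact (IsLocalization.Away.lift (S := Localization.Away g) g hu).domain_nontrivial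

/-- a syntomic algebra over a Noetherian ring is locally `A[T]/(regular sequence)` -/
theorem exists_presentation_of_isSyntomic (A : Type u) [CommRing A] [IsNoetherianRing A]
    (B : Type u) [CommRing B] [Algebra A B] (h : Synt.IsSyntomic A B) (q : Ideal B) [q.IsPrime] :
    ∃ g : B, g ∉ q ∧
      ∃ (n d : ℕ) (P : Fin d → MvPolynomial (Fin n) A),
        IsRegular (MvPolynomial (Fin n) A) (List.ofFn P) ∧
        Nonempty (Localization.Away g ≃ₐ[A]
          (MvPolynomial (Fin n) A ⧸ Ideal.ofList (List.ofFn P))) := by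
  rw [isSyntomic_iff_fibLocRing] at h
  obtain ⟨hflat, hfp, hfib⟩ := h
  obtain ⟨m, π, hπ, -⟩ := hfp.out
  letI algRB : Algebra (MvPolynomial (Fin m) A) B := π.toRingHom.toAlgebra
  haveI : IsScalarTower A (MvPolynomial (Fin m) A) B :=
    IsScalarTower.of_algebraMap_eq (fun a => (π.commutes a).symm)
  have hπ' : Function.Surjective (algebraMap (MvPolynomial (Fin m) A) B) := hπ
  obtain ⟨rs, hrs, hreg⟩ := exists_regular_ker_localization m hπ' q (hfib q)
  obtain ⟨h, as, hhQ, hasK, hmul, hw⟩ := exists_spread
    (q.comap (algebraMap (MvPolynomial (Fin m) A) B))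
    (RingHom.ker (algebraMap (MvPolynomial (Fin m) A) B)) rs hrs hreg
  have hg : π h ∉ q := hhQ
  have hJ : Ideal.ofList as ≤ RingHom.ker π.toRingHom := Ideal.span_le.mpr fun a ha => hasK a ha
  obtain ⟨e1⟩ := exists_algEquiv_away' π hπ (Ideal.ofList as) hJ h hmul
  haveI : Nontrivial (Localization.Away (π h)) := nontrivial_away_of_notMem q (π h) hg
  haveI : Nontrivial (Localization.Away (Ideal.Quotient.mk (Ideal.ofList as) h)) :=
    e1.symm.injective.nontrivial
  obtain ⟨d, P, hP, ⟨E⟩⟩ := exists_regular_presentation_away m as h hw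
  exact ⟨π h, hg, m + 1, d, P, hP, ⟨e1.symm.trans E⟩⟩

end Main

end Groth.Agent.Lib.T2H9.RegPres
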