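import Mathlib
import Groth.Prelude
import Groth.Agent.Lib.T2H9RegPres
import Groth.Agent.Lib.Helper5RegImm

/-!
# Regular immersions into affine space: local presentations (T2H9)

* `stalkMap_spec_apply`, `exists_regular_of_stalkReg`: the stalk map of `Spec` of a surjection in
  terms of localizations.
* `exists_presentation_of_regular_localization`, `exists_presentation_of_regularImmersion`.
-/

set_option autoImplicit false
set_option linter.unusedSectionVars false
set_option linter.style.haveILetI false
universe u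

namespace Groth.Agent.Lib.T2H9.RegPres2

open Polynomial IsLocalRing TensorProduct RingTheory.Sequence Groth.Agent.Lib.T2H9.CIPoly
  Groth.Agent.Lib.Helper5.RegSeq Groth.Agent.Lib.T2H9.CILocus Groth.Agent.Lib.Helper28
  Groth.Agent.Lib.T2H9.CIBaseChange AlgebraicGeometry CategoryTheory Groth.Agent.Lib.T2H9.RegPres

section Stalk

variable {R S : Type u} [CommRing R] [CommRing S] (φ : R →+* S)

theorem stalkMap_spec_apply (p : PrimeSpectrum S)
    (a : (Spec (CommRingCat.of R)).presheaf.stalk ((Spec.map (CommRingCat.ofHom φ)) p)) :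
    ((Spec.map (CommRingCat.ofHom φ)).stalkMap p).hom a =
      (StructureSheaf.stalkIso S p) (Localization.localRingHom
        (PrimeSpectrum.comap φ p).asIdeal p.asIdeal φ rfl
        ((StructureSheaf.stalkIso R (PrimeSpectrum.comap φ p)).symm a)) := by
  have key := AlgebraicGeometry.localRingHom_comp_stalkIso (CommRingCat.ofHom φ) p
  have := congrArg (fun ψ => ψ.hom a) key
  exact this.symm

/-- the stalk-level regularity of `Spec (R/ker φ) ⟶ Spec R` in terms of localizations -/
theorem exists_regular_of_stalkReg (hφ : Function.Surjective φ) (p : PrimeSpectrum S)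
    (h : Groth.Agent.Lib.Helper5.RegImm.StalkReg (Spec.map (CommRingCat.ofHom φ)) p) :
    ∃ rs : List (Localization.AtPrime (p.asIdeal.comap φ)),
      Ideal.ofList rs =
        (RingHom.ker φ).map (algebraMap R (Localization.AtPrime (p.asIdeal.comap φ))) ∧
      IsWeaklyRegular (Localization.AtPrime (p.asIdeal.comap φ)) rs := by
  obtain ⟨rs, hreg, hker⟩ := h
  let e : (Spec (CommRingCat.of R)).presheaf.stalk ((Spec.map (CommRingCat.ofHom φ)) p) ≃+*
      Localization.AtPrime (p.asIdeal.comap φ) :=
    (StructureSheaf.stalkIso R (PrimeSpectrum.comap φ p)).symm.toRingEquiv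
  refine ⟨rs.map e, ?_, isWeaklyRegular_map_ringEquiv e rs hreg.toIsWeaklyRegular⟩
  have h1 : Ideal.ofList (rs.map e) = (Ideal.ofList rs).map (e : _ →+* _) := by
    rw [Ideal.map_ofList]
    rfl
  rw [h1, ← hker]
  have hT : Submonoid.map φ (p.asIdeal.comap φ).primeCompl = p.asIdeal.primeCompl :=
    Submonoid.map_comap_eq_of_surjective hφ p.asIdeal.primeCompl
  have hk := IsLocalization.ker_map (S := Localization.AtPrime (p.asIdeal.comap φ))
    (Localization.AtPrime p.asIdeal) φ hT
  rw [← hk, Ideal.map_comap_of_equiv]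
  ext y
  rw [Ideal.mem_comap, RingHom.mem_ker, RingHom.mem_ker]
  have h3 := stalkMap_spec_apply φ p (e.symm y)
  have h2 : (StructureSheaf.stalkIso R (PrimeSpectrum.comap φ p)).symm (e.symm y) = y :=
    e.apply_symm_apply y
  rw [h2] at h3
  rw [h3]
  constructor
  · intro h0
    exact (StructureSheaf.stalkIso S p).injective (h0.trans (map_zero _).symm)
  · intro h0
    have h0' : (Localization.localRingHom (PrimeSpectrum.comap φ p).asIdeal p.asIdeal φ rfl) y = 0 :=
      h0
    rw [h0']
    exact map_zero _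

end Stalk

section Tail

open Groth.Agent.Lib.T2H9.SyntCI

/-- from a regular sequence generating the kernel at a prime to a local presentation -/
theorem exists_presentation_of_regular_localization (A : Type u) [CommRing A] [IsNoetherianRing A]
    (m : ℕ) {B : Type u} [CommRing B] [Algebra A B] (π : MvPolynomial (Fin m) A →ₐ[A] B)
    (hπ : Function.Surjective π) (q : Ideal B) [q.IsPrime]
    (rs : List (Localization.AtPrime (q.comap π.toRingHom)))
    (hrs : Ideal.ofList rs = (RingHom.ker π.toRingHom).map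
      (algebraMap (MvPolynomial (Fin m) A) (Localization.AtPrime (q.comap π.toRingHom))))
    (hreg : IsWeaklyRegular (Localization.AtPrime (q.comap π.toRingHom)) rs) :
    ∃ g : B, g ∉ q ∧ ∃ (d : ℕ) (P : Fin d → MvPolynomial (Fin (m + 1)) A),
      IsRegular (MvPolynomial (Fin (m + 1)) A) (List.ofFn P) ∧
      Nonempty (Localization.Away g ≃ₐ[A]
        (MvPolynomial (Fin (m + 1)) A ⧸ Ideal.ofList (List.ofFn P))) := by
  obtain ⟨h, as, hhQ, hasK, hmul, hw⟩ := exists_spread (q.comap π.toRingHom)
    (RingHom.ker π.toRingHom) rs hrs hreg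
  have hg : π h ∉ q := hhQ
  have hJ : Ideal.ofList as ≤ RingHom.ker π.toRingHom := Ideal.span_le.mpr fun a ha => hasK a ha
  obtain ⟨e1⟩ := exists_algEquiv_away' π hπ (Ideal.ofList as) hJ h hmul
  haveI : Nontrivial (Localization.Away (π h)) := nontrivial_away_of_notMem q (π h) hg
  haveI : Nontrivial (Localization.Away (Ideal.Quotient.mk (Ideal.ofList as) h)) :=
    e1.symm.injective.nontrivial
  obtain ⟨d, P, hP, ⟨E⟩⟩ := exists_regular_presentation_away m as h hw
  exact ⟨π h, hg, d, P, hP, ⟨e1.symm.trans E⟩⟩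

/-- S18937 -/
theorem exists_presentation_of_regularImmersion (A : Type u) [CommRing A] [IsNoetherianRing A]
    (n : ℕ) (I : Ideal (MvPolynomial (Fin n) A))
    (h : RegImm.IsRegularImmersion RegImm.Kind.regular
      (Spec.map (CommRingCat.ofHom (Ideal.Quotient.mk I))))
    (q : PrimeSpectrum (MvPolynomial (Fin n) A ⧸ I)) :
    ∃ g : MvPolynomial (Fin n) A ⧸ I, g ∉ q.asIdeal ∧
      ∃ (d : ℕ) (P : Fin d → MvPolynomial (Fin (n + 1)) A),
        IsRegular (MvPolynomial (Fin (n + 1)) A) (List.ofFn P) ∧
        Nonempty (Localization.Away g ≃ₐ[A]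
          (MvPolynomial (Fin (n + 1)) A ⧸ Ideal.ofList (List.ofFn P))) := by
  haveI := q.2
  obtain ⟨-, hreg⟩ := h
  obtain ⟨U, hzU, -, rs, hrsreg, hker⟩ := hreg q
  have hRegAt : Groth.Agent.Lib.Helper5.RegImm.RegAt
      (Spec.map (CommRingCat.ofHom (Ideal.Quotient.mk I))) q :=
    ⟨U.1, U.2, hzU, rs, hrsreg, by rw [Scheme.Hom.ker_apply]; exact hker⟩
  haveI hci : IsClosedImmersion (Spec.map (CommRingCat.ofHom (Ideal.Quotient.mk I))) :=
    IsClosedImmersion.spec_of_surjective (CommRingCat.ofHom (Ideal.Quotient.mk I))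
      Ideal.Quotient.mk_surjective
  have hS := Groth.Agent.Lib.Helper5.RegImm.stalkReg_of_regAt
    (Spec.map (CommRingCat.ofHom (Ideal.Quotient.mk I))) q hRegAt
  obtain ⟨rs', hrs', hreg'⟩ := exists_regular_of_stalkReg (Ideal.Quotient.mk I)
    Ideal.Quotient.mk_surjective q hS
  exact exists_presentation_of_regular_localization A n (Ideal.Quotient.mkₐ A I)
    Ideal.Quotient.mk_surjective q.asIdeal rs' hrs' hreg'

end Tail

end Groth.Agent.Lib.T2H9.RegPres2
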