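import Groth.Prelude.Def_Frob

/-!
# Relatively perfect morphisms: `relFrob` is an isomorphism iff the Frobenius square is cartesian

Helper library (helper9) for S15995.
-/

set_option autoImplicit false
set_option linter.style.haveILetI false
set_option linter.unusedSectionVars false

universe u

open CategoryTheory CategoryTheory.Limits AlgebraicGeometry

namespace Groth.Agent.Lib.T2H9.RelPerf

open FrobSch

variable (p : ℕ) [Fact p.Prime]

/-- The relative Frobenius of `f` is an isomorphism iff the Frobenius square of `f` is cartesian. -/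
theorem isIso_relFrob_iff {X S : Scheme.{u}} [IsCharP S p] [IsCharP X p] (f : X ⟶ S) :
    IsIso (relFrob f p) ↔ IsPullback (frob X p) f f (frob S p) := by
  constructor
  · intro h
    refine IsPullback.of_iso_pullback ⟨frob_comp p f⟩ (asIso (relFrob f p)) ?_ ?_
    · simp
    · simp
  · intro h
    have : relFrob f p = h.isoPullback.hom := by
      apply pullback.hom_ext
      · simp
      · simp
    rw [this]
    infer_instance

/-- Relatively perfect morphisms are stable under composition. -/
theorem isIso_relFrob_comp {X T S : Scheme.{u}} [IsCharP S p] [IsCharP T p]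
    (π : X ⟶ T) (f : T ⟶ S) (hπ : IsIso (relFrob π p)) (hf : IsIso (relFrob f p)) :
    IsIso (relFrob (π ≫ f) p) := by
  haveI : IsCharP X p := IsCharP.of_hom π p
  rw [isIso_relFrob_iff] at hπ hf ⊢
  exact hπ.paste_vert hf

/-- Relatively perfect morphisms are stable under base change. -/
theorem isIso_relFrob_pullback_snd {Y T S : Scheme.{u}} [IsCharP S p] [IsCharP T p]
    (r : Y ⟶ S) (f : T ⟶ S) (hr : IsIso (relFrob r p)) :
    IsIso (relFrob (pullback.snd r f) p) := by
  haveI : IsCharP Y p := IsCharP.of_hom r p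
  haveI : IsCharP (pullback r f) p := IsCharP.of_hom (pullback.snd r f) p
  rw [isIso_relFrob_iff] at hr ⊢
  -- the right square is the defining pullback square
  have hR : IsPullback (pullback.fst r f) (pullback.snd r f) r f := IsPullback.of_hasPullback r f
  -- outer rectangle: paste of the defining square and the Frobenius square of `r`
  have hO : IsPullback (pullback.fst r f ≫ frob Y p) (pullback.snd r f) r (f ≫ frob S p) :=
    hR.paste_horiz hr
  have e1 : pullback.fst r f ≫ frob Y p = frob (pullback r f) p ≫ pullback.fst r f :=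
    (frob_comp p _).symm
  have e2 : f ≫ frob S p = frob T p ≫ f := (frob_comp p f).symm
  rw [e1, e2] at hO
  exact IsPullback.of_right hO (frob_comp p _) hR

/-- Coperfection commutes with base restriction. -/
theorem main {X X' T S : Scheme.{u}}
    [IsCharP S p] [IsCharP T p] (f : T ⟶ S) (hf : IsIso (relFrob f p))
    (g : X ⟶ T) (π : X' ⟶ T) (hπ : IsIso (relFrob π p)) (c : X ⟶ X') (hc : c ≫ π = g)
    (huniv : ∀ (Y : Scheme.{u}) (q : Y ⟶ T), IsIso (relFrob q p) →
      ∀ k : X ⟶ Y, k ≫ q = g → ∃! h : X' ⟶ Y, h ≫ q = π ∧ c ≫ h = k) :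
    IsIso (relFrob (π ≫ f) p) ∧
      ∀ (Y : Scheme.{u}) (r : Y ⟶ S), IsIso (relFrob r p) →
        ∀ k : X ⟶ Y, k ≫ r = g ≫ f → ∃! h : X' ⟶ Y, h ≫ r = π ≫ f ∧ c ≫ h = k := by
  refine ⟨isIso_relFrob_comp p π f hπ hf, ?_⟩
  intro Y r hr k hk
  obtain ⟨h', ⟨h'1, h'2⟩, h'u⟩ := huniv (pullback r f) (pullback.snd r f)
    (isIso_relFrob_pullback_snd p r f hr) (pullback.lift k g hk) (pullback.lift_snd _ _ _)
  refine ⟨h' ≫ pullback.fst r f, ⟨?_, ?_⟩, ?_⟩
  · rw [Category.assoc, pullback.condition, ← Category.assoc, h'1]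
  · rw [← Category.assoc, h'2, pullback.lift_fst]
  · rintro h₂ ⟨h₂1, h₂2⟩
    have := h'u (pullback.lift h₂ π h₂1) ⟨pullback.lift_snd _ _ _, ?_⟩
    · rw [← this, pullback.lift_fst]
    · apply pullback.hom_ext
      · rw [Category.assoc, pullback.lift_fst, pullback.lift_fst, h₂2]
      · rw [Category.assoc, pullback.lift_snd, pullback.lift_snd, hc]

end Groth.Agent.Lib.T2H9.RelPerf
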