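import Mathlib
import Groth.Agent.Lib.T2H9RedArt
import Groth.Agent.Lib.Helper14GeomRed

set_option autoImplicit false
set_option linter.style.haveILetI false
set_option linter.unusedSectionVars false
universe u

/-!
# Quotients of `kB ⊗[k] F` for a finite separable extension `F/k` and an arbitrary extension `kB/k`
-/

namespace Groth.Agent.Lib.T2H9.ResSep

open TensorProduct Polynomial Groth.Agent.Lib.T2H9.RedArt

section abstract

variable (k kB F : Type u) [Field k] [Field kB] [Algebra k kB]
  [Field F] [Algebra k F] [Module.Finite k F] [Algebra.IsSeparable k F]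

theorem isReduced_tensor : IsReduced (kB ⊗[k] F) := by
  haveI : IsReduced (F ⊗[k] kB) :=
    Groth.Agent.Lib.Helper14.GeomRed.isReduced_tensor_of_finite_separable (L := k) (R := kB) F
  exact isReduced_of_injective (Algebra.TensorProduct.comm k kB F)
    (Algebra.TensorProduct.comm k kB F).injective

theorem isArtinianRing_tensor : IsArtinianRing (kB ⊗[k] F) :=
  IsArtinianRing.of_finite kB (kB ⊗[k] F)

variable (Q : Type u) [CommRing Q] [Algebra kB Q] (g : F →+* Q)
  (hcomp : ∀ c : k, g (algebraMap k F c) = algebraMap kB Q (algebraMap k kB c))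

/-- the induced map from the tensor product -/
noncomputable def q₀ : kB ⊗[k] F →ₐ[kB] Q :=
  letI : Algebra k Q := ((algebraMap kB Q).comp (algebraMap k kB)).toAlgebra
  haveI : IsScalarTower k kB Q := IsScalarTower.of_algebraMap_eq (fun _ => rfl)
  Algebra.TensorProduct.productLeftAlgHom (Algebra.ofId kB Q)
    ({ g with commutes' := fun c => hcomp c } : F →ₐ[k] Q)

theorem q₀_tmul (c : kB) (y : F) : q₀ k kB F Q g hcomp (c ⊗ₜ y) = algebraMap kB Q c * g y := by
  unfold q₀
  simp [Algebra.ofId_apply]

theorem closure_le_range :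
    Subring.closure (Set.range (algebraMap kB Q) ∪ Set.range g) ≤
      (q₀ k kB F Q g hcomp).toRingHom.range := by
  rw [Subring.closure_le]
  rintro _ (⟨c, rfl⟩ | ⟨y, rfl⟩)
  · exact ⟨c ⊗ₜ 1, by
      change q₀ k kB F Q g hcomp (c ⊗ₜ 1) = _
      rw [q₀_tmul, map_one, mul_one]⟩
  · exact ⟨1 ⊗ₜ y, by
      change q₀ k kB F Q g hcomp (1 ⊗ₜ y) = _
      rw [q₀_tmul, map_one, one_mul]⟩

include hcomp in
/-- a ring generated by the images of `kB` and `F` is reduced and artinian -/
theorem reducedArtinian_of_gen
    (hgen : ∀ x : Q, x ∈ Subring.closure (Set.range (algebraMap kB Q) ∪ Set.range g)) :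
    IsArtinianRing Q ∧ IsReduced Q := by
  haveI := isReduced_tensor k kB F
  haveI := isArtinianRing_tensor k kB F
  refine of_surjective (q₀ k kB F Q g hcomp).toRingHom (fun x => ?_)
  exact closure_le_range k kB F Q g hcomp (hgen x)

end abstract

section field

variable (k kB F : Type u) [Field k] [Field kB] [Algebra k kB]
  [Field F] [Algebra k F] [Algebra.IsSeparable k F]
  (Q : Type u) [Field Q] [Algebra kB Q] (g : F →+* Q)
  (hcomp : ∀ c : k, g (algebraMap k F c) = algebraMap kB Q (algebraMap k kB c))

include hcomp in
theorem isSeparable_image (y : F) : IsSeparable kB (g y) := by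
  have hsep : IsSeparable k y := Algebra.IsSeparable.isSeparable k y
  have hint : IsIntegral k y := hsep.isIntegral
  set m := minpoly k y with hm
  have hroot : aeval (g y) (m.map (algebraMap k kB)) = 0 := by
    rw [aeval_def, eval₂_map]
    have h1 : (algebraMap kB Q).comp (algebraMap k kB) = g.comp (algebraMap k F) := by
      ext c
      exact (hcomp c).symm
    rw [h1, ← hom_eval₂, ← aeval_def, hm, minpoly.aeval, map_zero]
  exact Polynomial.Separable.of_dvd (Polynomial.Separable.map hsep) (minpoly.dvd _ _ hroot)

include hcomp in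
/-- a field whose elements are ratios of elements of the subring generated by the images of `kB`
and of a separable algebraic extension `F/k` is separable over `kB` -/
theorem isSeparable_of_fracGen
    (hfrac : ∀ x : Q, ∃ u ∈ Subring.closure (Set.range (algebraMap kB Q) ∪ Set.range g),
      ∃ u' ∈ Subring.closure (Set.range (algebraMap kB Q) ∪ Set.range g), u' ≠ 0 ∧ x * u' = u) :
    Algebra.IsSeparable kB Q := by
  have hle : Subring.closure (Set.range (algebraMap kB Q) ∪ Set.range g) ≤
      (IntermediateField.adjoin kB (Set.range g)).toSubfield.toSubring := by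
    rw [Subring.closure_le]
    rintro _ (⟨c, rfl⟩ | ⟨y, rfl⟩)
    · exact (IntermediateField.adjoin kB (Set.range g)).algebraMap_mem c
    · exact IntermediateField.subset_adjoin kB _ ⟨y, rfl⟩
  have htop : IntermediateField.adjoin kB (Set.range g) = ⊤ := by
    rw [eq_top_iff]
    intro x _
    obtain ⟨u, hu, u', hu', hu'0, hxu⟩ := hfrac x
    have h1 : x = u / u' := by rw [eq_div_iff hu'0, hxu]
    rw [h1]
    exact div_mem (hle hu) (hle hu')
  rw [← IntermediateField.isSeparable_top, ← htop,
    IntermediateField.isSeparable_adjoin_iff_isSeparable]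
  rintro _ ⟨y, rfl⟩
  exact isSeparable_image k kB F Q g hcomp y

end field

end Groth.Agent.Lib.T2H9.ResSep
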