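import Mathlib
import Groth.Agent.Lib.T2H9ResSep
import Groth.Agent.Lib.T2H9ResKummer

set_option autoImplicit false
set_option linter.style.haveILetI false
set_option linter.unusedSectionVars false
universe u

/-!
# Quotients of `(kB ⊗[k] F)[X]/(X^e - u)` with `F/k` finite separable and `e` invertible
-/

namespace Groth.Agent.Lib.T2H9.ResSepKummer

open TensorProduct Polynomial Groth.Agent.Lib.T2H9.RedArt Groth.Agent.Lib.T2H9.ResSep
  Groth.Agent.Lib.T2H9.ResKummer

section kummer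

variable (k kB F : Type u) [Field k] [Field kB] [Algebra k kB]
  [Field F] [Algebra k F] [Module.Finite k F] [Algebra.IsSeparable k F]
  (e : ℕ) (uB : kB) (u₁ : F)

/-- the polynomial `X^e - uB ⊗ u₁⁻¹` -/
noncomputable def pol : (kB ⊗[k] F)[X] := X ^ e - C (uB ⊗ₜ[k] u₁⁻¹)

theorem pol_monic (he0 : e ≠ 0) : (pol k kB F e uB u₁).Monic :=
  monic_X_pow_sub_C _ he0

theorem pol_separable (he : (e : k) ≠ 0) (huB : uB ≠ 0) (hu₁ : u₁ ≠ 0) :
    (pol k kB F e uB u₁).Separable := by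
  have hunit : IsUnit (uB ⊗ₜ[k] u₁⁻¹ : kB ⊗[k] F) := by
    refine ⟨⟨uB ⊗ₜ u₁⁻¹, uB⁻¹ ⊗ₜ u₁, ?_, ?_⟩, rfl⟩
    · rw [Algebra.TensorProduct.tmul_mul_tmul, mul_inv_cancel₀ huB, inv_mul_cancel₀ hu₁]
      rfl
    · rw [Algebra.TensorProduct.tmul_mul_tmul, inv_mul_cancel₀ huB, mul_inv_cancel₀ hu₁]
      rfl
  have he' : IsUnit ((e : ℕ) : kB ⊗[k] F) := by
    have : ((e : ℕ) : kB ⊗[k] F) = algebraMap k (kB ⊗[k] F) (e : k) := by
      rw [map_natCast]
    rw [this]
    exact (IsUnit.mk0 _ he).map _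
  have := separable_X_pow_sub_C_unit hunit.unit he'
  rwa [IsUnit.unit_spec] at this

theorem isArtinianRing_adjoinRoot (he0 : e ≠ 0) :
    IsArtinianRing (AdjoinRoot (pol k kB F e uB u₁)) := by
  haveI := isArtinianRing_tensor k kB F
  haveI : Module.Finite (kB ⊗[k] F) (AdjoinRoot (pol k kB F e uB u₁)) :=
    (pol_monic k kB F e uB u₁ he0).finite_adjoinRoot
  exact IsArtinianRing.of_finite (kB ⊗[k] F) _

theorem isReduced_adjoinRoot_pol (he : (e : k) ≠ 0) (huB : uB ≠ 0) (hu₁ : u₁ ≠ 0) :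
    IsReduced (AdjoinRoot (pol k kB F e uB u₁)) := by
  haveI := isReduced_tensor k kB F
  have he0 : e ≠ 0 := by
    rintro rfl
    exact he Nat.cast_zero
  exact isReduced_adjoinRoot (pol_monic k kB F e uB u₁ he0)
    (pol_separable k kB F e uB u₁ he huB hu₁)

variable (Q : Type u) [CommRing Q] [Algebra kB Q] (g : F →+* Q)
  (hcomp : ∀ c : k, g (algebraMap k F c) = algebraMap kB Q (algebraMap k kB c))
  (θ : Q) (hθ : θ ^ e * g u₁ = algebraMap kB Q uB)

include hθ in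
theorem eval₂_pol (hu₁ : u₁ ≠ 0) :
    (pol k kB F e uB u₁).eval₂ (q₀ k kB F Q g hcomp : kB ⊗[k] F →+* Q) θ = 0 := by
  unfold pol
  rw [eval₂_sub, eval₂_pow, eval₂_X, eval₂_C]
  change θ ^ e - q₀ k kB F Q g hcomp (uB ⊗ₜ u₁⁻¹) = 0
  rw [q₀_tmul, ← hθ, mul_assoc, ← map_mul, mul_inv_cancel₀ hu₁, map_one, mul_one, sub_self]

/-- the induced map from `(kB ⊗[k] F)[X]/(X^e - u)` -/
noncomputable def q₁ (hu₁ : u₁ ≠ 0) : AdjoinRoot (pol k kB F e uB u₁) →ₐ[kB] Q :=
  AdjoinRoot.liftAlgHom (pol k kB F e uB u₁) (q₀ k kB F Q g hcomp) θ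
    (eval₂_pol k kB F e uB u₁ Q g hcomp θ hθ hu₁)

theorem closure_le_range (hu₁ : u₁ ≠ 0) :
    Subring.closure (Set.range (algebraMap kB Q) ∪ Set.range g ∪ {θ}) ≤
      (q₁ k kB F e uB u₁ Q g hcomp θ hθ hu₁).toRingHom.range := by
  rw [Subring.closure_le]
  rintro _ ((⟨c, rfl⟩ | ⟨y, rfl⟩) | hx)
  · exact ⟨AdjoinRoot.of _ (c ⊗ₜ 1), by
      change q₁ k kB F e uB u₁ Q g hcomp θ hθ hu₁ (AdjoinRoot.of _ (c ⊗ₜ 1)) = _
      unfold q₁
      rw [AdjoinRoot.liftAlgHom_of, q₀_tmul, map_one, mul_one]⟩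
  · exact ⟨AdjoinRoot.of _ (1 ⊗ₜ y), by
      change q₁ k kB F e uB u₁ Q g hcomp θ hθ hu₁ (AdjoinRoot.of _ (1 ⊗ₜ y)) = _
      unfold q₁
      rw [AdjoinRoot.liftAlgHom_of, q₀_tmul, map_one, one_mul]⟩
  · rw [Set.mem_singleton_iff] at hx
    rw [hx]
    exact ⟨AdjoinRoot.root _, by
      change q₁ k kB F e uB u₁ Q g hcomp θ hθ hu₁ (AdjoinRoot.root _) = _
      unfold q₁
      rw [AdjoinRoot.liftAlgHom_root]⟩

include hcomp hθ in
/-- a ring generated by the images of `kB`, `F` and `θ` is reduced and artinian -/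
theorem reducedArtinian_of_gen (he : (e : k) ≠ 0) (huB : uB ≠ 0) (hu₁ : u₁ ≠ 0)
    (hgen : ∀ x : Q, x ∈ Subring.closure (Set.range (algebraMap kB Q) ∪ Set.range g ∪ {θ})) :
    IsArtinianRing Q ∧ IsReduced Q := by
  have he0 : e ≠ 0 := by
    rintro rfl
    exact he Nat.cast_zero
  haveI := isArtinianRing_adjoinRoot k kB F e uB u₁ he0
  haveI := isReduced_adjoinRoot_pol k kB F e uB u₁ he huB hu₁
  refine of_surjective (q₁ k kB F e uB u₁ Q g hcomp θ hθ hu₁).toRingHom (fun x => ?_)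
  exact closure_le_range k kB F e uB u₁ Q g hcomp θ hθ hu₁ (hgen x)

end kummer

section field

variable (k kB F : Type u) [Field k] [Field kB] [Algebra k kB]
  [Field F] [Algebra k F] [Algebra.IsSeparable k F]
  (e : ℕ) (uB : kB) (u₁ : F)
  (Q : Type u) [Field Q] [Algebra kB Q] (g : F →+* Q)
  (hcomp : ∀ c : k, g (algebraMap k F c) = algebraMap kB Q (algebraMap k kB c))
  (θ : Q) (hθ : θ ^ e * g u₁ = algebraMap kB Q uB)

include hcomp hθ in
/-- a field whose elements are ratios of elements of the subring generated by the images of `kB`,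
of a separable algebraic extension `F/k` and of `θ` is separable over `kB` -/
theorem isSeparable_of_fracGen (he : (e : k) ≠ 0) (huB : uB ≠ 0) (hu₁ : u₁ ≠ 0)
    (hfrac : ∀ x : Q,
      ∃ u ∈ Subring.closure (Set.range (algebraMap kB Q) ∪ Set.range g ∪ {θ}),
      ∃ u' ∈ Subring.closure (Set.range (algebraMap kB Q) ∪ Set.range g ∪ {θ}),
        u' ≠ 0 ∧ x * u' = u) :
    Algebra.IsSeparable kB Q := by
  set Q₁ := IntermediateField.adjoin kB (Set.range g) with hQ₁
  haveI hQ₁sep : Algebra.IsSeparable kB Q₁ := by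
    rw [hQ₁, IntermediateField.isSeparable_adjoin_iff_isSeparable]
    rintro _ ⟨y, rfl⟩
    exact isSeparable_image k kB F Q g hcomp y
  have hgu₁ : g u₁ ≠ 0 := by
    rw [Ne, map_eq_zero]
    exact hu₁
  -- `θ` is separable over `Q₁`
  have hθsep : IsSeparable kB θ := by
    apply IsSeparable.of_algebra_isSeparable_of_isSeparable kB (E := Q₁)
    let c : Q₁ := ⟨algebraMap kB Q uB, Q₁.algebraMap_mem uB⟩ *
      (⟨g u₁, IntermediateField.subset_adjoin kB _ ⟨u₁, rfl⟩⟩ : Q₁)⁻¹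
    have hc0 : c ≠ 0 := by
      apply mul_ne_zero
      · intro h0
        have : algebraMap kB Q uB = 0 := congrArg Subtype.val h0
        rw [map_eq_zero] at this
        exact huB this
      · apply inv_ne_zero
        intro h0
        exact hgu₁ (congrArg Subtype.val h0)
    have heQ₁ : ((e : ℕ) : Q₁) ≠ 0 := by
      have h1 : ((e : ℕ) : kB) ≠ 0 := by
        rw [← map_natCast (algebraMap k kB)]
        exact (_root_.map_ne_zero _).mpr he
      rw [← map_natCast (algebraMap kB Q₁)]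
      exact (_root_.map_ne_zero _).mpr h1
    have hsepP : (X ^ e - C c : Q₁[X]).Separable := separable_X_pow_sub_C c heQ₁ hc0
    have hroot : aeval θ (X ^ e - C c : Q₁[X]) = 0 := by
      rw [map_sub, map_pow, aeval_X, aeval_C]
      change θ ^ e - algebraMap kB Q uB * (g u₁)⁻¹ = 0
      rw [← hθ, mul_assoc, mul_inv_cancel₀ hgu₁, mul_one, sub_self]
    exact Polynomial.Separable.of_dvd hsepP (minpoly.dvd _ _ hroot)
  have hle : Subring.closure (Set.range (algebraMap kB Q) ∪ Set.range g ∪ {θ}) ≤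
      (IntermediateField.adjoin kB (Set.range g ∪ {θ})).toSubfield.toSubring := by
    rw [Subring.closure_le]
    rintro _ ((⟨c, rfl⟩ | ⟨y, rfl⟩) | hx)
    · exact (IntermediateField.adjoin kB (Set.range g ∪ {θ})).algebraMap_mem c
    · exact IntermediateField.subset_adjoin kB _ (Or.inl ⟨y, rfl⟩)
    · exact IntermediateField.subset_adjoin kB _ (Or.inr hx)
  have htop : IntermediateField.adjoin kB (Set.range g ∪ {θ}) = ⊤ := by
    rw [eq_top_iff]
    intro x _
    obtain ⟨u, hu, u', hu', hu'0, hxu⟩ := hfrac x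
    have h1 : x = u / u' := by rw [eq_div_iff hu'0, hxu]
    rw [h1]
    exact div_mem (hle hu) (hle hu')
  rw [← IntermediateField.isSeparable_top, ← htop,
    IntermediateField.isSeparable_adjoin_iff_isSeparable]
  rintro _ (⟨y, rfl⟩ | hx)
  · exact isSeparable_image k kB F Q g hcomp y
  · rw [Set.mem_singleton_iff] at hx
    rw [hx]
    exact hθsep

end field

end Groth.Agent.Lib.T2H9.ResSepKummer
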