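import Mathlib
import Groth.Prelude.Def_EtRam
import Groth.Agent.Lib.T2H9TotRam
import Groth.Agent.Lib.T2H9TotRamDeg

set_option autoImplicit false
set_option linter.style.haveILetI false
set_option linter.unusedSectionVars false
universe u

/-!
# Adjoining a root of a uniformizer: the ring `A[X]/(X^e - π)`
-/

namespace Groth.Agent.Lib.T2H9.RootUnif

open IsLocalRing Polynomial Groth.Agent.Lib.T2H9.TotRam Groth.Agent.Lib.T2H9.TotRamDeg

section ring

variable {A : Type u} [CommRing A] [IsDomain A] [IsDiscreteValuationRing A]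

/-- the polynomial `X^e - π` -/
noncomputable abbrev pol (π : A) (e : ℕ) : A[X] := X ^ e - C π

theorem pol_monic (π : A) {e : ℕ} (he : 0 < e) : (pol π e).Monic :=
  monic_X_pow_sub_C π he.ne'

theorem pol_natDegree (π : A) {e : ℕ} (he : 0 < e) : (pol π e).natDegree = e :=
  natDegree_X_pow_sub_C

theorem pol_isEisensteinAt {π : A} (hπ : Irreducible π) {e : ℕ} (he : 0 < e) :
    (pol π e).IsEisensteinAt (maximalIdeal A) := by
  have hπm : π ∈ maximalIdeal A := by
    rw [mem_maximalIdeal, mem_nonunits_iff]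
    exact hπ.not_isUnit
  refine ⟨?_, ?_, ?_⟩
  · rw [(pol_monic π he).leadingCoeff]
    exact fun h => (maximalIdeal.isMaximal A).ne_top ((Ideal.eq_top_iff_one _).mpr h)
  · intro n hn
    rw [pol_natDegree π he] at hn
    rw [pol, coeff_sub, coeff_X_pow, if_neg hn.ne, zero_sub, coeff_C]
    split_ifs
    · exact neg_mem hπm
    · rw [neg_zero]; exact zero_mem _
  · rw [pol, coeff_sub, coeff_X_pow, if_neg he.ne, zero_sub, coeff_C_zero, neg_mem_iff,
      hπ.maximalIdeal_eq, Ideal.span_singleton_pow, Ideal.mem_span_singleton]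
    intro hdvd
    obtain ⟨c, hc⟩ := hdvd
    have h1 : π * 1 = π * (π * c) := by rw [mul_one, ← mul_assoc, ← pow_two]; exact hc
    have h2 := mul_left_cancel₀ hπ.ne_zero h1
    exact hπ.not_isUnit (.of_mul_eq_one c h2.symm)

theorem pol_irreducible {π : A} (hπ : Irreducible π) {e : ℕ} (he : 0 < e) :
    Irreducible (pol π e) :=
  (pol_isEisensteinAt hπ he).irreducible (maximalIdeal.isMaximal A).isPrime
    (pol_monic π he).isPrimitive (by rw [pol_natDegree π he]; exact he)

theorem isDomain {π : A} (hπ : Irreducible π) {e : ℕ} (he : 0 < e) :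
    IsDomain (AdjoinRoot (pol π e)) :=
  AdjoinRoot.isDomain_of_prime (pol_irreducible hπ he).prime

theorem of_injective (π : A) {e : ℕ} (he : 0 < e) :
    Function.Injective (AdjoinRoot.of (pol π e)) := by
  apply AdjoinRoot.of.injective_of_degree_ne_zero
  rw [degree_eq_natDegree (pol_monic π he).ne_zero, pol_natDegree π he]
  exact_mod_cast he.ne'

theorem root_pow (π : A) (e : ℕ) : AdjoinRoot.root (pol π e) ^ e = AdjoinRoot.of (pol π e) π := by
  have h := AdjoinRoot.eval₂_root (pol π e)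
  rw [pol, eval₂_sub, eval₂_pow, eval₂_X, eval₂_C, sub_eq_zero] at h
  exact h

theorem decomp (π : A) (e : ℕ) (b : AdjoinRoot (pol π e)) :
    ∃ (a : A) (y : AdjoinRoot (pol π e)),
      b = AdjoinRoot.of (pol π e) a + AdjoinRoot.root (pol π e) * y := by
  obtain ⟨q, rfl⟩ := AdjoinRoot.mk_surjective b
  refine ⟨q.coeff 0, AdjoinRoot.mk _ q.divX, ?_⟩
  rw [← AdjoinRoot.mk_C, ← AdjoinRoot.mk_X, ← map_mul, ← map_add]
  congr 1
  rw [add_comm, mul_comm]
  exact (divX_mul_X_add q).symm

theorem isDVR {π : A} (hπ : Irreducible π) {e : ℕ} (he : 0 < e)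
    [IsDomain (AdjoinRoot (pol π e))] :
    IsDiscreteValuationRing (AdjoinRoot (pol π e)) ∧
      ∀ [IsLocalRing (AdjoinRoot (pol π e))],
        maximalIdeal (AdjoinRoot (pol π e)) = Ideal.span {AdjoinRoot.root (pol π e)} := by
  haveI : Module.Finite A (AdjoinRoot (pol π e)) := (pol_monic π he).finite_adjoinRoot
  obtain ⟨e', rfl⟩ := Nat.exists_eq_succ_of_ne_zero he.ne'
  refine isDVR_of_unifRoot (of_injective π he) hπ (AdjoinRoot.root (pol π (e' + 1)))
    (AdjoinRoot.root (pol π (e' + 1)) ^ e') 1 (q := e' + 1) ?_ ?_ (decomp π (e' + 1))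
  · change AdjoinRoot.of _ π = _
    rw [← root_pow, pow_succ, mul_comm]
  · change _ = AdjoinRoot.of _ π * 1
    rw [mul_one, root_pow]

end ring

end Groth.Agent.Lib.T2H9.RootUnif
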