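import Mathlib
import Groth.Prelude.Def_EtRam
import Groth.Agent.Lib.T2H9RootUnif
import Groth.Agent.Lib.T2H9Abhyankar
import Groth.Agent.Lib.T2H9DvrData
import Groth.Agent.Lib.Helper7Cartier2
import Groth.Agent.Lib.Helper14GeomRed

set_option autoImplicit false
set_option linter.style.haveILetI false
set_option linter.unusedSectionVars false
universe u

/-!
# Tamely ramified extensions become unramified after adjoining a root of the uniformizer
-/

namespace Groth.Agent.Lib.T2H9.RootUnifCore

open IsLocalRing Polynomial TensorProduct Groth.Agent.Lib.T2H9.RootUnif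
  Groth.Agent.Lib.T2H9.RamTower Groth.Agent.Lib.T2H9.FinDVR Groth.Agent.Lib.T2H9.TotRamDeg

section field

variable {A : Type u} [CommRing A] [IsDomain A] [IsDiscreteValuationRing A]
  (K : Type u) [Field K] [Algebra A K] [IsFractionRing A K]

/-- the polynomial `X^e - π` over the fraction field -/
noncomputable abbrev polK (π : A) (e : ℕ) : K[X] := (pol π e).map (algebraMap A K)

theorem polK_irreducible {π : A} (hπ : Irreducible π) {e : ℕ} (he : 0 < e) :
    Irreducible (polK K π e) :=
  ((pol_monic π he).irreducible_iff_irreducible_map_fraction_map).mp (pol_irreducible hπ he)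

theorem polK_eq (π : A) (e : ℕ) : polK K π e = X ^ e - C (algebraMap A K π) := by
  rw [polK, pol, Polynomial.map_sub, Polynomial.map_pow, map_X, map_C]

theorem polK_natDegree (π : A) {e : ℕ} (he : 0 < e) : (polK K π e).natDegree = e := by
  rw [polK, (pol_monic π he).natDegree_map, pol_natDegree π he]

theorem natCast_ne_zero_of_residue {e : ℕ} (heκ : ((e : ℕ) : ResidueField A) ≠ 0) :
    ((e : ℕ) : K) ≠ 0 := by
  intro h0
  apply heκ
  have h1 : ((e : ℕ) : A) = 0 := by
    apply IsFractionRing.injective A K
    rw [map_natCast, map_zero]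
    exact h0
  rw [← map_natCast (residue A), h1, map_zero]

theorem polK_separable {π : A} (hπ : Irreducible π) {e : ℕ}
    (heκ : ((e : ℕ) : ResidueField A) ≠ 0) : (polK K π e).Separable := by
  rw [polK_eq]
  apply separable_X_pow_sub_C _ (natCast_ne_zero_of_residue K heκ)
  intro h0
  exact hπ.ne_zero (IsFractionRing.injective A K (h0.trans (map_zero _).symm))

theorem root_polK_pow (π : A) (e : ℕ) :
    AdjoinRoot.root (polK K π e) ^ e = AdjoinRoot.of (polK K π e) (algebraMap A K π) := by
  have h := AdjoinRoot.eval₂_root (polK K π e)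
  rw [polK_eq, eval₂_sub, eval₂_pow, eval₂_X, eval₂_C, sub_eq_zero] at h
  rw [polK_eq]
  exact h

theorem isSeparable_adjoinRoot {π : A} (hπ : Irreducible π) {e : ℕ}
    (heκ : ((e : ℕ) : ResidueField A) ≠ 0) [Fact (Irreducible (polK K π e))] :
    Algebra.IsSeparable K (AdjoinRoot (polK K π e)) := by
  have hroot : IsSeparable K (AdjoinRoot.root (polK K π e)) := by
    apply Polynomial.Separable.of_dvd (polK_separable K hπ heκ)
    apply minpoly.dvd
    rw [AdjoinRoot.aeval_eq, AdjoinRoot.mk_self]
  have htop : IntermediateField.adjoin K {AdjoinRoot.root (polK K π e)} = ⊤ := by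
    rw [eq_top_iff]
    intro x _
    have : x ∈ Algebra.adjoin K {AdjoinRoot.root (polK K π e)} := by
      rw [AdjoinRoot.adjoinRoot_eq_top]
      trivial
    exact IntermediateField.algebra_adjoin_le_adjoin K _ this
  rw [← IntermediateField.isSeparable_top, ← htop,
    IntermediateField.isSeparable_adjoin_simple_iff_isSeparable]
  exact hroot

theorem finrank_adjoinRoot (π : A) {e : ℕ} (he : 0 < e) [Fact (Irreducible (polK K π e))] :
    Module.finrank K (AdjoinRoot (polK K π e)) = e := by
  have hne : polK K π e ≠ 0 := (Fact.out : Irreducible (polK K π e)).ne_zero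
  rw [(AdjoinRoot.powerBasis hne).finrank, AdjoinRoot.powerBasis_dim, polK_natDegree K π he]

end field

section count

open Groth.Agent.Lib.T2H9.DvrData

variable (A K K₁ : Type u) [CommRing A] [IsDomain A] [IsDiscreteValuationRing A]
  [Field K] [Algebra A K] [IsFractionRing A K] [Field K₁] [Algebra K K₁] [Algebra A K₁]
  [IsScalarTower A K K₁] [FiniteDimensional K K₁]

/-- a valuation ring of a degree `e` extension containing an `e`-th root of a uniformizer is
totally ramified over the base with that root as uniformizer -/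
theorem count (π : A) (hπ : Irreducible π) (e : ℕ) (he : 0 < e) (hfin : Module.finrank K K₁ = e)
    (x : K₁) (hx : x ^ e = algebraMap A K₁ π) (V' : ValuationSubring K₁)
    (h : EtRam.Dominates A (algebraMap A K₁) V') [IsDiscreteValuationRing V'] :
    letI : Algebra A V' := (RingHom.codRestrict (algebraMap A K₁) V' h.1).toAlgebra
    ∀ [IsLocalHom (algebraMap A V')],
      ∃ hxV : x ∈ V', Irreducible (⟨x, hxV⟩ : V') ∧
        Ideal.ramificationIdx' (maximalIdeal A) (maximalIdeal V') = e ∧
        Function.Surjective (algebraMap (ResidueField A) (ResidueField V')) := by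
  letI : Algebra A V' := (RingHom.codRestrict (algebraMap A K₁) V' h.1).toAlgebra
  intro _
  have hπm : π ∈ maximalIdeal A := by
    rw [mem_maximalIdeal, mem_nonunits_iff]
    exact hπ.not_isUnit
  have hπval : V'.valuation (algebraMap A K₁ π) < 1 := h.2 π hπm
  have hxval : V'.valuation x < 1 := by
    by_contra hcon
    rw [not_lt] at hcon
    have h1 : 1 ≤ V'.valuation x ^ e := one_le_pow₀ hcon
    rw [← map_pow, hx] at h1
    exact absurd hπval (not_lt.mpr h1)
  have hxV : x ∈ V' := (V'.valuation_le_one_iff x).mp hxval.le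
  obtain ⟨ω, u, e', hω, hπu, he', hresfin, hfpos, hef⟩ := ef_data A K K₁ π hπ V' h
  haveI := hresfin
  set xV : V' := ⟨x, hxV⟩ with hxV'
  have hinjAK₁ := DvrData.algebraMap_injective A K K₁
  have hxV0 : xV ≠ 0 := by
    intro h0
    have h1 : x = 0 := congrArg Subtype.val h0
    rw [h1, zero_pow he.ne'] at hx
    exact hπ.ne_zero (hinjAK₁ (hx.symm.trans (map_zero _).symm))
  obtain ⟨j, u', hj⟩ := IsDiscreteValuationRing.eq_unit_mul_pow_irreducible hxV0 hω
  have hxnonunit : ¬ IsUnit xV := by
    intro hu
    have := (V'.valuation_eq_one_iff xV).mp hu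
    exact absurd this (ne_of_lt hxval)
  have hjpos : 0 < j := by
    rcases Nat.eq_zero_or_pos j with h0 | h0
    · exfalso
      apply hxnonunit
      rw [hj, h0, pow_zero, mul_one]
      exact u'.isUnit
    · exact h0
  have hxe : xV ^ e = algebraMap A V' π := Subtype.ext hx
  have hje : j * e = e' := by
    have h1 : ((u' ^ e : V'ˣ) : V') * ω ^ (j * e) = (u : V') * ω ^ e' := by
      rw [← hπu, ← hxe, hj, mul_pow, ← pow_mul, Units.val_pow_eq_pow_val]
    exact IsDiscreteValuationRing.unit_mul_pow_congr_pow hω hω _ _ _ _ h1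
  rw [hfin, ← hje] at hef
  have hj1 : j = 1 := by
    by_contra hne
    have hj2 : 2 ≤ j := by omega
    have : 2 * e ≤ j * e * Module.finrank (ResidueField A) (ResidueField V') := by
      calc 2 * e ≤ j * e := Nat.mul_le_mul_right e hj2
        _ ≤ j * e * Module.finrank (ResidueField A) (ResidueField V') :=
          Nat.le_mul_of_pos_right _ hfpos
    omega
  subst hj1
  rw [one_mul] at hje hef
  have hf1 : Module.finrank (ResidueField A) (ResidueField V') = 1 := by
    have : e * Module.finrank (ResidueField A) (ResidueField V') ≤ e * 1 := by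
      rw [mul_one]; exact hef
    have h2 := Nat.le_of_mul_le_mul_left this he
    omega
  refine ⟨hxV, ?_, ?_, ?_⟩
  · change Irreducible xV
    rw [hj, pow_one]
    exact (associated_unit_mul_left _ _ u'.isUnit).symm.irreducible hω
  · have hmap : (maximalIdeal A).map (algebraMap A V') = Ideal.span {algebraMap A V' π} := by
      rw [hπ.maximalIdeal_eq, Ideal.map_span, Set.image_singleton]
    rw [ramificationIdx'_eq_of_span _ hmap ω hω u e' hπu, hje]
  · intro r
    have h1 := Subalgebra.bot_eq_top_of_finrank_eq_one hf1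
    have h2 : r ∈ (⊥ : Subalgebra (ResidueField A) (ResidueField V')) := by
      rw [h1]
      exact Algebra.mem_top
    obtain ⟨c, rfl⟩ := Algebra.mem_bot.mp h2
    exact ⟨c, rfl⟩

end count

section misc

theorem geomReduced_of_isSeparable (k F : Type u) [Field k] [Field F] [Algebra k F]
    [Algebra.IsSeparable k F] : Algebra.IsGeometricallyReduced k F := by
  rw [Algebra.isGeometricallyReduced_field_iff]
  haveI : IsReduced (F ⊗[k] AlgebraicClosure k) :=
    Groth.Agent.Lib.Helper14.GeomRed.isReduced_tensor_of_isSeparable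
  exact isReduced_of_injective (Algebra.TensorProduct.comm k (AlgebraicClosure k) F)
    (Algebra.TensorProduct.comm k (AlgebraicClosure k) F).injective

end misc

section final

open Groth.Agent.Lib.T2H9.SolAll

variable (A K L KE L' Ae : Type u) [CommRing A] [IsDomain A] [IsDiscreteValuationRing A]
  [Field K] [Algebra A K] [IsFractionRing A K] [Field L] [Algebra K L] [Algebra A L]
  [IsScalarTower A K L] [FiniteDimensional K L]
  [Field KE] [Algebra K KE] [FiniteDimensional K KE]
  [Field L'] [Algebra K L'] [Algebra L L'] [Algebra KE L'] [IsScalarTower K L L']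
  [IsScalarTower K KE L']
  [CommRing Ae] [IsDomain Ae] [IsDiscreteValuationRing Ae] [Algebra Ae L']

theorem final (φ : A →+* Ae) (r : Ae) (hmax : maximalIdeal Ae = Ideal.span {r})
    (π : A) (hπ : Irreducible π) (e : ℕ) (he : 0 < e) (hre : r ^ e = φ π)
    (hφ : ∀ a, algebraMap Ae L' (φ a) = algebraMap K L' (algebraMap A K a))
    (x : KE) (hx : x ^ e = algebraMap K KE (algebraMap A K π))
    (hr : algebraMap Ae L' r = algebraMap KE L' x)
    (hfin : Module.finrank K KE = e)
    (hgen : Algebra.adjoin L (Set.range (algebraMap KE L')) = ⊤)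
    (h : EtRam.IsTamelyRamified A (algebraMap A L)) (heκ : ((e : ℕ) : ResidueField A) ≠ 0)
    (hdiv : ∀ (V : ValuationSubring L) (hV : EtRam.Dominates A (algebraMap A L) V),
      letI : Algebra A V := (RingHom.codRestrict (algebraMap A L) V hV.1).toAlgebra
      Ideal.ramificationIdx' (maximalIdeal A) (maximalIdeal V) ∣ e)
    (W : ValuationSubring L') (hW : EtRam.Dominates Ae (algebraMap Ae L') W) :
    letI : Algebra Ae W := (RingHom.codRestrict (algebraMap Ae L') W hW.1).toAlgebra
    ∀ [IsLocalHom (algebraMap Ae W)],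
      EtRam.IsWeaklyUnramified Ae W ∧
        Algebra.IsSeparable (ResidueField Ae) (ResidueField W) := by
  classical
  letI algAeW : Algebra Ae W := (RingHom.codRestrict (algebraMap Ae L') W hW.1).toAlgebra
  intro _
  letI algAL' : Algebra A L' := ((algebraMap K L').comp (algebraMap A K)).toAlgebra
  haveI : IsScalarTower A K L' := IsScalarTower.of_algebraMap_eq (fun _ => rfl)
  letI algAKE : Algebra A KE := ((algebraMap K KE).comp (algebraMap A K)).toAlgebra
  haveI : IsScalarTower A K KE := IsScalarTower.of_algebraMap_eq (fun _ => rfl)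
  haveI hfinLL' : Module.Finite L L' := finite_of_adjoin K L KE L' hgen
  haveI : FiniteDimensional K L' := FiniteDimensional.trans K L L'
  have hrm : r ∈ maximalIdeal Ae := by
    rw [hmax]
    exact Ideal.mem_span_singleton_self r
  have hφm : ∀ a ∈ maximalIdeal A, φ a ∈ maximalIdeal Ae := by
    intro a ha
    rw [hπ.maximalIdeal_eq, Ideal.mem_span_singleton'] at ha
    obtain ⟨c, rfl⟩ := ha
    rw [map_mul, ← hre]
    exact Ideal.mul_mem_left _ _ (Ideal.pow_mem_of_mem _ hrm e he)
  have hWA : EtRam.Dominates A (algebraMap A L') W := by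
    refine ⟨fun a => ?_, fun a ha => ?_⟩
    · change algebraMap K L' (algebraMap A K a) ∈ W
      rw [← hφ]
      exact hW.1 _
    · change W.valuation (algebraMap K L' (algebraMap A K a)) < 1
      rw [← hφ]
      exact hW.2 _ (hφm a ha)
  haveI : IsDiscreteValuationRing W := isDiscreteValuationRing_of_dominates A K L' W hWA
  -- the contraction to `L`
  set V := W.comap (algebraMap L L') with hV
  have hcompL : ∀ a : A, algebraMap L L' (algebraMap A L a) = algebraMap A L' a := by
    intro a
    change _ = algebraMap K L' (algebraMap A K a)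
    rw [IsScalarTower.algebraMap_apply A K L, ← IsScalarTower.algebraMap_apply K L L']
  have hVdom : EtRam.Dominates A (algebraMap A L) V := by
    rw [dominates_comap_iff]
    have : (algebraMap L L').comp (algebraMap A L) = algebraMap A L' := RingHom.ext hcompL
    rw [this]
    exact hWA
  haveI : IsDiscreteValuationRing V := isDiscreteValuationRing_of_dominates A K L V hVdom
  letI algAV : Algebra A V := (RingHom.codRestrict (algebraMap A L) V hVdom.1).toAlgebra
  haveI : IsScalarTower A V L := IsScalarTower.of_algebraMap_eq (fun _ => rfl)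
  haveI : IsLocalHom (algebraMap A V) := isLocalHom_of_dominates _ V hVdom
  obtain ⟨hsepV, htameV⟩ := h V hVdom
  have hdivV : Ideal.ramificationIdx' (maximalIdeal A) (maximalIdeal V) ∣ e := hdiv V hVdom
  haveI := hsepV
  haveI : Algebra.IsGeometricallyReduced (ResidueField A) (ResidueField V) :=
    geomReduced_of_isSeparable _ _
  have heV : ((Ideal.ramificationIdx' (maximalIdeal A) (maximalIdeal V) : ℕ) : ResidueField A)
      ≠ 0 := by
    intro h0
    obtain ⟨c, hc⟩ := hdivV
    apply heκ
    rw [hc, Nat.cast_mul, h0, zero_mul]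
  have hW' : EtRam.Dominates V ((algebraMap L L').comp (algebraMap V L)) W := by
    refine ⟨fun x => x.2, fun x hx => ?_⟩
    have h1 : V.valuation (x : L) < 1 := (V.valuation_lt_one_iff x).mp hx
    rw [valuation_comap_lt_one_iff] at h1
    exact h1
  have hA' : ∀ a : A, (algebraMap K KE) (algebraMap A K a) ∈ W.comap (algebraMap KE L') := by
    intro a
    change algebraMap KE L' (algebraMap K KE (algebraMap A K a)) ∈ W
    rw [← IsScalarTower.algebraMap_apply K KE L']
    exact hWA.1 a
  have hAbh := Groth.Agent.Lib.T2H9.Abhyankar.core A V K L KE L' heV hgen W hW' hA'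
  -- the contraction to `KE`
  set f := algebraMap KE L' with hf
  set V' := W.comap f with hV'
  have hV'dom : EtRam.Dominates A (algebraMap A KE) V' := by
    rw [dominates_comap_iff]
    have : f.comp (algebraMap A KE) = algebraMap A L' := by
      ext a
      change algebraMap KE L' (algebraMap K KE (algebraMap A K a)) = algebraMap K L' (algebraMap A K a)
      rw [← IsScalarTower.algebraMap_apply K KE L']
    rw [this]
    exact hWA
  haveI : IsDiscreteValuationRing V' := isDiscreteValuationRing_of_dominates A K KE V' hV'dom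
  letI algAV' : Algebra A V' :=
    (RingHom.codRestrict ((algebraMap K KE).comp (algebraMap A K)) V' hA').toAlgebra
  haveI : IsScalarTower A V' KE := IsScalarTower.of_algebraMap_eq (fun _ => rfl)
  haveI : IsLocalHom (algebraMap A V') := isLocalHom_of_dominates (algebraMap A KE) V' hV'dom
  letI algV'W : Algebra V' W := (EtRam.inclOfComap W f).toAlgebra
  haveI : IsLocalHom (algebraMap V' W) := EtRam.isLocalHom_inclOfComap W f
  obtain ⟨hxV', hxirr, hram, hsurj⟩ := count A K KE π hπ e he hfin x hx V' hV'dom
  have hdvd : Ideal.ramificationIdx' (maximalIdeal A) (maximalIdeal V) ∣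
      Ideal.ramificationIdx' (maximalIdeal A) (maximalIdeal V') := by
    rw [hram]
    exact hdivV
  obtain ⟨hwu, hgr⟩ := hAbh hdvd
  refine ⟨?_, ?_⟩
  · unfold EtRam.IsWeaklyUnramified at hwu ⊢
    have hrW : algebraMap Ae W r = algebraMap V' W ⟨x, hxV'⟩ := Subtype.ext hr
    have h1 : (maximalIdeal Ae).map (algebraMap Ae W) =
        (Ideal.span {r}).map (algebraMap Ae W) := congrArg (Ideal.map (algebraMap Ae W)) hmax
    rw [h1, Ideal.map_span, Set.image_singleton, hrW, ← hwu, hxirr.maximalIdeal_eq,
      Ideal.map_span, Set.image_singleton]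
  · have hgr' : Algebra.IsGeometricallyReduced (ResidueField V') (ResidueField W) := by
      have halg : (ResidueField.map (EtRam.inclOfComap W f)).toAlgebra =
          (inferInstance : Algebra (ResidueField V') (ResidueField W)) := by
        apply Algebra.algebra_ext
        intro c
        obtain ⟨v, rfl⟩ := residue_surjective c
        rfl
      exact Eq.mp (congrArg (fun a => @Algebra.IsGeometricallyReduced (ResidueField V')
        (ResidueField W) _ _ a) halg) hgr
    haveI := hgr'
    have hinjV'W : Function.Injective (algebraMap V' W) := fun a b hab =>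
      Subtype.ext (f.injective (congrArg Subtype.val hab))
    letI algV'L' : Algebra V' L' := (f.comp (algebraMap V' KE)).toAlgebra
    haveI : IsScalarTower V' KE L' := IsScalarTower.of_algebraMap_eq (fun _ => rfl)
    haveI : IsScalarTower V' W L' := IsScalarTower.of_algebraMap_eq (fun _ => rfl)
    haveI : FiniteDimensional KE L' := Module.Finite.of_restrictScalars_finite K KE L'
    obtain ⟨hresfin, -⟩ := Groth.Agent.Lib.Helper24DvrEF.s7132 V' W KE L' hinjV'W
    haveI := hresfin
    haveI hsepV'W : Algebra.IsSeparable (ResidueField V') (ResidueField W) :=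
      Groth.Agent.Lib.Helper7.ExalLib.isSeparable_of_isGeometricallyReduced_of_isAlgebraic
    haveI hsepAV' : Algebra.IsSeparable (ResidueField A) (ResidueField V') :=
      ⟨fun z => by
        obtain ⟨c, rfl⟩ := hsurj z
        exact isSeparable_algebraMap c⟩
    letI algAW : Algebra A W := (RingHom.codRestrict (algebraMap A L') W hWA.1).toAlgebra
    haveI : IsLocalHom (algebraMap A W) := isLocalHom_of_dominates (algebraMap A L') W hWA
    haveI : IsScalarTower A V' W := IsScalarTower.of_algebraMap_eq (fun a => by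
      apply Subtype.ext
      change algebraMap K L' (algebraMap A K a) = f (algebraMap K KE (algebraMap A K a))
      rw [hf, ← IsScalarTower.algebraMap_apply K KE L'])
    haveI hsepAW : Algebra.IsSeparable (ResidueField A) (ResidueField W) :=
      Algebra.IsSeparable.trans (ResidueField A) (ResidueField V') (ResidueField W)
    letI algAAe : Algebra A Ae := φ.toAlgebra
    haveI : IsLocalHom (algebraMap A Ae) := by
      constructor
      intro a ha
      by_contra hna
      have h1 : φ a ∈ maximalIdeal Ae := hφm a (by rwa [mem_maximalIdeal, mem_nonunits_iff])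
      rw [mem_maximalIdeal, mem_nonunits_iff] at h1
      exact h1 ha
    haveI : IsScalarTower A Ae W := IsScalarTower.of_algebraMap_eq (fun a => by
      apply Subtype.ext
      exact (hφ a).symm)
    exact Algebra.isSeparable_tower_top_of_isSeparable (ResidueField A) (ResidueField Ae)
      (ResidueField W)

end final

section main

variable (A K L : Type u) [CommRing A] [IsDomain A] [IsDiscreteValuationRing A]
  [Field K] [Algebra A K] [IsFractionRing A K] [Field L] [Algebra K L] [Algebra A L]
  [IsScalarTower A K L] [FiniteDimensional K L] [Algebra.IsSeparable K L]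

theorem core (π : A) (hπ : maximalIdeal A = Ideal.span {π})
    (h : EtRam.IsTamelyRamified A (algebraMap A L)) (e : ℕ) (he : 0 < e)
    (heκ : ((e : ℕ) : ResidueField A) ≠ 0)
    (hdiv : ∀ (V : ValuationSubring L) (hV : EtRam.Dominates A (algebraMap A L) V),
      letI : Algebra A V := (RingHom.codRestrict (algebraMap A L) V hV.1).toAlgebra
      Ideal.ramificationIdx' (maximalIdeal A) (maximalIdeal V) ∣ e) :
    ∃ (L' : Type u) (_ : Field L') (_ : Algebra K L')
      (_ : Algebra (AdjoinRoot (X ^ e - C π : A[X])) L') (_ : L →ₐ[K] L'),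
      FiniteDimensional K L' ∧ Algebra.IsSeparable K L' ∧
      (algebraMap (AdjoinRoot (X ^ e - C π : A[X])) L').comp (AdjoinRoot.of (X ^ e - C π)) =
        (algebraMap K L').comp (algebraMap A K) ∧
      ∀ [IsLocalRing (AdjoinRoot (X ^ e - C π : A[X]))],
        EtRam.IsUnramifiedExt (AdjoinRoot (X ^ e - C π : A[X]))
          (algebraMap (AdjoinRoot (X ^ e - C π : A[X])) L') := by
  classical
  have hπirr : Irreducible π := (IsDiscreteValuationRing.irreducible_iff_uniformizer π).mpr hπ
  haveI hfact : Fact (Irreducible (polK K π e)) := ⟨polK_irreducible K hπirr he⟩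
  haveI hsepKE : Algebra.IsSeparable K (AdjoinRoot (polK K π e)) :=
    isSeparable_adjoinRoot K hπirr heκ
  haveI hfinKE : FiniteDimensional K (AdjoinRoot (polK K π e)) :=
    (AdjoinRoot.powerBasis hfact.out.ne_zero).finite
  set KE := AdjoinRoot (polK K π e) with hKE
  -- the compositum
  obtain ⟨𝔪, h𝔪⟩ := Ideal.exists_maximal (L ⊗[K] KE)
  haveI := h𝔪
  letI fieldL' : Field ((L ⊗[K] KE) ⧸ 𝔪) := Ideal.Quotient.field 𝔪
  letI algKEL' : Algebra KE ((L ⊗[K] KE) ⧸ 𝔪) := ((Ideal.Quotient.mk 𝔪).comp
    (Algebra.TensorProduct.includeRight : KE →ₐ[K] L ⊗[K] KE).toRingHom).toAlgebra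
  haveI t1 : IsScalarTower K L ((L ⊗[K] KE) ⧸ 𝔪) := inferInstance
  haveI t2 : IsScalarTower K KE ((L ⊗[K] KE) ⧸ 𝔪) := IsScalarTower.of_algebraMap_eq (fun k => by
    change _ = Ideal.Quotient.mk 𝔪
      ((Algebra.TensorProduct.includeRight : KE →ₐ[K] L ⊗[K] KE) (algebraMap K KE k))
    rw [AlgHom.commutes]
    rfl)
  haveI hfinL' : FiniteDimensional K ((L ⊗[K] KE) ⧸ 𝔪) := inferInstance
  have hgen : Algebra.adjoin L (Set.range (algebraMap KE ((L ⊗[K] KE) ⧸ 𝔪))) = ⊤ := by
    rw [eq_top_iff]
    intro x _
    obtain ⟨y, rfl⟩ := Ideal.Quotient.mk_surjective x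
    clear * -
    induction y using TensorProduct.induction_on with
    | zero => rw [map_zero]; exact zero_mem _
    | tmul a b =>
      have h1 : (a ⊗ₜ[K] b : L ⊗[K] KE) = (a ⊗ₜ 1) * (1 ⊗ₜ b) := by
        rw [Algebra.TensorProduct.tmul_mul_tmul, mul_one, one_mul]
      rw [h1, map_mul]
      apply mul_mem
      · exact Subalgebra.algebraMap_mem _ a
      · exact Algebra.subset_adjoin ⟨b, rfl⟩
    | add y y' hy hy' => rw [map_add]; exact add_mem hy hy'
  haveI hsepL' : Algebra.IsSeparable K ((L ⊗[K] KE) ⧸ 𝔪) := by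
    haveI : Algebra.FormallyUnramified K KE := Algebra.FormallyUnramified.of_isSeparable K KE
    haveI : Algebra.FormallyUnramified L ((L ⊗[K] KE) ⧸ 𝔪) :=
      Algebra.FormallyUnramified.of_surjective (Ideal.Quotient.mkₐ L 𝔪)
        Ideal.Quotient.mk_surjective
    haveI : Algebra.IsSeparable L ((L ⊗[K] KE) ⧸ 𝔪) :=
      Algebra.FormallyUnramified.isSeparable L _
    exact Algebra.IsSeparable.trans K L _
  -- the structure map of `A[X]/(X^e - π)`
  set x' : (L ⊗[K] KE) ⧸ 𝔪 := algebraMap KE _ (AdjoinRoot.root (polK K π e)) with hx'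
  have hx'pow : x' ^ e = algebraMap K ((L ⊗[K] KE) ⧸ 𝔪) (algebraMap A K π) := by
    rw [hx', ← map_pow, root_polK_pow, IsScalarTower.algebraMap_apply K KE ((L ⊗[K] KE) ⧸ 𝔪)]
    rfl
  have heval : (X ^ e - C π : A[X]).eval₂
      ((algebraMap K ((L ⊗[K] KE) ⧸ 𝔪)).comp (algebraMap A K)) x' = 0 := by
    rw [eval₂_sub, eval₂_pow, eval₂_X, eval₂_C, RingHom.comp_apply, hx'pow, sub_self]
  letI algAeL' : Algebra (AdjoinRoot (X ^ e - C π : A[X])) ((L ⊗[K] KE) ⧸ 𝔪) :=
    (AdjoinRoot.lift ((algebraMap K ((L ⊗[K] KE) ⧸ 𝔪)).comp (algebraMap A K)) x' heval).toAlgebra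
  refine ⟨(L ⊗[K] KE) ⧸ 𝔪, fieldL', inferInstance, algAeL',
    IsScalarTower.toAlgHom K L ((L ⊗[K] KE) ⧸ 𝔪), hfinL', hsepL', ?_, ?_⟩
  · exact AdjoinRoot.lift_comp_of heval
  intro _ W hW
  haveI domAe : IsDomain (AdjoinRoot (X ^ e - C π : A[X])) := isDomain hπirr he
  obtain ⟨hdvrAe, hmaxAe⟩ := isDVR hπirr he
  haveI := hdvrAe
  letI algAeW : Algebra (AdjoinRoot (X ^ e - C π : A[X])) W :=
    (RingHom.codRestrict (algebraMap (AdjoinRoot (X ^ e - C π : A[X])) ((L ⊗[K] KE) ⧸ 𝔪)) W
      hW.1).toAlgebra
  intro _
  exact final A K L KE ((L ⊗[K] KE) ⧸ 𝔪) (AdjoinRoot (X ^ e - C π : A[X]))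
    (AdjoinRoot.of (X ^ e - C π : A[X])) (AdjoinRoot.root (X ^ e - C π : A[X])) hmaxAe π hπirr e he
    (root_pow π e) (fun a => AdjoinRoot.lift_of heval) (AdjoinRoot.root (polK K π e))
    (root_polK_pow K π e) (AdjoinRoot.lift_root heval) (finrank_adjoinRoot K π he) hgen h heκ
    hdiv W hW

open Groth.Agent.Lib.T2H9.DvrData in
include K in
/-- a common multiple, prime to the residue characteristic, of all ramification indices of a
tamely ramified extension -/
theorem exists_e₀ (h : EtRam.IsTamelyRamified A (algebraMap A L)) :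
    ∃ e₀ : ℕ, 0 < e₀ ∧ ((e₀ : ℕ) : ResidueField A) ≠ 0 ∧
      ∀ (V : ValuationSubring L) (hV : EtRam.Dominates A (algebraMap A L) V),
        letI : Algebra A V := (RingHom.codRestrict (algebraMap A L) V hV.1).toAlgebra
        Ideal.ramificationIdx' (maximalIdeal A) (maximalIdeal V) ∣ e₀ := by
  classical
  set n := Module.finrank K L with hn
  set S := (Finset.Icc 1 n).filter (fun j : ℕ => ((j : ℕ) : ResidueField A) ≠ 0) with hS
  refine ⟨∏ j ∈ S, j, ?_, ?_, ?_⟩
  · apply Finset.prod_pos
    intro j hj
    rw [hS, Finset.mem_filter, Finset.mem_Icc] at hj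
    omega
  · rw [Nat.cast_prod, Finset.prod_ne_zero_iff]
    intro j hj
    rw [hS, Finset.mem_filter] at hj
    exact hj.2
  · intro V hV
    letI algAV : Algebra A V := (RingHom.codRestrict (algebraMap A L) V hV.1).toAlgebra
    haveI : IsDiscreteValuationRing V := isDiscreteValuationRing_of_dominates A K L V hV
    haveI : IsLocalHom (algebraMap A V) := isLocalHom_of_dominates _ V hV
    obtain ⟨π, hπ⟩ := IsDiscreteValuationRing.exists_irreducible A
    obtain ⟨ω, u, e', hω, hπu, he', hresfin, hfpos, hef⟩ := ef_data A K L π hπ V hV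
    have hmap : (maximalIdeal A).map (algebraMap A V) = Ideal.span {algebraMap A V π} := by
      rw [hπ.maximalIdeal_eq, Ideal.map_span, Set.image_singleton]
    have hram : Ideal.ramificationIdx' (maximalIdeal A) (maximalIdeal V) = e' :=
      ramificationIdx'_eq_of_span _ hmap ω hω u e' hπu
    change Ideal.ramificationIdx' (maximalIdeal A) (maximalIdeal V) ∣ _
    rw [hram]
    apply Finset.dvd_prod_of_mem
    rw [hS, Finset.mem_filter, Finset.mem_Icc]
    refine ⟨⟨he', ?_⟩, ?_⟩
    · calc e' = e' * 1 := (mul_one _).symm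
        _ ≤ e' * Module.finrank (ResidueField A) (ResidueField V) :=
          Nat.mul_le_mul_left _ hfpos
        _ ≤ n := hef
    · intro h0
      obtain ⟨-, htame⟩ := h V hV
      obtain ⟨p, hp⟩ := CharP.exists (ResidueField A)
      have hpdvd : p ∣ e' := (CharP.cast_eq_zero_iff (ResidueField A) p e').mp h0
      have hp0 : p ≠ 0 := by
        rintro rfl
        rw [zero_dvd_iff] at hpdvd
        omega
      have hprime : p.Prime := (CharP.char_is_prime_or_zero (ResidueField A) p).resolve_right hp0
      exact htame p hprime hp (hram ▸ hpdvd)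

end main

end Groth.Agent.Lib.T2H9.RootUnifCore
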