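import Mathlib
import Groth.Prelude.Def_EtRam
import Groth.Agent.Lib.T2H9RootUnifCore

set_option autoImplicit false
set_option linter.style.haveILetI false
set_option linter.unusedSectionVars false
universe u

/-!
# Extensions that become unramified after adjoining a root of the uniformizer are tame
-/

namespace Groth.Agent.Lib.T2H9.RootUnifConv

open IsLocalRing Polynomial Groth.Agent.Lib.T2H9.RootUnif
  Groth.Agent.Lib.T2H9.RamTower Groth.Agent.Lib.T2H9.FinDVR Groth.Agent.Lib.T2H9.TotRamDeg
  Groth.Agent.Lib.T2H9.ValDom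

section abs

variable (A K L L' Ae : Type u) [CommRing A] [IsDomain A] [IsDiscreteValuationRing A]
  [Field K] [Algebra A K] [IsFractionRing A K] [Field L] [Algebra K L] [Algebra A L]
  [IsScalarTower A K L] [FiniteDimensional K L]
  [Field L'] [Algebra K L'] [Algebra L L'] [IsScalarTower K L L'] [FiniteDimensional K L']
  [CommRing Ae] [IsDomain Ae] [IsDiscreteValuationRing Ae] [Algebra Ae L']

theorem converse_abs (φ : A →+* Ae) (r : Ae) (hmax : maximalIdeal Ae = Ideal.span {r})
    (π : A) (hπ : Irreducible π) (e : ℕ) (he : 0 < e) (hre : r ^ e = φ π)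
    (hdecomp : ∀ b : Ae, ∃ (a : A) (y : Ae), b = φ a + r * y)
    (hgenAe : ∀ b : Ae, b ∈ Subring.closure (Set.range φ ∪ {r}))
    (hφ : ∀ a, algebraMap Ae L' (φ a) = algebraMap K L' (algebraMap A K a))
    (heκ : ((e : ℕ) : ResidueField A) ≠ 0)
    (hunr : EtRam.IsUnramifiedExt Ae (algebraMap Ae L')) :
    EtRam.IsTamelyRamified A (algebraMap A L) := by
  classical
  intro V hV
  letI algAL' : Algebra A L' := ((algebraMap K L').comp (algebraMap A K)).toAlgebra
  haveI : IsScalarTower A K L' := IsScalarTower.of_algebraMap_eq (fun _ => rfl)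
  have hcompL : ∀ a : A, algebraMap L L' (algebraMap A L a) = algebraMap A L' a := by
    intro a
    change _ = algebraMap K L' (algebraMap A K a)
    rw [IsScalarTower.algebraMap_apply A K L, ← IsScalarTower.algebraMap_apply K L L']
  obtain ⟨W, rfl⟩ := exists_comap_eq (algebraMap L L') V
  set f := algebraMap L L' with hf
  letI algAV : Algebra A (W.comap f) :=
    (RingHom.codRestrict (algebraMap A L) (W.comap f) hV.1).toAlgebra
  intro _
  haveI : IsDiscreteValuationRing (W.comap f) :=
    isDiscreteValuationRing_of_dominates A K L (W.comap f) hV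
  have hWA : EtRam.Dominates A (algebraMap A L') W := by
    have h1 : EtRam.Dominates A (f.comp (algebraMap A L)) W := (dominates_comap_iff _ _ _).mp hV
    have : f.comp (algebraMap A L) = algebraMap A L' := RingHom.ext hcompL
    rwa [this] at h1
  haveI : IsDiscreteValuationRing W := isDiscreteValuationRing_of_dominates A K L' W hWA
  have hπm : π ∈ maximalIdeal A := by
    rw [mem_maximalIdeal, mem_nonunits_iff]
    exact hπ.not_isUnit
  set x' : L' := algebraMap Ae L' r with hx'
  have hx'pow : x' ^ e = algebraMap A L' π := by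
    rw [hx', ← map_pow, hre, hφ]
    rfl
  have hπval : W.valuation (algebraMap A L' π) < 1 := hWA.2 π hπm
  have hx'val : W.valuation x' < 1 := by
    by_contra hcon
    rw [not_lt] at hcon
    have h1 : 1 ≤ W.valuation x' ^ e := one_le_pow₀ hcon
    rw [← map_pow, hx'pow] at h1
    exact absurd hπval (not_lt.mpr h1)
  have hWAe1 : ∀ b : Ae, algebraMap Ae L' b ∈ W := by
    intro b
    have hb := hgenAe b
    induction hb using Subring.closure_induction with
    | mem y hy =>
      rcases hy with ⟨a, rfl⟩ | hy
      · rw [hφ]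
        exact hWA.1 a
      · rw [Set.mem_singleton_iff] at hy
        rw [hy]
        exact (W.valuation_le_one_iff _).mp hx'val.le
    | zero => rw [map_zero]; exact W.zero_mem
    | one => rw [map_one]; exact W.one_mem
    | add y y' _ _ h1 h2 => rw [map_add]; exact W.add_mem _ _ h1 h2
    | neg y _ h1 => rw [map_neg]; exact W.neg_mem _ h1
    | mul y y' _ _ h1 h2 => rw [map_mul]; exact W.mul_mem _ _ h1 h2
  have hrm : r ∈ maximalIdeal Ae := by
    rw [hmax]
    exact Ideal.mem_span_singleton_self r
  have hφm : ∀ a ∈ maximalIdeal A, φ a ∈ maximalIdeal Ae := by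
    intro a ha
    rw [hπ.maximalIdeal_eq, Ideal.mem_span_singleton'] at ha
    obtain ⟨c, rfl⟩ := ha
    rw [map_mul, ← hre]
    exact Ideal.mul_mem_left _ _ (Ideal.pow_mem_of_mem _ hrm e he)
  have hWAe : EtRam.Dominates Ae (algebraMap Ae L') W := by
    refine ⟨hWAe1, fun b hb => ?_⟩
    rw [hmax, Ideal.mem_span_singleton'] at hb
    obtain ⟨c, rfl⟩ := hb
    rw [map_mul, map_mul]
    calc W.valuation (algebraMap Ae L' c) * W.valuation x'
        ≤ 1 * W.valuation x' :=
          mul_le_mul_left ((W.valuation_le_one_iff _).mpr (hWAe1 c)) _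
      _ < 1 := by rw [one_mul]; exact hx'val
  letI algAeW : Algebra Ae W := (RingHom.codRestrict (algebraMap Ae L') W hWAe.1).toAlgebra
  haveI : IsLocalHom (algebraMap Ae W) := isLocalHom_of_dominates _ W hWAe
  obtain ⟨hwu, hsepAeW⟩ := hunr W hWAe
  haveI := hsepAeW
  letI algAAe : Algebra A Ae := φ.toAlgebra
  haveI : IsLocalHom (algebraMap A Ae) := by
    constructor
    intro a ha
    by_contra hna
    have h1 : φ a ∈ maximalIdeal Ae := hφm a (by rwa [mem_maximalIdeal, mem_nonunits_iff])
    rw [mem_maximalIdeal, mem_nonunits_iff] at h1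
    exact h1 ha
  letI algAW : Algebra A W := (RingHom.codRestrict (algebraMap A L') W hWA.1).toAlgebra
  haveI : IsLocalHom (algebraMap A W) := isLocalHom_of_dominates (algebraMap A L') W hWA
  haveI : IsScalarTower A Ae W := IsScalarTower.of_algebraMap_eq (fun a => by
    apply Subtype.ext
    exact (hφ a).symm)
  letI algVW : Algebra (W.comap f) W := (EtRam.inclOfComap W f).toAlgebra
  haveI : IsLocalHom (algebraMap (W.comap f) W) := EtRam.isLocalHom_inclOfComap W f
  haveI : IsScalarTower A (W.comap f) W := IsScalarTower.of_algebraMap_eq (fun a => by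
    apply Subtype.ext
    exact (hcompL a).symm)
  have hrirr : Irreducible r := (IsDiscreteValuationRing.irreducible_iff_uniformizer r).mpr hmax
  have hinjAL' : Function.Injective (algebraMap A L') :=
    (algebraMap K L').injective.comp (IsFractionRing.injective A K)
  have hinjAW : Function.Injective (algebraMap A W) := fun a b hab =>
    hinjAL' (congrArg Subtype.val hab)
  have hAW : (maximalIdeal A).map (algebraMap A W) ≠ ⊥ := by
    rw [Ne, Ideal.map_eq_bot_iff_of_injective hinjAW]
    exact IsDiscreteValuationRing.not_a_field A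
  have hinjVW : Function.Injective (algebraMap (W.comap f) W) := fun a b hab =>
    Subtype.ext (f.injective (congrArg Subtype.val hab))
  unfold EtRam.IsWeaklyUnramified at hwu
  have hmapW : (maximalIdeal Ae).map (algebraMap Ae W) = Ideal.span {algebraMap Ae W r} := by
    have h1 : (maximalIdeal Ae).map (algebraMap Ae W) =
        (Ideal.span {r}).map (algebraMap Ae W) := congrArg (Ideal.map (algebraMap Ae W)) hmax
    rw [h1, Ideal.map_span, Set.image_singleton]
  have hωirr : Irreducible (algebraMap Ae W r) :=
    (IsDiscreteValuationRing.irreducible_iff_uniformizer _).mpr (hwu.symm.trans hmapW)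
  have he1 : Ideal.ramificationIdx' (maximalIdeal Ae) (maximalIdeal W) = 1 :=
    ramificationIdx'_eq_of_span _ hmapW _ hωirr 1 1 (by rw [Units.val_one, one_mul, pow_one])
  have hmapAe : (maximalIdeal A).map (algebraMap A Ae) = Ideal.span {φ π} := by
    rw [hπ.maximalIdeal_eq, Ideal.map_span, Set.image_singleton]
    rfl
  have he2 : Ideal.ramificationIdx' (maximalIdeal A) (maximalIdeal Ae) = e :=
    ramificationIdx'_eq_of_span _ hmapAe r hrirr 1 e (by rw [Units.val_one, one_mul, hre])
  have he3 : Ideal.ramificationIdx' (maximalIdeal A) (maximalIdeal W) =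
      Ideal.ramificationIdx' (maximalIdeal A) (maximalIdeal Ae) *
        Ideal.ramificationIdx' (maximalIdeal Ae) (maximalIdeal W) := by
    apply Ideal.ramificationIdx'_algebra_tower
    · rw [hwu]
      exact IsDiscreteValuationRing.not_a_field W
    · exact hAW
    · exact hwu.le
  have he4 := ramificationIdx'_tower (A := A) (V := W.comap f) (W := W) hinjVW hAW
  have hdivV : Ideal.ramificationIdx' (maximalIdeal A) (maximalIdeal (W.comap f)) ∣ e := by
    rw [he3, he2, he1, mul_one] at he4
    exact ⟨_, he4⟩
  refine ⟨?_, ?_⟩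
  · haveI hsepAAe : Algebra.IsSeparable (ResidueField A) (ResidueField Ae) :=
      ⟨fun z => by
        obtain ⟨b, rfl⟩ := residue_surjective z
        obtain ⟨a, y, rfl⟩ := hdecomp b
        have h1 : residue Ae (φ a + r * y) =
            algebraMap (ResidueField A) (ResidueField Ae) (residue A a) := by
          rw [map_add, map_mul, (residue_eq_zero_iff r).mpr hrm, zero_mul, add_zero]
          rfl
        rw [h1]
        exact isSeparable_algebraMap _⟩
    haveI hsepAW : Algebra.IsSeparable (ResidueField A) (ResidueField W) :=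
      Algebra.IsSeparable.trans (ResidueField A) (ResidueField Ae) (ResidueField W)
    exact separable_bot_of_tower (A := A) (V := W.comap f) (W := W)
  · intro p hp hchar hdvd
    apply heκ
    rw [CharP.cast_eq_zero_iff (ResidueField A) p]
    exact hdvd.trans hdivV

end abs

section conc

variable (A K L : Type u) [CommRing A] [IsDomain A] [IsDiscreteValuationRing A]
  [Field K] [Algebra A K] [IsFractionRing A K] [Field L] [Algebra K L] [Algebra A L]
  [IsScalarTower A K L] [FiniteDimensional K L]

theorem mem_closure (π : A) (e : ℕ) (b : AdjoinRoot (pol π e)) :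
    b ∈ Subring.closure
      (Set.range (AdjoinRoot.of (pol π e)) ∪ {AdjoinRoot.root (pol π e)}) := by
  obtain ⟨q, rfl⟩ := AdjoinRoot.mk_surjective b
  induction q using Polynomial.induction_on with
  | C a =>
    rw [AdjoinRoot.mk_C]
    exact Subring.subset_closure (Or.inl ⟨a, rfl⟩)
  | add p q hp hq =>
    rw [map_add]
    exact add_mem hp hq
  | monomial n a h =>
    rw [pow_succ, ← mul_assoc, map_mul, AdjoinRoot.mk_X]
    exact mul_mem h (Subring.subset_closure (Or.inr rfl))

theorem converse (π : A) (hπ : maximalIdeal A = Ideal.span {π}) (e : ℕ) (he : 0 < e)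
    (heκ : ((e : ℕ) : ResidueField A) ≠ 0)
    (L' : Type u) [Field L'] [Algebra K L'] [Algebra (AdjoinRoot (X ^ e - C π : A[X])) L']
    (ι : L →ₐ[K] L') [FiniteDimensional K L']
    (hcomp : (algebraMap (AdjoinRoot (X ^ e - C π : A[X])) L').comp
        (AdjoinRoot.of (X ^ e - C π)) = (algebraMap K L').comp (algebraMap A K))
    (hunr : ∀ [IsLocalRing (AdjoinRoot (X ^ e - C π : A[X]))],
      EtRam.IsUnramifiedExt (AdjoinRoot (X ^ e - C π : A[X]))
        (algebraMap (AdjoinRoot (X ^ e - C π : A[X])) L')) :
    EtRam.IsTamelyRamified A (algebraMap A L) := by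
  have hπirr : Irreducible π := (IsDiscreteValuationRing.irreducible_iff_uniformizer π).mpr hπ
  letI : Algebra L L' := ι.toRingHom.toAlgebra
  haveI : IsScalarTower K L L' := IsScalarTower.of_algebraMap_eq (fun k => (ι.commutes k).symm)
  haveI domAe : IsDomain (AdjoinRoot (X ^ e - C π : A[X])) := isDomain hπirr he
  obtain ⟨hdvr, hmax⟩ := isDVR hπirr he
  haveI := hdvr
  exact converse_abs A K L L' (AdjoinRoot (X ^ e - C π : A[X]))
    (AdjoinRoot.of (X ^ e - C π : A[X])) (AdjoinRoot.root (X ^ e - C π : A[X])) hmax π hπirr e he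
    (root_pow π e) (decomp π e) (mem_closure A π e) (fun a => RingHom.congr_fun hcomp a) heκ hunr

end conc

end Groth.Agent.Lib.T2H9.RootUnifConv
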