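import Mathlib
import Groth.Prelude.Def_ClSub2
import Groth.Agent.Lib.T2H6HHLin
import Groth.Agent.Lib.T2H5ClosedLin
import Groth.Agent.Lib.Helper13AffBC
import Groth.Agent.Lib.T2H9ArInterE
import Groth.Agent.Lib.Helper24FlatTF

/-!
# helper9: intersection number with a vertical component as the length of the scheme-theoretic intersection (S7926)
-/

set_option autoImplicit false
set_option linter.style.haveILetI false
universe u
open CategoryTheory CategoryTheory.Limits AlgebraicGeometry TopologicalSpace Opposite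

namespace Groth.Agent.Lib.T2H9.SchInterA

/-- the scheme-theoretic intersection of a closed subscheme `ι` with the closed subscheme of `D` has ideal `D ⊔ ker ι` -/
theorem ker_comap_subschemeι_comp {Y G : Scheme.{u}} (ι : G ⟶ Y) [IsClosedImmersion ι]
    (D : Y.IdealSheafData) :
    ((D.comap ι).subschemeι ≫ ι).ker = D ⊔ ι.ker := by
  apply le_antisymm
  · -- build a map from the subscheme of `D ⊔ ker ι`
    set J := D ⊔ ι.ker with hJ
    have h1 : ι.ker ≤ J.subschemeι.ker := by rw [Scheme.IdealSheafData.ker_subschemeι]; exact le_sup_right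
    have h2 : D.subschemeι.ker ≤ J.subschemeι.ker := by
      rw [Scheme.IdealSheafData.ker_subschemeι, Scheme.IdealSheafData.ker_subschemeι]; exact le_sup_left
    set a := IsClosedImmersion.lift ι J.subschemeι h1 with ha
    set a' := IsClosedImmersion.lift D.subschemeι J.subschemeι h2 with ha'
    have hcond : a ≫ ι = a' ≫ D.subschemeι := by
      rw [ha, ha', IsClosedImmersion.lift_fac, IsClosedImmersion.lift_fac]
    set b := pullback.lift a a' hcond ≫ (D.comapIso ι).inv with hb
    have hbj : b ≫ ((D.comap ι).subschemeι ≫ ι) = J.subschemeι := by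
      rw [hb, Category.assoc, Scheme.IdealSheafData.comapIso_inv_subschemeι_assoc,
        pullback.lift_fst_assoc, ha, IsClosedImmersion.lift_fac]
    have h3 := Scheme.Hom.le_ker_comp b ((D.comap ι).subschemeι ≫ ι)
    rw [hbj, Scheme.IdealSheafData.ker_subschemeι] at h3
    exact h3
  · apply sup_le
    · rw [← Scheme.IdealSheafData.map_ker, Scheme.IdealSheafData.ker_subschemeι]
      exact Scheme.IdealSheafData.le_map_comap (f := ι) (J := D)
    · exact Scheme.Hom.le_ker_comp _ ι

/-- for an isomorphism `f`, `O_Y → f_* O_X` is an isomorphism -/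
theorem isIso_unitToPush_of_isIso {X Y : Scheme.{u}} (f : X ⟶ Y) [IsIso f] :
    IsIso (ClSub.unitToPush f) := by
  refine Groth.Agent.Helper13AffBC.isIso_of_bijective_on_basis _ (fun U : Y.Opens => U) ?_ ?_
  · rw [Opens.isBasis_iff_nbhd]
    intro W y hyW
    exact ⟨W, ⟨W, rfl⟩, hyW, le_rfl⟩
  · intro U
    exact ConcreteCategory.bijective_of_isIso (f.app U)

/-- the structure sheaf of the scheme-theoretic intersection, pushed to `Y`, in two ways -/
theorem nonempty_quotMod_sup_iso {Y G : Scheme.{u}} (ι : G ⟶ Y) [IsClosedImmersion ι]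
    (D : Y.IdealSheafData) :
    Nonempty (ClSub.quotMod (D ⊔ ι.ker) ≅
      (Scheme.Modules.pushforward ι).obj (ClSub.quotMod (D.comap ι))) := by
  have hker := ker_comap_subschemeι_comp ι D
  set J := D ⊔ ι.ker with hJ
  set j := (D.comap ι).subschemeι ≫ ι with hj
  have hk : J.subschemeι.ker = j.ker := by rw [Scheme.IdealSheafData.ker_subschemeι, hker]
  set c := IsClosedImmersion.lift J.subschemeι j hk.le with hc
  haveI : IsIso c := IsClosedImmersion.isIso_lift _ _ hk
  have hcj : c ≫ J.subschemeι = j := IsClosedImmersion.lift_fac _ _ _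
  haveI := isIso_unitToPush_of_isIso c
  exact ⟨(Scheme.Modules.pushforward J.subschemeι).mapIso (asIso (ClSub.unitToPush c)) ≪≫
    (Scheme.Modules.pushforwardComp c J.subschemeι).app _ ≪≫
    (Scheme.Modules.pushforwardCongr hcj).app _ ≪≫
    ((Scheme.Modules.pushforwardComp (D.comap ι).subschemeι ι).app _).symm⟩

variable {R : Type u} [CommRing R] [IsDomain R] [IsDiscreteValuationRing R]
  {X : Over (Spec (CommRingCat.of R))}

theorem toGlobal_comp {T : Scheme.{u}} {A B : Type u} [CommRing A] [CommRing B]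
    (q : T ⟶ Spec (CommRingCat.of B)) (ψ : A →+* B) :
    Coh.toGlobal (q ≫ Spec.map (CommRingCat.ofHom ψ)) = (Coh.toGlobal q).comp ψ :=
  Groth.Agent.Lib.Helper24FlatTF.Phi_comp q ψ

/-- for a module on a vertical component, the `R`-length of cohomology is the dimension over the residue field -/
theorem length_eq_finrank (Γ : ArSurf.VertComp R X) (M : Γ.curve.left.Modules) (p : ℕ) :
    letI : Γ.curve.left.Over (Spec (CommRingCat.of R)) := ⟨Γ.ι ≫ X.hom⟩
    (Module.length R (Coh.HH Γ.curve.left M p)).toNat =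
      Module.finrank (IsLocalRing.ResidueField R) (Coh.HH Γ.curve.left M p) := by
  letI : Γ.curve.left.Over (Spec (CommRingCat.of R)) := ⟨Γ.ι ≫ X.hom⟩
  have hsm : ∀ (r : R) (x : Coh.HH Γ.curve.left M p), r • x = (IsLocalRing.residue R r) • x := by
    intro r x
    show Coh.toGlobal (Γ.ι ≫ X.hom) r • x = Coh.toGlobal Γ.curve.hom (IsLocalRing.residue R r) • x
    rw [Γ.w, toGlobal_comp]
    rfl
  haveI : IsScalarTower R (IsLocalRing.ResidueField R) (Coh.HH Γ.curve.left M p) := by
    refine ⟨fun r c x => ?_⟩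
    rw [hsm, Algebra.smul_def, mul_smul]
    rfl
  rw [Module.length_eq_of_surjective (S := R) (R := IsLocalRing.ResidueField R)
    IsLocalRing.residue_surjective, Module.length_eq_rank, Module.finrank]
  exact Cardinal.toNat_toENat _

/-- `D · Γ` is the `R`-length of the global sections of `O/(I_D + I_Γ)` -/
theorem inter_eq_lengthH [IsProper X.hom] (Γ : ArSurf.VertComp R X) (D : X.left.IdealSheafData)
    (hD : PicF.IsInvertible (ClSub.idealMod D))
    (L : X.left.Modules) (hL : ClSub.IsInverseOf L (ClSub.idealMod D))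
    (hη : Γ.ι.base (genericPoint Γ.curve.left) ∉ D.support) :
    ArSurf.inter R X L Γ = (Models.lengthH R X (ClSub.quotMod (D ⊔ Γ.ι.ker)) 0 : ℤ) := by
  rw [Groth.Agent.Lib.T2H9.ArInterE.inter_eq_finrank Γ D hD L hL hη]
  congr 1
  unfold Models.lengthH
  obtain ⟨e⟩ := nonempty_quotMod_sup_iso Γ.ι D
  letI : Γ.curve.left.Over (Spec (CommRingCat.of R)) := ⟨Γ.ι ≫ X.hom⟩
  obtain ⟨e2⟩ := Groth.Agent.Lib.T2H5.ClosedLin.nonempty_linearEquiv (i := Γ.ι) R rfl
    (ClSub.quotMod (D.comap Γ.ι)) 0
  rw [← length_eq_finrank Γ _ 0, (Groth.Agent.Lib.T2H6.HHLin.HHequiv R e 0).length_eq, e2.length_eq]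

end Groth.Agent.Lib.T2H9.SchInterA
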