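import Mathlib
import Groth.Prelude.Def_W4c6secantcecoversSchSt

set_option autoImplicit false

namespace Groth.Agent.Lib.T2H9.SchSt
open TensorProduct W4c6secantcecovers

universe u v
variable (R : Type u) [CommRing R] (r : ℕ)

/-- no nonzero alternating map in more variables than the rank -/
lemma ιMulti_eq_zero_of_lt {p : ℕ} (hp : r < p) (a : Fin p → (Fin r → R)) :
    ExteriorAlgebra.ιMulti R p a = 0 := by
  have h : ExteriorAlgebra.ιMulti R p (M := Fin r → R) = 0 := by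
    apply Module.Basis.ext_alternating (Pi.basisFun R (Fin r))
    intro v hv
    exfalso
    have := Fintype.card_le_of_injective v hv
    simp at this
    omega
  rw [h]
  rfl

/-- graded Leibniz rule for interior multiplication against a wedge of vectors -/
lemma contractLeft_ιMulti_mul (d : Module.Dual R (Fin r → R)) :
    ∀ (p : ℕ) (a : Fin p → (Fin r → R)) (y : ExteriorAlgebra R (Fin r → R)),
      CliffordAlgebra.contractLeft (Q := (0 : QuadraticForm R (Fin r → R))) d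
          (ExteriorAlgebra.ιMulti R p a * y) =
        CliffordAlgebra.contractLeft (Q := (0 : QuadraticForm R (Fin r → R))) d
          (ExteriorAlgebra.ιMulti R p a) * y +
        (-1 : R) ^ p • (ExteriorAlgebra.ιMulti R p a *
          CliffordAlgebra.contractLeft (Q := (0 : QuadraticForm R (Fin r → R))) d y)
  | 0, a, y => by
    rw [ExteriorAlgebra.ιMulti_zero_apply, one_mul, CliffordAlgebra.contractLeft_one, zero_mul,
      zero_add, pow_zero, one_smul, one_mul]
  | p + 1, a, y => by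
    rw [ExteriorAlgebra.ιMulti_succ_apply, mul_assoc, CliffordAlgebra.contractLeft_ι_mul,
      contractLeft_ιMulti_mul d p (Matrix.vecTail a) y, CliffordAlgebra.contractLeft_ι_mul]
    simp only [mul_add, sub_mul, smul_mul_assoc, mul_smul_comm, mul_assoc, pow_succ, mul_smul,
      neg_smul, one_smul, smul_neg]
    abel

variable (N : Type v) [AddCommGroup N] [Module R N]

lemma ssPairAux_tmul (β : N →ₗ[R] N →ₗ[R] R) (b b' : SSB R r) (n m : N) :
    ssPairAux R r N β ((b ⊗ₜ[R] n) ⊗ₜ[R] (b' ⊗ₜ[R] m)) = β n m • (b * b') := by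
  simp [ssPairAux]

lemma ssPair_tmul (β : N →ₗ[R] N →ₗ[R] R) (k : ℕ) (b b' : SSB R r) (n m : N) :
    ssPair R r N β k (b ⊗ₜ[R] n) (b' ⊗ₜ[R] m) =
      ((-1 : R) ^ (k.choose 2)) • (β n m • (b * b')) := by
  simp [ssPair, ssPairAux_tmul]

lemma ssDelta_tmul (φ : Fin r → (N →ₗ[R] N)) (ω : SSLam R r) (s : MvPolynomial (Fin r) R)
    (n : N) :
    ssDelta R r N φ ((ω ⊗ₜ[R] s) ⊗ₜ[R] n) =
      ∑ j : Fin r, (((ssContr R r j ω) ⊗ₜ[R] (MvPolynomial.X j * s)) ⊗ₜ[R] n -
        ((ssContr R r j ω) ⊗ₜ[R] s) ⊗ₜ[R] (φ j n)) := by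
  simp only [ssDelta, ssDKoszul, ssDAct, sub_eq_add_neg, LinearMap.coe_sum, Finset.sum_apply,
    LinearMap.add_apply, LinearMap.smul_apply, TensorProduct.map_tmul, LinearMap.id_apply,
    LinearMap.mulLeft_apply]
  refine Finset.sum_congr rfl (fun j _ => ?_)
  congr 1

lemma choose_two_succ_pow (k : ℕ) :
    (-1 : R) ^ ((k + 1).choose 2) = (-1 : R) ^ (k.choose 2) * (-1 : R) ^ k := by
  have : (k + 1).choose 2 = k.choose 2 + k := by
    rw [Nat.choose_succ_succ' k 1, Nat.choose_one_right, add_comm]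
  rw [this, pow_add]

/-- key sign rule: in top degree plus one, `ι_j ω ∧ η = (-1)^k ω ∧ ι_j η`. -/
lemma contr_mul_eq (k : ℕ) (hk : k < r) (j : Fin r) (e : Fin (k + 1) → (Fin r → R))
    (f : Fin (r - k) → (Fin r → R)) :
    ssContr R r j (ExteriorAlgebra.ιMulti R (k + 1) e) * ExteriorAlgebra.ιMulti R (r - k) f =
      (-1 : R) ^ k • (ExteriorAlgebra.ιMulti R (k + 1) e *
        ssContr R r j (ExteriorAlgebra.ιMulti R (r - k) f)) := by
  have h0 : ExteriorAlgebra.ιMulti R (k + 1) e * ExteriorAlgebra.ιMulti R (r - k) f = 0 := by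
    rw [ExteriorAlgebra.ιMulti_mul_ιMulti]
    exact ιMulti_eq_zero_of_lt R r (by omega) _
  have h1 := contractLeft_ιMulti_mul R r (LinearMap.proj (R := R) (φ := fun _ : Fin r => R) j)
    (k + 1) e (ExteriorAlgebra.ιMulti R (r - k) f)
  rw [h0, map_zero] at h1
  have h2 := eq_neg_of_add_eq_zero_left h1.symm
  unfold ssContr
  rw [h2, pow_succ, mul_smul, neg_one_smul, smul_neg, neg_neg]

theorem pair_delta_eq (φ : Fin r → (N →ₗ[R] N)) (β : N →ₗ[R] N →ₗ[R] R)
    (hβ : ∀ (j : Fin r) (n m : N), β (φ j n) m = β n (φ j m))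
    (k : ℕ) (hk : k < r)
    (e : Fin (k + 1) → (Fin r → R)) (f : Fin (r - k) → (Fin r → R))
    (s t : MvPolynomial (Fin r) R) (n m : N) :
    ssPair R r N β k
        (ssDelta R r N φ ((ExteriorAlgebra.ιMulti R (k + 1) e ⊗ₜ[R] s) ⊗ₜ[R] n))
        ((ExteriorAlgebra.ιMulti R (r - k) f ⊗ₜ[R] t) ⊗ₜ[R] m) =
      ssPair R r N β (k + 1)
        ((ExteriorAlgebra.ιMulti R (k + 1) e ⊗ₜ[R] s) ⊗ₜ[R] n)
        (ssDelta R r N φ ((ExteriorAlgebra.ιMulti R (r - k) f ⊗ₜ[R] t) ⊗ₜ[R] m)) := by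
  rw [ssDelta_tmul, ssDelta_tmul, map_sum, map_sum, LinearMap.sum_apply]
  refine Finset.sum_congr rfl (fun j _ => ?_)
  rw [map_sub, map_sub, LinearMap.sub_apply, ssPair_tmul, ssPair_tmul, ssPair_tmul, ssPair_tmul,
    Algebra.TensorProduct.tmul_mul_tmul, Algebra.TensorProduct.tmul_mul_tmul,
    Algebra.TensorProduct.tmul_mul_tmul, Algebra.TensorProduct.tmul_mul_tmul,
    contr_mul_eq R r k hk j e f, choose_two_succ_pow, hβ j n m]
  have hX : MvPolynomial.X j * s * t = s * (MvPolynomial.X j * t) := by ring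
  rw [hX]
  simp only [TensorProduct.smul_tmul', smul_smul, mul_comm, mul_left_comm, mul_assoc]

end Groth.Agent.Lib.T2H9.SchSt
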