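import Mathlib
import Groth.Agent.S5038
import Groth.Agent.Lib.Helper11KPts

/-!
# T2H9SecDense (helper9): over a strictly henselian discrete valuation ring, the sections of a smooth scheme
reduce to a dense subset of the closed fibre

Namespace `Groth.Agent.Lib.T2H9.SecDense`.
-/

set_option autoImplicit false
set_option linter.style.haveILetI false
universe u
open CategoryTheory CategoryTheory.Limits AlgebraicGeometry

namespace Groth.Agent.Lib.T2H9.SecDense

theorem main (R : Type u) [CommRing R] [IsDomain R]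
    [IsDiscreteValuationRing R] [HenselianLocalRing R] [IsAlgClosed (IsLocalRing.ResidueField R)]
    {X : Scheme.{u}} (p : X ⟶ Spec (CommRingCat.of R)) [Smooth p]
    (x : X) (hx : p.base x = IsLocalRing.closedPoint R) :
    x ∈ closure {y : X | ∃ s : Spec (CommRingCat.of R) ⟶ X, s ≫ p = 𝟙 _ ∧
      s.base (IsLocalRing.closedPoint R) = y} := by
  set ι := Spec.map (CommRingCat.ofHom (IsLocalRing.residue R)) with hι
  let pt : Spec (CommRingCat.of (IsLocalRing.ResidueField R)) :=
    (⊥ : PrimeSpectrum (IsLocalRing.ResidueField R))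
  have hpt : ι.base pt = IsLocalRing.closedPoint R :=
    IsLocalRing.PrimeSpectrum.comap_residue R pt
  obtain ⟨x', hx'1, hx'2⟩ := Scheme.Pullback.exists_preimage_pullback (f := p) (g := ι) x pt
    (hx.trans hpt.symm)
  rw [mem_closure_iff]
  intro W hW hxW
  let W' : (pullback p ι).Opens := (pullback.fst p ι) ⁻¹ᵁ ⟨W, hW⟩
  have hx'W : x' ∈ W' := by
    change (pullback.fst p ι).base x' ∈ W
    rw [hx'1]; exact hxW
  haveI : LocallyOfFiniteType (pullback.snd p ι) := inferInstance
  haveI : JacobsonSpace ↥(pullback p ι : Scheme.{u}) := LocallyOfFiniteType.jacobsonSpace (pullback.snd p ι)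
  obtain ⟨z', hz'W, hz'⟩ := nonempty_inter_closedPoints (X := ↥(pullback p ι : Scheme.{u})) ⟨x', hx'W⟩
    W'.2.isLocallyClosed
  obtain ⟨p₀, hp₀, hp₀z⟩ := Groth.Agent.Lib.Helper11KPts.exists_point_of_closedPoint
    (k := IsLocalRing.ResidueField R) (K := IsLocalRing.ResidueField R) (pullback.snd p ι) z' hz'
  have hid : Spec.map (CommRingCat.ofHom (algebraMap (IsLocalRing.ResidueField R)
      (IsLocalRing.ResidueField R))) = 𝟙 _ := by
    rw [Algebra.algebraMap_self]
    exact Spec.map_id _
  rw [hid] at hp₀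
  have h₀ : (p₀ ≫ pullback.fst p ι) ≫ p = ι := by
    rw [Category.assoc, pullback.condition, ← Category.assoc, hp₀, Category.id_comp]
  obtain ⟨u, hu1, hu2⟩ := Groth.Agent.S5038.result R p (p₀ ≫ pullback.fst p ι) h₀
  refine ⟨(pullback.fst p ι).base z', ?_, u, hu1, ?_⟩
  · exact hz'W
  · rw [← hpt]
    have := congrArg (fun f => f.base pt) hu2
    simp only [Scheme.Hom.comp_base, TopCat.comp_app] at this
    rw [this, hp₀z]

end Groth.Agent.Lib.T2H9.SecDense
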