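import Mathlib
import Groth.Prelude.Def_ModelsG
import Groth.Agent.Lib.Helper5RLR
import Groth.Agent.Lib.T2H4FibreComp
import Groth.Agent.Lib.T2H9ArInterC
import Groth.Agent.Lib.T2H9ArInterL

/-!
# T2H9SecSmooth (helper9): a section of an arithmetic surface meets the closed fibre in a smooth rational point
lying on exactly one component, of multiplicity one

Namespace `Groth.Agent.Lib.T2H9.SecSmooth`.
-/

set_option autoImplicit false
set_option backward.isDefEq.respectTransparency.types false
set_option linter.style.haveILetI false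
set_option linter.unusedSectionVars false
universe u
open IsLocalRing AlgebraicGeometry CategoryTheory

namespace Groth.Agent.Lib.T2H9.SecSmooth
open Groth.Agent.Lib.T2H4.FibreComp

section Alg
variable {R A : Type u} [CommRing R] [IsDomain R] [IsDiscreteValuationRing R] [CommRing A]
  [IsLocalRing A]
  (ρ : R →+* A) (τ : A →+* R) [IsLocalHom τ] (h : ∀ c, τ (ρ c) = c)

include h in
theorem ker_le_maximalIdeal (a : A) (ha : τ a = 0) : a ∈ maximalIdeal A := by
  rw [IsLocalRing.mem_maximalIdeal, mem_nonunits_iff]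
  intro hu
  have h1 : IsUnit (τ a) := hu.map τ
  rw [ha] at h1
  exact not_isUnit_zero h1

include h in
theorem residue_comp_surjective : Function.Surjective ((IsLocalRing.residue A).comp ρ) := by
  intro b
  obtain ⟨a, rfl⟩ := IsLocalRing.residue_surjective b
  refine ⟨τ a, ?_⟩
  rw [RingHom.comp_apply, ← sub_eq_zero, ← map_sub, IsLocalRing.residue_eq_zero_iff]
  apply ker_le_maximalIdeal ρ τ h
  rw [map_sub, h, sub_self]

include h in
theorem map_mem_maximalIdeal {ϖ : R} (hϖ : Irreducible ϖ) : ρ ϖ ∈ maximalIdeal A := by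
  rw [IsLocalRing.mem_maximalIdeal, mem_nonunits_iff]
  intro hu
  have h1 : IsUnit (τ (ρ ϖ)) := hu.map τ
  rw [h] at h1
  exact hϖ.not_isUnit h1

theorem map_maximalIdeal_le : Ideal.map τ (maximalIdeal A) ≤ maximalIdeal R := by
  rw [Ideal.map_le_iff_le_comap]
  intro a ha
  rw [Ideal.mem_comap, IsLocalRing.mem_maximalIdeal, mem_nonunits_iff]
  intro hu
  exact ha (isUnit_of_map_unit τ a hu)

include h in
theorem map_notMem_sq {ϖ : R} (hϖ : Irreducible ϖ) : ρ ϖ ∉ maximalIdeal A ^ 2 := by
  intro hmem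
  have h1 : τ (ρ ϖ) ∈ Ideal.map τ (maximalIdeal A ^ 2) := Ideal.mem_map_of_mem τ hmem
  rw [h, Ideal.map_pow] at h1
  have h2 : ϖ ∈ maximalIdeal R ^ 2 := Ideal.pow_right_mono (map_maximalIdeal_le τ) 2 h1
  rw [hϖ.maximalIdeal_eq, Ideal.span_singleton_pow, Ideal.mem_span_singleton] at h2
  obtain ⟨c, hc⟩ := h2
  have h3 : ϖ * 1 = ϖ * (ϖ * c) := by rw [mul_one]; rw [pow_two] at hc; rw [← mul_assoc]; exact hc
  have h4 := mul_left_cancel₀ hϖ.ne_zero h3
  exact hϖ.not_isUnit (IsUnit.of_mul_eq_one c h4.symm)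

theorem map_maximalIdeal_eq {ϖ : R} (hϖ : Irreducible ϖ) :
    Ideal.map ρ (maximalIdeal R) = Ideal.span {ρ ϖ} := by
  rw [hϖ.maximalIdeal_eq, Ideal.map_span, Set.image_singleton]

include h in
theorem isRegularLocalRing_quotient [IsRegularLocalRing A] :
    IsRegularLocalRing (A ⧸ Ideal.map ρ (maximalIdeal R)) := by
  obtain ⟨ϖ, hϖ⟩ := IsDiscreteValuationRing.exists_irreducible R
  rw [map_maximalIdeal_eq ρ hϖ]
  have hm := map_mem_maximalIdeal ρ τ h hϖ
  have hne : Ideal.span {ρ ϖ} ≠ ⊤ := by
    intro htop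
    have : Ideal.span {ρ ϖ} ≤ maximalIdeal A := by
      rw [Ideal.span_singleton_le_iff_mem]; exact hm
    rw [htop] at this
    exact (IsLocalRing.maximalIdeal.isMaximal A).ne_top (top_le_iff.mp this)
  haveI : Nontrivial (A ⧸ Ideal.span {ρ ϖ}) := Ideal.Quotient.nontrivial_iff.mpr hne
  haveI : IsLocalRing (A ⧸ Ideal.span {ρ ϖ}) :=
    IsLocalRing.of_surjective' (Ideal.Quotient.mk _) Ideal.Quotient.mk_surjective
  exact (Groth.Agent.Lib.Helper5.isRegularLocalRing_quotient_span_singleton hm
    (map_notMem_sq ρ τ h hϖ)).1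

end Alg

section Sch
variable (R : Type u) [CommRing R] [IsDomain R] [IsDiscreteValuationRing R]
  (X : Over (Spec (CommRingCat.of R)))
  (σ : Spec (CommRingCat.of R) ⟶ X.left) (hσ : σ ≫ X.hom = 𝟙 _)

include hσ in
theorem stalkClosedPointTo_stalkHom (c : R) :
    (Scheme.stalkClosedPointTo σ).hom
      (Models.stalkHom R X (σ.base (IsLocalRing.closedPoint R)) c) = c := by
  have h3 : ∀ y : Γ(X.left, ⊤), (Scheme.stalkClosedPointTo σ).hom
      ((X.left.presheaf.germ ⊤ (σ.base (IsLocalRing.closedPoint R)) trivial).hom y) =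
      (Scheme.ΓSpecIso (CommRingCat.of R)).hom.hom (σ.appTop.hom y) := by
    intro y
    change ((stalkClosedPointIso (CommRingCat.of R)).hom).hom
      ((σ.stalkMap (IsLocalRing.closedPoint R)).hom
        ((X.left.presheaf.germ ⊤ (σ.base (IsLocalRing.closedPoint R)) trivial).hom y)) = _
    rw [Scheme.Hom.germ_stalkMap_apply]
    change (((Spec (CommRingCat.of R)).presheaf.germ ⊤ (IsLocalRing.closedPoint R) trivial ≫
      (stalkClosedPointIso (CommRingCat.of R)).hom)).hom (σ.appTop.hom y) = _
    rw [germ_stalkClosedPointIso_hom]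
  have h4 : σ.appTop.hom (Coh.toGlobal X.hom c) =
      (Scheme.ΓSpecIso (CommRingCat.of R)).inv.hom c := by
    change (X.hom.appTop ≫ σ.appTop).hom
      ((Scheme.ΓSpecIso (CommRingCat.of R)).inv.hom c) = _
    rw [← Scheme.Hom.comp_appTop, hσ]
    rfl
  change (Scheme.stalkClosedPointTo σ).hom
    ((X.left.presheaf.germ ⊤ (σ.base (IsLocalRing.closedPoint R)) trivial).hom
      (Coh.toGlobal X.hom c)) = c
  rw [h3, h4]
  change ((Scheme.ΓSpecIso (CommRingCat.of R)).inv ≫ (Scheme.ΓSpecIso (CommRingCat.of R)).hom).hom c = c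
  rw [Iso.inv_hom_id]
  rfl

end Sch

section Main
variable {R : Type u} [CommRing R] [IsDomain R] [IsDiscreteValuationRing R]
  {X : Over (Spec (CommRingCat.of R))}

/-- the local equation of the closed fibre at `p` is the product of the local ideals of the components -/
theorem map_stalkHom_eq_prod [IsLocallyNoetherian X.left] [CompactSpace X.left] [Flat X.hom]
    (hreg : Models.IsRegularScheme X.left)
    {n : ℕ} (Γ : Fin n → ArSurf.VertComp R X) (hΓ : Models.IsComponentList R X Γ)
    (U : X.left.affineOpens) (p : X.left) (hpU : p ∈ U.1) :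
    (IsLocalRing.maximalIdeal R).map (Models.stalkHom R X p) =
      ∏ i, (((Γ i).ι.ker.ideal U).map (X.left.presheaf.germ U.1 p hpU).hom) ^
        Models.mult R X (Γ i) := by
  obtain ⟨-, hprod⟩ := specialFibreIdeal_eq_prod hreg Γ hΓ
  rw [map_stalkHom_eq U p hpU, hprod,
    Groth.Agent.Lib.T2H4.EffCartProd.ideal_prod_pow Finset.univ,
    Groth.Agent.Lib.T2H4.EffCartProd.ideal_map_prod_pow]

theorem map_germ_ker_le (Γ : ArSurf.VertComp R X) (U : X.left.affineOpens) (p : X.left)
    (hpU : p ∈ U.1) (hp : p ∈ Set.range (Γ.ι.base : Γ.curve.left → X.left)) :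
    (Γ.ι.ker.ideal U).map (X.left.presheaf.germ U.1 p hpU).hom ≤
      IsLocalRing.maximalIdeal (X.left.presheaf.stalk p) := by
  have h1 : p ∈ Γ.ι.ker.support := by
    rw [← SetLike.mem_coe, coe_support_ker]; exact hp
  have h2 := (Groth.Agent.Lib.T2H4.EffCartProd.mem_support_iff_le_primeIdealOf Γ.ι.ker U p hpU).1 h1
  rw [← map_germ_primeIdealOf U p hpU]
  exact Ideal.map_mono h2

theorem map_germ_ker_eq_top (Γ : ArSurf.VertComp R X) (U : X.left.affineOpens) (p : X.left)
    (hpU : p ∈ U.1) (hp : p ∉ Set.range (Γ.ι.base : Γ.curve.left → X.left)) :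
    (Γ.ι.ker.ideal U).map (X.left.presheaf.germ U.1 p hpU).hom = ⊤ := by
  apply map_germ_eq_top
  intro h1
  rw [← SetLike.mem_coe, coe_support_ker] at h1
  exact hp h1

open Classical in
theorem map_stalkHom_le_pow [IsLocallyNoetherian X.left] [CompactSpace X.left] [Flat X.hom]
    (hreg : Models.IsRegularScheme X.left)
    {n : ℕ} (Γ : Fin n → ArSurf.VertComp R X) (hΓ : Models.IsComponentList R X Γ)
    (p : X.left) :
    (IsLocalRing.maximalIdeal R).map (Models.stalkHom R X p) ≤
      IsLocalRing.maximalIdeal (X.left.presheaf.stalk p) ^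
        (∑ i, if p ∈ Set.range ((Γ i).ι.base : (Γ i).curve.left → X.left) then
          Models.mult R X (Γ i) else 0) := by
  obtain ⟨U₀, hU₀, hpU, -⟩ := exists_isAffineOpen_mem_and_subset (x := p) (U := ⊤) trivial
  let U : X.left.affineOpens := ⟨U₀, hU₀⟩
  rw [map_stalkHom_eq_prod hreg Γ hΓ U p hpU, ← Finset.prod_pow_eq_pow_sum]
  apply Finset.prod_le_prod
  · intro i _; exact bot_le
  · intro i _
    by_cases hp : p ∈ Set.range ((Γ i).ι.base : (Γ i).curve.left → X.left)
    · rw [if_pos hp]
      exact Ideal.pow_right_mono (map_germ_ker_le (Γ i) U p hpU hp) _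
    · rw [if_neg hp, pow_zero, Ideal.one_eq_top]
      exact le_top

open Classical in
/-- **a section of an arithmetic surface meets the closed fibre in a smooth rational point on exactly one
component, which has multiplicity one** -/
theorem main (hX : ArSurf.IsArithSurface R X) {n : ℕ} (Γ : Fin n → ArSurf.VertComp R X)
    (hΓ : Models.IsComponentList R X Γ)
    (σ : Spec (CommRingCat.of R) ⟶ X.left) (hσ : σ ≫ X.hom = 𝟙 _) :
    Function.Surjective ((X.left.residue (σ.base (IsLocalRing.closedPoint R))).hom.comp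
        (Models.stalkHom R X (σ.base (IsLocalRing.closedPoint R)))) ∧
      IsRegularLocalRing (X.left.presheaf.stalk (σ.base (IsLocalRing.closedPoint R)) ⧸
        Ideal.map (Models.stalkHom R X (σ.base (IsLocalRing.closedPoint R)))
          (IsLocalRing.maximalIdeal R)) ∧
      (∃! i : Fin n, σ.base (IsLocalRing.closedPoint R) ∈
        Set.range ((Γ i).ι.base : (Γ i).curve.left → X.left)) ∧
      ∀ i : Fin n, σ.base (IsLocalRing.closedPoint R) ∈
        Set.range ((Γ i).ι.base : (Γ i).curve.left → X.left) →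
        Models.mult R X (Γ i) = 1 := by
  haveI : IsProper X.hom := Groth.Agent.Lib.T2H9.ArInterC.isProper_of_isArithSurface hX
  haveI : Flat X.hom := hX.2.2.2.1
  haveI : IsLocallyNoetherian X.left := Groth.Agent.Lib.T2H9.ArInterC.isLocallyNoetherian_of_isProper
  haveI : CompactSpace X.left := QuasiCompact.compactSpace_of_compactSpace X.hom
  have hreg : Models.IsRegularScheme X.left := hX.1
  haveI hA : IsRegularLocalRing (X.left.presheaf.stalk (σ.base (IsLocalRing.closedPoint R))) :=
    hX.1 _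
  have h := stalkClosedPointTo_stalkHom R X σ hσ
  refine ⟨residue_comp_surjective _ (Scheme.stalkClosedPointTo σ).hom h,
    isRegularLocalRing_quotient _ (Scheme.stalkClosedPointTo σ).hom h, ?_⟩
  have hle := map_stalkHom_le_pow hreg Γ hΓ (σ.base (IsLocalRing.closedPoint R))
  have hpos : ∀ i, 0 < Models.mult R X (Γ i) :=
    Groth.Agent.Lib.T2H9.ArInterL.mult_pos hreg Γ hΓ
  have hsum : (∑ i, if σ.base (IsLocalRing.closedPoint R) ∈
      Set.range ((Γ i).ι.base : (Γ i).curve.left → X.left) then
        Models.mult R X (Γ i) else 0) ≤ 1 := by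
    by_contra hcon
    rw [not_le] at hcon
    obtain ⟨ϖ, hϖ⟩ := IsDiscreteValuationRing.exists_irreducible R
    have hmem : ϖ ∈ IsLocalRing.maximalIdeal R := by
      rw [hϖ.maximalIdeal_eq]; exact Ideal.mem_span_singleton_self _
    have h1 := hle (Ideal.mem_map_of_mem _ hmem)
    exact map_notMem_sq _ (Scheme.stalkClosedPointTo σ).hom h hϖ
      (Ideal.pow_le_pow_right hcon h1)
  have hone : ∀ i : Fin n, σ.base (IsLocalRing.closedPoint R) ∈
      Set.range ((Γ i).ι.base : (Γ i).curve.left → X.left) → Models.mult R X (Γ i) = 1 := by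
    intro i hi
    have h1 := Finset.single_le_sum (f := fun i => if σ.base (IsLocalRing.closedPoint R) ∈
      Set.range ((Γ i).ι.base : (Γ i).curve.left → X.left) then
        Models.mult R X (Γ i) else 0) (fun _ _ => Nat.zero_le _) (Finset.mem_univ i)
    simp only [if_pos hi] at h1
    have h2 := hpos i
    omega
  refine ⟨?_, hone⟩
  have hp : σ.base (IsLocalRing.closedPoint R) ∈ Models.specialFibreSet R X := by
    have h0 : X.hom.base (σ.base (IsLocalRing.closedPoint R)) = IsLocalRing.closedPoint R := by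
      have := congrArg (fun f => f.base (IsLocalRing.closedPoint R)) hσ
      simpa using this
    exact h0
  obtain ⟨Z, hZ, hpZ⟩ := exists_component_mem _ hp
  rw [← hΓ.2] at hZ
  obtain ⟨i, rfl⟩ := hZ
  refine ⟨i, hpZ, ?_⟩
  intro j hj
  by_contra hji
  have h1 := Finset.sum_le_sum_of_subset (f := fun i => if σ.base (IsLocalRing.closedPoint R) ∈
      Set.range ((Γ i).ι.base : (Γ i).curve.left → X.left) then
        Models.mult R X (Γ i) else 0) (Finset.subset_univ {j, i})
  rw [Finset.sum_pair hji] at h1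
  simp only [if_pos hj, if_pos hpZ] at h1
  have h2 := hpos i
  have h3 := hpos j
  omega

end Main
end Groth.Agent.Lib.T2H9.SecSmooth
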