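import Mathlib

/-!
# Parameters inside an ideal of a semi-local Noetherian ring (helper9)
-/

set_option autoImplicit false
set_option linter.style.haveILetI false
set_option linter.unusedSectionVars false
universe u

namespace Groth.Agent.Lib.T2H9.SemiLocParam

variable {A : Type u} [CommRing A] [IsNoetherianRing A]

/-- invariant: every minimal prime of `J` is maximal or has height `≥ N`. -/
def Inv (J : Ideal A) (N : ℕ∞) : Prop := ∀ Q ∈ J.minimalPrimes, Q.IsMaximal ∨ N ≤ Q.height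

theorem min_succ_le (i : ℕ) (H : ℕ∞) : min ((i + 1 : ℕ) : ℕ∞) H ≤ min (i : ℕ∞) H + 1 := by
  induction H using ENat.recTopCoe with
  | top => simp
  | coe n =>
    rcases Nat.lt_or_ge i n with h | h
    · rw [min_eq_left (by exact_mod_cast h : ((i + 1 : ℕ) : ℕ∞) ≤ n),
        min_eq_left (by exact_mod_cast h.le : (i : ℕ∞) ≤ n)]
      push_cast
      rfl
    · rw [min_eq_right (by exact_mod_cast (by omega : n ≤ i + 1) : (n : ℕ∞) ≤ ((i + 1 : ℕ) : ℕ∞)),
        min_eq_right (by exact_mod_cast h : (n : ℕ∞) ≤ i)]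
      exact le_self_add

theorem step (b : Ideal A) (H : ℕ∞)
    (hb : ∀ Q : Ideal A, Q.IsPrime → b ≤ Q → Q.IsMaximal ∨ H ≤ Q.height)
    (J : Ideal A) (i : ℕ) (hJ : Inv J (min (i : ℕ∞) H)) :
    ∃ x ∈ b, Inv (J ⊔ Ideal.span {x}) (min ((i + 1 : ℕ) : ℕ∞) H) := by
  classical
  have hfin : {Q ∈ J.minimalPrimes | ¬ b ≤ Q}.Finite :=
    (Ideal.finite_minimalPrimes_of_isNoetherianRing A J).subset fun Q h => h.1
  obtain ⟨x, hxb, hx⟩ : ∃ x ∈ b, ∀ Q ∈ J.minimalPrimes, ¬ b ≤ Q → x ∉ Q := by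
    by_contra hcon
    push Not at hcon
    have hsub : (b : Set A) ⊆ ⋃ Q ∈ (hfin.toFinset : Set (Ideal A)), ((fun Q : Ideal A => Q) Q : Set A) := by
      intro x hx
      obtain ⟨Q, hQ, hbQ, hxQ⟩ := hcon x hx
      refine Set.mem_biUnion (x := Q) ?_ hxQ
      simp only [Finset.mem_coe, Set.Finite.mem_toFinset]
      exact ⟨hQ, hbQ⟩
    rw [Ideal.subset_union_prime (⊤ : Ideal A) ⊤ (fun Q hQ _ _ => by
      rw [Set.Finite.mem_toFinset] at hQ
      exact hQ.1.1.1)] at hsub
    obtain ⟨Q, hQs, hbQ⟩ := hsub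
    rw [Set.Finite.mem_toFinset] at hQs
    exact hQs.2 hbQ
  refine ⟨x, hxb, fun Q hQ => ?_⟩
  haveI hQp : Q.IsPrime := hQ.1.1
  have hJQ : J ≤ Q := le_sup_left.trans hQ.1.2
  have hxQ : x ∈ Q := hQ.1.2 (Ideal.mem_sup_right (Ideal.mem_span_singleton_self x))
  by_cases hbQ : b ≤ Q
  · rcases hb Q hQp hbQ with h | h
    · exact Or.inl h
    · exact Or.inr ((min_le_right _ _).trans h)
  · obtain ⟨Q', hQ', hQ'Q⟩ := Ideal.exists_minimalPrimes_le hJQ
    haveI : Q'.IsPrime := hQ'.1.1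
    have hbQ' : ¬ b ≤ Q' := fun h => hbQ (h.trans hQ'Q)
    have hxQ' : x ∉ Q' := hx Q' hQ' hbQ'
    have hlt : Q' < Q := lt_of_le_of_ne hQ'Q (fun h => hxQ' (h ▸ hxQ))
    rcases hJ Q' hQ' with h | h
    · exact absurd (h.eq_of_le hQp.ne_top hQ'Q) hlt.ne
    · right
      have h1 := Ideal.height_add_one_le_of_lt_of_isPrime hlt
      calc min ((i + 1 : ℕ) : ℕ∞) H ≤ min (i : ℕ∞) H + 1 := min_succ_le i H
        _ ≤ Q'.height + 1 := by gcongr
        _ ≤ Q.height := h1

theorem iterate (b : Ideal A) (H : ℕ∞)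
    (hb : ∀ Q : Ideal A, Q.IsPrime → b ≤ Q → Q.IsMaximal ∨ H ≤ Q.height) :
    ∀ (n : ℕ) (J : Ideal A) (i : ℕ), Inv J (min (i : ℕ∞) H) →
      ∃ x : Fin n → A, (∀ k, x k ∈ b) ∧
        Inv (J ⊔ Ideal.span (Set.range x)) (min ((i + n : ℕ) : ℕ∞) H) := by
  intro n
  induction n with
  | zero =>
    intro J i hJ
    refine ⟨Fin.elim0, fun k => k.elim0, ?_⟩
    have : Set.range (Fin.elim0 : Fin 0 → A) = ∅ := Set.range_eq_empty _
    rw [this, Ideal.span_empty, sup_bot_eq]
    simpa using hJ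
  | succ n ih =>
    intro J i hJ
    obtain ⟨y, hyb, hy⟩ := step b H hb J i hJ
    obtain ⟨x, hxb, hx⟩ := ih (J ⊔ Ideal.span {y}) (i + 1) hy
    refine ⟨Fin.cons y x, ?_, ?_⟩
    · intro k
      refine Fin.cases ?_ (fun j => ?_) k
      · simpa using hyb
      · simpa using hxb j
    · rw [Fin.range_cons, Ideal.span_insert, ← sup_assoc]
      have : i + 1 + n = i + (n + 1) := by omega
      rw [← this]
      exact hx

/-- in a semi-local ring, primes containing the Jacobson radical are maximal. -/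
theorem isMaximal_of_jacobson_le [Finite (MaximalSpectrum A)] (Q : Ideal A) [hQ : Q.IsPrime]
    (h : Ring.jacobson A ≤ Q) : Q.IsMaximal := by
  classical
  have hfin : {I : Ideal A | I.IsMaximal}.Finite := by
    have : {I : Ideal A | I.IsMaximal} = Set.range (MaximalSpectrum.asIdeal (R := A)) := by
      ext I
      constructor
      · intro hI; exact ⟨⟨I, hI⟩, rfl⟩
      · rintro ⟨m, rfl⟩; exact m.2
    rw [this]
    exact Set.finite_range _
  rw [Ring.jacobson_eq_sInf_isMaximal] at h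
  have h' : hfin.toFinset.inf (fun I : Ideal A => I) ≤ Q := by
    have : hfin.toFinset.inf (fun I : Ideal A => I) = sInf {I : Ideal A | I.IsMaximal} := by
      rw [show (fun I : Ideal A => I) = id from rfl, Finset.inf_id_eq_sInf, Set.Finite.coe_toFinset]
    rw [this]; exact h
  rw [Ideal.IsPrime.inf_le' hQ] at h'
  obtain ⟨m, hm, hmQ⟩ := h'
  rw [Set.Finite.mem_toFinset] at hm
  have hm' : m.IsMaximal := hm
  rw [← hm'.eq_of_le hQ.ne_top hmQ]
  exact hm'

theorem finiteRingKrullDim [Finite (MaximalSpectrum A)] [Nontrivial A] : FiniteRingKrullDim A := by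
  classical
  have hfin : {I : Ideal A | I.IsMaximal}.Finite := by
    have : {I : Ideal A | I.IsMaximal} = Set.range (MaximalSpectrum.asIdeal (R := A)) := by
      ext I
      constructor
      · intro hI; exact ⟨⟨I, hI⟩, rfl⟩
      · rintro ⟨m, rfl⟩; exact m.2
    rw [this]
    exact Set.finite_range _
  rw [finiteRingKrullDim_iff_ne_bot_and_top]
  refine ⟨fun h => by
    have := ringKrullDim_nonneg_of_nontrivial (R := A)
    rw [h] at this
    simp at this, ?_⟩
  have hsup : hfin.toFinset.sup (fun m : Ideal A => m.height) < ⊤ := by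
    rw [Finset.sup_lt_iff (by simp)]
    intro m hm
    rw [Set.Finite.mem_toFinset] at hm
    have hm' : m.IsMaximal := hm
    exact Ideal.height_lt_top hm'.ne_top
  have hle : ringKrullDim A ≤ ((hfin.toFinset.sup (fun m : Ideal A => m.height) : ℕ∞) : WithBot ℕ∞) := by
    rw [ringKrullDim_le_iff_isMaximal_height_le]
    intro m hm
    have : m.height ≤ hfin.toFinset.sup (fun m : Ideal A => m.height) :=
      Finset.le_sup (f := fun m : Ideal A => m.height) (by rw [Set.Finite.mem_toFinset]; exact hm)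
    exact_mod_cast this
  intro htop
  rw [htop, top_le_iff] at hle
  have : ((hfin.toFinset.sup (fun m : Ideal A => m.height) : ℕ∞) : WithBot ℕ∞) ≠ ⊤ := by
    intro h
    have h2 : (hfin.toFinset.sup (fun m : Ideal A => m.height) : ℕ∞) = ⊤ := by
      exact_mod_cast h
    exact hsup.ne h2
  exact this hle

theorem main (A : Type u) [CommRing A] [IsNoetherianRing A]
    [Finite (MaximalSpectrum A)] (a : Ideal A) (ha : a ≠ ⊤) (h : ℕ) (hh : a.height = h) :
    ∃ x : Fin h → A, (∀ i, x i ∈ a) ∧ (∀ i, x i ∈ Ring.jacobson A) ∧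
      (∃ ys : List A, (∀ y ∈ ys, y ∈ Ring.jacobson A) ∧
        (((h + ys.length : ℕ) : ℕ∞) : WithBot ℕ∞) = ringKrullDim A ∧
        IsFiniteLength A (A ⧸ (Ideal.span (Set.range x) ⊔ Ideal.ofList ys))) ∧
      (a.map (Ideal.Quotient.mk (Ideal.span (Set.range x)))).height = 0 := by
  classical
  haveI : Nontrivial A := by
    by_contra hn
    rw [not_nontrivial_iff_subsingleton] at hn
    exact ha (Subsingleton.elim _ _)
  haveI := finiteRingKrullDim (A := A)
  obtain ⟨d, hd⟩ : ∃ d : ℕ, ringKrullDim A = (d : WithBot ℕ∞) := by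
    have h1 : ringKrullDim A ≠ ⊥ := ringKrullDim_ne_bot
    have h2 : ringKrullDim A ≠ ⊤ := ringKrullDim_ne_top
    obtain ⟨e, he⟩ := WithBot.ne_bot_iff_exists.mp h1
    have h3 : e ≠ ⊤ := by
      intro h; rw [h] at he; exact h2 he.symm
    obtain ⟨d, hd⟩ := ENat.ne_top_iff_exists.mp h3
    exact ⟨d, by rw [← he, ← hd]; rfl⟩
  have hhd : h ≤ d := by
    have h1 := Ideal.height_le_ringKrullDim_of_ne_top ha
    rw [hh, hd] at h1
    exact_mod_cast h1
  -- first stage
  have hb₁ : ∀ Q : Ideal A, Q.IsPrime → a ⊓ Ring.jacobson A ≤ Q → Q.IsMaximal ∨ (h : ℕ∞) ≤ Q.height := by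
    intro Q hQ hle
    rcases (Ideal.IsPrime.inf_le hQ).mp hle with h1 | h1
    · right; rw [← hh]; exact Ideal.height_mono h1
    · left; exact isMaximal_of_jacobson_le Q h1
  have hInv0 : Inv (⊥ : Ideal A) (min ((0 : ℕ) : ℕ∞) (h : ℕ∞)) := by
    intro Q _
    right
    simp
  obtain ⟨x, hxb, hx⟩ := iterate (a ⊓ Ring.jacobson A) h hb₁ h ⊥ 0 hInv0
  rw [bot_sup_eq, zero_add, min_self] at hx
  -- second stage
  have hb₂ : ∀ Q : Ideal A, Q.IsPrime → Ring.jacobson A ≤ Q → Q.IsMaximal ∨ (⊤ : ℕ∞) ≤ Q.height :=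
    fun Q hQ hle => Or.inl (isMaximal_of_jacobson_le Q hle)
  have hx' : Inv (Ideal.span (Set.range x)) (min ((h : ℕ) : ℕ∞) ⊤) := by
    rw [min_eq_left le_top]; exact hx
  obtain ⟨y, hyb, hy⟩ := iterate (Ring.jacobson A) ⊤ hb₂ (d - h) (Ideal.span (Set.range x)) h hx'
  rw [min_eq_left le_top, show h + (d - h) = d by omega] at hy
  refine ⟨x, fun i => (hxb i).1, fun i => (hxb i).2, ⟨List.ofFn y, ?_, ?_, ?_⟩, ?_⟩
  · intro z hz
    rw [List.mem_ofFn'] at hz
    obtain ⟨k, rfl⟩ := hz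
    exact hyb k
  · rw [List.length_ofFn, hd, show h + (d - h) = d by omega]
    rfl
  · have hofList : Ideal.ofList (List.ofFn y) = Ideal.span (Set.range y) := by
      rw [Ideal.ofList]
      congr 1
      ext z
      exact List.mem_ofFn' y z
    rw [hofList]
    set K := Ideal.span (Set.range x) ⊔ Ideal.span (Set.range y) with hK
    -- every minimal prime of K is maximal
    have hKmax : ∀ Q ∈ K.minimalPrimes, Q.IsMaximal := by
      intro Q hQ
      haveI : Q.IsPrime := hQ.1.1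
      rcases hy Q hQ with h1 | h1
      · exact h1
      · apply Ideal.isMaximal_of_height_eq_ringKrullDim
        apply le_antisymm Ideal.height_le_ringKrullDim_of_isPrime
        rw [hd]
        exact_mod_cast h1
    haveI : Ring.KrullDimLE 0 (A ⧸ K) := by
      rw [Ring.krullDimLE_zero_iff_forall_minimalPrimes_isMaximal]
      intro I hI
      haveI : I.IsPrime := hI.1.1
      have h1 : I.comap (Ideal.Quotient.mk K) ∈ K.minimalPrimes := by
        rw [Ideal.minimalPrimes_eq_comap]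
        exact Set.mem_image_of_mem _ hI
      have h2 := hKmax _ h1
      have h3 := Ideal.map_eq_top_or_isMaximal_of_surjective (Ideal.Quotient.mk K)
        Ideal.Quotient.mk_surjective h2
      rw [Ideal.map_comap_of_surjective _ Ideal.Quotient.mk_surjective] at h3
      rcases h3 with h3 | h3
      · exact absurd h3 (Ideal.IsPrime.ne_top ‹_›)
      · exact h3
    haveI : IsArtinianRing (A ⧸ K) := isArtinianRing_iff_krullDimLE_zero.mpr inferInstance
    haveI : IsArtinian A (A ⧸ K) :=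
      isArtinian_of_surjective_algebraMap (R := A ⧸ K) (S := A) (M := A ⧸ K)
        Ideal.Quotient.mk_surjective
    rw [isFiniteLength_iff_isNoetherian_isArtinian]
    exact ⟨inferInstance, inferInstance⟩
  · obtain ⟨P, hP, haP, hPh⟩ := Ideal.exists_isPrime_height_eq hh
    set J := Ideal.span (Set.range x) with hJ
    have hJP : J ≤ P := by
      rw [hJ, Ideal.span_le]
      rintro _ ⟨k, rfl⟩
      exact haP (hxb k).1
    obtain ⟨Q, hQ, hQP⟩ := Ideal.exists_minimalPrimes_le hJP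
    haveI : Q.IsPrime := hQ.1.1
    have hQeq : Q = P := by
      rcases hx Q hQ with h1 | h1
      · exact h1.eq_of_le hP.ne_top hQP
      · exact Ideal.eq_of_le_of_height_le Q hQP (hPh.le.trans h1)
    rw [hQeq, Ideal.minimalPrimes_eq_comap] at hQ
    obtain ⟨Qb, hQb, hQbP⟩ := hQ
    haveI : Qb.IsPrime := hQb.1.1
    have hle : a.map (Ideal.Quotient.mk J) ≤ Qb := by
      rw [Ideal.map_le_iff_le_comap, hQbP]
      exact haP
    have h0 : Qb.height = 0 := Ideal.height_eq_zero_iff.mpr hQb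
    exact le_antisymm (h0 ▸ Ideal.height_mono hle) zero_le

end Groth.Agent.Lib.T2H9.SemiLocParam
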