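import Mathlib

/-!
# Closed points with separable residue field on étale algebras over polynomial rings (helper9)
-/

set_option autoImplicit false
set_option linter.style.haveILetI false
set_option linter.unusedSectionVars false
universe u

namespace Groth.Agent.Lib.T2H9.SepPts

open MvPolynomial

/-- points of affine space with finite separable residue field avoiding a hypersurface -/
theorem exists_maximal_notMem (k : Type u) [Field k] (n : ℕ) (h : MvPolynomial (Fin n) k)
    (hh : h ≠ 0) :
    ∃ m : Ideal (MvPolynomial (Fin n) k), m.IsMaximal ∧ h ∉ m ∧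
      Module.Finite k (MvPolynomial (Fin n) k ⧸ m) ∧
      Algebra.IsSeparable k (MvPolynomial (Fin n) k ⧸ m) := by
  classical
  by_cases hk : Infinite k
  · -- a rational point
    obtain ⟨a, ha⟩ : ∃ a : Fin n → k, MvPolynomial.eval a h ≠ 0 := by
      by_contra hcon
      push Not at hcon
      exact hh (MvPolynomial.funext fun x => by rw [hcon x, map_zero])
    have hsurj : Function.Surjective (MvPolynomial.aeval a : MvPolynomial (Fin n) k →ₐ[k] k) := by
      intro c
      exact ⟨C c, by simp⟩
    let m : Ideal (MvPolynomial (Fin n) k) :=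
      RingHom.ker (MvPolynomial.aeval a : MvPolynomial (Fin n) k →ₐ[k] k)
    have hm : m.IsMaximal := RingHom.ker_isMaximal_of_surjective _ hsurj
    let e : (MvPolynomial (Fin n) k ⧸ m) ≃ₐ[k] k :=
      Ideal.quotientKerAlgEquivOfSurjective hsurj
    refine ⟨m, hm, ?_, ?_, ?_⟩
    · intro hmem
      apply ha
      have : (MvPolynomial.aeval a : MvPolynomial (Fin n) k →ₐ[k] k) h = 0 := hmem
      rwa [MvPolynomial.aeval_eq_eval] at this
    · exact Module.Finite.equiv e.symm.toLinearEquiv
    · letI := Ideal.Quotient.field m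
      exact AlgEquiv.Algebra.isSeparable e.symm
  · haveI : Finite k := not_infinite_iff_finite.mp hk
    have hjac : (⊥ : Ideal (MvPolynomial (Fin n) k)).jacobson = ⊥ :=
      IsJacobsonRing.out inferInstance (Ideal.isRadical_bot)
    have hnot : h ∉ (⊥ : Ideal (MvPolynomial (Fin n) k)).jacobson := by
      rw [hjac]; exact hh
    rw [Ideal.jacobson, Ideal.mem_sInf] at hnot
    push Not at hnot
    obtain ⟨m, ⟨-, hm⟩, hhm⟩ := hnot
    letI := Ideal.Quotient.field m
    haveI : Module.Finite k (MvPolynomial (Fin n) k ⧸ m) :=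
      finite_of_finite_type_of_isJacobsonRing k (MvPolynomial (Fin n) k ⧸ m)
    refine ⟨m, hm, hhm, inferInstance, ?_⟩
    exact Algebra.IsAlgebraic.isSeparable_of_perfectField

/-- an étale algebra over a polynomial ring over a field has, in every nonempty basic open, a
maximal ideal with finite separable residue field -/
theorem exists_maximal_finite_separable (k : Type u) [Field k] (n : ℕ) (B : Type u) [CommRing B]
    [Algebra k B] [Algebra (MvPolynomial (Fin n) k) B] [IsScalarTower k (MvPolynomial (Fin n) k) B]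
    [Algebra.Etale (MvPolynomial (Fin n) k) B] (x₀ : PrimeSpectrum B) (b : B)
    (hb : b ∉ x₀.asIdeal) :
    ∃ q : Ideal B, q.IsMaximal ∧ b ∉ q ∧ Module.Finite k (B ⧸ q) ∧
      Algebra.IsSeparable k (B ⧸ q) := by
  classical
  have hopen : IsOpenMap (PrimeSpectrum.comap (algebraMap (MvPolynomial (Fin n) k) B)) :=
    PrimeSpectrum.isOpenMap_comap_of_hasGoingDown_of_finitePresentation
  have hO : IsOpen (PrimeSpectrum.comap (algebraMap (MvPolynomial (Fin n) k) B) ''
      (PrimeSpectrum.basicOpen b : Set (PrimeSpectrum B))) :=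
    hopen _ (PrimeSpectrum.basicOpen b).isOpen
  have hx₀ : PrimeSpectrum.comap (algebraMap (MvPolynomial (Fin n) k) B) x₀ ∈
      PrimeSpectrum.comap (algebraMap (MvPolynomial (Fin n) k) B) ''
        (PrimeSpectrum.basicOpen b : Set (PrimeSpectrum B)) := ⟨x₀, hb, rfl⟩
  obtain ⟨_, ⟨h, rfl⟩, hx₀h, hsub⟩ :=
    PrimeSpectrum.isTopologicalBasis_basic_opens.exists_subset_of_mem_open hx₀ hO
  have hh : h ≠ 0 := by
    rintro rfl
    exact hx₀h (zero_mem _)
  obtain ⟨m, hm, hhm, hfin, hsep⟩ := exists_maximal_notMem k n h hh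
  obtain ⟨q₀, hq₀b, hq₀m⟩ := hsub (show (⟨m, hm.isPrime⟩ : PrimeSpectrum (MvPolynomial (Fin n) k)) ∈
    (PrimeSpectrum.basicOpen h : Set _) from hhm)
  haveI : q₀.asIdeal.LiesOver m := ⟨by
    have := congrArg PrimeSpectrum.asIdeal hq₀m
    exact this.symm⟩
  letI := Ideal.Quotient.field m
  haveI : Algebra.FormallyUnramified (MvPolynomial (Fin n) k) (B ⧸ q₀.asIdeal) :=
    Algebra.FormallyUnramified.of_surjective
      (Ideal.Quotient.mkₐ (MvPolynomial (Fin n) k) q₀.asIdeal) Ideal.Quotient.mk_surjective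
  haveI : Algebra.FormallyUnramified (MvPolynomial (Fin n) k ⧸ m) (B ⧸ q₀.asIdeal) :=
    Algebra.FormallyUnramified.of_restrictScalars (MvPolynomial (Fin n) k) _ _
  haveI : Algebra.FiniteType (MvPolynomial (Fin n) k) (B ⧸ q₀.asIdeal) :=
    Algebra.FiniteType.of_surjective
      (Ideal.Quotient.mkₐ (MvPolynomial (Fin n) k) q₀.asIdeal) Ideal.Quotient.mk_surjective
  haveI : Algebra.FiniteType (MvPolynomial (Fin n) k ⧸ m) (B ⧸ q₀.asIdeal) :=
    Algebra.FiniteType.of_restrictScalars_finiteType (MvPolynomial (Fin n) k) _ _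
  haveI : Module.Finite (MvPolynomial (Fin n) k ⧸ m) (B ⧸ q₀.asIdeal) :=
    Algebra.FormallyUnramified.finite_of_free _ _
  haveI : IsDomain (B ⧸ q₀.asIdeal) := Ideal.Quotient.isDomain _
  have hfield : IsField (B ⧸ q₀.asIdeal) :=
    isField_of_isIntegral_of_isField' (R := MvPolynomial (Fin n) k ⧸ m) (Field.toIsField _)
  have hmax : q₀.asIdeal.IsMaximal := Ideal.Quotient.maximal_of_isField _ hfield
  letI := Ideal.Quotient.field q₀.asIdeal
  haveI : Algebra.IsSeparable (MvPolynomial (Fin n) k ⧸ m) (B ⧸ q₀.asIdeal) :=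
    Algebra.FormallyUnramified.isSeparable _ _
  exact ⟨q₀.asIdeal, hmax, hq₀b, Module.Finite.trans (MvPolynomial (Fin n) k ⧸ m) _,
    Algebra.IsSeparable.trans k (MvPolynomial (Fin n) k ⧸ m) _⟩

/-- a smooth algebra over a field has, in every nonempty basic open, a maximal ideal with finite
separable residue field -/
theorem exists_maximal_of_smooth (k : Type u) [Field k] (R : Type u) [CommRing R] [Algebra k R]
    [Algebra.Smooth k R] (z₀ : PrimeSpectrum R) (b : R) (hb : b ∉ z₀.asIdeal) :
    ∃ q : Ideal R, q.IsMaximal ∧ b ∉ q ∧ Module.Finite k (R ⧸ q) ∧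
      Algebra.IsSeparable k (R ⧸ q) := by
  classical
  obtain ⟨s, hs, hstd⟩ := Algebra.Smooth.exists_span_eq_top_isStandardSmooth (R := k) (S := R)
  obtain ⟨t, hts, htz⟩ : ∃ t ∈ s, t ∉ z₀.asIdeal := by
    by_contra hcon
    push Not at hcon
    have : Ideal.span s ≤ z₀.asIdeal := Ideal.span_le.mpr hcon
    rw [hs] at this
    exact z₀.2.ne_top (top_le_iff.mp this)
  haveI := hstd t hts
  obtain ⟨n, hn⟩ : ∃ n, Algebra.IsStandardSmoothOfRelativeDimension n k (Localization.Away t) := by
    obtain ⟨ι, σ, hσ, hι, ⟨P⟩⟩ :=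
      (inferInstance : Algebra.IsStandardSmooth k (Localization.Away t))
    exact ⟨P.dimension, ⟨ι, σ, hσ, hι, P, rfl⟩⟩
  obtain ⟨g, hg⟩ := Algebra.IsStandardSmoothOfRelativeDimension.exists_etale_mvPolynomial n k
    (Localization.Away t)
  letI : Algebra (MvPolynomial (Fin n) k) (Localization.Away t) := g.toRingHom.toAlgebra
  haveI : IsScalarTower k (MvPolynomial (Fin n) k) (Localization.Away t) :=
    IsScalarTower.of_algebraMap_eq' g.comp_algebraMap.symm
  haveI : Algebra.Etale (MvPolynomial (Fin n) k) (Localization.Away t) := hg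
  have hdisj : Disjoint (Submonoid.powers t : Set R) z₀.asIdeal := by
    rwa [Ideal.disjoint_powers_iff_notMem_of_isPrime]
  let x₀' : PrimeSpectrum (Localization.Away t) :=
    ⟨z₀.asIdeal.map (algebraMap R (Localization.Away t)),
      IsLocalization.isPrime_of_isPrime_disjoint (.powers t) _ _ z₀.2 hdisj⟩
  have hx₀' : x₀'.asIdeal.comap (algebraMap R (Localization.Away t)) = z₀.asIdeal :=
    IsLocalization.comap_map_of_isPrime_disjoint (.powers t) _ z₀.2 hdisj
  have hb' : algebraMap R (Localization.Away t) b ∉ x₀'.asIdeal := by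
    intro h
    apply hb
    rw [← hx₀']
    exact h
  obtain ⟨q', hq'max, hbq', hfin, hsep⟩ :=
    exists_maximal_finite_separable k n (Localization.Away t) x₀' _ hb'
  haveI := hq'max
  haveI : (q'.comap (algebraMap R (Localization.Away t))).IsPrime := Ideal.comap_isPrime _ _
  let φ : (R ⧸ q'.comap (algebraMap R (Localization.Away t))) →ₐ[k] (Localization.Away t ⧸ q') :=
    Ideal.quotientMapₐ q' (IsScalarTower.toAlgHom k R (Localization.Away t)) le_rfl
  have hφ : Function.Injective φ := Ideal.quotientMap_injective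
  letI := Ideal.Quotient.field q'
  haveI : IsNoetherian k (Localization.Away t ⧸ q') := IsNoetherian.iff_fg.mpr hfin
  haveI hfinR : Module.Finite k (R ⧸ q'.comap (algebraMap R (Localization.Away t))) :=
    Module.Finite.of_injective φ.toLinearMap hφ
  haveI : IsDomain (R ⧸ q'.comap (algebraMap R (Localization.Away t))) :=
    Ideal.Quotient.isDomain _
  have hfield : IsField (R ⧸ q'.comap (algebraMap R (Localization.Away t))) :=
    isField_of_isIntegral_of_isField' (R := k) (Field.toIsField _)
  have hmax : (q'.comap (algebraMap R (Localization.Away t))).IsMaximal :=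
    Ideal.Quotient.maximal_of_isField _ hfield
  letI := Ideal.Quotient.field (q'.comap (algebraMap R (Localization.Away t)))
  refine ⟨_, hmax, fun h => hbq' h, hfinR, ?_⟩
  exact Algebra.IsSeparable.of_algHom k _ φ

end Groth.Agent.Lib.T2H9.SepPts
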