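import Mathlib
import Groth.Agent.Lib.T2H9SepPts
import Groth.Agent.Lib.Helper6BcBridge

/-!
# Density of closed points with separable residue field on smooth schemes over a field (helper9)
-/

set_option autoImplicit false
set_option linter.style.haveILetI false
set_option linter.unusedSectionVars false
universe u

namespace Groth.Agent.Lib.T2H9.SepPts

open AlgebraicGeometry CategoryTheory Limits

attribute [local instance] Curv2.resAlgebra Curv2.stalkAlgebra

/-- residue field of a point in an affine chart, compatibly with the base field -/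
theorem exists_residueField_equiv (k : Type u) [Field k] (X : Scheme.{u})
    [X.Over (Spec (CommRingCat.of k))] {R : Type u} [CommRing R] [Algebra k R]
    (ι : Spec (CommRingCat.of R) ⟶ X) [IsOpenImmersion ι]
    (hι : ι ≫ (X ↘ Spec (CommRingCat.of k)) = Spec.map (CommRingCat.ofHom (algebraMap k R)))
    (z : PrimeSpectrum R) :
    ∃ e : X.residueField (ι z) ≃+* z.asIdeal.ResidueField,
      ∀ c : k, e (algebraMap k (X.residueField (ι z)) c) = algebraMap k z.asIdeal.ResidueField c := by
  let e₀ := Groth.Agent.Lib.Helper6.BcBridge.stalkAlgEquiv k X ι hι z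
  refine ⟨IsLocalRing.ResidueField.mapEquiv e₀.toRingEquiv, fun c => ?_⟩
  change IsLocalRing.ResidueField.mapEquiv e₀.toRingEquiv
    (IsLocalRing.residue _ (Curv2.stalkMap k X (ι z) c)) = _
  rw [IsLocalRing.ResidueField.mapEquiv_apply, IsLocalRing.ResidueField.map_residue]
  have h1 : (e₀.toRingEquiv : _ →+* _) (Curv2.stalkMap k X (ι z) c) =
      algebraMap k (Localization.AtPrime z.asIdeal) c := e₀.commutes c
  exact congrArg (IsLocalRing.residue _) h1

/-- **Density of separable closed points** on a smooth scheme over a field. -/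
theorem main_S1550 (k : Type u) [Field k] (X : Scheme.{u}) [X.Over (Spec (CommRingCat.of k))]
    [Smooth (X ↘ (Spec (CommRingCat.of k)))] :
    Dense {x : X | IsClosed ({x} : Set X) ∧ FiniteDimensional k (X.residueField x) ∧
      Algebra.IsSeparable k (X.residueField x)} := by
  haveI : JacobsonSpace X := LocallyOfFiniteType.jacobsonSpace (X ↘ Spec (CommRingCat.of k))
  rw [dense_iff_inter_open]
  rintro U hU ⟨x₀, hx₀⟩
  obtain ⟨R, _, _, ι, _, hι, z₀, hz₀⟩ := Groth.Agent.Lib.Helper6.BcBridge.exists_chart k X x₀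
  haveI hsm : Algebra.Smooth k R := by
    have h1 : Smooth (Spec.map (CommRingCat.ofHom (algebraMap k R))) := by
      rw [← hι]; infer_instance
    exact RingHom.smooth_algebraMap.mp ((HasRingHomProperty.Spec_iff (P := @Smooth)).mp h1)
  have hU' : IsOpen (ι ⁻¹' U) := hU.preimage ι.continuous
  have hz₀U : z₀ ∈ ι ⁻¹' U := by
    change ι z₀ ∈ U
    rw [hz₀]; exact hx₀
  obtain ⟨_, ⟨b, rfl⟩, hz₀b, hbU⟩ :=
    PrimeSpectrum.isTopologicalBasis_basic_opens.exists_subset_of_mem_open hz₀U hU'
  obtain ⟨q, hqmax, hbq, hfin, hsep⟩ := exists_maximal_of_smooth k R z₀ b hz₀b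
  haveI := hqmax
  let zq : PrimeSpectrum R := ⟨q, hqmax.isPrime⟩
  obtain ⟨e, he⟩ := exists_residueField_equiv k X ι hι zq
  letI := Ideal.Quotient.field q
  have hbij := Ideal.bijective_algebraMap_quotient_residueField q
  let e₁ : (R ⧸ q) ≃ₐ[k] q.ResidueField :=
    AlgEquiv.ofBijective (IsScalarTower.toAlgHom k (R ⧸ q) q.ResidueField) hbij
  let e₂ : q.ResidueField ≃ₐ[k] X.residueField (ι zq) :=
    { e.symm with
      commutes' := fun c => by
        change e.symm _ = _
        rw [← he c, RingEquiv.symm_apply_apply] }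
  refine ⟨ι zq, hbU hbq, ?_, ?_, ?_⟩
  · have h1 : zq ∈ closedPoints (Spec (CommRingCat.of R)) :=
      (PrimeSpectrum.isClosed_singleton_iff_isMaximal zq).mpr hqmax
    rw [← ι.isOpenEmbedding.preimage_closedPoints] at h1
    exact h1
  · exact Module.Finite.equiv (e₁.trans e₂).toLinearEquiv
  · exact AlgEquiv.Algebra.isSeparable (e₁.trans e₂)

end Groth.Agent.Lib.T2H9.SepPts
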