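import Mathlib
import Groth.Agent.Lib.T2H9SepPts
import Groth.Agent.Lib.Helper6BcBridge
import Groth.Agent.Lib.Helper6GeomRedGen1

/-!
# Rational points of geometrically reduced schemes over separably closed fields (helper9)
-/

set_option autoImplicit false
set_option linter.style.haveILetI false
set_option linter.unusedSectionVars false
universe u

namespace Groth.Agent.Lib.T2H9.SepPts

open AlgebraicGeometry CategoryTheory Limits TensorProduct

/-- ring-level: a nontrivial geometrically reduced algebra of finite type over a separably closed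
field has a rational point -/
theorem exists_algHom_of_isSepClosed (k : Type u) [Field k] [IsSepClosed k] (C : Type u)
    [CommRing C] [Algebra k C] [Algebra.FiniteType k C] [Algebra.IsGeometricallyReduced k C]
    [Nontrivial C] : Nonempty (C →ₐ[k] k) := by
  haveI : IsNoetherianRing C := Algebra.FiniteType.isNoetherianRing k C
  obtain ⟨J, hJ, hsm⟩ := Groth.Agent.Lib.Helper6.GeomRedGen.exists_ideal_smooth_away k C
  obtain ⟨g, hgJ, hg⟩ := Groth.Agent.Lib.Helper6.GeomRedGen.exists_mem_notMem_minimalPrimes J hJ
  haveI := hsm g hgJ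
  -- a minimal prime
  obtain ⟨P, hP⟩ : ∃ P, P ∈ minimalPrimes C := by
    obtain ⟨m, hm⟩ := Ideal.exists_maximal C
    obtain ⟨P, hP, -⟩ := Ideal.exists_minimalPrimes_le (show (⊥ : Ideal C) ≤ m from bot_le)
    exact ⟨P, hP⟩
  haveI hPprime : P.IsPrime := Ideal.minimalPrimes_isPrime hP
  have hgP : g ∉ P := hg P hP
  have hdisj : Disjoint (Submonoid.powers g : Set C) P := by
    rwa [Ideal.disjoint_powers_iff_notMem_of_isPrime]
  let z₀ : PrimeSpectrum (Localization.Away g) :=
    ⟨P.map (algebraMap C (Localization.Away g)),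
      IsLocalization.isPrime_of_isPrime_disjoint (.powers g) _ _ hPprime hdisj⟩
  obtain ⟨q, hqmax, -, hfin, hsep⟩ :=
    exists_maximal_of_smooth k (Localization.Away g) z₀ 1
      (fun h => z₀.2.ne_top ((Ideal.eq_top_iff_one _).mpr h))
  haveI := hqmax
  letI := Ideal.Quotient.field q
  -- the residue field is `k`
  have hsurj : Function.Surjective (algebraMap k (Localization.Away g ⧸ q)) :=
    IsSepClosed.algebraMap_surjective k (Localization.Away g ⧸ q)
  let e : k ≃ₐ[k] (Localization.Away g ⧸ q) :=
    AlgEquiv.ofBijective (Algebra.ofId k _) ⟨(algebraMap k _).injective, hsurj⟩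
  exact ⟨(e.symm : (Localization.Away g ⧸ q) →ₐ[k] k).comp
    ((Ideal.Quotient.mkₐ k q).comp (IsScalarTower.toAlgHom k C (Localization.Away g)))⟩

/-- the ring of an affine chart of a geometrically reduced scheme over a field is geometrically
reduced -/
theorem isGeometricallyReduced_chart (k : Type u) [Field k] {X : Scheme.{u}}
    (f : X ⟶ Spec (CommRingCat.of k)) [GeometricallyReduced f] {R : Type u} [CommRing R]
    [Algebra k R] (ι : Spec (CommRingCat.of R) ⟶ X) [IsOpenImmersion ι]
    (hι : ι ≫ f = Spec.map (CommRingCat.ofHom (algebraMap k R))) :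
    Algebra.IsGeometricallyReduced k R := by
  have h1 : AlgebraicGeometry.IsReduced (pullback f
      (Spec.map (CommRingCat.ofHom (algebraMap k (AlgebraicClosure k))))) :=
    pullback_of_geometrically (GeometricallyReduced.geometrically_isReduced)
      (AlgebraicClosure k) _
  let j : pullback (ι ≫ f) (Spec.map (CommRingCat.ofHom (algebraMap k (AlgebraicClosure k)))) ⟶
      pullback f (Spec.map (CommRingCat.ofHom (algebraMap k (AlgebraicClosure k)))) :=
    pullback.map (ι ≫ f) _ f _ ι (𝟙 _) (𝟙 _) (by simp) (by simp)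
  haveI : IsOpenImmersion j := by
    dsimp only [j]
    infer_instance
  haveI : AlgebraicGeometry.IsReduced (pullback (ι ≫ f)
      (Spec.map (CommRingCat.ofHom (algebraMap k (AlgebraicClosure k))))) :=
    isReduced_of_isOpenImmersion j
  haveI : AlgebraicGeometry.IsReduced (pullback (Spec.map (CommRingCat.ofHom (algebraMap k R)))
      (Spec.map (CommRingCat.ofHom (algebraMap k (AlgebraicClosure k))))) := by
    rw [← hι]; infer_instance
  haveI : AlgebraicGeometry.IsReduced (Spec (CommRingCat.of (R ⊗[k] AlgebraicClosure k))) :=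
    isReduced_of_isOpenImmersion (pullbackSpecIso k R (AlgebraicClosure k)).inv
  have h2 : _root_.IsReduced (R ⊗[k] AlgebraicClosure k) :=
    (affine_isReduced_iff (CommRingCat.of (R ⊗[k] AlgebraicClosure k))).mp inferInstance
  rw [Algebra.isGeometricallyReduced_field_iff]
  exact isReduced_of_injective (Algebra.TensorProduct.comm k (AlgebraicClosure k) R)
    (Algebra.TensorProduct.comm k (AlgebraicClosure k) R).injective

/-- a nonempty geometrically reduced scheme of finite type over a separably closed field has a
rational point -/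
theorem main_S18366 (k : Type u) [Field k] [IsSepClosed k]
    {X : Scheme.{u}} (f : X ⟶ Spec (CommRingCat.of k)) [LocallyOfFiniteType f]
    [GeometricallyReduced f] [Nonempty X] :
    ∃ s : Spec (CommRingCat.of k) ⟶ X, s ≫ f = 𝟙 (Spec (CommRingCat.of k)) := by
  letI : X.Over (Spec (CommRingCat.of k)) := ⟨f⟩
  obtain ⟨x₀⟩ := ‹Nonempty X›
  obtain ⟨R, _, _, ι, _, hι, z₀, hz₀⟩ := Groth.Agent.Lib.Helper6.BcBridge.exists_chart k X x₀
  have hι' : ι ≫ f = Spec.map (CommRingCat.ofHom (algebraMap k R)) := hι
  haveI : Algebra.IsGeometricallyReduced k R := isGeometricallyReduced_chart k f ι hι'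
  haveI : Algebra.FiniteType k R := by
    have h1 : LocallyOfFiniteType (Spec.map (CommRingCat.ofHom (algebraMap k R))) := by
      rw [← hι']; infer_instance
    exact RingHom.finiteType_algebraMap.mp
      ((HasRingHomProperty.Spec_iff (P := @LocallyOfFiniteType)).mp h1)
  haveI : Nontrivial R := (PrimeSpectrum.nonempty_iff_nontrivial).mp ⟨z₀⟩
  obtain ⟨σ⟩ := exists_algHom_of_isSepClosed k R
  refine ⟨Spec.map (CommRingCat.ofHom σ.toRingHom) ≫ ι, ?_⟩
  rw [Category.assoc, hι', ← Spec.map_comp, ← CommRingCat.ofHom_comp]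
  have : σ.toRingHom.comp (algebraMap k R) = RingHom.id k := by
    ext c
    simp
  rw [this]
  simp

end Groth.Agent.Lib.T2H9.SepPts
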