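import Mathlib
import Groth.Prelude.Def_CInt
import Groth.Agent.Lib.Helper3SmDim
import Groth.Agent.Lib.Helper3CompDim
import Groth.Agent.Lib.Helper2RankOne
import Groth.Agent.Lib.Helper4DimFormulaAN
import Groth.Agent.Lib.Helper4DimFormulaAD
import Groth.Agent.Lib.Helper6DimEq

/-!
# Relative codimension of a smooth closed subscheme of a smooth scheme (helper9)
-/

set_option autoImplicit false
set_option linter.style.haveILetI false
universe u

open AlgebraicGeometry CategoryTheory CategoryTheory.Limits TopologicalSpace IsLocalRing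

namespace Groth.Agent.Lib.T2H9.SmCodim

open Groth.Agent.Lib.Helper4.DimFormula

/-- the fibre dimension of a smooth morphism is constant under generization. -/
theorem fibreDimAt_eq_of_specializes {X S : Scheme.{u}} (f : X ⟶ S) [Smooth f] {x x' : X}
    (h : x' ⤳ x) : FlatMor.fibreDimAt f x' = FlatMor.fibreDimAt f x := by
  obtain ⟨U, hU, V, hV, hx, e, hf⟩ := Smooth.exists_isStandardSmooth f x
  obtain ⟨n, hn⟩ := Groth.Agent.Lib.Helper3.SmDim.exists_relDim_of_isStandardSmooth _ hf
  have hx' : x' ∈ V := h.mem_open V.2 hx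
  rw [Groth.Agent.Lib.Helper3.SmDim.fibreDimAt_eq_of_chart f n x hU hV hx e hn,
    Groth.Agent.Lib.Helper3.SmDim.fibreDimAt_eq_of_chart f n x' hU hV hx' e hn]

theorem main {X Y S : Scheme.{u}} [IsLocallyNoetherian X] [IsLocallyNoetherian S] (f : X ⟶ S)
    [Smooth f] (i : Y ⟶ X) [IsClosedImmersion i] [Smooth (i ≫ f)] :
    (⨅ y : Set.range i.base, ringKrullDim ↑(CInt.fiberStalk f y.1)) =
      ⨅ y : Set.range i.base, ringKrullDim ↑(X.presheaf.stalk y.1) := by
  haveI : IsLocallyNoetherian Y := LocallyOfFiniteType.isLocallyNoetherian i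
  apply le_antisymm
  · refine le_iInf fun y => iInf_le_of_le y ?_
    rw [ringKrullDim_stalk_asFiber]
    exact fibStalkDim_le f y.1
  · refine le_iInf fun y => ?_
    obtain ⟨y0, hy0⟩ := y.2
    obtain ⟨η, hη, hmax⟩ := Groth.Agent.Lib.Helper2.Weight.exists_maximal_generization Y y0
    refine iInf_le_of_le ⟨i.base η, η, rfl⟩ ?_
    rw [← hy0]
    change ringKrullDim ↑(X.presheaf.stalk (i.base η)) ≤ ringKrullDim ↑(CInt.fiberStalk f (i.base y0))
    -- dimension zero at η
    have hYη : ringKrullDim (Y.presheaf.stalk η) = 0 := by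
      rw [ringKrullDim_stalk_eq_coheight]
      have : Order.coheight η = 0 := by
        rw [Order.coheight_eq_zero]
        intro b hb
        rw [Scheme.le_iff_specializes] at hb ⊢
        rw [hmax b hb]
      rw [this]; rfl
    have hform := Groth.Agent.Lib.Helper3.CompDim.stalk_dim_formula_of_flat (i ≫ f) η
      (Flat.stalkMap (i ≫ f) η)
    rw [hYη] at hform
    have hfibY0 : (0 : WithBot ℕ∞) ≤
        ringKrullDim (((i ≫ f).fiber ((i ≫ f) η)).presheaf.stalk ((i ≫ f).asFiber η)) :=
      ringKrullDim_nonneg_of_nontrivial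
    have hSη : ringKrullDim (S.presheaf.stalk ((i ≫ f) η)) ≤ 0 := by
      calc ringKrullDim (S.presheaf.stalk ((i ≫ f) η))
          ≤ ringKrullDim (S.presheaf.stalk ((i ≫ f) η)) +
            ringKrullDim (((i ≫ f).fiber ((i ≫ f) η)).presheaf.stalk ((i ≫ f).asFiber η)) :=
            le_add_of_nonneg_right hfibY0
        _ = 0 := hform.symm
    have hfibYη : ringKrullDim (((i ≫ f).fiber ((i ≫ f) η)).presheaf.stalk ((i ≫ f).asFiber η)) = 0 := by
      refine le_antisymm ?_ hfibY0
      calc _ ≤ ringKrullDim (S.presheaf.stalk ((i ≫ f) η)) +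
            ringKrullDim (((i ≫ f).fiber ((i ≫ f) η)).presheaf.stalk ((i ≫ f).asFiber η)) :=
            le_add_of_nonneg_left ringKrullDim_nonneg_of_nontrivial
        _ = 0 := hform.symm
    -- the four dimension formulas
    have e1 := fibreDimAt_eq_stalk_add_ptTrdeg f (i.base η)
    have e2 := fibreDimAt_eq_stalk_add_ptTrdeg (i ≫ f) η
    have e3 := fibreDimAt_eq_stalk_add_ptTrdeg f (i.base y0)
    have e4 := fibreDimAt_eq_stalk_add_ptTrdeg (i ≫ f) y0
    rw [ptTrdeg_comp_of_isPreimmersion i f η, hfibYη, zero_add] at e2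
    rw [ptTrdeg_comp_of_isPreimmersion i f y0] at e4
    rw [fibreDimAt_eq_of_specializes f (hη.map i.continuous)] at e1
    rw [fibreDimAt_eq_of_specializes (i ≫ f) hη] at e2
    -- stalk of X at i η
    have h5 := ringKrullDim_stalk_le_add_asFiber f (i.base η)
    have hS' : ringKrullDim (S.presheaf.stalk (f.base (i.base η))) ≤ 0 := hSη
    have h6 : ringKrullDim (X.presheaf.stalk (i.base η)) ≤
        ringKrullDim ((f.fiber (f.base (i.base η))).presheaf.stalk (f.asFiber (i.base η))) := by
      calc _ ≤ _ := h5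
        _ ≤ 0 + _ := by gcongr
        _ = _ := zero_add _
    refine h6.trans ?_
    -- arithmetic
    have hb : (0 : WithBot ℕ∞) ≤
        ringKrullDim (((i ≫ f).fiber ((i ≫ f).base y0)).presheaf.stalk ((i ≫ f).asFiber y0)) :=
      ringKrullDim_nonneg_of_nontrivial
    apply Groth.Agent.Lib.Helper6.DimEq.add_le_add_right_cancel _ _ (ptTrdeg f (i.base y0))
    change _ ≤ ringKrullDim ((f.fiber (f.base (i.base y0))).presheaf.stalk (f.asFiber (i.base y0))) + _
    rw [← e3, e1, e2.symm.trans e4, ← add_assoc]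
    gcongr
    exact le_add_of_nonneg_right hb

end Groth.Agent.Lib.T2H9.SmCodim
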