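import Groth.Agent.Lib.Helper12GeomRed
import Groth.Agent.Lib.Helper7N0
import Groth.Agent.Lib.Helper6EtNormal

set_option autoImplicit false
set_option linter.style.haveILetI false
universe u

open AlgebraicGeometry CategoryTheory CategoryTheory.Limits

namespace Groth.Agent.Lib.T2H9.SmStalk

/-- Pointwise ascent of normality of stalks along smooth morphisms. -/
theorem isNormal_stalk_of_smooth {A B : Scheme.{u}} (g : A ⟶ B) [Smooth g] (a : A)
    (h : IsDomain (B.presheaf.stalk (g a)) ∧ IsIntegrallyClosed (B.presheaf.stalk (g a))) :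
    IsDomain (A.presheaf.stalk a) ∧ IsIntegrallyClosed (A.presheaf.stalk a) := by
  obtain ⟨_, ⟨U, hU, rfl⟩, hgx, -⟩ := B.isBasis_affineOpens.exists_subset_of_mem_open
    (Set.mem_univ (g a)) isOpen_univ
  obtain ⟨_, ⟨V, hV, rfl⟩, haV, eV⟩ := A.isBasis_affineOpens.exists_subset_of_mem_open
    (show a ∈ (g ⁻¹ᵁ U : Set A) from hgx) (g ⁻¹ᵁ U).isOpen
  have hsm : (g.appLE U V eV).hom.Smooth := g.smooth_appLE hU hV eV
  letI := (g.appLE U V eV).hom.toAlgebra
  haveI : Algebra.Smooth Γ(B, U) Γ(A, V) := hsm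
  set Q := (hV.primeIdealOf ⟨a, haV⟩).asIdeal with hQ
  haveI : Q.IsPrime := (hV.primeIdealOf ⟨a, haV⟩).isPrime
  have hcomap : Q.comap (algebraMap Γ(B, U) Γ(A, V)) = (hU.primeIdealOf ⟨g a, eV haV⟩).asIdeal :=
    congrArg PrimeSpectrum.asIdeal (IsAffineOpen.comap_primeIdealOf_appLE U hU V hV eV haV)
  -- the local ring of `B` at `g a`
  have hB : Groth.Agent.Lib.Helper7.NorOpen.IsNormalDomain
      (Localization.AtPrime (Q.comap (algebraMap Γ(B, U) Γ(A, V)))) := by
    haveI : (Q.comap (algebraMap Γ(B, U) Γ(A, V))).IsPrime := Ideal.comap_isPrime _ _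
    letI := TopCat.Presheaf.algebra_section_stalk B.presheaf ⟨g a, eV haV⟩
    haveI hloc := hU.isLocalization_stalk ⟨g a, eV haV⟩
    haveI : IsLocalization.AtPrime (B.presheaf.stalk (g a))
        (Q.comap (algebraMap Γ(B, U) Γ(A, V))) := by
      convert hloc
    let e : Localization.AtPrime (Q.comap (algebraMap Γ(B, U) Γ(A, V))) ≃ₐ[Γ(B, U)]
        B.presheaf.stalk (g a) :=
      IsLocalization.algEquiv (Q.comap (algebraMap Γ(B, U) Γ(A, V))).primeCompl _ _
    haveI := h.2
    exact ⟨e.toRingEquiv.toMulEquiv.isDomain_iff.mpr h.1,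
      IsIntegrallyClosed.of_equiv e.symm.toRingEquiv⟩
  obtain ⟨hd, hic⟩ := Groth.Agent.Lib.Helper7.N0.isNormalDomain_of_smooth_of_comap Q hB
  letI := TopCat.Presheaf.algebra_section_stalk A.presheaf ⟨a, haV⟩
  haveI hlocA := hV.isLocalization_stalk ⟨a, haV⟩
  let e' : Localization.AtPrime Q ≃ₐ[Γ(A, V)] A.presheaf.stalk a :=
    IsLocalization.algEquiv Q.primeCompl _ _
  exact ⟨e'.toRingEquiv.toMulEquiv.isDomain_iff.mp hd, IsIntegrallyClosed.of_equiv e'.toRingEquiv⟩

/-- Pointwise descent of normality of stalks along flat morphisms. -/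
theorem isNormal_stalk_of_flat {A B : Scheme.{u}} (g : A ⟶ B) [Flat g] (a : A)
    (h : IsDomain (A.presheaf.stalk a) ∧ IsIntegrallyClosed (A.presheaf.stalk a)) :
    IsDomain (B.presheaf.stalk (g a)) ∧ IsIntegrallyClosed (B.presheaf.stalk (g a)) := by
  have hfl : (g.stalkMap a).hom.Flat := Flat.stalkMap g a
  have hloc : IsLocalHom (g.stalkMap a).hom := inferInstance
  algebraize [(g.stalkMap a).hom]
  have : IsLocalHom (algebraMap (B.presheaf.stalk (g a)) (A.presheaf.stalk a)) := hloc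
  haveI : Module.FaithfullyFlat (B.presheaf.stalk (g a)) (A.presheaf.stalk a) :=
    Module.FaithfullyFlat.of_flat_of_isLocalHom
  exact Groth.Agent.Lib.Helper6.EtNormal.normal_of_faithfullyFlat _ (A.presheaf.stalk a) h

end Groth.Agent.Lib.T2H9.SmStalk
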