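import Mathlib
import Groth.Prelude
import Groth.Agent.Lib.T2H9CIComp
import Groth.Agent.Lib.T2H9SyntMor
import Groth.Agent.Lib.Helper6SmRegSch
import Groth.Agent.Lib.Helper6LfpComp
import Groth.Agent.Lib.Helper5RLR3

/-!
# Flat morphisms between smooth schemes are CI morphisms (T2H9)

* `isCI_closedFibre_of_regular`: for a flat local homomorphism `A₀ → B₀` and a proper ideal `a`
  with `A₀/a` and `B₀/aB₀` regular local, the closed fibre `B₀/m_{A₀}B₀` is a Noetherian complete
  intersection.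
* `isRegularLocalRing_fiberStalk_of_smooth`.
* `isCIMorphism_of_flat_of_smooth`.
-/

set_option autoImplicit false
set_option linter.unusedSectionVars false
set_option linter.style.haveILetI false
universe u

namespace Groth.Agent.Lib.T2H9.SmoothFlatCI

open IsLocalRing RingTheory.Sequence CategoryTheory AlgebraicGeometry
  Groth.Agent.Lib.Helper5 Groth.Agent.Lib.Helper28 Groth.Agent.Lib.T2H9.CILocus
  Groth.Agent.Lib.T2H9.CIPoly Groth.Agent.Lib.Helper5.FiberStalk

section Ring

variable {A₀ B₀ : Type u} [CommRing A₀] [CommRing B₀] [IsLocalRing A₀] [IsLocalRing B₀]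
  [Algebra A₀ B₀] [IsLocalHom (algebraMap A₀ B₀)] [Module.Flat A₀ B₀]

/-- closed fibre of a flat local homomorphism whose source and target become regular modulo `a` -/
theorem isCI_closedFibre_of_regular (a : Ideal A₀) (ha : a ≠ ⊤)
    [hS : IsLocalRing (A₀ ⧸ a)] [hT : IsLocalRing (B₀ ⧸ a.map (algebraMap A₀ B₀))]
    [hF : IsLocalRing (B₀ ⧸ (maximalIdeal A₀).map (algebraMap A₀ B₀))]
    (h1 : IsRegularLocalRing (A₀ ⧸ a))
    (h2 : IsRegularLocalRing (B₀ ⧸ a.map (algebraMap A₀ B₀))) :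
    IsNoetherianRing (B₀ ⧸ (maximalIdeal A₀).map (algebraMap A₀ B₀)) ∧
      Pi1.IsCompleteIntersection (B₀ ⧸ (maximalIdeal A₀).map (algebraMap A₀ B₀)) := by
  haveI hlocST := isLocalHom_quotient_map (A := A₀) (A' := B₀) a
  haveI hflatST := flat_quotient_map' (A := A₀) (A' := B₀) a
  haveI hff : Module.FaithfullyFlat (A₀ ⧸ a) (B₀ ⧸ a.map (algebraMap A₀ B₀)) :=
    Module.FaithfullyFlat.of_flat_of_isLocalHom
  have hle : a.map (algebraMap A₀ B₀) ≤ (maximalIdeal A₀).map (algebraMap A₀ B₀) :=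
    Ideal.map_mono (IsLocalRing.le_maximalIdeal ha)
  have hker : RingHom.ker (Ideal.Quotient.factor hle) =
      (maximalIdeal (A₀ ⧸ a)).map
        (algebraMap (A₀ ⧸ a) (B₀ ⧸ a.map (algebraMap A₀ B₀))) := by
    rw [Ideal.Quotient.factor_ker, maximalIdeal_quotient_eq_map]
    have e1 := Ideal.map_map (I := maximalIdeal A₀) (algebraMap A₀ B₀)
      (Ideal.Quotient.mk (a.map (algebraMap A₀ B₀)))
    have e2 := Ideal.map_map (I := maximalIdeal A₀) (Ideal.Quotient.mk a)
      (algebraMap (A₀ ⧸ a) (B₀ ⧸ a.map (algebraMap A₀ B₀)))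
    have hcomp : (Ideal.Quotient.mk (a.map (algebraMap A₀ B₀))).comp (algebraMap A₀ B₀) =
        (algebraMap (A₀ ⧸ a) (B₀ ⧸ a.map (algebraMap A₀ B₀))).comp (Ideal.Quotient.mk a) :=
      RingHom.ext fun x => rfl
    exact e1.trans ((congrArg (fun g => Ideal.map g (maximalIdeal A₀)) hcomp).trans e2.symm)
  haveI hNT : IsNoetherianRing (B₀ ⧸ a.map (algebraMap A₀ B₀)) := inferInstance
  haveI hNF : IsNoetherianRing (B₀ ⧸ (maximalIdeal A₀).map (algebraMap A₀ B₀)) :=
    isNoetherianRing_of_surjective _ _ (Ideal.Quotient.factor hle)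
      (Ideal.Quotient.factor_surjective hle)
  refine ⟨hNF, ?_⟩
  obtain ⟨rs, -, hrs, hreg⟩ := exists_isRegular_ofList_eq_maximalIdeal (A₀ ⧸ a)
  have hreg' : IsRegular (B₀ ⧸ a.map (algebraMap A₀ B₀))
      (rs.map (algebraMap (A₀ ⧸ a) (B₀ ⧸ a.map (algebraMap A₀ B₀)))) :=
    IsRegular.of_faithfullyFlat hreg
  have hJ : Ideal.ofList (rs.map (algebraMap (A₀ ⧸ a) (B₀ ⧸ a.map (algebraMap A₀ B₀)))) =
      RingHom.ker (Ideal.Quotient.factor hle) := by
    rw [hker, ← hrs, Ideal.map_ofList]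
  let e : ((B₀ ⧸ a.map (algebraMap A₀ B₀)) ⧸
      Ideal.ofList (rs.map (algebraMap (A₀ ⧸ a) (B₀ ⧸ a.map (algebraMap A₀ B₀))))) ≃+*
      (B₀ ⧸ (maximalIdeal A₀).map (algebraMap A₀ B₀)) :=
    (Ideal.quotEquivOfEq hJ).trans
      (RingHom.quotientKerEquivOfSurjective (Ideal.Quotient.factor_surjective hle))
  haveI hlocQ : IsLocalRing ((B₀ ⧸ a.map (algebraMap A₀ B₀)) ⧸
      Ideal.ofList (rs.map (algebraMap (A₀ ⧸ a) (B₀ ⧸ a.map (algebraMap A₀ B₀))))) :=
    e.symm.isLocalRing
  have hQ := isCI_quotient_ofList (isCI_of_isRegularLocalRing (B₀ ⧸ a.map (algebraMap A₀ B₀)))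
    _ hreg'
  exact isCI_of_ringEquiv e hQ

end Ring

section Scheme

/-- the local rings of the fibres of a smooth morphism are regular -/
theorem isRegularLocalRing_fiberStalk_of_smooth {X S : Scheme.{u}} (p : X ⟶ S) [Smooth p] (x : X) :
    IsRegularLocalRing (CInt.fiberStalk p x) := by
  haveI : Smooth (p.fiberToSpecResidueField (p x)) := by
    unfold Scheme.Hom.fiberToSpecResidueField
    exact MorphismProperty.pullback_snd (P := @Smooth) _ _ inferInstance
  exact Groth.Agent.Lib.Helper6.SmRegSch.isRegularLocalRing_stalk_of_smooth_over_field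
    (k := S.residueField (p x)) (p.fiber (p x)) (p.fiberToSpecResidueField (p x)) (p.asFiber x)

variable {X Y S : Scheme.{u}} (f : X ⟶ Y) (q : Y ⟶ S)

/-- fibres of a flat morphism between smooth schemes are complete intersections -/
theorem isCI_fiberStalk_of_flat_of_smooth [Smooth q] [Smooth (f ≫ q)] [Flat f] (x : X) :
    Pi1.IsCompleteIntersection (CInt.fiberStalk f x) := by
  obtain ⟨ef⟩ := nonempty_stalk_asFiber_equiv f x
  obtain ⟨eg⟩ := nonempty_stalk_asFiber_equiv q (f x)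
  obtain ⟨egf⟩ := nonempty_stalk_asFiber_equiv (f ≫ q) x
  have hI : (maximalIdeal (S.presheaf.stalk ((f ≫ q) x))).map ((f ≫ q).stalkMap x).hom =
      ((maximalIdeal (S.presheaf.stalk (q (f x)))).map (q.stalkMap (f x)).hom).map
        (f.stalkMap x).hom := by
    rw [Scheme.Hom.stalkMap_comp]
    exact (Ideal.map_map _ _).symm
  let egf' := egf.trans (Ideal.quotEquivOfEq hI)
  have hfl : (f.stalkMap x).hom.Flat := Flat.stalkMap f x
  letI i2 := (f.stalkMap x).hom.toAlgebra
  haveI : IsLocalHom (algebraMap (Y.presheaf.stalk (f x)) (X.presheaf.stalk x)) :=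
    inferInstanceAs (IsLocalHom (f.stalkMap x).hom)
  haveI : Module.Flat (Y.presheaf.stalk (f x)) (X.presheaf.stalk x) := hfl
  have ha : (maximalIdeal (S.presheaf.stalk (q (f x)))).map (q.stalkMap (f x)).hom ≠ ⊤ :=
    (IsLocalRing.map_maximalIdeal_lt_top _).ne
  haveI hS : IsLocalRing (Y.presheaf.stalk (f x) ⧸
      (maximalIdeal (S.presheaf.stalk (q (f x)))).map (q.stalkMap (f x)).hom) :=
    isLocalRing_quotient ha
  haveI hT : IsLocalRing (X.presheaf.stalk x ⧸
      ((maximalIdeal (S.presheaf.stalk (q (f x)))).map (q.stalkMap (f x)).hom).map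
        (algebraMap (Y.presheaf.stalk (f x)) (X.presheaf.stalk x))) :=
    isLocalRing_quotient (map_ne_top_of_isLocalHom _ ha)
  haveI hF : IsLocalRing (X.presheaf.stalk x ⧸
      (maximalIdeal (Y.presheaf.stalk (f x))).map
        (algebraMap (Y.presheaf.stalk (f x)) (X.presheaf.stalk x))) :=
    isLocalRing_quotient_fibIdeal f x
  haveI r1 : IsRegularLocalRing (CInt.fiberStalk q (f x)) :=
    isRegularLocalRing_fiberStalk_of_smooth q (f x)
  haveI r2 : IsRegularLocalRing (CInt.fiberStalk (f ≫ q) x) :=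
    isRegularLocalRing_fiberStalk_of_smooth (f ≫ q) x
  have h1 : IsRegularLocalRing (Y.presheaf.stalk (f x) ⧸
      (maximalIdeal (S.presheaf.stalk (q (f x)))).map (q.stalkMap (f x)).hom) :=
    IsRegularLocalRing.of_ringEquiv (R := CInt.fiberStalk q (f x)) eg
  have h2 : IsRegularLocalRing (X.presheaf.stalk x ⧸
      ((maximalIdeal (S.presheaf.stalk (q (f x)))).map (q.stalkMap (f x)).hom).map
        (algebraMap (Y.presheaf.stalk (f x)) (X.presheaf.stalk x))) :=
    IsRegularLocalRing.of_ringEquiv (R := CInt.fiberStalk (f ≫ q) x) egf'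
  obtain ⟨hN, hci⟩ := isCI_closedFibre_of_regular
    ((maximalIdeal (S.presheaf.stalk (q (f x)))).map (q.stalkMap (f x)).hom) ha h1 h2
  haveI := hN
  exact isCI_of_ringEquiv ef.symm hci

/-- a flat morphism between smooth `S`-schemes is a CI morphism -/
theorem isCIMorphism_of_flat_of_smooth [Smooth q] [Smooth (f ≫ q)] [Flat f] :
    CInt.IsCIMorphism f := by
  refine ⟨inferInstance, ?_, fun x => isCI_fiberStalk_of_flat_of_smooth f q x⟩
  exact Groth.Agent.Lib.Helper6.locallyOfFinitePresentation_of_comp (g := q) inferInstance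
    inferInstance

end Scheme

end Groth.Agent.Lib.T2H9.SmoothFlatCI
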