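import Groth.Agent.Lib.T2H9PicModelB
import Groth.Agent.Lib.T2H9SmoothFlatCI
import Groth.Agent.Lib.Helper6SmRegSch2
import Groth.Agent.Lib.Helper28RegLoc
import Groth.Agent.Lib.Helper14FtPts
set_option backward.isDefEq.respectTransparency.types false

/-!
# T2H9SmoothMinA (helper9): smooth schemes over a discrete valuation ring: regularity, and the uniformizer generates a
prime ideal in every local ring on the closed fibre
-/

set_option autoImplicit false
set_option linter.style.haveILetI false
set_option linter.unusedSectionVars false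
universe u

open AlgebraicGeometry CategoryTheory Limits TopologicalSpace Opposite

namespace Groth.Agent.Lib.T2H9.SmoothMinA

variable {R : Type u} [CommRing R] [IsDomain R] [IsDiscreteValuationRing R]

/-- the local rings of the spectrum of a discrete valuation ring are regular -/
theorem isRegularLocalRing_stalk_spec (s : Spec (CommRingCat.of R)) :
    IsRegularLocalRing ((Spec (CommRingCat.of R)).presheaf.stalk s) := by
  haveI : IsRegularLocalRing (Localization.AtPrime s.asIdeal) :=
    Groth.Agent.Lib.Helper28.isRegularLocalRing_localization_of_isRegularLocalRing R s.asIdeal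
  have e := IsLocalization.algEquiv s.asIdeal.primeCompl
    ((Spec.structureSheaf R).presheaf.stalk s) (Localization.AtPrime s.asIdeal)
  exact IsRegularLocalRing.of_ringEquiv (R' := (Spec.structureSheaf R).presheaf.stalk s)
    e.symm.toRingEquiv

variable {X : Over (Spec (CommRingCat.of R))}

/-- a scheme smooth over a discrete valuation ring is regular -/
theorem isRegularScheme_of_smooth [Smooth X.hom] : Models.IsRegularScheme X.left := fun x =>
  (Groth.Agent.Lib.Helper6.SmRegSch2.isRegularLocalRing_stalk_iff_of_smooth X.hom x).2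
    (isRegularLocalRing_stalk_spec _)

/-- the ideal of the fibre through `x` in the local ring at `x` is prime, for a smooth morphism -/
theorem isPrime_map_maximalIdeal_of_smooth {Y S : Scheme.{u}} (p : Y ⟶ S) [Smooth p] (x : Y) :
    ((IsLocalRing.maximalIdeal (S.presheaf.stalk (p.base x))).map (p.stalkMap x).hom).IsPrime := by
  obtain ⟨e⟩ := Groth.Agent.Lib.Helper5.FiberStalk.nonempty_stalk_asFiber_equiv p x
  haveI := Groth.Agent.Lib.T2H9.SmoothFlatCI.isRegularLocalRing_fiberStalk_of_smooth p x
  haveI : IsDomain ((p.fiber (p.base x)).presheaf.stalk (p.asFiber x)) :=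
    Groth.Agent.Lib.Helper5.isDomain_of_isRegularLocalRing _
  have hdom : IsDomain (Y.presheaf.stalk x ⧸
      (IsLocalRing.maximalIdeal (S.presheaf.stalk (p.base x))).map (p.stalkMap x).hom) :=
    e.toMulEquiv.isDomain_iff.mp inferInstance
  exact (Ideal.Quotient.isDomain_iff_prime _).1 hdom

/-- the prime of the closed point in the ring of global functions of `Spec R` -/
theorem primeIdealOf_closedPoint {ϖ : R} (hϖ : Irreducible ϖ) (s : Spec (CommRingCat.of R))
    (hs : s = IsLocalRing.closedPoint R) :
    ((isAffineOpen_top (Spec (CommRingCat.of R))).primeIdealOf ⟨s, trivial⟩).asIdeal =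
      Ideal.span {(Scheme.ΓSpecIso (CommRingCat.of R)).inv ϖ} := by
  ext f
  have hmem : f ∈ ((isAffineOpen_top (Spec (CommRingCat.of R))).primeIdealOf ⟨s, trivial⟩).asIdeal ↔
      s ∉ (Spec (CommRingCat.of R)).basicOpen f := by
    rw [Groth.Agent.Lib.Helper14.mem_basicOpen_iff_notMem_primeIdealOf (isAffineOpen_top _) s trivial f,
      not_not]
  rw [hmem]
  obtain ⟨r, rfl⟩ : ∃ r : R, (Scheme.ΓSpecIso (CommRingCat.of R)).inv r = f :=
    ⟨(Scheme.ΓSpecIso (CommRingCat.of R)).hom f, Iso.hom_inv_id_apply _ f⟩
  rw [basicOpen_eq_of_affine, Ideal.mem_span_singleton]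
  have h1 : r ∈ s.asIdeal ↔ ϖ ∣ r := by
    rw [hs]
    change r ∈ IsLocalRing.maximalIdeal R ↔ _
    rw [hϖ.maximalIdeal_eq, Ideal.mem_span_singleton]
  change ¬ (r ∉ s.asIdeal) ↔ _
  rw [not_not, h1]
  constructor
  · rintro ⟨c, rfl⟩
    exact ⟨(Scheme.ΓSpecIso (CommRingCat.of R)).inv c, map_mul _ _ _⟩
  · rintro ⟨c, hc⟩
    refine ⟨(Scheme.ΓSpecIso (CommRingCat.of R)).hom c, ?_⟩
    have := congrArg (Scheme.ΓSpecIso (CommRingCat.of R)).hom hc
    rw [map_mul, Iso.inv_hom_id_apply, Iso.inv_hom_id_apply] at this
    exact this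

/-- the ideal of the closed fibre in the local ring of a point of the closed fibre is generated by a uniformizer -/
theorem map_maximalIdeal_eq_span {ϖ : R} (hϖ : Irreducible ϖ) (x : X.left)
    (hx : X.hom.base x = IsLocalRing.closedPoint R) :
    (IsLocalRing.maximalIdeal ((Spec (CommRingCat.of R)).presheaf.stalk (X.hom.base x))).map
        (X.hom.stalkMap x).hom = Ideal.span {Models.stalkHom R X x ϖ} := by
  rw [← Groth.Agent.Lib.T2H4.FibreComp.map_germ_primeIdealOf ⟨⊤, isAffineOpen_top _⟩ (X.hom.base x) trivial,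
    primeIdealOf_closedPoint hϖ _ hx, Ideal.map_span, Set.image_singleton, Ideal.map_span, Set.image_singleton]
  congr 2
  exact Scheme.Hom.germ_stalkMap_apply X.hom ⊤ x trivial _

end Groth.Agent.Lib.T2H9.SmoothMinA
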