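import Groth.Agent.Lib.T2H9SmoothMinA
import Groth.Agent.Lib.T2H9ArInterI
set_option backward.isDefEq.respectTransparency.types false

/-!
# T2H9SmoothMinB (helper9): on a smooth scheme over a discrete valuation ring, a vertical prime divisor which is an
effective Cartier divisor is cut out by the uniformizer near each of its points
-/

set_option autoImplicit false
set_option linter.style.haveILetI false
set_option linter.unusedSectionVars false
universe u

open AlgebraicGeometry CategoryTheory Limits TopologicalSpace Opposite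

namespace Groth.Agent.Lib.T2H9.SmoothMinB

open Groth.Agent.Lib.Helper6 Groth.Agent.Lib.T2H4.FibreComp Groth.Agent.Lib.T2H9.SmoothMinA

variable {R : Type u} [CommRing R] [IsDomain R] [IsDiscreteValuationRing R]
  {X : Over (Spec (CommRingCat.of R))}

theorem secHom_res {U V : X.left.Opens} (h : V ≤ U) (ϖ : R) :
    resf h (Groth.Agent.Lib.T2H4.FibreComp.secHom R X U ϖ) = Groth.Agent.Lib.T2H4.FibreComp.secHom R X V ϖ := by
  rw [← Groth.Agent.Lib.T2H9.ArInterB.resf_secHom U ϖ, resf_resf, Groth.Agent.Lib.T2H9.ArInterB.resf_secHom]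

/-- local algebra: in a local ring where `ϖ` generates a prime ideal, a factorisation `ϖ = c t` with `t` a regular
non-unit forces `c` to be a unit -/
theorem isUnit_of_mul_eq_of_isPrime {O : Type*} [CommRing O] (w c t : O) (hw : (Ideal.span {w}).IsPrime)
    (hwreg : w ∈ nonZeroDivisors O) (htreg : t ∈ nonZeroDivisors O) (ht : ¬ IsUnit t) (h : w = c * t) :
    IsUnit c := by
  have hcreg : c ∈ nonZeroDivisors O := by
    rw [mem_nonZeroDivisors_iff]
    have key : ∀ y, c * y = 0 → y = 0 := by
      intro y hy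
      apply (mem_nonZeroDivisors_iff.1 hwreg).1
      rw [h, mul_right_comm, hy, zero_mul]
    exact ⟨key, fun y hy => key y (by rw [mul_comm]; exact hy)⟩
  have hmem : c * t ∈ Ideal.span {w} := by rw [← h]; exact Ideal.mem_span_singleton_self w
  rcases hw.mem_or_mem hmem with hc | ht'
  · exfalso
    obtain ⟨a, ha⟩ := Ideal.mem_span_singleton'.1 hc
    apply ht
    have h1 : (t * a) * c = 1 * c := by
      rw [one_mul]
      conv_rhs => rw [← ha, h]
      ring
    have h2 := (mul_cancel_right_mem_nonZeroDivisors hcreg).1 h1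
    exact IsUnit.of_mul_eq_one a h2
  · obtain ⟨a, ha⟩ := Ideal.mem_span_singleton'.1 ht'
    have h1 : (c * a) * t = 1 * t := by
      rw [one_mul]
      conv_rhs => rw [← ha, h]
      ring
    have h2 := (mul_cancel_right_mem_nonZeroDivisors htreg).1 h1
    exact IsUnit.of_mul_eq_one a h2

variable [Flat X.hom] [Smooth X.hom]

theorem exists_affine_ker_eq_span (Γ : ArSurf.VertComp R X) (hcart : BlowUp.IsEffCartierIdeal Γ.ι.ker)
    {ϖ : R} (hϖ : Irreducible ϖ) (x : X.left) (hx : x ∈ Set.range Γ.ι) :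
    ∃ A : X.left.affineOpens, x ∈ A.1 ∧
      Γ.ι.ker.ideal A = Ideal.span {Groth.Agent.Lib.T2H4.FibreComp.secHom R X A.1 ϖ} := by
  obtain ⟨U, hxU, t, ht, hUt⟩ := hcart x
  have hxs : x ∈ Models.specialFibreSet R X :=
    Groth.Agent.Lib.T2H9.ArInterI.range_subset_specialFibreSet Γ hx
  have hle : Models.specialFibreIdeal R X ≤ Γ.ι.ker :=
    specialFibreIdeal_le_ker Γ (Groth.Agent.Lib.T2H9.ArInterI.range_subset_specialFibreSet Γ)
  have hπmem : Groth.Agent.Lib.T2H4.FibreComp.secHom R X U.1 ϖ ∈ Γ.ι.ker.ideal U := by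
    apply hle U
    rw [specialFibreIdeal_ideal_eq_span R X ϖ hϖ U]
    exact Ideal.mem_span_singleton_self _
  rw [hUt] at hπmem
  obtain ⟨c, hc⟩ := Ideal.mem_span_singleton'.1 hπmem
  -- the local ring at `x`
  have hwprime : (Ideal.span {Models.stalkHom R X x ϖ}).IsPrime := by
    rw [← map_maximalIdeal_eq_span hϖ x hxs]
    exact isPrime_map_maximalIdeal_of_smooth X.hom x
  have hgw : X.left.presheaf.germ U.1 x hxU (Groth.Agent.Lib.T2H4.FibreComp.secHom R X U.1 ϖ) =
      Models.stalkHom R X x ϖ := by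
    rw [stalkHom_eq U.1 x hxU]
    rfl
  have hwreg : Models.stalkHom R X x ϖ ∈ nonZeroDivisors (X.left.presheaf.stalk x) := by
    rw [← hgw]
    exact germ_mem_nonZeroDivisors U x hxU _ (secHom_mem_nonZeroDivisors R X U ϖ hϖ.ne_zero)
  have htreg := germ_mem_nonZeroDivisors U x hxU t ht
  have htnu : ¬ IsUnit (X.left.presheaf.germ U.1 x hxU t) := by
    intro hu
    have hxb : x ∈ X.left.basicOpen t := (X.left.mem_basicOpen t x hxU).2 hu
    have hxsupp : x ∈ Γ.ι.ker.support := by
      rw [← SetLike.mem_coe, coe_support_ker]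
      exact hx
    have h1 := (Groth.Agent.Lib.T2H4.EffCartProd.mem_support_iff_le_primeIdealOf Γ.ι.ker U x hxU).1 hxsupp
    have h2 : t ∈ (U.2.primeIdealOf ⟨x, hxU⟩).asIdeal := by
      apply h1
      rw [hUt]
      exact Ideal.mem_span_singleton_self t
    exact (Groth.Agent.Lib.Helper14.mem_basicOpen_iff_notMem_primeIdealOf U.2 x hxU t).1 hxb h2
  have hcu : IsUnit (X.left.presheaf.germ U.1 x hxU c) := by
    refine isUnit_of_mul_eq_of_isPrime _ _ _ hwprime hwreg htreg htnu ?_
    rw [← hgw, ← hc, map_mul]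
  have hxc : x ∈ X.left.basicOpen c := (X.left.mem_basicOpen c x hxU).2 hcu
  refine ⟨X.left.affineBasicOpen c, hxc, ?_⟩
  rw [← Γ.ι.ker.map_ideal_basicOpen U c, hUt, Ideal.map_span, Set.image_singleton]
  have h1 : resf (X.left.basicOpen_le c) (Groth.Agent.Lib.T2H4.FibreComp.secHom R X U.1 ϖ) =
      resf (X.left.basicOpen_le c) c * resf (X.left.basicOpen_le c) t := by
    rw [← hc]
    exact map_mul _ _ _
  have h2 : Groth.Agent.Lib.T2H4.FibreComp.secHom R X (X.left.affineBasicOpen c).1 ϖ =
      resf (X.left.basicOpen_le c) c * resf (X.left.basicOpen_le c) t := by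
    rw [← h1]
    exact (secHom_res (X.left.basicOpen_le c) ϖ).symm
  rw [h2]
  exact (Ideal.span_singleton_mul_left_unit (RingedSpace.isUnit_res_basicOpen _ c) _).symm

end Groth.Agent.Lib.T2H9.SmoothMinB
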