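import Groth.Agent.Lib.T2H9SmoothMinB
import Groth.Agent.Lib.Helper2IsGenCover
import Groth.Agent.Lib.T2H9PicPn5
import Groth.Agent.Lib.T2H5Twist
import Groth.Agent.Lib.T2H9PicModelE
set_option backward.isDefEq.respectTransparency.types false

/-!
# T2H9SmoothMinC (helper9): a smooth proper model over a discrete valuation ring has no exceptional curve of the first
kind in its closed fibre (the conormal sheaf of a vertical Cartier prime divisor is trivial)
-/

set_option autoImplicit false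
set_option linter.style.haveILetI false
set_option linter.unusedSectionVars false
universe u

open AlgebraicGeometry CategoryTheory Limits TopologicalSpace Opposite

namespace Groth.Agent.Lib.T2H9.SmoothMinC

open Groth.Agent.Lib.Helper23.SecTw Groth.Agent.Lib.Helper23.GenLocus Groth.Agent.Lib.Helper6
  Groth.Agent.Lib.T2H4.AmpleCartier Groth.Agent.Lib.T2H9.IdealProd
  Groth.Agent.Lib.T2H4.FibreComp Groth.Agent.Lib.T2H9.SmoothMinA Groth.Agent.Lib.T2H9.SmoothMinB

section general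

/-- the pullback of a module along a morphism landing in an open set where the module is trivial -/
theorem nonempty_pullback_iso_of_range_subset {E Y : Scheme.{u}} (h : E ⟶ Y) (U : Y.Opens)
    (hsub : Set.range h.base ⊆ U) (M : Y.Modules)
    (ε : M.restrict U.ι ≅ Coh.structureModule (U : Scheme.{u})) :
    Nonempty ((Scheme.Modules.pullback h).obj M ≅ Coh.structureModule E) := by
  have hsub' : Set.range h.base ⊆ Set.range U.ι.base := by
    rw [Scheme.Opens.range_ι]
    exact hsub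
  let h' : E ⟶ U := IsOpenImmersion.lift U.ι h hsub'
  have hh' : h' ≫ U.ι = h := IsOpenImmersion.lift_fac U.ι h hsub'
  let e1 : (Scheme.Modules.pullback h).obj M ≅ (Scheme.Modules.pullback (h' ≫ U.ι)).obj M :=
    (Scheme.Modules.pullbackCongr hh'.symm).app M
  let e2 : (Scheme.Modules.pullback (h' ≫ U.ι)).obj M ≅
      (Scheme.Modules.pullback h').obj ((Scheme.Modules.pullback U.ι).obj M) :=
    ((Scheme.Modules.pullbackComp h' U.ι).app M).symm
  let e3 : (Scheme.Modules.pullback U.ι).obj M ≅ Coh.structureModule (U : Scheme.{u}) :=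
    ((Scheme.Modules.restrictFunctorIsoPullback U.ι).app M).symm ≪≫ ε
  exact ⟨e1 ≪≫ e2 ≪≫ (Scheme.Modules.pullback h').mapIso e3 ≪≫
    Groth.Agent.Lib.Helper23.PB.pullbackUnitIso h'⟩

variable {Y : Scheme.{u}}

/-- a section of the ideal module whose function generates the ideal, regularly, on all affine opens inside `U`,
generates the ideal module over `U` -/
theorem isGen_idealMod_of_span (I : Y.IdealSheafData) (U : Y.Opens) (a : Γ(ClSub.idealMod I, U))
    (hspan : ∀ (V : Y.affineOpens) (hV : V.1 ≤ U), I.ideal V = Ideal.span {resf hV (ιf I U a)})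
    (hreg : ∀ (V : Y.affineOpens) (hV : V.1 ≤ U), resf hV (ιf I U a) ∈ nonZeroDivisors Γ(Y, V.1)) :
    IsGen (ClSub.idealMod I) U a := by
  refine Groth.Agent.Lib.Helper23.PB.isGen_of_affine _ U a fun A hA hAaff => ⟨?_, ?_⟩
  · intro r r' hrr
    have h1 := congrArg (ιf I A) hrr
    simp only [ιf_smul, ιf_res] at h1
    exact (mul_cancel_right_mem_nonZeroDivisors (hreg ⟨A, hAaff⟩ hA)).1 h1
  · intro b
    have hb := ιf_mem_ideal I ⟨A, hAaff⟩ b
    rw [hspan ⟨A, hAaff⟩ hA] at hb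
    obtain ⟨r, hr⟩ := Ideal.mem_span_singleton'.mp hb
    refine ⟨r, ιf_injective I A ?_⟩
    simp only [ιf_smul, ιf_res]
    exact hr

end general

variable {R : Type u} [CommRing R] [IsDomain R] [IsDiscreteValuationRing R]
  {X : Over (Spec (CommRingCat.of R))} [Flat X.hom] [Smooth X.hom]

/-- **the ideal module of a vertical Cartier prime divisor of a smooth `R`-scheme is trivial near the divisor** -/
theorem exists_open_trivial (Γ : ArSurf.VertComp R X) (hcart : BlowUp.IsEffCartierIdeal Γ.ι.ker) :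
    ∃ W : X.left.Opens, Set.range Γ.ι ⊆ W ∧
      Nonempty ((ClSub.idealMod Γ.ι.ker).restrict W.ι ≅ Coh.structureModule (W : Scheme.{u})) := by
  obtain ⟨ϖ, hϖ⟩ := IsDiscreteValuationRing.exists_irreducible R
  have hle : Models.specialFibreIdeal R X ≤ Γ.ι.ker :=
    specialFibreIdeal_le_ker Γ (Groth.Agent.Lib.T2H9.ArInterI.range_subset_specialFibreSet Γ)
  set π := Groth.Agent.Lib.T2H4.FibreComp.secHom R X ⊤ ϖ with hπ
  have h0 : (ClSub.toSubscheme Γ.ι.ker).app ⊤ (toS ⊤ π) = 0 := by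
    refine toSubscheme_app_eq_zero_of_forall Γ.ι.ker ⊤ π fun V hV => ?_
    apply hle V
    rw [specialFibreIdeal_ideal_eq_span R X ϖ hϖ V, hπ, Groth.Agent.Lib.T2H9.ArInterB.resf_secHom]
    exact Ideal.mem_span_singleton_self _
  obtain ⟨a, ha⟩ : ∃ a : Γ(ClSub.idealMod Γ.ι.ker, ⊤), ιf Γ.ι.ker ⊤ a = π :=
    ⟨OmegaSh.kerLift (ClSub.toSubscheme Γ.ι.ker) ⊤ (toS ⊤ π) h0,
      congrArg (ofS ⊤) (OmegaSh.ι_kerLift (ClSub.toSubscheme Γ.ι.ker) ⊤ (toS ⊤ π) h0)⟩
  let J : Type u := {A : X.left.affineOpens //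
    Γ.ι.ker.ideal A = Ideal.span {Groth.Agent.Lib.T2H4.FibreComp.secHom R X A.1 ϖ}}
  let W : X.left.Opens := ⨆ A : J, A.1.1
  have hWle : ∀ A : J, A.1.1 ≤ W := fun A => le_iSup (fun A : J => A.1.1) A
  have hsub : Set.range Γ.ι ⊆ W := by
    intro x hx
    obtain ⟨A, hxA, hA⟩ := exists_affine_ker_eq_span Γ hcart hϖ x hx
    exact hWle ⟨A, hA⟩ hxA
  refine ⟨W, hsub, ?_⟩
  have hgenA : ∀ A : J, IsGen (ClSub.idealMod Γ.ι.ker) A.1.1
      (res (ClSub.idealMod Γ.ι.ker) (le_top : A.1.1 ≤ ⊤) a) := by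
    intro A
    have hfun : ∀ (V : X.left.affineOpens) (hV : V.1 ≤ A.1.1),
        resf hV (ιf Γ.ι.ker A.1.1 (res (ClSub.idealMod Γ.ι.ker) (le_top : A.1.1 ≤ ⊤) a)) =
          Groth.Agent.Lib.T2H4.FibreComp.secHom R X V.1 ϖ := by
      intro V hV
      rw [ιf_res, ha, resf_resf, hπ, Groth.Agent.Lib.T2H9.ArInterB.resf_secHom]
    refine isGen_idealMod_of_span _ _ _ (fun V hV => ?_) (fun V hV => ?_)
    · rw [hfun V hV, ← Γ.ι.ker.map_ideal (U := V) (V := A.1) hV, A.2, Ideal.map_span, Set.image_singleton]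
      congr 2
      exact secHom_res hV ϖ
    · rw [hfun V hV]
      exact secHom_mem_nonZeroDivisors R X V ϖ hϖ.ne_zero
  have hgenW : IsGen (ClSub.idealMod Γ.ι.ker) W (res (ClSub.idealMod Γ.ι.ker) (le_top : W ≤ ⊤) a) := by
    refine Groth.Agent.Lib.Helper2.IsGenCover.isGen_of_cover _ W _ (fun A : J => A.1.1) hWle ?_ ?_
    · intro x hx
      obtain ⟨A, hA⟩ := Opens.mem_iSup.1 hx
      exact ⟨A, hA⟩
    · intro A
      rw [res_res]
      exact hgenA A
  exact nonempty_restrict_iso_of_isGen _ W _ hgenW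

/-- **a smooth `R`-scheme has no exceptional curve of the first kind in its closed fibre** -/
theorem not_isExcCurve (Γ : ArSurf.VertComp R X) : ¬ Models.IsExcCurve Γ.ι := by
  rintro ⟨hcart, k, hk, e, ⟨φ⟩⟩
  letI := hk
  obtain ⟨W, hsub, ⟨ε⟩⟩ := exists_open_trivial Γ hcart
  have hsub' : Set.range (e.hom ≫ Γ.ι).base ⊆ W := by
    rintro _ ⟨y, rfl⟩
    exact hsub ⟨e.hom.base y, rfl⟩
  obtain ⟨ψ⟩ := nonempty_pullback_iso_of_range_subset (e.hom ≫ Γ.ι) W hsub' _ ε
  obtain ⟨z⟩ := Groth.Agent.Lib.T2H5.Twist.nonempty_twist_zero_iso 1 k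
  have h01 : (0 : ℤ) = 1 :=
    Groth.Agent.Lib.T2H9.PicPn.twist_injective (n := 1) (R := k) le_rfl (z ≪≫ ψ.symm ≪≫ φ)
  omega

end Groth.Agent.Lib.T2H9.SmoothMinC
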