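import Groth.Agent.Lib.T2H9SteinFinite
import Groth.Agent.Lib.Helper4NormIso
import Groth.Prelude.Def_ega3

/-!
# `f_* O_X = O_Y` for a proper dominant morphism to a normal scheme with `R(Y)` algebraically closed
in `R(X)` (helper9)
-/

set_option autoImplicit false
set_option linter.style.haveILetI false
set_option linter.unusedSectionVars false
set_option linter.unusedVariables false
universe u
open CategoryTheory AlgebraicGeometry Limits TopologicalSpace Opposite

namespace Groth.Agent.Lib.T2H9.SteinNormal

variable {X Y : Scheme.{u}} [IsIntegral X] [IsIntegral Y] (f : X ⟶ Y)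
  (hdom : f.base (genericPoint X) ⤳ genericPoint Y)

include hdom in
theorem genericPoint_mem_preimage (V : Y.Opens) [hV : Nonempty V] :
    genericPoint X ∈ f ⁻¹ᵁ V := by
  have h1 : genericPoint Y ∈ V :=
    ((genericPoint_spec Y).mem_open_set_iff V.isOpen).mpr (by simpa using hV)
  exact hdom.mem_open V.isOpen h1

include hdom in
theorem nonempty_preimage (V : Y.Opens) [hV : Nonempty V] : Nonempty (f ⁻¹ᵁ V) :=
  ⟨⟨genericPoint X, genericPoint_mem_preimage f hdom V⟩⟩

/-- compatibility of the germ maps with the map of function fields -/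
theorem germ_app (V : Y.Opens) [hV : Nonempty V] (r : Γ(Y, V)) :
    haveI := nonempty_preimage f hdom V
    X.germToFunctionField (f ⁻¹ᵁ V) (f.app V r) =
      CohIII.stalkToFunctionField f (genericPoint Y) hdom (Y.germToFunctionField V r) := by
  haveI := nonempty_preimage f hdom V
  have h1 : genericPoint Y ∈ V :=
    ((genericPoint_spec Y).mem_open_set_iff V.isOpen).mpr (by simpa using hV)
  have h2 : f.base (genericPoint X) ∈ V := hdom.mem_open V.isOpen h1
  change _ = f.stalkMap (genericPoint X)
    (Y.presheaf.stalkSpecializes hdom (Y.presheaf.germ V (genericPoint Y) h1 r))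
  have e1 : Y.presheaf.stalkSpecializes hdom (Y.presheaf.germ V (genericPoint Y) h1 r) =
      Y.presheaf.germ V (f.base (genericPoint X)) h2 r :=
    ConcreteCategory.congr_hom (TopCat.Presheaf.germ_stalkSpecializes Y.presheaf h1 hdom) r
  rw [e1, Scheme.Hom.germ_stalkMap_apply]

section main

variable [IsLocallyNoetherian Y] [IsProper f]

/-- over a nonempty affine open of the normal base, `O_Y(V) → O_X(f⁻¹V)` is bijective -/
theorem app_bijective_of_isAffineOpen (hY : Pi1.IsNormalScheme Y)
    (halg : ∀ x : X.functionField,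
      (∃ p : Polynomial Y.functionField, p ≠ 0 ∧
        Polynomial.eval₂ (CohIII.stalkToFunctionField f (genericPoint Y) hdom) x p = 0) →
      x ∈ Set.range (CohIII.stalkToFunctionField f (genericPoint Y) hdom))
    (V : Y.Opens) (hV : IsAffineOpen V) [hne : Nonempty V] :
    Function.Bijective (f.app V).hom := by
  haveI := nonempty_preimage f hdom V
  set ι := CohIII.stalkToFunctionField f (genericPoint Y) hdom with hι'
  have hι : Function.Injective ι := ι.injective
  have hgX := X.germToFunctionField_injective (f ⁻¹ᵁ V)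
  have hgY := Y.germToFunctionField_injective V
  have hcomp : ι.comp (Y.germToFunctionField V).hom =
      (X.germToFunctionField (f ⁻¹ᵁ V)).hom.comp (f.app V).hom :=
    RingHom.ext fun r => (germ_app f hdom V r).symm
  constructor
  · intro r r' h
    apply hgY
    apply hι
    have e1 := germ_app f hdom V r
    have e2 := germ_app f hdom V r'
    rw [← hι'] at e1 e2
    rw [← e1, ← e2]
    exact congrArg _ h
  · intro s
    letI := (f.app V).hom.toAlgebra
    haveI : Module.Finite Γ(Y, V) Γ(X, f ⁻¹ᵁ V) :=
      Groth.Agent.Lib.T2H9.SteinFinite.finite_sections_of_isProper f V hV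
    have hint : IsIntegral Γ(Y, V) s := Algebra.IsIntegral.isIntegral s
    obtain ⟨P, hP, hPs⟩ := hint
    have hPs' : Polynomial.eval₂ (f.app V).hom s P = 0 := hPs
    have h1 : Polynomial.eval₂ ι ((X.germToFunctionField (f ⁻¹ᵁ V)).hom s)
        (P.map (Y.germToFunctionField V).hom) = 0 := by
      rw [Polynomial.eval₂_map, hcomp, ← Polynomial.hom_eval₂, hPs', map_zero]
    obtain ⟨t, ht⟩ := halg _ ⟨P.map (Y.germToFunctionField V).hom, (hP.map _).ne_zero, h1⟩
    have h2 : Polynomial.eval₂ (Y.germToFunctionField V).hom t P = 0 := by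
      apply hι
      rw [map_zero, Polynomial.hom_eval₂, ht, ← Polynomial.eval₂_map]
      exact h1
    haveI := functionField_isFractionRing_of_isAffineOpen Y V hV
    haveI := Groth.Agent.Lib.Helper4.NormIso.isIntegrallyClosed_sections hY V hV
    haveI : IsDomain Γ(Y, V) := IsIntegral.component_integral V
    have hint' : IsIntegral Γ(Y, V) t := ⟨P, hP, h2⟩
    obtain ⟨r, hr⟩ := IsIntegrallyClosed.algebraMap_eq_of_integral hint'
    refine ⟨r, ?_⟩
    apply hgX
    have e1 := germ_app f hdom V r
    rw [← hι'] at e1
    refine e1.trans ?_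
    rw [← ht]
    exact congrArg ι hr

theorem isBasis_range_affine :
    Opens.IsBasis (Set.range (Subtype.val : Y.affineOpens → Y.Opens)) := by
  rw [Subtype.range_coe]
  exact Y.isBasis_affineOpens

/-- S2422 -/
theorem isIso_app (hY : Pi1.IsNormalScheme Y)
    (halg : ∀ x : X.functionField,
      (∃ p : Polynomial Y.functionField, p ≠ 0 ∧
        Polynomial.eval₂ (CohIII.stalkToFunctionField f (genericPoint Y) hdom) x p = 0) →
      x ∈ Set.range (CohIII.stalkToFunctionField f (genericPoint Y) hdom))
    (V : Y.Opens) : IsIso (f.app V) := by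
  let φ : Y.sheaf ⟶ (TopCat.Sheaf.pushforward CommRingCat f.base).obj X.sheaf := ⟨f.c⟩
  have hφ : IsIso φ := by
    apply TopCat.Sheaf.isIso_iff_isIso_basis (B := (Subtype.val : Y.affineOpens → Y.Opens))
      isBasis_range_affine
    intro U
    change IsIso (f.app U.1)
    rw [ConcreteCategory.isIso_iff_bijective]
    by_cases hne : Nonempty U.1
    · exact app_bijective_of_isAffineOpen f hdom hY halg U.1 U.2
    · have hU : U.1 = ⊥ := by
        ext x
        simp only [Opens.coe_bot, Set.mem_empty_iff_false, iff_false]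
        intro hx
        exact hne ⟨⟨x, hx⟩⟩
      rw [hU]
      haveI : Subsingleton Γ(X, f ⁻¹ᵁ ⊥) := inferInstanceAs (Subsingleton Γ(X, ⊥))
      exact ⟨fun a b _ => Subsingleton.elim _ _, fun b => ⟨0, Subsingleton.elim _ _⟩⟩
  haveI := hφ
  haveI : IsIso ((sheafToPresheaf _ _).map φ) := Functor.map_isIso _ φ
  exact NatIso.isIso_app_of_isIso ((sheafToPresheaf _ _).map φ) (op V)

end main

end Groth.Agent.Lib.T2H9.SteinNormal
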