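import Mathlib
import Groth.Agent.Lib.Helper10RedInd

/-!
# Smooth stratifications: assembling from closed immersions (helper9, S7632)
-/

set_option autoImplicit false
set_option linter.style.haveILetI false
set_option linter.unusedSectionVars false
universe u
open CategoryTheory CategoryTheory.Limits AlgebraicGeometry TopologicalSpace

namespace Groth.Agent.Lib.T2H9.Strat

open Scheme.IdealSheafData

variable {Y S : Scheme.{u}}

/-- transport of smoothness along an equality of opens -/
lemma smooth_ι_comp_congr {Z T : Scheme.{u}} {U U' : Z.Opens} (h : U = U') (φ : Z ⟶ T)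
    (hs : Smooth (U.ι ≫ φ)) : Smooth (U'.ι ≫ φ) := by
  subst h; exact hs

/-- **key transport**: smoothness of an open part of a closed subscheme `Z ↪ Y` passes to the
corresponding open part of the subscheme `V(ker)` of `Y`. -/
theorem smooth_ker_subscheme {Z : Scheme.{u}} (g : Z ⟶ Y) [IsClosedImmersion g] (f : Y ⟶ S)
    (T : Y.Opens) (h : Smooth ((g ⁻¹ᵁ T).ι ≫ g ≫ f)) :
    Smooth ((g.ker.subschemeι ⁻¹ᵁ T).ι ≫ g.ker.subschemeι ≫ f) := by
  have hg : g.toImage ≫ g.imageι = g := Scheme.Hom.toImage_imageι g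
  have h1 : Smooth (((g.toImage ≫ g.imageι) ⁻¹ᵁ T).ι ≫ (g.toImage ≫ g.imageι) ≫ f) := by
    rw [hg]; exact h
  have h2 : ((g.toImage ≫ g.imageι) ⁻¹ᵁ T).ι ≫ (g.toImage ≫ g.imageι) ≫ f =
      (g.toImage ∣_ (g.imageι ⁻¹ᵁ T)) ≫ (g.imageι ⁻¹ᵁ T).ι ≫ g.imageι ≫ f := by
    rw [← Category.assoc (g.toImage ∣_ (g.imageι ⁻¹ᵁ T)), morphismRestrict_ι]
    simp only [Category.assoc]
    rfl
  rw [h2] at h1
  exact (MorphismProperty.cancel_left_of_respectsIso (P := @Smooth)
    (g.toImage ∣_ (g.imageι ⁻¹ᵁ T)) _).mp h1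

/-- a smooth stratification of `Y` over `S` by closed subschemes -/
def HasStrat (f : Y ⟶ S) : Prop :=
  ∃ (t : ℕ) (I : Fin (t + 1) → Y.IdealSheafData), Monotone I ∧ I 0 = vanishingIdeal ⊤ ∧
    I (Fin.last t) = ⊤ ∧
    ∀ i : Fin t, Smooth (((I i.castSucc).subschemeι ⁻¹ᵁ (I i.succ).support.compl).ι ≫
      (I i.castSucc).subschemeι ≫ f)

/-- assembling a stratification from closed immersions with prescribed kernels -/
theorem hasStrat_of_closedImmersions (f : Y ⟶ S) (t : ℕ) (I : Fin (t + 1) → Y.IdealSheafData)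
    (hmono : Monotone I) (h0 : I 0 = vanishingIdeal ⊤) (hlast : I (Fin.last t) = ⊤)
    (h : ∀ i : Fin t, ∃ (Z : Scheme.{u}) (g : Z ⟶ Y) (_ : IsClosedImmersion g),
      g.ker = I i.castSucc ∧ Smooth ((g ⁻¹ᵁ (I i.succ).support.compl).ι ≫ g ≫ f)) :
    HasStrat f := by
  refine ⟨t, I, hmono, h0, hlast, fun i => ?_⟩
  obtain ⟨Z, g, _, hker, hs⟩ := h i
  have := smooth_ker_subscheme g f _ hs
  rw [hker] at this
  exact this

/-- the kernel of a closed immersion from a reduced scheme with dense range is the nilradical -/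
lemma ker_eq_vanishingIdeal_top {Z : Scheme.{u}} (g : Z ⟶ Y) [IsReduced Z]
    (hg : Function.Surjective g) : g.ker = vanishingIdeal ⊤ := by
  rw [Groth.Agent.Lib.Helper10.RedInd.ker_eq_vanishingIdeal_of_isReduced]
  congr 1
  ext x
  simp [hg.range_eq]

/-- support of the kernel of `V(J) ↪ Y' ↪ Y` -/
lemma coe_support_ker_comp {Y' : Scheme.{u}} (j : Y' ⟶ Y) [IsClosedImmersion j]
    (J : Y'.IdealSheafData) :
    ((J.subschemeι ≫ j).ker.support : Set Y) = j '' (J.support : Set Y') := by
  rw [Scheme.Hom.support_ker, Scheme.Hom.comp_base, TopCat.coe_comp, Set.range_comp,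
    Scheme.IdealSheafData.range_subschemeι]
  exact (j.isClosedEmbedding.isClosedMap _ J.support.isClosed).closure_eq

/-- the open part of a stratum computed upstairs -/
lemma preimage_support_ker_compl {Y' Z : Scheme.{u}} (j : Y' ⟶ Y) [IsClosedImmersion j]
    (J : Y'.IdealSheafData) (ι : Z ⟶ Y') :
    (ι ≫ j) ⁻¹ᵁ ((J.subschemeι ≫ j).ker.support.compl) = ι ⁻¹ᵁ J.support.compl := by
  ext x
  change (ι ≫ j) x ∉ ((J.subschemeι ≫ j).ker.support : Set Y) ↔ ι x ∉ (J.support : Set Y')
  rw [coe_support_ker_comp, Scheme.Hom.comp_apply,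
    j.isClosedEmbedding.injective.mem_set_image]

/-- a smooth stratification can be transported along an isomorphism -/
theorem hasStrat_of_iso {Y' : Scheme.{u}} (e : Y ≅ Y') (f : Y ⟶ S) (f' : Y' ⟶ S)
    (hf : e.inv ≫ f = f') (h : HasStrat f') : HasStrat f := by
  obtain ⟨t, I', hmono, h0, hlast, hs⟩ := h
  let g : ∀ i, (I' i).subscheme ⟶ Y := fun i => (I' i).subschemeι ≫ e.inv
  have hci : ∀ i, IsClosedImmersion (g i) := fun i => inferInstance
  apply hasStrat_of_closedImmersions f t (fun i => (g i).ker)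
  · intro i j hij
    have h1 := hmono hij
    have : g j = inclusion h1 ≫ g i := by
      simp only [g]
      rw [← Category.assoc, inclusion_subschemeι]
    change (g i).ker ≤ (g j).ker
    rw [this]
    exact Scheme.Hom.le_ker_comp _ _
  · haveI : IsReduced (I' 0).subscheme := by
      rw [h0]
      exact Groth.Agent.Lib.Helper10.RedInd.isReduced_subscheme_vanishingIdeal ⊤
    apply ker_eq_vanishingIdeal_top
    have h1 : Function.Surjective (I' 0).subschemeι := by
      rw [← Set.range_eq_univ, Scheme.IdealSheafData.range_subschemeι, h0,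
        Scheme.IdealSheafData.coe_support_vanishingIdeal]
      rfl
    simp only [g, Scheme.Hom.comp_base, TopCat.coe_comp]
    exact (e.symm.hom.homeomorph.surjective).comp h1
  · change (g (Fin.last t)).ker = ⊤
    rw [Scheme.Hom.ker_eq_top_iff_isEmpty]
    have : (I' (Fin.last t)).subschemeι.ker = ⊤ := by rw [ker_subschemeι, hlast]
    exact (Scheme.Hom.ker_eq_top_iff_isEmpty _).mp this
  · intro i
    refine ⟨_, g i.castSucc, hci _, rfl, ?_⟩
    have hopen : g i.castSucc ⁻¹ᵁ ((g i.succ).ker.support.compl) =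
        (I' i.castSucc).subschemeι ⁻¹ᵁ (I' i.succ).support.compl :=
      preimage_support_ker_compl e.inv (I' i.succ) (I' i.castSucc).subschemeι
    have h1 := hs i
    rw [← hf] at h1
    have h2 := smooth_ι_comp_congr hopen.symm _ h1
    simpa only [g, Category.assoc] using h2

/-- **inductive step**: a stratification of a closed subscheme `W` whose complement in the
reduction `Z₀` of `Y` is smooth extends to a stratification of `Y`. -/
theorem hasStrat_step {W Z₀ : Scheme.{u}} (f : Y ⟶ S) (g₀ : Z₀ ⟶ Y) [IsClosedImmersion g₀]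
    [IsReduced Z₀] (hg₀ : Function.Surjective g₀) (j : W ⟶ Y) [IsClosedImmersion j]
    (T : Y.Opens) (hT : (T : Set Y) = (Set.range j)ᶜ)
    (hsm : Smooth ((g₀ ⁻¹ᵁ T).ι ≫ g₀ ≫ f)) (hW : HasStrat (j ≫ f)) : HasStrat f := by
  obtain ⟨s, J, hmono, h0, hlast, hs⟩ := hW
  let I : Fin (s + 1 + 1) → Y.IdealSheafData :=
    Fin.cons (vanishingIdeal ⊤) (fun i : Fin (s + 1) => ((J i).subschemeι ≫ j).ker)
  have hI0 : I 0 = vanishingIdeal ⊤ := rfl
  have hIsucc : ∀ i : Fin (s + 1), I i.succ = ((J i).subschemeι ≫ j).ker := fun i => rfl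
  haveI hred : IsReduced (J 0).subscheme := by
    rw [h0]
    exact Groth.Agent.Lib.Helper10.RedInd.isReduced_subscheme_vanishingIdeal ⊤
  have hsupp1 : ((I (0 : Fin (s + 1)).succ).support : Set Y) = Set.range j := by
    rw [hIsucc, coe_support_ker_comp, h0, Scheme.IdealSheafData.coe_support_vanishingIdeal]
    simp
  apply hasStrat_of_closedImmersions f (s + 1) I
  · rw [Fin.monotone_iff_le_succ]
    intro i
    refine Fin.cases ?_ (fun i' => ?_) i
    · change I 0 ≤ I (0 : Fin (s + 1)).succ
      rw [hI0, hIsucc, Groth.Agent.Lib.Helper10.RedInd.ker_eq_vanishingIdeal_of_isReduced]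
      exact vanishingIdeal_antimono le_top
    · change I (i'.castSucc.succ) ≤ I (i'.succ.succ)
      rw [hIsucc, hIsucc]
      have h1 : J i'.castSucc ≤ J i'.succ := hmono (Fin.castSucc_lt_succ).le
      have : (J i'.succ).subschemeι ≫ j = inclusion h1 ≫ (J i'.castSucc).subschemeι ≫ j := by
        rw [← Category.assoc, inclusion_subschemeι]
      rw [this]
      exact Scheme.Hom.le_ker_comp _ _
  · exact hI0
  · change I (Fin.last s).succ = ⊤
    rw [hIsucc, Scheme.Hom.ker_eq_top_iff_isEmpty]
    have : (J (Fin.last s)).subschemeι.ker = ⊤ := by rw [ker_subschemeι, hlast]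
    exact (Scheme.Hom.ker_eq_top_iff_isEmpty _).mp this
  · intro i
    refine Fin.cases ?_ (fun i' => ?_) i
    · refine ⟨Z₀, g₀, inferInstance, ?_, ?_⟩
      · change g₀.ker = I 0
        rw [hI0]
        exact ker_eq_vanishingIdeal_top g₀ hg₀
      · have hopen : T = (I (0 : Fin (s + 1)).succ).support.compl := by
          ext x
          change x ∈ (T : Set Y) ↔ x ∉ ((I (0 : Fin (s + 1)).succ).support : Set Y)
          rw [hT, hsupp1]
          rfl
        rw [← hopen]
        exact hsm
    · refine ⟨(J i'.castSucc).subscheme, (J i'.castSucc).subschemeι ≫ j, inferInstance, ?_, ?_⟩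
      · change _ = I (i'.castSucc.succ)
        rw [hIsucc]
      · change Smooth ((((J i'.castSucc).subschemeι ≫ j) ⁻¹ᵁ (I i'.succ.succ).support.compl).ι ≫
          ((J i'.castSucc).subschemeι ≫ j) ≫ f)
        rw [hIsucc]
        have hopen := preimage_support_ker_compl j (J i'.succ) (J i'.castSucc).subschemeι
        have h1 := hs i'
        have h2 := smooth_ι_comp_congr hopen.symm _ h1
        simpa only [Category.assoc] using h2

end Groth.Agent.Lib.T2H9.Strat
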