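import Mathlib

/-!
# Dimension of nowhere dense closed subsets; base change along purely inseparable extensions
(helper9, S7632)
-/

set_option autoImplicit false
set_option linter.style.haveILetI false
set_option linter.unusedSectionVars false
universe u
open CategoryTheory CategoryTheory.Limits AlgebraicGeometry TopologicalSpace

namespace Groth.Agent.Lib.T2H9.Strat

/-- a closed subspace with empty interior of a Noetherian space has smaller dimension -/
theorem topologicalKrullDim_lt_of_nowhereDense {W T : Type*} [TopologicalSpace W]
    [TopologicalSpace T] [NoetherianSpace T] (f : W → T) (hf : Topology.IsClosedEmbedding f)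
    (hnd : interior (Set.range f) = ∅) (n : ℕ)
    (hT : topologicalKrullDim T < ((n + 1 : ℕ) : WithBot ℕ∞)) :
    topologicalKrullDim W < (n : WithBot ℕ∞) := by
  unfold topologicalKrullDim at hT ⊢
  rw [Order.krullDim_lt_coe_iff] at hT ⊢
  intro l
  let l' : LTSeries (IrreducibleCloseds T) :=
    l.map (IrreducibleCloseds.map f hf.continuous)
      (IrreducibleCloseds.map_strictMono_of_isInducing hf.isInducing)
  -- an irreducible component containing the last term
  obtain ⟨t, ht, hst, hmax⟩ := exists_preirreducible (l'.last : Set T)
    l'.last.isIrreducible.isPreirreducible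
  have htne : t.Nonempty := l'.last.isIrreducible.nonempty.mono hst
  have htirr : IsIrreducible t := ⟨htne, ht⟩
  have htcomp : t ∈ irreducibleComponents T :=
    ⟨htirr, fun u hu htu => (hmax u hu.isPreirreducible htu).le⟩
  have htcl : IsClosed t := isClosed_of_mem_irreducibleComponents t htcomp
  let C : IrreducibleCloseds T := ⟨t, htirr, htcl⟩
  have hlast_sub : (l'.last : Set T) ⊆ Set.range f := by
    change closure (f '' (l.last : Set W)) ⊆ Set.range f
    exact closure_minimal (Set.image_subset_range _ _) hf.isClosed_range
  have hlt : l'.last < C := by
    refine lt_of_le_of_ne hst ?_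
    intro heq
    obtain ⟨o, ho, hone, hot⟩ :=
      NoetherianSpace.exists_isOpen_nonempty_subset_irreducibleComponent t htcomp
    have h1 : o ⊆ interior (Set.range f) := by
      apply interior_maximal _ ho
      intro x hx
      apply hlast_sub
      rw [heq]
      exact hot hx
    rw [hnd] at h1
    exact hone.ne_empty (Set.subset_empty_iff.mp h1)
  have := hT (l'.snoc C hlt)
  simp only [RelSeries.snoc_length, l', LTSeries.map_length] at this
  omega

end Groth.Agent.Lib.T2H9.Strat
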