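import Mathlib
import Groth.Prelude.Def_CurvBase
import Groth.Agent.Lib.T2H9Strat
import Groth.Agent.Lib.T2H9Strat2
import Groth.Agent.Lib.Helper2GeomPts
import Groth.Agent.Lib.T2H9PIRedGRSch
import Groth.Agent.Lib.Helper3DimCons

/-!
# Smooth stratifications after a finite purely inseparable extension (helper9, S7632)
-/

set_option autoImplicit false
set_option linter.style.haveILetI false
set_option linter.unusedSectionVars false
universe u
open CategoryTheory CategoryTheory.Limits AlgebraicGeometry TopologicalSpace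

namespace Groth.Agent.Lib.T2H9.Strat

open Scheme.IdealSheafData

/-- the empty scheme has the trivial stratification -/
theorem hasStrat_of_isEmpty {Y S : Scheme.{u}} (f : Y ⟶ S) [IsEmpty Y] : HasStrat f := by
  have htop : (⊤ : Y.IdealSheafData) = vanishingIdeal ⊤ := by
    have h1 : (𝟙 Y : Y ⟶ Y).ker = ⊤ := (Scheme.Hom.ker_eq_top_iff_isEmpty _).mpr inferInstance
    have h2 : (𝟙 Y : Y ⟶ Y).ker = vanishingIdeal ⊤ :=
      haveI : ∀ x : Y, _root_.IsReduced (Y.presheaf.stalk x) := fun x => isEmptyElim x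
      haveI : IsReduced Y := isReduced_of_isReduced_stalk Y
      ker_eq_vanishingIdeal_top (𝟙 Y) (fun y => ⟨y, rfl⟩)
    rw [← h1, h2]
  refine ⟨0, fun _ => ⊤, fun _ _ _ => le_rfl, htop, rfl, fun i => i.elim0⟩

/-- transport along an equality of the base-change morphism -/
theorem hasStrat_snd_congr {Y S S' : Scheme.{u}} (f : Y ⟶ S) {q q' : S' ⟶ S} (h : q = q')
    (hs : HasStrat (pullback.snd f q)) : HasStrat (pullback.snd f q') := by
  subst h; exact hs

/-- base change along a purely inseparable extension does not raise the dimension -/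
theorem topologicalKrullDim_pullback_le (K K₁ : Type u) [Field K] [Field K₁] [Algebra K K₁]
    [IsPurelyInseparable K K₁] {Y : Scheme.{u}} (f : Y ⟶ Spec (CommRingCat.of K)) :
    topologicalKrullDim ↥(pullback f (Spec.map (CommRingCat.ofHom (algebraMap K K₁)))) ≤
      topologicalKrullDim Y := by
  haveI : UniversallyInjective (Spec.map (CommRingCat.ofHom (algebraMap K K₁))) :=
    Groth.Agent.Lib.Helper2.Weight.universallyInjective_SpecMap_of_isPurelyInseparable K K₁
  haveI : IsIntegralHom (Spec.map (CommRingCat.ofHom (algebraMap K K₁))) := by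
    rw [IsIntegralHom.SpecMap_iff]
    exact Algebra.IsIntegral.isIntegral (R := K) (A := K₁)
  let p := pullback.fst f (Spec.map (CommRingCat.ofHom (algebraMap K K₁)))
  haveI : UniversallyInjective p := MorphismProperty.pullback_fst _ _ inferInstance
  have hemb : Topology.IsClosedEmbedding p :=
    Topology.IsClosedEmbedding.of_continuous_injective_isClosedMap p.continuous p.injective
      p.isClosedMap
  exact hemb.isInducing.topologicalKrullDim_le

section BC

variable {Y S S' Z : Scheme.{u}} (s : Y ⟶ S) (q : S' ⟶ S) (g : Z ⟶ Y)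

/-- base change of `g : Z ⟶ Y` along `S' ⟶ S` -/
noncomputable def bcHom : pullback (g ≫ s) q ⟶ pullback s q :=
  pullback.map (g ≫ s) q s q g (𝟙 S') (𝟙 S) (by simp) (by simp)

@[reassoc]
lemma bcHom_fst : bcHom s q g ≫ pullback.fst s q = pullback.fst (g ≫ s) q ≫ g :=
  pullback.lift_fst _ _ _

@[reassoc]
lemma bcHom_snd : bcHom s q g ≫ pullback.snd s q = pullback.snd (g ≫ s) q :=
  (pullback.lift_snd _ _ _).trans (Category.comp_id _)

lemma isPullback_bcHom :
    IsPullback (bcHom s q g) (pullback.fst (g ≫ s) q) (pullback.fst s q) g := by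
  refine IsPullback.of_right ?_ (bcHom_fst s q g) (IsPullback.of_hasPullback s q).flip
  rw [bcHom_snd]
  exact (IsPullback.of_hasPullback (g ≫ s) q).flip

instance [IsClosedImmersion g] : IsClosedImmersion (bcHom s q g) :=
  MorphismProperty.of_isPullback (P := @IsClosedImmersion) (isPullback_bcHom s q g).flip
    inferInstance

lemma range_bcHom : Set.range (bcHom s q g) = (pullback.fst s q) ⁻¹' Set.range g := by
  rw [bcHom, Scheme.Pullback.range_map]
  simp

/-- smoothness of an open part is stable under base change -/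
lemma smooth_bc_open {Z S S' : Scheme.{u}} (h : Z ⟶ S) (q : S' ⟶ S) (U : Z.Opens)
    (hs : Smooth (U.ι ≫ h)) :
    Smooth ((pullback.fst h q ⁻¹ᵁ U).ι ≫ pullback.snd h q) := by
  have h1 := isPullback_morphismRestrict (pullback.fst h q) U
  have h2 := IsPullback.of_hasPullback h q
  exact MorphismProperty.of_isPullback (P := @Smooth) (h1.paste_vert h2) hs

end BC

/-- the goal: a smooth stratification after a finite purely inseparable extension -/
def Goal (K : Type u) [Field K] {Y : Scheme.{u}} (f : Y ⟶ Spec (CommRingCat.of K)) : Prop :=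
  ∃ (K' : Type u) (_ : Field K') (_ : Algebra K K') (_ : FiniteDimensional K K')
    (_ : IsPurelyInseparable K K'),
    HasStrat (pullback.snd f (Spec.map (CommRingCat.ofHom (algebraMap K K'))))

/-- induction hypothesis -/
def IH (n : ℕ) : Prop :=
  ∀ (K : Type u) [Field K] (W : Scheme.{u}) (w : W ⟶ Spec (CommRingCat.of K))
    [LocallyOfFiniteType w] [QuasiCompact w],
    topologicalKrullDim W < (n : WithBot ℕ∞) → Goal K w

theorem goal_step_aux (n : ℕ) (ih : IH.{u} n)
    (K₁ : Type u) [Field K₁] (Y₁ Z₀ : Scheme.{u}) (s₁ : Y₁ ⟶ Spec (CommRingCat.of K₁))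
    [LocallyOfFiniteType s₁] [QuasiCompact s₁] (g : Z₀ ⟶ Y₁) [IsClosedImmersion g]
    (hg : Function.Surjective g) [IsReduced Z₀] [GeometricallyReduced (g ≫ s₁)]
    (hdim : topologicalKrullDim Y₁ < ((n + 1 : ℕ) : WithBot ℕ∞)) : Goal K₁ s₁ := by
  classical
  haveI : CompactSpace Y₁ := QuasiCompact.compactSpace_of_compactSpace s₁
  haveI : IsLocallyNoetherian Y₁ := LocallyOfFiniteType.isLocallyNoetherian s₁
  haveI : IsNoetherian Y₁ := {}
  -- the smooth locus
  letI : Z₀.Over (Spec (CommRingCat.of K₁)) := ⟨g ≫ s₁⟩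
  haveI : LocallyOfFiniteType (Z₀ ↘ Spec (CommRingCat.of K₁)) :=
    (inferInstance : LocallyOfFiniteType (g ≫ s₁))
  haveI : GeometricallyReduced (Z₀ ↘ Spec (CommRingCat.of K₁)) :=
    ‹GeometricallyReduced (g ≫ s₁)›
  have hdense : Dense (((g ≫ s₁).smoothLocus : Z₀.Opens) : Set Z₀) :=
    Groth.Agent.Lib.T2H9.GeomRedSmooth.dense_smoothLocus K₁ Z₀
  have hsm : Smooth ((g ≫ s₁).smoothLocus.ι ≫ g ≫ s₁) :=
    Groth.Agent.Lib.T2H9.GenSmooth.smooth_smoothLocus_ι_comp (g ≫ s₁)
  generalize (g ≫ s₁).smoothLocus = U at hdense hsm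
  -- the closed complement
  have hcl : IsClosed (g '' (U : Set Z₀)ᶜ) :=
    g.isClosedEmbedding.isClosedMap _ U.isOpen.isClosed_compl
  let D : Closeds Y₁ := ⟨g '' (U : Set Z₀)ᶜ, hcl⟩
  let T : Y₁.Opens := ⟨(g '' (U : Set Z₀)ᶜ)ᶜ, hcl.isOpen_compl⟩
  have hgT : g ⁻¹ᵁ T = U := by
    ext x
    change g x ∉ g '' (U : Set Z₀)ᶜ ↔ x ∈ U
    rw [g.isClosedEmbedding.injective.mem_set_image]
    simp
  have hrange : Set.range (vanishingIdeal D).subschemeι = g '' (U : Set Z₀)ᶜ := by
    rw [range_subschemeι, coe_support_vanishingIdeal]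
    rfl
  -- dimension of W
  have hint : interior (Set.range (vanishingIdeal D).subschemeι) = ∅ := by
    rw [hrange, Set.eq_empty_iff_forall_notMem]
    intro x hx
    obtain ⟨z, rfl⟩ := hg x
    have hopen : IsOpen (g ⁻¹' interior (g '' (U : Set Z₀)ᶜ)) :=
      isOpen_interior.preimage g.continuous
    obtain ⟨z', hz'O, hz'U⟩ := hdense.inter_open_nonempty _ hopen ⟨z, hx⟩
    obtain ⟨z'', hz''U, heq⟩ := interior_subset hz'O
    rw [g.isClosedEmbedding.injective heq] at hz''U
    exact hz''U hz'U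
  have hdimW : topologicalKrullDim (vanishingIdeal D).subscheme < (n : WithBot ℕ∞) :=
    topologicalKrullDim_lt_of_nowhereDense (vanishingIdeal D).subschemeι
      (vanishingIdeal D).subschemeι.isClosedEmbedding hint n hdim
  -- induction hypothesis
  obtain ⟨K₂, _, _, hfin₂, hpi₂, hW⟩ := ih K₁ _ ((vanishingIdeal D).subschemeι ≫ s₁) hdimW
  refine ⟨K₂, inferInstance, inferInstance, hfin₂, hpi₂, ?_⟩
  haveI : IsReduced (pullback (g ≫ s₁) (Spec.map (CommRingCat.ofHom (algebraMap K₁ K₂)))) :=
    pullback_of_geometrically (GeometricallyReduced.geometrically_isReduced) K₂ _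
  refine hasStrat_step (pullback.snd s₁ (Spec.map (CommRingCat.ofHom (algebraMap K₁ K₂))))
    (bcHom s₁ _ g) ?_ (bcHom s₁ _ (vanishingIdeal D).subschemeι)
    (pullback.fst s₁ (Spec.map (CommRingCat.ofHom (algebraMap K₁ K₂))) ⁻¹ᵁ T) ?_ ?_ ?_
  · rw [← Set.range_eq_univ, range_bcHom, hg.range_eq, Set.preimage_univ]
  · rw [range_bcHom, hrange]
    rfl
  · have h1 := smooth_bc_open (g ≫ s₁) (Spec.map (CommRingCat.ofHom (algebraMap K₁ K₂))) U hsm
    have hopen : bcHom s₁ (Spec.map (CommRingCat.ofHom (algebraMap K₁ K₂))) g ⁻¹ᵁ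
        (pullback.fst s₁ (Spec.map (CommRingCat.ofHom (algebraMap K₁ K₂))) ⁻¹ᵁ T) =
        pullback.fst (g ≫ s₁) (Spec.map (CommRingCat.ofHom (algebraMap K₁ K₂))) ⁻¹ᵁ U := by
      rw [← Scheme.Hom.comp_preimage, bcHom_fst, Scheme.Hom.comp_preimage, hgT]
    rw [bcHom_snd]
    exact smooth_ι_comp_congr hopen.symm _ h1
  · rw [bcHom_snd]
    exact hW

theorem goal_step (n : ℕ) (ih : IH.{u} n)
    (K : Type u) [Field K] (Y : Scheme.{u}) (f : Y ⟶ Spec (CommRingCat.of K))
    [LocallyOfFiniteType f] [QuasiCompact f]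
    (hdim : topologicalKrullDim Y < ((n + 1 : ℕ) : WithBot ℕ∞)) : Goal K f := by
  classical
  haveI : CompactSpace Y := QuasiCompact.compactSpace_of_compactSpace f
  haveI : IsLocallyNoetherian Y := LocallyOfFiniteType.isLocallyNoetherian f
  haveI : IsNoetherian Y := {}
  letI : Y.Over (Spec (CommRingCat.of K)) := ⟨f⟩
  haveI : LocallyOfFiniteType (Y ↘ Spec (CommRingCat.of K)) := ‹LocallyOfFiniteType f›
  obtain ⟨K₁, _, _, hfin₁, hpi₁, hGR⟩ :=
    Groth.Agent.Lib.T2H9.PIRedGRSch.exists_purelyInseparable_red_geometricallyReduced K Y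
      NoetherianSpace.finite_irreducibleComponents
  have hGR' : GeometricallyReduced
      ((pullback f (Spec.map (CommRingCat.ofHom (algebraMap K K₁)))).nilradical.subschemeι ≫
        pullback.snd f (Spec.map (CommRingCat.ofHom (algebraMap K K₁)))) := hGR
  haveI : IsReduced
      (pullback f (Spec.map (CommRingCat.ofHom (algebraMap K K₁)))).nilradical.subscheme :=
    Groth.Agent.Lib.Helper6.isReduced_nilradical_subscheme _
  have hsurj : Function.Surjective
      (pullback f (Spec.map (CommRingCat.ofHom (algebraMap K K₁)))).nilradical.subschemeι := by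
    rw [← Set.range_eq_univ]
    exact Groth.Agent.Lib.Helper6.range_nilradical_subschemeι _
  have hdim₁ : topologicalKrullDim
      ↥(pullback f (Spec.map (CommRingCat.ofHom (algebraMap K K₁)))) <
      ((n + 1 : ℕ) : WithBot ℕ∞) :=
    lt_of_le_of_lt (topologicalKrullDim_pullback_le K K₁ f) hdim
  obtain ⟨K₂, _, _, hfin₂, hpi₂, hS⟩ := goal_step_aux n ih K₁
    (pullback f (Spec.map (CommRingCat.ofHom (algebraMap K K₁)))) _
    (pullback.snd f (Spec.map (CommRingCat.ofHom (algebraMap K K₁))))
    (pullback f (Spec.map (CommRingCat.ofHom (algebraMap K K₁)))).nilradical.subschemeι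
    hsurj hdim₁
  letI : Algebra K K₂ := ((algebraMap K₁ K₂).comp (algebraMap K K₁)).toAlgebra
  haveI : IsScalarTower K K₁ K₂ := IsScalarTower.of_algebraMap_eq (fun x => rfl)
  haveI : FiniteDimensional K K₂ := FiniteDimensional.trans K K₁ K₂
  haveI : IsPurelyInseparable K K₂ := IsPurelyInseparable.trans K K₁ K₂
  refine ⟨K₂, inferInstance, inferInstance, inferInstance, inferInstance, ?_⟩
  have hq : Spec.map (CommRingCat.ofHom (algebraMap K₁ K₂)) ≫
      Spec.map (CommRingCat.ofHom (algebraMap K K₁)) =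
      Spec.map (CommRingCat.ofHom (algebraMap K K₂)) := by
    rw [← Spec.map_comp]
    rfl
  refine hasStrat_snd_congr f hq ?_
  exact hasStrat_of_iso (pullbackLeftPullbackSndIso f _ _).symm _ _
    (pullbackLeftPullbackSndIso_hom_snd f _ _) hS

theorem isEmpty_of_topologicalKrullDim_lt_zero {T : Type*} [TopologicalSpace T]
    (h : topologicalKrullDim T < ((0 : ℕ) : WithBot ℕ∞)) : IsEmpty T := by
  by_contra hne
  rw [not_isEmpty_iff] at hne
  obtain ⟨t⟩ := hne
  haveI : Nonempty (IrreducibleCloseds T) :=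
    ⟨⟨closure {t}, isIrreducible_singleton.closure, isClosed_closure⟩⟩
  have h0 : (0 : WithBot ℕ∞) ≤ topologicalKrullDim T := Order.krullDim_nonneg
  exact absurd (lt_of_le_of_lt h0 h) (by simp)

theorem goal_of_dim_lt : ∀ n : ℕ, IH.{u} n
  | 0 => by
    intro K _ W w _ _ hdim
    haveI : IsEmpty W := isEmpty_of_topologicalKrullDim_lt_zero hdim
    haveI : IsEmpty ↥(pullback w (Spec.map (CommRingCat.ofHom (algebraMap K K)))) :=
      Function.isEmpty (pullback.fst w (Spec.map (CommRingCat.ofHom (algebraMap K K))))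
    exact ⟨K, inferInstance, inferInstance, inferInstance, inferInstance, hasStrat_of_isEmpty _⟩
  | n + 1 => fun K _ W w _ _ hdim => goal_step n (goal_of_dim_lt n) K W w hdim

/-- **smooth stratification after a finite purely inseparable extension** -/
theorem main (k : Type u) [Field k] (X : Scheme.{u}) (f : X ⟶ Spec (CommRingCat.of k))
    [LocallyOfFiniteType f] [QuasiCompact f] : Goal k f := by
  haveI : CompactSpace X := QuasiCompact.compactSpace_of_compactSpace f
  have h := Groth.Agent.Lib.Helper3.DimCons.topologicalKrullDim_lt_top_of_lft_field k f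
  obtain ⟨n, hn⟩ : ∃ n : ℕ, topologicalKrullDim X < (n : WithBot ℕ∞) := by
    generalize topologicalKrullDim X = d at h
    induction d using WithBot.recBotCoe with
    | bot => exact ⟨0, WithBot.bot_lt_coe _⟩
    | coe a =>
      have ha : a ≠ ⊤ := by
        rintro rfl
        exact lt_irrefl _ h
      lift a to ℕ using ha
      exact ⟨a + 1, by exact_mod_cast Nat.lt_succ_self a⟩
  exact goal_of_dim_lt n k X f hn

end Groth.Agent.Lib.T2H9.Strat
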