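import Mathlib
import Groth.Prelude
import Groth.Agent.Lib.T2H9CICM
import Groth.Agent.Lib.T2H9SyntMor
import Groth.Agent.Lib.Helper12NoethDescent
import Groth.Agent.Lib.Helper5TensorSk
import Groth.Agent.Lib.Helper28Normal
import Groth.Agent.Lib.Helper28DepthFlat3

/-!
# Properties local in the syntomic topology: Cohen–Macaulay, `(S_k)` (T2H9)

* `isLocallyNoetherian_of_family`: descent of local Noetherianity along a jointly surjective
  family of flat, locally finitely presented morphisms.
* `isCM_stalk_iff`: for a CI morphism `f : X ⟶ S` of locally Noetherian schemes, `O_{X,x}` is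
  Cohen–Macaulay iff `O_{S,f x}` is.
* `hasSk_stalk_of_flat`, `hasSk_stalk_of_forall`: descent and ascent of `(S_k)`.
-/

set_option autoImplicit false
set_option linter.unusedSectionVars false
set_option linter.style.haveILetI false
universe u

namespace Groth.Agent.Lib.T2H9.SyntLocal

open CategoryTheory CategoryTheory.Limits AlgebraicGeometry IsLocalRing
  Groth.Agent.Lib.Helper5 Groth.Agent.Lib.Helper28 Groth.Agent.Lib.T2H9.CILocus
  Groth.Agent.Lib.T2H9.CICM Groth.Agent.Lib.T2H9.SyntMor Groth.Agent.Lib.T2H9.CIBaseChange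
  Groth.Agent.Lib.Helper5.TensorSk

section Family

variable {ι : Type u} {S : Scheme.{u}} {X : ι → Scheme.{u}} (f : ∀ i, X i ⟶ S)

/-- descent of local Noetherianity along a jointly surjective family of flat, locally finitely
presented morphisms -/
theorem isLocallyNoetherian_of_family
    (hsurj : ∀ s : S, ∃ i, s ∈ Set.range (f i).base) (hfl : ∀ i, Flat (f i))
    (hfp : ∀ i, LocallyOfFinitePresentation (f i)) (hN : ∀ i, IsLocallyNoetherian (X i)) :
    IsLocallyNoetherian S := by
  let d : ∐ X ⟶ S := Sigma.desc f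
  haveI : Flat d := by
    rw [IsZariskiLocalAtSource.iff_of_openCover (P := @Flat) (sigmaOpenCover _)]
    intro i
    show Flat (Sigma.ι _ i ≫ Limits.Sigma.desc _)
    rw [Limits.Sigma.ι_desc]
    exact hfl i
  haveI : LocallyOfFinitePresentation d := by
    rw [IsZariskiLocalAtSource.iff_of_openCover (P := @LocallyOfFinitePresentation)
      (sigmaOpenCover _)]
    intro i
    show LocallyOfFinitePresentation (Sigma.ι _ i ≫ Limits.Sigma.desc _)
    rw [Limits.Sigma.ι_desc]
    exact hfp i
  haveI : Surjective d := by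
    refine ⟨fun s => ?_⟩
    obtain ⟨i, x, rfl⟩ := hsurj s
    refine ⟨Sigma.ι X i x, ?_⟩
    have e : Sigma.ι X i ≫ d = f i := Limits.Sigma.ι_desc _ _
    rw [← Scheme.Hom.comp_apply, e]
  haveI : IsLocallyNoetherian (∐ X) := by
    rw [isLocallyNoetherian_iff_openCover (sigmaOpenCover _)]
    intro i
    simp only [sigmaOpenCover_X]
    exact hN i
  exact Groth.Agent.Lib.Helper12.NoethDescent.isLocallyNoetherian_of_flat_lfp_surjective d

end Family

section Stalk

variable {X S : Scheme.{u}} (f : X ⟶ S)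

/-- for a CI morphism of locally Noetherian schemes, the closed fibre of the stalk map is
Cohen–Macaulay -/
theorem isCM_quot_stalk (hf : CInt.IsCIMorphism f) [IsLocallyNoetherian X] (x : X) :
    LocCoh.IsCohenMacaulayLocalRing (X.presheaf.stalk x ⧸
      (maximalIdeal (S.presheaf.stalk (f x))).map (f.stalkMap x).hom) := by
  obtain ⟨-, -, hci⟩ := hf
  obtain ⟨e⟩ := Groth.Agent.Lib.Helper5.FiberStalk.nonempty_stalk_asFiber_equiv f x
  haveI hloc : IsLocalRing (X.presheaf.stalk x ⧸
      (maximalIdeal (S.presheaf.stalk (f x))).map (f.stalkMap x).hom) :=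
    Groth.Agent.Lib.Helper5.FiberStalk.isLocalRing_quotient_fibIdeal f x
  haveI hN : IsNoetherianRing (X.presheaf.stalk x ⧸
      (maximalIdeal (S.presheaf.stalk (f x))).map (f.stalkMap x).hom) := inferInstance
  haveI hN' : IsNoetherianRing ((f.fiber (f x)).presheaf.stalk (f.asFiber x)) :=
    isNoetherianRing_of_ringEquiv _ e.symm
  exact isCohenMacaulayLocalRing_of_isCI _ (isCI_of_ringEquiv e (hci x))

/-- for a CI morphism `f : X ⟶ S` of locally Noetherian schemes, `O_{X,x}` is Cohen–Macaulay iff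
`O_{S,f x}` is -/
theorem isCM_stalk_iff (hf : CInt.IsCIMorphism f) [IsLocallyNoetherian S] [IsLocallyNoetherian X]
    (x : X) :
    LocCoh.IsCohenMacaulayLocalRing (X.presheaf.stalk x) ↔
      LocCoh.IsCohenMacaulayLocalRing (S.presheaf.stalk (f x)) := by
  have hF := isCM_quot_stalk f hf x
  haveI := hf.1
  have hfl : (f.stalkMap x).hom.Flat := Flat.stalkMap f x
  haveI hlocF : IsLocalRing (X.presheaf.stalk x ⧸
      (maximalIdeal (S.presheaf.stalk (f x))).map (f.stalkMap x).hom) :=
    Groth.Agent.Lib.Helper5.FiberStalk.isLocalRing_quotient_fibIdeal f x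
  have hloc : IsLocalHom (f.stalkMap x).hom := inferInstance
  algebraize [(f.stalkMap x).hom]
  haveI : IsLocalHom (algebraMap (S.presheaf.stalk (f x)) (X.presheaf.stalk x)) := hloc
  have key := Groth.Agent.Lib.Helper5.FiberRing.cm_main (S.presheaf.stalk (f x))
    (X.presheaf.stalk x) _
    (Ideal.Quotient.mk ((maximalIdeal (S.presheaf.stalk (f x))).map (f.stalkMap x).hom))
    Ideal.Quotient.mk_surjective Ideal.mk_ker
  rw [key]
  exact ⟨fun h => h.1, fun h => ⟨h, hF⟩⟩

/-- descent of `(S_k)` along a flat morphism, at a point -/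
theorem hasSk_stalk_of_flat [Flat f] [IsLocallyNoetherian X] (k : ℕ) (x : X)
    (h : LocCoh.HasSk k (X.presheaf.stalk x) (X.presheaf.stalk x)) :
    LocCoh.HasSk k (S.presheaf.stalk (f x)) (S.presheaf.stalk (f x)) := by
  have hfl : (f.stalkMap x).hom.Flat := Flat.stalkMap f x
  have hloc : IsLocalHom (f.stalkMap x).hom := inferInstance
  algebraize [(f.stalkMap x).hom]
  haveI : IsLocalHom (algebraMap (S.presheaf.stalk (f x)) (X.presheaf.stalk x)) := hloc
  haveI : Module.FaithfullyFlat (S.presheaf.stalk (f x)) (X.presheaf.stalk x) :=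
    Module.FaithfullyFlat.of_flat_of_isLocalHom
  exact hasSk_of_faithfullyFlat k h

end Stalk

section Ring

/-- `(S_k)` for a Noetherian ring can be checked on the localizations at all primes -/
theorem hasSk_of_forall_localization {R : Type u} [CommRing R] [IsNoetherianRing R] (k : ℕ)
    (h : ∀ (p : Ideal R) [p.IsPrime],
      LocCoh.HasSk k (Localization.AtPrime p) (Localization.AtPrime p)) :
    LocCoh.HasSk k R R := by
  rw [hasSk_self_iff]
  intro p hp
  exact (hasSk_localization_atPrime_iff k p).mp (h p) p le_rfl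

/-- a Cohen–Macaulay local ring satisfies `(S_n)` -/
theorem snLocalRing_of_isCM (n : ℕ) (R : Type u) [CommRing R]
    [hR : LocCoh.IsCohenMacaulayLocalRing R] : SnLocalRing n R := by
  rw [snLocalRing_iff, ← (isCohenMacaulayLocalRing_iff R).mp hR]
  exact min_le_right _ _

end Ring

section Ascent

variable {X S : Scheme.{u}} (f : X ⟶ S)

/-- `(S_k)` on the stalks of an affine open gives `(S_k)` for the ring of sections -/
theorem hasSk_section_of_forall_stalk [IsLocallyNoetherian S] {V : S.Opens} (hV : IsAffineOpen V)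
    (k : ℕ) (hS : ∀ s : S, LocCoh.HasSk k (S.presheaf.stalk s) (S.presheaf.stalk s)) :
    LocCoh.HasSk k Γ(S, V) Γ(S, V) := by
  haveI : IsNoetherianRing Γ(S, V) := IsLocallyNoetherian.component_noetherian ⟨V, hV⟩
  apply hasSk_of_forall_localization
  intro p hp
  obtain ⟨s, hs, rfl⟩ := exists_mem_primeIdealOf_eq hV p
  letI alg : Algebra Γ(S, V) (S.presheaf.stalk s) := S.presheaf.algebra_section_stalk ⟨s, hs⟩
  haveI loc := hV.isLocalization_stalk ⟨s, hs⟩
  let e : S.presheaf.stalk s ≃+* Localization.AtPrime (hV.primeIdealOf ⟨s, hs⟩).asIdeal :=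
    (IsLocalization.algEquiv (hV.primeIdealOf ⟨s, hs⟩).asIdeal.primeCompl
      (S.presheaf.stalk s) (Localization.AtPrime (hV.primeIdealOf ⟨s, hs⟩).asIdeal)).toRingEquiv
  exact hasSk_self_of_ringEquiv e k (hS s)

/-- `(S_k)` for the ring of sections of an affine open gives `(S_k)` on its stalks -/
theorem hasSk_stalk_of_section [IsLocallyNoetherian X] {U : X.Opens} (hU : IsAffineOpen U)
    (k : ℕ) (h : LocCoh.HasSk k Γ(X, U) Γ(X, U)) (x : X) (hx : x ∈ U) :
    LocCoh.HasSk k (X.presheaf.stalk x) (X.presheaf.stalk x) := by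
  haveI : IsNoetherianRing Γ(X, U) := IsLocallyNoetherian.component_noetherian ⟨U, hU⟩
  letI alg : Algebra Γ(X, U) (X.presheaf.stalk x) := X.presheaf.algebra_section_stalk ⟨x, hx⟩
  haveI loc := hU.isLocalization_stalk ⟨x, hx⟩
  let e : Localization.AtPrime (hU.primeIdealOf ⟨x, hx⟩).asIdeal ≃+* X.presheaf.stalk x :=
    (IsLocalization.algEquiv (hU.primeIdealOf ⟨x, hx⟩).asIdeal.primeCompl
      (Localization.AtPrime (hU.primeIdealOf ⟨x, hx⟩).asIdeal) (X.presheaf.stalk x)).toRingEquiv
  exact hasSk_self_of_ringEquiv e k (hasSk_localization_atPrime _ h)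

/-- ascent of `(S_k)` along a CI morphism of locally Noetherian schemes -/
theorem hasSk_stalk_of_forall (hf : CInt.IsCIMorphism f) [IsLocallyNoetherian S]
    [IsLocallyNoetherian X] (k : ℕ)
    (hS : ∀ s : S, LocCoh.HasSk k (S.presheaf.stalk s) (S.presheaf.stalk s)) (x : X) :
    LocCoh.HasSk k (X.presheaf.stalk x) (X.presheaf.stalk x) := by
  obtain ⟨hflat, hlfp, hci⟩ := hf
  haveI := hflat
  haveI := hlfp
  obtain ⟨V, hV, hfx, -⟩ := TopologicalSpace.Opens.isBasis_iff_nbhd.mp S.isBasis_affineOpens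
    (TopologicalSpace.Opens.mem_top (f x))
  obtain ⟨U, hU, hx, e⟩ := TopologicalSpace.Opens.isBasis_iff_nbhd.mp X.isBasis_affineOpens
    (show x ∈ f ⁻¹ᵁ V from hfx)
  refine hasSk_stalk_of_section hU k ?_ x hx
  haveI : IsNoetherianRing Γ(S, V) := IsLocallyNoetherian.component_noetherian ⟨V, hV⟩
  haveI : IsNoetherianRing Γ(X, U) := IsLocallyNoetherian.component_noetherian ⟨U, hU⟩
  have hA := hasSk_section_of_forall_stalk hV k hS
  have hfl : (f.appLE V U e).hom.Flat := Flat.flat_appLE f hV hU e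
  letI := (f.appLE V U e).hom.toAlgebra
  haveI : Module.Flat Γ(S, V) Γ(X, U) := hfl
  refine hasSk_of_flat_of_fibres k hA ((forall_hasSk_fiber_iff k).mpr ?_)
  intro q hq
  obtain ⟨x', hx', rfl⟩ := exists_mem_primeIdealOf_eq hU q
  obtain ⟨e'⟩ := nonempty_fiberStalk_equiv_fibLocRing f hU hV e x' hx'
  haveI hlocF : IsLocalRing (EGA4.FibLocRing Γ(S, V) Γ(X, U) (hU.primeIdealOf ⟨x', hx'⟩).asIdeal) :=
    isLocalRing_fibLocRing (A := Γ(S, V)) _
  haveI hNF : IsNoetherianRing
      (EGA4.FibLocRing Γ(S, V) Γ(X, U) (hU.primeIdealOf ⟨x', hx'⟩).asIdeal) := by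
    unfold EGA4.FibLocRing; infer_instance
  haveI hN' : IsNoetherianRing (CInt.fiberStalk f x') := isNoetherianRing_of_ringEquiv _ e'.symm
  haveI := isCohenMacaulayLocalRing_of_isCI _ (isCI_of_ringEquiv e' (hci x'))
  exact snLocalRing_of_isCM k _

end Ascent

end Groth.Agent.Lib.T2H9.SyntLocal
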