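import Groth.Agent.Lib.Helper23TildeTensor
import Groth.Agent.Lib.Helper23TensorQCoh
import Groth.Agent.Lib.Helper20PullbackAff
import Groth.Prelude.Def_ega3

/-!
# T2H9TFunGeo1 (helper9): the functor `M ↦ f^*(M~) ⊗ F` and sections over affine opens

For `X` over `Spec A` and an `O_X`-module `F`: `CohIII.tensorAFunctor A F` preserves colimits and
is additive; for quasi-coherent `F` its values are quasi-coherent.  Main result
(`preservesColimits_sec`): for an affine open `V`, the functor `M ↦ Γ(V, f^*(M~) ⊗ F)` to abelian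
groups preserves all colimits (restrict to `Spec Γ(X, V)`, where the values are tildes of their
global sections, and use that the fully faithful left adjoint `tilde` reflects colimits).
-/

set_option autoImplicit false
set_option linter.style.haveILetI false
universe u
open CategoryTheory CategoryTheory.Limits AlgebraicGeometry Opposite TopologicalSpace

namespace Groth.Agent.Lib.T2H9.TFunGeo

open Groth.Agent.Lib.Helper21.ModTensor2 Groth.Agent.Lib.Helper21.ModTensor3
  Groth.Agent.Lib.Helper21.ModTensor7

variable (A : Type u) [CommRing A] {X : Scheme.{u}} [X.Over (Spec (CommRingCat.of A))]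
  (F : X.Modules)

/-- `M ↦ f^*(M~) ⊗ F` -/
noncomputable abbrev 𝒯 : ModuleCat.{u} A ⥤ X.Modules := CohIII.tensorAFunctor A F

instance : PreservesColimitsOfSize.{u, u} (DCoh.tensorRightMod F) :=
  tR_preservesColimits X.sheaf F

instance : PreservesColimitsOfSize.{u, u} (CohIII.tensorAFunctor A F) := by
  unfold CohIII.tensorAFunctor
  have h1 : PreservesColimitsOfSize.{u, u} (tilde.functor (CommRingCat.of A)) :=
    (tilde.adjunction (R := CommRingCat.of A)).leftAdjoint_preservesColimits
  have h2 : PreservesColimitsOfSize.{u, u}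
      (Scheme.Modules.pullback (X ↘ Spec (CommRingCat.of A))) := inferInstance
  have h3 : PreservesColimitsOfSize.{u, u} (DCoh.tensorRightMod F) := inferInstance
  have h4 := @comp_preservesColimits _ _ _ _ _ _
    (Scheme.Modules.pullback (X ↘ Spec (CommRingCat.of A))) (DCoh.tensorRightMod F) h2 h3
  exact @comp_preservesColimits _ _ _ _ _ _ (tilde.functor (CommRingCat.of A)) _ h1 h4

instance : (CohIII.tensorAFunctor A F).Additive := by
  unfold CohIII.tensorAFunctor
  infer_instance

theorem tensorAFunctor_obj (M : ModuleCat.{u} A) :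
    (CohIII.tensorAFunctor A F).obj M =
      CohB1.tensorMod ((Scheme.Modules.pullback (X ↘ Spec (CommRingCat.of A))).obj (tilde M)) F := rfl

instance [F.IsQuasicoherent] (M : ModuleCat.{u} A) :
    ((CohIII.tensorAFunctor A F).obj M).IsQuasicoherent := by
  rw [tensorAFunctor_obj]
  exact Groth.Agent.Lib.Helper23.TensorQCoh.isQuasicoherent_tensorMod _ _

/-- sections over `V`, as an abelian group valued functor -/
noncomputable def secAb (V : X.Opens) : X.Modules ⥤ AddCommGrpCat.{u} :=
  SheafOfModules.toSheaf X.ringCatSheaf ⋙ sheafToPresheaf _ _ ⋙ (evaluation _ _).obj (op V)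

instance (V : X.Opens) : (secAb (X := X) V).Additive where
  map_add := rfl

section affine
variable {V : X.Opens} (hV : IsAffineOpen V)

/-- global sections on `Spec Γ(X, V)` of the restriction are the sections over the image -/
noncomputable def restrictΓIso :
    Scheme.Modules.restrictFunctor hV.fromSpec ⋙ moduleSpecΓFunctor (R := Γ(X, V)) ⋙
        forget₂ (ModuleCat Γ(X, V)) AddCommGrpCat.{u} ≅
      secAb (hV.fromSpec ''ᵁ ⊤) :=
  NatIso.ofComponents (fun G => Iso.refl _) (fun φ => by
    ext x
    rfl)

variable [F.IsQuasicoherent]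

/-- `M ↦ (f^*(M~) ⊗ F)|_V` on `Spec Γ(X, V)` -/
noncomputable abbrev HV : ModuleCat.{u} A ⥤ (Spec Γ(X, V)).Modules :=
  CohIII.tensorAFunctor A F ⋙ Scheme.Modules.restrictFunctor hV.fromSpec

instance (M : ModuleCat.{u} A) : ((HV A F hV).obj M).IsQuasicoherent :=
  Scheme.Modules.isQuasicoherent_restrictFunctor hV.fromSpec _

/-- the counit identifies `HV` with the tilde of its global sections -/
noncomputable def counitIso :
    (HV A F hV ⋙ moduleSpecΓFunctor (R := Γ(X, V))) ⋙ tilde.functor Γ(X, V) ≅ HV A F hV :=
  NatIso.ofComponents (fun M => @asIso _ _ _ _ (Scheme.Modules.fromTildeΓ ((HV A F hV).obj M))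
      (Scheme.Modules.isIso_fromTildeΓ_of_isQuasicoherent (R := Γ(X, V)) ((HV A F hV).obj M)))
    (fun g => (Scheme.Modules.fromTildeΓNatTrans (R := Γ(X, V))).naturality ((HV A F hV).map g))

instance : PreservesColimitsOfSize.{u, u} (HV A F hV) := by
  have h1 : PreservesColimitsOfSize.{u, u} (CohIII.tensorAFunctor A F) := inferInstance
  have h2 : PreservesColimitsOfSize.{u, u} (Scheme.Modules.restrictFunctor hV.fromSpec) :=
    inferInstance
  exact @comp_preservesColimits _ _ _ _ _ _ _ _ h1 h2

/-- global sections over `Spec Γ(X, V)` of `HV` preserve colimits -/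
instance preservesColimits_HV_Γ :
    PreservesColimitsOfSize.{u, u} (HV A F hV ⋙ moduleSpecΓFunctor (R := Γ(X, V))) := by
  haveI : PreservesColimitsOfSize.{u, u}
      ((HV A F hV ⋙ moduleSpecΓFunctor (R := Γ(X, V))) ⋙ tilde.functor Γ(X, V)) :=
    preservesColimits_of_natIso (counitIso A F hV).symm
  exact preservesColimits_of_reflects_of_preserves _ (tilde.functor Γ(X, V))

include hV in
/-- **sections over an affine open of `f^*(M~) ⊗ F` commute with colimits in `M`** -/
theorem preservesColimits_sec :
    PreservesColimitsOfSize.{u, u} (CohIII.tensorAFunctor A F ⋙ secAb V) := by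
  have key : ∀ W : X.Opens, hV.fromSpec ''ᵁ ⊤ = W →
      PreservesColimitsOfSize.{u, u} (CohIII.tensorAFunctor A F ⋙ secAb W) := by
    rintro W rfl
    have h0 : PreservesColimitsOfSize.{u, u} ((HV A F hV ⋙ moduleSpecΓFunctor (R := Γ(X, V))) ⋙
        forget₂ (ModuleCat Γ(X, V)) AddCommGrpCat.{u}) := by
      have h1 := preservesColimits_HV_Γ A F hV
      have h2 : PreservesColimitsOfSize.{u, u}
        (forget₂ (ModuleCat Γ(X, V)) AddCommGrpCat.{u}) := inferInstance
      exact @comp_preservesColimits _ _ _ _ _ _ _ _ h1 h2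
    have h0' : PreservesColimitsOfSize.{u, u} (CohIII.tensorAFunctor A F ⋙
        Scheme.Modules.restrictFunctor hV.fromSpec ⋙ moduleSpecΓFunctor (R := Γ(X, V)) ⋙
          forget₂ (ModuleCat Γ(X, V)) AddCommGrpCat.{u}) := h0
    exact @preservesColimits_of_natIso _ _ _ _ _ _
      (Functor.isoWhiskerLeft (CohIII.tensorAFunctor A F) (restrictΓIso hV)) h0'
  exact key V (by rw [Scheme.Hom.image_top_eq_opensRange, hV.opensRange_fromSpec])

end affine

end Groth.Agent.Lib.T2H9.TFunGeo
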