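import Groth.Agent.Lib.T2H9TFunGeo3
import Groth.Agent.S0013

/-!
# T2H9TFunGeo4 (helper9): cohomology of `f^*(M~) ⊗ F` through the Čech complex, naturally in `M`

`nonempty_cechIso`: for a covering with affine finite intersections and `F` quasi-coherent, the
functors `M ↦ Ȟ^p(U, f^*(M~) ⊗ F)` and `M ↦ H^p(X, f^*(M~) ⊗ F)` are isomorphic;
`extendHomologyNatIso` (passing to the `ℤ`-indexed complex), `isZero_homology_K_neg`.
-/

set_option autoImplicit false
set_option linter.style.haveILetI false
universe u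
open CategoryTheory CategoryTheory.Limits AlgebraicGeometry Opposite TopologicalSpace

namespace Groth.Agent.Lib.T2H9.TFunGeo

open Groth.Agent.Lib.Helper16.CechLow Groth.Agent.Lib.T2H5.CechPn Groth.Agent.Lib.T2H9.EW
  Groth.Agent.Lib.Helper23.AffVanish

variable (A : Type u) [CommRing A] {X : Scheme.{u}} [X.Over (Spec (CommRingCat.of A))]
  (F : X.Modules) {ι : Type u} (U : ι → X.Opens)

/-- **Čech cohomology of `f^*(M~) ⊗ F` computes its cohomology, naturally in `M`.** -/
theorem nonempty_cechIso [F.IsQuasicoherent] (hcov : iSup U = ⊤)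
    (hU : ∀ (n : ℕ) (x : Fin (n + 1) → ι), IsAffineOpen (iInf fun k => U (x k))) (p : ℕ) :
    Nonempty (Kc A F U ⋙ HomologicalComplex.homologyFunctor _ _ p ≅
      CohIII.tensorAFunctor A F ⋙ CohIII.HAb X p) := by
  obtain ⟨Ψ, hnat, hbij⟩ := Groth.Agent.Lib.T2H9.CechNat2.exists_natural_family
    (X := X.carrier) U hcov
  have hb : ∀ M : ModuleCat.{u} A,
      Function.Bijective (Ψ (ab' ((CohIII.tensorAFunctor A F).obj M)) p) := by
    intro M
    refine hbij _ (fun q a r => ?_) p
    exact subsingleton_HE_of_isAffineOpen (hU q a) _ r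
  refine ⟨NatIso.ofComponents
    (fun M => (AddEquiv.ofBijective (Ψ (ab' ((CohIII.tensorAFunctor A F).obj M)) p)
      (hb M)).toAddCommGrpIso) (fun {M N} g => ?_)⟩
  ext x
  exact hnat _ _ ((SheafOfModules.toSheaf X.ringCatSheaf).map ((CohIII.tensorAFunctor A F).map g)) p x

/-- homology of the extension by zero -/
noncomputable def extendHomologyNatIso (p : ℕ) :
    K A F U ⋙ HomologicalComplex.homologyFunctor _ (ComplexShape.up ℤ) (p : ℤ) ≅
      Kc A F U ⋙ HomologicalComplex.homologyFunctor _ (ComplexShape.up ℕ) p :=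
  NatIso.ofComponents
    (fun M => HomologicalComplex.extendHomologyIso ((Kc A F U).obj M)
      ComplexShape.embeddingUpNat (j := p) (j' := (p : ℤ)) rfl)
    (fun g => HomologicalComplex.extendHomologyIso_hom_naturality ((Kc A F U).map g)
      ComplexShape.embeddingUpNat (j := p) (j' := (p : ℤ)) rfl)

theorem isZero_homology_K_neg (m : ℤ) (hm : m < 0) (M : ModuleCat.{u} A) :
    IsZero (((K A F U).obj M).homology m) := by
  rw [← HomologicalComplex.exactAt_iff_isZero_homology]
  apply HomologicalComplex.extend_exactAt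
  intro i hi
  have : (ComplexShape.embeddingUpNat.f i : ℤ) = (i : ℤ) := rfl
  omega

end Groth.Agent.Lib.T2H9.TFunGeo
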