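import Groth.Agent.Lib.Helper3FlatCx

/-!
# The functors `T_p(M) = H_p(L ⊗ M)` of a complex of finite free modules commute with products
(helper9)

* `piRightHom_bijective`: `X ⊗ ∏ M_j → ∏ X ⊗ M_j` is bijective for `X` finite free.
* `preservesLimit_of_bijective`: a functor on modules preserves a product if the comparison map to
  the product of the values is bijective.
* `bijective_T_pi`, `preservesLimitsOfShape_discrete_TFun`: `CohIII.TFun L p` preserves products when
  all `L.X i` are finite free (diagram chase on homology classes).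
-/

set_option autoImplicit false
set_option linter.style.haveILetI false
set_option linter.unusedSectionVars false
set_option linter.unusedVariables false
universe u
open CategoryTheory CategoryTheory.Limits

namespace Groth.Agent.Lib.T2H9.TProd

section alg
open TensorProduct
variable {A : Type u} [CommRing A]

/-- the `i`-th coordinate `X ⊗ N → N` with respect to a basis of `X` -/
noncomputable def coordT {ι : Type*} {X : Type u} [AddCommGroup X] [Module A X]
    (b : Module.Basis ι A X) (N : Type u) [AddCommGroup N] [Module A N] (i : ι) :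
    X ⊗[A] N →ₗ[A] N :=
  (TensorProduct.lid A N).toLinearMap ∘ₗ (b.coord i).rTensor N

theorem coordT_tmul {ι : Type*} {X : Type u} [AddCommGroup X] [Module A X]
    (b : Module.Basis ι A X) (N : Type u) [AddCommGroup N] [Module A N] (i : ι) (x : X) (n : N) :
    coordT b N i (x ⊗ₜ n) = b.repr x i • n := by
  simp [coordT]

theorem coordT_natural {ι : Type*} {X : Type u} [AddCommGroup X] [Module A X]
    (b : Module.Basis ι A X) {N N' : Type u} [AddCommGroup N] [Module A N] [AddCommGroup N']
    [Module A N'] (g : N →ₗ[A] N') (i : ι) (x : X ⊗[A] N) :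
    coordT b N' i (g.lTensor X x) = g (coordT b N i x) := by
  induction x using TensorProduct.induction_on with
  | zero => simp
  | tmul a n => simp [coordT_tmul]
  | add a c ha hc => simp only [map_add, ha, hc]

theorem sum_coordT {ι : Type*} [Fintype ι] [DecidableEq ι] {X : Type u} [AddCommGroup X]
    [Module A X] (b : Module.Basis ι A X) (N : Type u) [AddCommGroup N] [Module A N]
    (x : X ⊗[A] N) : ∑ i, b i ⊗ₜ[A] coordT b N i x = x := by
  induction x using TensorProduct.induction_on with
  | zero => simp
  | tmul a n =>
    simp only [coordT_tmul]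
    conv_rhs => rw [← b.sum_repr a]
    rw [TensorProduct.sum_tmul]
    refine Finset.sum_congr rfl (fun i _ => ?_)
    rw [TensorProduct.smul_tmul]
  | add a c ha hc =>
    simp only [map_add, TensorProduct.tmul_add, Finset.sum_add_distrib, ha, hc]

/-- tensoring with a finite free module commutes with arbitrary products -/
theorem piRightHom_bijective (X : Type u) [AddCommGroup X] [Module A X] [Module.Free A X]
    [Module.Finite A X] {J : Type u} (M : J → Type u) [∀ j, AddCommGroup (M j)]
    [∀ j, Module A (M j)] :
    Function.Bijective (fun (x : X ⊗[A] (∀ j, M j)) (j : J) =>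
      (LinearMap.proj (R := A) (φ := M) j).lTensor X x) := by
  classical
  let b := Module.Free.chooseBasis A X
  constructor
  · intro x x' h
    rw [← sub_eq_zero]
    have h0 : ∀ j, (LinearMap.proj (R := A) (φ := M) j).lTensor X (x - x') = 0 := by
      intro j
      rw [map_sub, sub_eq_zero]
      exact congrFun h j
    rw [← sum_coordT b _ (x - x')]
    refine Finset.sum_eq_zero (fun i _ => ?_)
    have : coordT b (∀ j, M j) i (x - x') = 0 := by
      funext j
      have h1 := coordT_natural b (LinearMap.proj (R := A) (φ := M) j) i (x - x')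
      rw [h0 j, map_zero] at h1
      exact h1.symm
    rw [this, TensorProduct.tmul_zero]
  · intro y
    refine ⟨∑ i, b i ⊗ₜ[A] (fun j => coordT b (M j) i (y j)), ?_⟩
    funext j
    show (LinearMap.proj (R := A) (φ := M) j).lTensor X _ = y j
    rw [map_sum]
    simp only [LinearMap.lTensor_tmul, LinearMap.proj_apply]
    exact sum_coordT b (M j) (y j)

end alg

section cat
variable {A : Type u} [CommRing A]

/-- a functor on modules preserves a product as soon as the comparison map to the product of the
values is bijective -/
theorem preservesLimit_of_bijective (G : ModuleCat.{u} A ⥤ ModuleCat.{u} A) {J : Type u}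
    (Z : J → ModuleCat.{u} A)
    (h : Function.Bijective (fun (x : G.obj (ModuleCat.of A (∀ j, Z j))) (j : J) =>
      (G.map (ModuleCat.ofHom (LinearMap.proj (R := A) (φ := fun j => Z j) j))).hom x)) :
    PreservesLimit (Discrete.functor Z) G := by
  let πj : ∀ j, ModuleCat.of A (∀ j, Z j) ⟶ Z j := fun j =>
    ModuleCat.ofHom (LinearMap.proj (R := A) (φ := fun j => Z j) j)
  let e : G.obj (ModuleCat.of A (∀ j, Z j)) ≃ₗ[A] (∀ j, G.obj (Z j)) :=
    LinearEquiv.ofBijective (LinearMap.pi (fun j => (G.map (πj j)).hom)) h
  have he : ∀ x j, e x j = (G.map (πj j)).hom x := fun x j => rfl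
  refine preservesLimit_of_preserves_limit_cone (ModuleCat.productConeIsLimit Z) ?_
  exact
    { lift := fun s => ModuleCat.ofHom (e.symm.toLinearMap ∘ₗ
        LinearMap.pi (fun j => (s.π.app ⟨j⟩).hom))
      fac := fun s j => by
        obtain ⟨j⟩ := j
        ext x
        show (G.map (πj j)).hom (e.symm (fun j => (s.π.app ⟨j⟩).hom x)) = (s.π.app ⟨j⟩).hom x
        rw [← he, e.apply_symm_apply]
      uniq := fun s m hm => by
        ext x
        apply e.injective
        show e (m.hom x) = e (e.symm (fun j => (s.π.app ⟨j⟩).hom x))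
        rw [e.apply_symm_apply]
        funext j
        rw [he]
        exact LinearMap.congr_fun (congrArg ModuleCat.Hom.hom (hm ⟨j⟩)) x }

end cat

section T
open Groth.Agent.Lib.Helper3 MonoidalCategory
variable {A : Type u} [CommRing A] {ι : Type} {c : ComplexShape ι}

/-- elementwise: an element of `K_p` killed by `pOpcycles` is a boundary -/
theorem exists_d_eq_of_pOpcycles_eq_zero (K : HomologicalComplex (ModuleCat.{u} A) c) (p : ι)
    (z : K.X p) (hz : (K.pOpcycles p).hom z = 0) : ∃ u : K.X (c.prev p), (K.d (c.prev p) p).hom u = z := by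
  have hex : (ShortComplex.mk (K.d (c.prev p) p) (K.pOpcycles p) (K.d_pOpcycles (c.prev p) p)).Exact :=
    ShortComplex.exact_of_g_is_cokernel _ (K.opcyclesIsCokernel (c.prev p) p rfl)
  have hex' := (ShortComplex.ShortExact.moduleCat_exact_iff_function_exact _).mp hex
  exact (hex' z).mp hz

/-- **the functors `T_p` of a complex of finite free modules commute with products** -/
theorem bijective_T_pi (L : HomologicalComplex (ModuleCat.{u} A) c)
    (hL : ∀ i, Module.Finite A (L.X i) ∧ Module.Free A (L.X i)) (p : ι) {J : Type u}
    (Z : J → ModuleCat.{u} A) :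
    Function.Bijective (fun (x : (CohIII.TFun L p).obj (ModuleCat.of A (∀ j, Z j))) (j : J) =>
      ((CohIII.TFun L p).map
        (ModuleCat.ofHom (LinearMap.proj (R := A) (φ := fun j => Z j) j))).hom x) := by
  let N : ModuleCat.{u} A := ModuleCat.of A (∀ j, Z j)
  let πj : ∀ j, N ⟶ Z j := fun j => ModuleCat.ofHom (LinearMap.proj (R := A) (φ := fun j => Z j) j)
  let K := CohIII.tensorObj L N
  let Kj : ∀ j, HomologicalComplex (ModuleCat.{u} A) c := fun j => CohIII.tensorObj L (Z j)
  let φ : ∀ j, K ⟶ Kj j := fun j => CohIII.tensorMap L (πj j)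
  -- termwise bijectivity
  have hbij : ∀ i, Function.Bijective (fun (x : K.X i) (j : J) => ((φ j).f i).hom x) := by
    intro i
    haveI := (hL i).1
    haveI := (hL i).2
    exact piRightHom_bijective (L.X i) (fun j => Z j)
  have hinj : ∀ i (x y : K.X i), (∀ j, ((φ j).f i).hom x = ((φ j).f i).hom y) → x = y :=
    fun i x y h => (hbij i).1 (funext h)
  have hsurj : ∀ i (y : ∀ j, (Kj j).X i), ∃ x : K.X i, ∀ j, ((φ j).f i).hom x = y j := by
    intro i y
    obtain ⟨x, hx⟩ := (hbij i).2 y
    exact ⟨x, fun j => congrFun hx j⟩
  -- naturality, elementwise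
  have nat_d : ∀ (j : J) (a b : ι) (x : K.X a),
      ((φ j).f b).hom ((K.d a b).hom x) = ((Kj j).d a b).hom (((φ j).f a).hom x) := fun j a b x =>
    (LinearMap.congr_fun (congrArg ModuleCat.Hom.hom ((φ j).comm a b)) x).symm
  have nat_p : ∀ (j : J) (x : K.X p),
      (HomologicalComplex.opcyclesMap (φ j) p).hom ((K.pOpcycles p).hom x) =
        ((Kj j).pOpcycles p).hom (((φ j).f p).hom x) := fun j x =>
    LinearMap.congr_fun (congrArg ModuleCat.Hom.hom (HomologicalComplex.p_opcyclesMap (φ j) p)) x
  have nat_ι : ∀ (j : J) (h : K.homology p),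
      ((Kj j).homologyι p).hom ((HomologicalComplex.homologyMap (φ j) p).hom h) =
        (HomologicalComplex.opcyclesMap (φ j) p).hom ((K.homologyι p).hom h) := fun j h =>
    LinearMap.congr_fun (congrArg ModuleCat.Hom.hom
      (HomologicalComplex.homologyι_naturality (φ j) p)) h
  have hιinj : ∀ (M : HomologicalComplex (ModuleCat.{u} A) c), Function.Injective (M.homologyι p).hom :=
    fun M => (ModuleCat.mono_iff_injective _).mp inferInstance
  have hpsurj : ∀ (M : HomologicalComplex (ModuleCat.{u} A) c),
      Function.Surjective (M.pOpcycles p).hom :=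
    fun M => (ModuleCat.epi_iff_surjective _).mp inferInstance
  have hpf : ∀ (M : HomologicalComplex (ModuleCat.{u} A) c) (x : M.X p),
      (M.fromOpcycles p (c.next p)).hom ((M.pOpcycles p).hom x) = (M.d p (c.next p)).hom x :=
    fun M x => LinearMap.congr_fun (congrArg ModuleCat.Hom.hom (M.p_fromOpcycles p (c.next p))) x
  constructor
  · -- injectivity
    intro h h' hh
    have hh' : ∀ j, (HomologicalComplex.homologyMap (φ j) p).hom h =
        (HomologicalComplex.homologyMap (φ j) p).hom h' := fun j => congrFun hh j
    apply hιinj K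
    obtain ⟨z, hz⟩ := hpsurj K ((K.homologyι p).hom h)
    obtain ⟨z', hz'⟩ := hpsurj K ((K.homologyι p).hom h')
    -- for each `j` the difference of the images is a boundary
    have hb : ∀ j, ∃ u : (Kj j).X (c.prev p),
        ((Kj j).d (c.prev p) p).hom u = ((φ j).f p).hom (z - z') := by
      intro j
      apply exists_d_eq_of_pOpcycles_eq_zero
      rw [← nat_p, map_sub, hz, hz', map_sub, ← nat_ι, ← nat_ι, hh' j, sub_self]
    choose u hu using hb
    obtain ⟨v, hv⟩ := hsurj (c.prev p) u
    have hzv : (K.d (c.prev p) p).hom v = z - z' := by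
      apply hinj p
      intro j
      rw [nat_d, hv j, hu j]
    have h0 : (K.pOpcycles p).hom (z - z') = 0 := by
      rw [← hzv]
      exact LinearMap.congr_fun (congrArg ModuleCat.Hom.hom (K.d_pOpcycles (c.prev p) p)) v
    rw [map_sub, hz, hz', sub_eq_zero] at h0
    exact h0
  · -- surjectivity
    intro y
    have hz : ∀ j, ∃ z : (Kj j).X p, ((Kj j).pOpcycles p).hom z = ((Kj j).homologyι p).hom (y j) :=
      fun j => hpsurj (Kj j) _
    choose z hz using hz
    obtain ⟨x, hx⟩ := hsurj p z
    have hdx : (K.d p (c.next p)).hom x = 0 := by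
      apply hinj (c.next p)
      intro j
      rw [nat_d, hx j, map_zero, ← hpf, hz j]
      exact LinearMap.congr_fun (congrArg ModuleCat.Hom.hom
        ((Kj j).homologyι_comp_fromOpcycles p (c.next p))) (y j)
    have hw : (K.fromOpcycles p (c.next p)).hom ((K.pOpcycles p).hom x) = 0 := by
      rw [hpf, hdx]
    obtain ⟨h, hh⟩ := (exact_homologyι_fromOpcycles K p (c.next p) rfl _).mp hw
    refine ⟨h, ?_⟩
    funext j
    apply hιinj (Kj j)
    show ((Kj j).homologyι p).hom ((HomologicalComplex.homologyMap (φ j) p).hom h) = _
    rw [nat_ι, hh, nat_p, hx j, hz j]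

/-- the functors `T_p` of a complex of finite free modules preserve products -/
theorem preservesLimitsOfShape_discrete_TFun (L : HomologicalComplex (ModuleCat.{u} A) c)
    (hL : ∀ i, Module.Finite A (L.X i) ∧ Module.Free A (L.X i)) (p : ι) (J : Type u) :
    PreservesLimitsOfShape (Discrete J) (CohIII.TFun L p) := by
  haveI : ∀ Z : J → ModuleCat.{u} A, PreservesLimit (Discrete.functor Z) (CohIII.TFun L p) :=
    fun Z => preservesLimit_of_bijective _ Z (bijective_T_pi L hL p Z)
  exact preservesLimitsOfShape_of_discrete _

end T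

end Groth.Agent.Lib.T2H9.TProd
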