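import Mathlib
import Groth.Prelude.Def_EtRam
import Groth.Agent.Lib.T2H9SolAll
import Groth.Agent.Lib.T2H9ResSepKummer
import Groth.Agent.Lib.T2H9TotRamDeg

set_option autoImplicit false
set_option linter.style.haveILetI false
set_option linter.unusedSectionVars false
universe u

/-!
# Base change of a tamely ramified extension along an extension of discrete valuation rings
-/

namespace Groth.Agent.Lib.T2H9.TameBC

open IsLocalRing TensorProduct Groth.Agent.Lib.T2H9.RamTower Groth.Agent.Lib.T2H9.FinDVR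
  Groth.Agent.Lib.T2H9.ValGen Groth.Agent.Lib.T2H9.RedArt
  Groth.Agent.Lib.T2H9.SolAll Groth.Agent.Lib.T2H9.TotRamDeg

section arith

theorem exists_bezout (nB n₁ : ℕ) (h : Nat.Coprime nB n₁) (hB : 0 < nB) (h1 : 0 < n₁) :
    ∃ a b : ℕ, a * nB = b * n₁ + 1 := by
  rcases Nat.lt_or_ge 1 n₁ with h2 | h2
  · obtain ⟨m, -, hm⟩ := Nat.exists_mul_mod_eq_one_of_coprime h h2
    refine ⟨m, nB * m / n₁, ?_⟩
    have := Nat.div_add_mod (nB * m) n₁
    rw [hm] at this
    rw [mul_comm m nB, mul_comm (nB * m / n₁) n₁]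
    exact this.symm
  · have h3 : n₁ = 1 := le_antisymm h2 h1
    subst h3
    exact ⟨1, nB - 1, by omega⟩

theorem monomial_identities {M : Type u} [Field M] (P T : M) (hP : P ≠ 0) (hT : T ≠ 0)
    (a b nB n₁ : ℕ) (hab : a * nB = b * n₁ + 1) :
    (T ^ nB / P ^ n₁) ^ b * (P ^ a / T ^ b) ^ nB = P ∧
      (T ^ nB / P ^ n₁) ^ a * (P ^ a / T ^ b) ^ n₁ = T := by
  have h1 : P ^ (a * nB) = P ^ (b * n₁) * P := by rw [hab, pow_succ]
  have h2 : T ^ (a * nB) = T ^ (b * n₁) * T := by rw [hab, pow_succ]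
  constructor
  · rw [div_pow, div_pow, div_mul_div_comm,
      div_eq_iff (mul_ne_zero (pow_ne_zero _ (pow_ne_zero _ hP)) (pow_ne_zero _ (pow_ne_zero _ hT))),
      ← pow_mul, ← pow_mul, ← pow_mul, ← pow_mul, h1]
    ring
  · rw [div_pow, div_pow, div_mul_div_comm,
      div_eq_iff (mul_ne_zero (pow_ne_zero _ (pow_ne_zero _ hP)) (pow_ne_zero _ (pow_ne_zero _ hT))),
      ← pow_mul, ← pow_mul, ← pow_mul, ← pow_mul, mul_comm nB a, h2]
    ring

end arith

section main

variable (A B K L : Type u) [CommRing A] [IsDomain A] [IsDiscreteValuationRing A]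
  [CommRing B] [IsDomain B] [IsDiscreteValuationRing B] [Algebra A B] [IsLocalHom (algebraMap A B)]
  [Field K] [Field L] [Algebra A K] [IsFractionRing A K] [Algebra B L] [IsFractionRing B L]
  [Algebra K L] [Algebra A L] [IsScalarTower A K L] [IsScalarTower A B L]
  (K₁ : Type u) [Field K₁] [Algebra K K₁] [FiniteDimensional K K₁]
  (M : Type u) [Field M] [Algebra K M] [Algebra L M] [Algebra K₁ M] [IsScalarTower K L M]
  [IsScalarTower K K₁ M]

include K in
theorem core (h : EtRam.IsTamelyRamified A ((algebraMap K K₁).comp (algebraMap A K)))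
    (hgen : Algebra.adjoin L (Set.range (algebraMap K₁ M)) = ⊤) (W : ValuationSubring M)
    (hW : EtRam.Dominates B ((algebraMap L M).comp (algebraMap B L)) W) :
    letI : Algebra B W :=
      (RingHom.codRestrict ((algebraMap L M).comp (algebraMap B L)) W hW.1).toAlgebra
    ∀ [IsLocalHom (algebraMap B W)],
      Algebra.IsSeparable (ResidueField B) (ResidueField W) ∧
        ∀ p : ℕ, p.Prime → CharP (ResidueField B) p →
          ¬ p ∣ Ideal.ramificationIdx' (maximalIdeal B) (maximalIdeal W) := by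
  classical
  letI : Algebra A K₁ := ((algebraMap K K₁).comp (algebraMap A K)).toAlgebra
  haveI : IsScalarTower A K K₁ := IsScalarTower.of_algebraMap_eq (fun _ => rfl)
  letI : Algebra B M := ((algebraMap L M).comp (algebraMap B L)).toAlgebra
  haveI : IsScalarTower B L M := IsScalarTower.of_algebraMap_eq (fun _ => rfl)
  haveI hfinLM : Module.Finite L M := finite_of_adjoin K L K₁ M hgen
  have hWB : EtRam.Dominates B (algebraMap B M) W := hW
  haveI : IsDiscreteValuationRing W := isDiscreteValuationRing_of_dominates B L M W hWB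
  have hcompat : ∀ a : A,
      algebraMap K₁ M (algebraMap A K₁ a) = algebraMap B M (algebraMap A B a) := by
    intro a
    change algebraMap K₁ M (algebraMap K K₁ (algebraMap A K a)) =
      algebraMap L M (algebraMap B L (algebraMap A B a))
    rw [← IsScalarTower.algebraMap_apply K K₁ M, ← IsScalarTower.algebraMap_apply A B L,
      IsScalarTower.algebraMap_apply A K L, ← IsScalarTower.algebraMap_apply K L M]
  set f := algebraMap K₁ M with hf
  set V₁ := W.comap f with hV₁
  have hV₁dom : EtRam.Dominates A (algebraMap A K₁) V₁ := by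
    rw [dominates_comap_iff]
    refine ⟨fun a => ?_, fun a ha => ?_⟩
    · rw [RingHom.comp_apply, hcompat]
      exact hWB.1 _
    · rw [RingHom.comp_apply, hcompat]
      apply hWB.2
      rw [mem_maximalIdeal, mem_nonunits_iff] at ha ⊢
      intro hu
      exact ha (isUnit_of_map_unit (algebraMap A B) a hu)
  haveI : IsDiscreteValuationRing V₁ := isDiscreteValuationRing_of_dominates A K K₁ V₁ hV₁dom
  letI algAV₁ : Algebra A V₁ :=
    (RingHom.codRestrict ((algebraMap K K₁).comp (algebraMap A K)) V₁ hV₁dom.1).toAlgebra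
  haveI : IsScalarTower A V₁ K₁ := IsScalarTower.of_algebraMap_eq (fun _ => rfl)
  haveI : IsLocalHom (algebraMap A V₁) := isLocalHom_of_dominates (algebraMap A K₁) V₁ hV₁dom
  letI algBW : Algebra B W := (RingHom.codRestrict (algebraMap B M) W hWB.1).toAlgebra
  haveI : IsScalarTower B W M := IsScalarTower.of_algebraMap_eq (fun _ => rfl)
  intro _
  letI algV₁W : Algebra V₁ W := (EtRam.inclOfComap W f).toAlgebra
  haveI : IsLocalHom (algebraMap V₁ W) := EtRam.isLocalHom_inclOfComap W f
  obtain ⟨hsep, htame⟩ := h V₁ hV₁dom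
  haveI := hsep
  have hinjAK₁ : Function.Injective (algebraMap A K₁) :=
    (algebraMap K K₁).injective.comp (IsFractionRing.injective A K)
  have hinjAV₁ : Function.Injective (algebraMap A V₁) := fun a b hab =>
    hinjAK₁ (congrArg Subtype.val hab)
  have hinjAB : Function.Injective (algebraMap A B) := by
    intro a b hab
    have h1 : algebraMap A L a = algebraMap A L b := by
      rw [IsScalarTower.algebraMap_apply A B L, hab, ← IsScalarTower.algebraMap_apply A B L]
    rw [IsScalarTower.algebraMap_apply A K L, IsScalarTower.algebraMap_apply A K L] at h1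
    exact IsFractionRing.injective A K ((algebraMap K L).injective h1)
  obtain ⟨hresfin, -⟩ := Groth.Agent.Lib.Helper24DvrEF.s7132 A V₁ K K₁ hinjAV₁
  haveI := hresfin
  obtain ⟨π, hπ⟩ := IsDiscreteValuationRing.exists_irreducible A
  obtain ⟨πB, hπB⟩ := IsDiscreteValuationRing.exists_irreducible B
  obtain ⟨π₁, hπ₁⟩ := IsDiscreteValuationRing.exists_irreducible V₁
  have hπB0 : algebraMap A B π ≠ 0 := fun h0 =>
    hπ.ne_zero (hinjAB (h0.trans (map_zero _).symm))
  have hπ₁0 : algebraMap A V₁ π ≠ 0 := fun h0 =>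
    hπ.ne_zero (hinjAV₁ (h0.trans (map_zero _).symm))
  obtain ⟨eB, uB, huB⟩ := IsDiscreteValuationRing.eq_unit_mul_pow_irreducible hπB0 hπB
  obtain ⟨e₁, u₁, hu₁⟩ := IsDiscreteValuationRing.eq_unit_mul_pow_irreducible hπ₁0 hπ₁
  have hmapV₁ : (maximalIdeal A).map (algebraMap A V₁) = Ideal.span {algebraMap A V₁ π} := by
    rw [hπ.maximalIdeal_eq, Ideal.map_span, Set.image_singleton]
  have hramV₁ := ramificationIdx'_eq_of_span _ hmapV₁ π₁ hπ₁ u₁ e₁ hu₁
  rw [hramV₁] at htame
  have heB0 : eB ≠ 0 := by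
    rintro rfl
    rw [pow_zero, mul_one] at huB
    have : IsUnit (algebraMap A B π) := huB ▸ uB.isUnit
    exact hπ.not_isUnit (isUnit_of_map_unit (algebraMap A B) π this)
  have he₁0 : e₁ ≠ 0 := by
    rintro rfl
    rw [pow_zero, mul_one] at hu₁
    have : IsUnit (algebraMap A V₁ π) := hu₁ ▸ u₁.isUnit
    exact hπ.not_isUnit (isUnit_of_map_unit (algebraMap A V₁) π this)
  -- `e₁` is invertible in the residue field
  have he₁κ : ((e₁ : ℕ) : ResidueField A) ≠ 0 := by
    obtain ⟨p, hp⟩ := CharP.exists (ResidueField A)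
    rcases CharP.char_is_prime_or_zero (ResidueField A) p with hpp | hp0
    · intro h0
      exact htame p hpp hp ((CharP.cast_eq_zero_iff (ResidueField A) p e₁).mp h0)
    · subst hp0
      haveI : CharZero (ResidueField A) := CharP.charP_to_charZero _
      exact Nat.cast_ne_zero.mpr he₁0
  -- arithmetic of the ramification indices
  set g := Nat.gcd e₁ eB with hg
  have hgpos : 0 < g := Nat.gcd_pos_of_pos_left _ (Nat.pos_of_ne_zero he₁0)
  set nB := e₁ / g with hnB
  set n₁ := eB / g with hn₁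
  have hnBg : nB * g = e₁ := Nat.div_mul_cancel (Nat.gcd_dvd_left e₁ eB)
  have hn₁g : n₁ * g = eB := Nat.div_mul_cancel (Nat.gcd_dvd_right e₁ eB)
  have hcop : Nat.Coprime nB n₁ := Nat.coprime_div_gcd_div_gcd hgpos
  have hnBpos : 0 < nB := by
    rcases Nat.eq_zero_or_pos nB with h0 | h0
    · exfalso; apply he₁0; rw [← hnBg, h0, zero_mul]
    · exact h0
  have hn₁pos : 0 < n₁ := by
    rcases Nat.eq_zero_or_pos n₁ with h0 | h0
    · exfalso; apply heB0; rw [← hn₁g, h0, zero_mul]
    · exact h0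
  obtain ⟨a, b, hab⟩ := exists_bezout nB n₁ hcop hnBpos hn₁pos
  have hgκ : ((g : ℕ) : ResidueField A) ≠ 0 := by
    intro h0
    apply he₁κ
    rw [← hnBg, Nat.cast_mul, h0, mul_zero]
  -- the elements
  set T : M := f (π₁ : K₁) with hT
  set P : M := algebraMap B M πB with hP
  set uBM : M := algebraMap B M (uB : B) with huBM
  set u1M : M := f ((u₁ : V₁) : K₁) with hu1M
  have hT0 : T ≠ 0 := by
    rw [hT, Ne, map_eq_zero]
    exact fun h => hπ₁.ne_zero (Subtype.ext h)
  have hP0 : P ≠ 0 := by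
    intro h0
    exact hπB.ne_zero (algebraMap_injective B L M (h0.trans (map_zero _).symm))
  have hT1 : W.valuation T < 1 := by
    rw [hT, ← valuation_comap_lt_one_iff, ← ValuationSubring.valuation_lt_one_iff,
      mem_maximalIdeal, mem_nonunits_iff]
    exact hπ₁.not_isUnit
  have hP1 : W.valuation P < 1 := by
    apply hWB.2
    rw [mem_maximalIdeal, mem_nonunits_iff]
    exact hπB.not_isUnit
  have hrel1 : algebraMap B M (algebraMap A B π) = uBM * P ^ eB := by
    rw [huB, map_mul, map_pow]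
  have hrel2 : algebraMap B M (algebraMap A B π) = u1M * T ^ e₁ := by
    rw [← hcompat]
    have := congrArg (fun x : V₁ => f (x : K₁)) hu₁
    simp only [MulMemClass.coe_mul, SubmonoidClass.coe_pow, map_mul, map_pow] at this
    exact this
  have huBMval : W.valuation uBM = 1 := by
    have h1 : IsUnit (algebraMap B W (uB : B)) := uB.isUnit.map (algebraMap B W)
    exact (W.valuation_eq_one_iff _).mp h1
  have hu1Mval : W.valuation u1M = 1 := by
    have h1 : IsUnit (algebraMap V₁ W (u₁ : V₁)) := u₁.isUnit.map (algebraMap V₁ W)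
    exact (W.valuation_eq_one_iff _).mp h1
  have huBM0 : uBM ≠ 0 := by
    intro h0
    rw [h0, map_zero] at huBMval
    exact zero_ne_one huBMval
  have hu1M0 : u1M ≠ 0 := by
    intro h0
    rw [h0, map_zero] at hu1Mval
    exact zero_ne_one hu1Mval
  set τ : M := P ^ a / T ^ b with hτ
  set Z : M := T ^ nB / P ^ n₁ with hZ
  obtain ⟨hZτP, hZτT⟩ := monomial_identities P T hP0 hT0 a b nB n₁ hab
  have hZrel : Z ^ g * u1M = uBM := by
    have h1 : uBM * P ^ eB = u1M * T ^ e₁ := hrel1.symm.trans hrel2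
    rw [hZ, div_pow, ← pow_mul, ← pow_mul, hnBg, hn₁g, div_mul_eq_mul_div,
      div_eq_iff (pow_ne_zero _ hP0), mul_comm, ← h1]
  have hZval : W.valuation Z = 1 := by
    have h1 : W.valuation Z ^ g = 1 := by
      have := congrArg W.valuation hZrel
      rw [map_mul, map_pow, huBMval, hu1Mval, mul_one] at this
      exact this
    rcases lt_trichotomy (W.valuation Z) 1 with h | h | h
    · exact absurd h1 (ne_of_lt (pow_lt_one₀ zero_le h hgpos.ne'))
    · exact h
    · exact absurd h1 (ne_of_gt (one_lt_pow₀ h hgpos.ne'))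
  have hZW : Z ∈ W := (W.valuation_le_one_iff Z).mp hZval.le
  have hτ0 : τ ≠ 0 := div_ne_zero (pow_ne_zero _ hP0) (pow_ne_zero _ hT0)
  have hτ1 : W.valuation τ < 1 := by
    by_contra hcon
    rw [not_lt] at hcon
    have h1 : W.valuation P = W.valuation τ ^ nB := by
      rw [← hZτP, map_mul, map_pow, map_pow, hZval, one_pow, one_mul]
    have h2 : 1 ≤ W.valuation τ ^ nB := one_le_pow₀ hcon
    rw [← h1] at h2
    exact absurd hP1 (not_lt.mpr h2)
  have hτW : τ ∈ W := (W.valuation_le_one_iff τ).mp hτ1.le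
  -- the subring generated by `B`, `V₁`, `τ` and `Z`
  set R : Subalgebra B M :=
    Algebra.adjoin B (Set.range (fun v : V₁ => f (v : K₁)) ∪ {τ, Z}) with hR
  have hRW : ∀ x ∈ R, x ∈ W := by
    intro x hx
    induction hx using Algebra.adjoin_induction with
    | mem y hy =>
      rcases hy with ⟨v, rfl⟩ | hy | hy
      · exact v.2
      · rw [hy]; exact hτW
      · rw [Set.mem_singleton_iff] at hy
        rw [hy]; exact hZW
    | algebraMap c => exact hWB.1 c
    | add y y' _ _ hy hy' => exact W.add_mem _ _ hy hy'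
    | mul y y' _ _ hy hy' => exact W.mul_mem _ _ hy hy'
  let ι₁ : V₁ →+* R :=
    { toFun := fun v => ⟨f (v : K₁), Algebra.subset_adjoin (Or.inl ⟨v, rfl⟩)⟩
      map_one' := Subtype.ext (map_one f)
      map_mul' := fun x y => Subtype.ext (map_mul f (x : K₁) (y : K₁))
      map_zero' := Subtype.ext (map_zero f)
      map_add' := fun x y => Subtype.ext (map_add f (x : K₁) (y : K₁)) }
  let tR : R := ⟨τ, Algebra.subset_adjoin (Or.inr (Or.inl rfl))⟩
  let ZR : R := ⟨Z, Algebra.subset_adjoin (Or.inr (Or.inr rfl))⟩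
  have hAR : ∀ a : A, algebraMap B R (algebraMap A B a) = ι₁ (algebraMap A V₁ a) := by
    intro a
    apply Subtype.ext
    exact (hcompat a).symm
  have hπBR : algebraMap B R πB = ZR ^ b * tR ^ nB := Subtype.ext hZτP.symm
  have hπ₁R : ι₁ π₁ = ZR ^ a * tR ^ n₁ := Subtype.ext hZτT.symm
  have htpow : ∀ n : ℕ, 0 < n → tR ^ n ∈ Ideal.span {tR} := by
    intro n hn
    obtain ⟨n', rfl⟩ := Nat.exists_eq_succ_of_ne_zero hn.ne'
    rw [pow_succ]
    exact Ideal.mul_mem_left _ _ (Ideal.mem_span_singleton_self tR)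
  have hBt : ∀ x ∈ maximalIdeal B, algebraMap B R x ∈ Ideal.span {tR} := by
    intro x hx
    rw [hπB.maximalIdeal_eq, Ideal.mem_span_singleton'] at hx
    obtain ⟨c, rfl⟩ := hx
    rw [map_mul, hπBR]
    exact Ideal.mul_mem_left _ _ (Ideal.mul_mem_left _ _ (htpow nB hnBpos))
  have hV₁t : ∀ v ∈ maximalIdeal V₁, ι₁ v ∈ Ideal.span {tR} := by
    intro v hv
    rw [hπ₁.maximalIdeal_eq, Ideal.mem_span_singleton'] at hv
    obtain ⟨c, rfl⟩ := hv
    rw [map_mul, hπ₁R]
    exact Ideal.mul_mem_left _ _ (Ideal.mul_mem_left _ _ (htpow n₁ hn₁pos))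
  let g₁ : ResidueField V₁ →+* R ⧸ Ideal.span {tR} :=
    Ideal.Quotient.lift (maximalIdeal V₁) ((Ideal.Quotient.mk _).comp ι₁) (fun v hv => by
      rw [RingHom.comp_apply, Ideal.Quotient.eq_zero_iff_mem]
      exact hV₁t v hv)
  let g₂ : ResidueField B →+* R ⧸ Ideal.span {tR} :=
    Ideal.Quotient.lift (maximalIdeal B) ((Ideal.Quotient.mk _).comp (algebraMap B R))
      (fun x hx => by
        rw [RingHom.comp_apply, Ideal.Quotient.eq_zero_iff_mem]
        exact hBt x hx)
  letI algQ : Algebra (ResidueField B) (R ⧸ Ideal.span {tR}) := g₂.toAlgebra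
  have hcomp : ∀ c : ResidueField A, g₁ (algebraMap (ResidueField A) (ResidueField V₁) c) =
      algebraMap (ResidueField B) (R ⧸ Ideal.span {tR})
        (algebraMap (ResidueField A) (ResidueField B) c) := by
    intro c
    obtain ⟨a', rfl⟩ := residue_surjective c
    change Ideal.Quotient.mk _ (ι₁ (algebraMap A V₁ a')) =
      Ideal.Quotient.mk _ (algebraMap B R (algebraMap A B a'))
    rw [hAR]
  set θQ : R ⧸ Ideal.span {tR} := Ideal.Quotient.mk _ ZR with hθQ
  have hθQrel : θQ ^ g * g₁ (residue V₁ (u₁ : V₁)) =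
      algebraMap (ResidueField B) (R ⧸ Ideal.span {tR}) (residue B (uB : B)) := by
    change Ideal.Quotient.mk _ ZR ^ g * Ideal.Quotient.mk _ (ι₁ (u₁ : V₁)) =
      Ideal.Quotient.mk _ (algebraMap B R (uB : B))
    rw [← map_pow, ← map_mul]
    congr 1
    exact Subtype.ext hZrel
  have hresuB : residue B (uB : B) ≠ 0 := by
    rw [Ne, residue_eq_zero_iff, mem_maximalIdeal, mem_nonunits_iff, not_not]
    exact uB.isUnit
  have hresu₁ : residue V₁ (u₁ : V₁) ≠ 0 := by
    rw [Ne, residue_eq_zero_iff, mem_maximalIdeal, mem_nonunits_iff, not_not]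
    exact u₁.isUnit
  have hgenQ : ∀ x : R ⧸ Ideal.span {tR}, x ∈ Subring.closure
      (Set.range (algebraMap (ResidueField B) (R ⧸ Ideal.span {tR})) ∪ Set.range g₁ ∪
        {θQ}) := by
    intro x
    obtain ⟨r, rfl⟩ := Ideal.Quotient.mk_surjective x
    obtain ⟨r, hr⟩ := r
    induction hr using Algebra.adjoin_induction with
    | mem y hy =>
      rcases hy with ⟨v, rfl⟩ | hy | hy
      · exact Subring.subset_closure (Or.inl (Or.inr ⟨residue V₁ v, rfl⟩))
      · have h0 : Ideal.Quotient.mk (Ideal.span {tR}) ⟨y, Algebra.subset_adjoin (Or.inr (Or.inl hy))⟩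
            = 0 := by
          rw [Ideal.Quotient.eq_zero_iff_mem]
          have : (⟨y, Algebra.subset_adjoin (Or.inr (Or.inl hy))⟩ : R) = tR := Subtype.ext hy
          rw [this]
          exact Ideal.mem_span_singleton_self tR
        rw [h0]
        exact Subring.zero_mem _
      · rw [Set.mem_singleton_iff] at hy
        have : (⟨y, Algebra.subset_adjoin (Or.inr (Or.inr hy))⟩ : R) = ZR := Subtype.ext hy
        rw [this]
        exact Subring.subset_closure (Or.inr rfl)
    | algebraMap x => exact Subring.subset_closure (Or.inl (Or.inl ⟨residue B x, rfl⟩))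
    | add y y' hy hy' h1 h2 =>
      have : (⟨y + y', add_mem hy hy'⟩ : R) = ⟨y, hy⟩ + ⟨y', hy'⟩ := rfl
      rw [this, map_add]
      exact add_mem h1 h2
    | mul y y' hy hy' h1 h2 =>
      have : (⟨y * y', mul_mem hy hy'⟩ : R) = ⟨y, hy⟩ * ⟨y', hy'⟩ := rfl
      rw [this, map_mul]
      exact mul_mem h1 h2
  obtain ⟨hart, hred⟩ := Groth.Agent.Lib.T2H9.ResSepKummer.reducedArtinian_of_gen
    (ResidueField A) (ResidueField B) (ResidueField V₁) g (residue B (uB : B))
    (residue V₁ (u₁ : V₁)) (R ⧸ Ideal.span {tR}) g₁ hcomp θQ hθQrel hgκ hresuB hresu₁ hgenQ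
  haveI := hart
  haveI := hred
  let ι : R →+* W :=
    { toFun := fun y => ⟨y.1, hRW y.1 y.2⟩
      map_one' := rfl
      map_mul' := fun _ _ => rfl
      map_zero' := rfl
      map_add' := fun _ _ => rfl }
  have h𝔫 : (maximalIdeal W).comap ι ≠ ⊤ := (Ideal.comap_isPrime ι _).ne_top
  have hmem𝔫 : ∀ y : R, y ∈ (maximalIdeal W).comap ι ↔ W.valuation (y : M) < 1 :=
    fun y => W.valuation_lt_one_iff (ι y)
  have ht𝔫 : tR ∈ (maximalIdeal W).comap ι := (hmem𝔫 _).mpr hτ1
  have h2 : ∀ y ∈ R.toSubring, W.valuation y < 1 →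
      ∃ s ∈ R.toSubring, W.valuation s = 1 ∧ ∃ y' ∈ R.toSubring, s * y = τ * y' := by
    intro y hy hlt
    obtain ⟨s, hs, y', hsy⟩ := exists_mul_eq_mul tR ((maximalIdeal W).comap ι) h𝔫 ht𝔫 ⟨y, hy⟩
      ((hmem𝔫 _).mpr hlt)
    refine ⟨s.1, s.2, ?_, y'.1, y'.2, congrArg Subtype.val hsy⟩
    rw [hmem𝔫, not_lt] at hs
    exact le_antisymm ((W.valuation_le_one_iff _).mpr (hRW _ s.2)) hs
  have h3 : ∀ x : M, ∃ y ∈ R.toSubring, ∃ y' ∈ R.toSubring, y' ≠ 0 ∧ x * y' = y := by
    intro x
    have hx : x ∈ Algebra.adjoin L (Set.range f) := by rw [hgen]; exact Algebra.mem_top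
    induction hx using Algebra.adjoin_induction with
    | mem z hz =>
      obtain ⟨c, rfl⟩ := hz
      by_cases hcV : c ∈ V₁
      · exact ⟨f c, Algebra.subset_adjoin (Or.inl ⟨⟨c, hcV⟩, rfl⟩), 1, R.one_mem, one_ne_zero,
          mul_one _⟩
      · have hc := (V₁.mem_or_inv_mem c).resolve_left hcV
        have hc0 : c ≠ 0 := by
          intro h0
          exact hcV (h0 ▸ V₁.zero_mem)
        refine ⟨1, R.one_mem, f c⁻¹, Algebra.subset_adjoin (Or.inl ⟨⟨c⁻¹, hc⟩, rfl⟩), ?_, ?_⟩
        · rw [Ne, map_eq_zero]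
          exact inv_ne_zero hc0
        · rw [← map_mul, mul_inv_cancel₀ hc0, map_one]
    | algebraMap l =>
      obtain ⟨p, q, hq, rfl⟩ := IsFractionRing.div_surjective (A := B) l
      have hq0 : algebraMap B M q ≠ 0 := by
        intro h0
        exact nonZeroDivisors.ne_zero hq
          (algebraMap_injective B L M (h0.trans (map_zero _).symm))
      refine ⟨algebraMap B M p, R.algebraMap_mem p, algebraMap B M q, R.algebraMap_mem q, hq0, ?_⟩
      rw [map_div₀, ← IsScalarTower.algebraMap_apply, ← IsScalarTower.algebraMap_apply,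
        div_mul_cancel₀ _ hq0]
    | add x₁ x₂ _ _ h1 h2 =>
      obtain ⟨y₁, hy₁, y₁', hy₁', hy₁0, e₁⟩ := h1
      obtain ⟨y₂, hy₂, y₂', hy₂', hy₂0, e₂⟩ := h2
      refine ⟨y₁ * y₂' + y₂ * y₁', R.add_mem (R.mul_mem hy₁ hy₂') (R.mul_mem hy₂ hy₁'),
        y₁' * y₂', R.mul_mem hy₁' hy₂', mul_ne_zero hy₁0 hy₂0, ?_⟩
      rw [← e₁, ← e₂]
      ring
    | mul x₁ x₂ _ _ h1 h2 =>
      obtain ⟨y₁, hy₁, y₁', hy₁', hy₁0, e₁⟩ := h1
      obtain ⟨y₂, hy₂, y₂', hy₂', hy₂0, e₂⟩ := h2
      refine ⟨y₁ * y₂, R.mul_mem hy₁ hy₂, y₁' * y₂', R.mul_mem hy₁' hy₂',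
        mul_ne_zero hy₁0 hy₂0, ?_⟩
      rw [← e₁, ← e₂]
      ring
  have hRW' : ∀ x ∈ R.toSubring, x ∈ W := hRW
  have htR' : τ ∈ R.toSubring := tR.2
  obtain ⟨hc1, hc2⟩ := gen_of_subring W R.toSubring hRW' τ htR' hτ1 hτ0 h2 h3
  refine ⟨?_, ?_⟩
  · have hcomp' : ∀ c : ResidueField A,
        (ResidueField.map (algebraMap V₁ W)) (algebraMap (ResidueField A) (ResidueField V₁) c) =
        algebraMap (ResidueField B) (ResidueField W)
          (algebraMap (ResidueField A) (ResidueField B) c) := by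
      intro c
      obtain ⟨a', rfl⟩ := residue_surjective c
      change residue W (algebraMap V₁ W (algebraMap A V₁ a')) =
        residue W (algebraMap B W (algebraMap A B a'))
      congr 1
      apply Subtype.ext
      exact hcompat a'
    set θκ : ResidueField W := residue W ⟨Z, hZW⟩ with hθκ
    set C := Subring.closure (Set.range (algebraMap (ResidueField B) (ResidueField W)) ∪
      Set.range (ResidueField.map (algebraMap V₁ W)) ∪ {θκ}) with hC
    have hθκrel : θκ ^ g * ResidueField.map (algebraMap V₁ W) (residue V₁ (u₁ : V₁)) =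
        algebraMap (ResidueField B) (ResidueField W) (residue B (uB : B)) := by
      change residue W ⟨Z, hZW⟩ ^ g * residue W (algebraMap V₁ W (u₁ : V₁)) =
        residue W (algebraMap B W (uB : B))
      rw [← map_pow, ← map_mul]
      congr 1
      exact Subtype.ext hZrel
    have hres : ∀ r : R, residue W (ι r) ∈ C := by
      intro r
      obtain ⟨r, hr⟩ := r
      induction hr using Algebra.adjoin_induction with
      | mem y hy =>
        rcases hy with ⟨v, rfl⟩ | hy | hy
        · exact Subring.subset_closure (Or.inl (Or.inr ⟨residue V₁ v, rfl⟩))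
        · have h0 : residue W (ι ⟨y, Algebra.subset_adjoin (Or.inr (Or.inl hy))⟩) = 0 := by
            rw [residue_eq_zero_iff, ValuationSubring.valuation_lt_one_iff]
            change W.valuation y < 1
            rw [hy]
            exact hτ1
          rw [h0]
          exact Subring.zero_mem _
        · rw [Set.mem_singleton_iff] at hy
          have : ι (⟨y, Algebra.subset_adjoin (Or.inr (Or.inr hy))⟩ : R) = ⟨Z, hZW⟩ :=
            Subtype.ext hy
          rw [this]
          exact Subring.subset_closure (Or.inr rfl)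
      | algebraMap x => exact Subring.subset_closure (Or.inl (Or.inl ⟨residue B x, rfl⟩))
      | add y y' hy hy' h1 h2 =>
        have : ι (⟨y + y', add_mem hy hy'⟩ : R) = ι ⟨y, hy⟩ + ι ⟨y', hy'⟩ := rfl
        rw [this, map_add]
        exact add_mem h1 h2
      | mul y y' hy hy' h1 h2 =>
        have : ι (⟨y * y', mul_mem hy hy'⟩ : R) = ι ⟨y, hy⟩ * ι ⟨y', hy'⟩ := rfl
        rw [this, map_mul]
        exact mul_mem h1 h2
    have hfrac : ∀ x : ResidueField W, ∃ u ∈ C, ∃ u' ∈ C, u' ≠ 0 ∧ x * u' = u := by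
      intro x
      obtain ⟨w, rfl⟩ := residue_surjective x
      rcases lt_or_eq_of_le (W.valuation_le_one w) with hlt | heq
      · have : residue W w = 0 := by
          rw [residue_eq_zero_iff]
          exact (W.valuation_lt_one_iff w).mpr hlt
        exact ⟨0, C.zero_mem, 1, C.one_mem, one_ne_zero, by rw [this, zero_mul]⟩
      · obtain ⟨v, hv, v', hv', hv1, hv'1, hxv⟩ := hc2 w heq
        refine ⟨residue W (ι ⟨v, hv⟩), hres _, residue W (ι ⟨v', hv'⟩), hres _, ?_, ?_⟩
        · have hunit : IsUnit (ι ⟨v', hv'⟩) := (W.valuation_eq_one_iff _).mpr hv'1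
          rw [Ne, residue_eq_zero_iff, mem_maximalIdeal, mem_nonunits_iff, not_not]
          exact hunit
        · rw [← map_mul]
          congr 1
          exact Subtype.ext hxv
    exact Groth.Agent.Lib.T2H9.ResSepKummer.isSeparable_of_fracGen
      (ResidueField A) (ResidueField B) (ResidueField V₁) g (residue B (uB : B))
      (residue V₁ (u₁ : V₁)) (ResidueField W) (ResidueField.map (algebraMap V₁ W)) hcomp' θκ
      hθκrel hgκ hresuB hresu₁ hfrac
  · intro p hp hchar
    -- the ramification index is `nB`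
    let τW : W := ⟨τ, hτW⟩
    let ZW : W := ⟨Z, hZW⟩
    have hZWunit : IsUnit ZW := (W.valuation_eq_one_iff _).mpr hZval
    have hmax : maximalIdeal W = Ideal.span {τW} := by
      apply le_antisymm
      · intro x hx
        obtain ⟨w, hw', hxw⟩ := hc1 x ((W.valuation_lt_one_iff x).mp hx)
        rw [Ideal.mem_span_singleton']
        exact ⟨⟨w, hw'⟩, Subtype.ext (by rw [hxw]; exact mul_comm _ _)⟩
      · rw [Ideal.span_singleton_le_iff_mem]
        exact (W.valuation_lt_one_iff τW).mpr hτ1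
    have hτirr : Irreducible τW := (IsDiscreteValuationRing.irreducible_iff_uniformizer τW).mpr hmax
    have hmapB : (maximalIdeal B).map (algebraMap B W) = Ideal.span {algebraMap B W πB} := by
      rw [hπB.maximalIdeal_eq, Ideal.map_span, Set.image_singleton]
    have hπBW : algebraMap B W πB = ((hZWunit.unit ^ b : Wˣ) : W) * τW ^ nB := by
      apply Subtype.ext
      rw [Units.val_pow_eq_pow_val, IsUnit.unit_spec]
      exact hZτP.symm
    rw [ramificationIdx'_eq_of_span _ hmapB τW hτirr (hZWunit.unit ^ b) nB hπBW]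
    intro hdvd
    have hcharA : CharP (ResidueField A) p :=
      ((algebraMap (ResidueField A) (ResidueField B)).charP_iff
        (algebraMap (ResidueField A) (ResidueField B)).injective p).mpr hchar
    exact htame p hp hcharA (hdvd.trans ⟨g, hnBg.symm⟩)

end main

end Groth.Agent.Lib.T2H9.TameBC
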