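import Mathlib
import Groth.Prelude.Def_RegImm
import Groth.Agent.Lib.T2H9QRegGr
import Groth.Agent.Lib.Helper28Hull2
import Groth.Agent.S5802

/-!
# Transversally regular sequences: flatness of `J^n / J^m` and of `(J^n)_q` (helper9)
-/

set_option autoImplicit false
universe u

namespace Groth.Agent.Lib.T2H9.TransRegB

open Groth.Agent.Lib.T2H9.QRegGr

section

variable {A B : Type u} [CommRing A] [CommRing B] [Algebra A B]

theorem flat_restrictScalars (M : Type u) [AddCommGroup M] [Module B M] [Module A M]
    [IsScalarTower A B M] [Module.Flat A M] : Module.Flat A (RestrictScalars A B M) := by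
  let e : RestrictScalars A B M ≃ₗ[A] M :=
    { RestrictScalars.addEquiv A B M with
      map_smul' := fun a x => by
        change RestrictScalars.addEquiv A B M (a • x) = a • RestrictScalars.addEquiv A B M x
        rw [RestrictScalars.addEquiv_map_smul, algebraMap_smul] }
  exact Module.Flat.of_linearEquiv e

theorem flat_sub_quot {I₁ I₂ : Ideal B} (h : I₂ ≤ I₁) [Module.Flat A (B ⧸ I₂)]
    [Module.Flat A (B ⧸ I₁)] :
    Module.Flat A (↥I₁ ⧸ Submodule.comap I₁.subtype I₂) := by
  let i : (↥I₁ ⧸ Submodule.comap I₁.subtype I₂) →ₗ[B] B ⧸ I₂ :=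
    Submodule.mapQ (Submodule.comap I₁.subtype I₂) I₂ I₁.subtype le_rfl
  let p : (B ⧸ I₂) →ₗ[B] B ⧸ I₁ := Submodule.mapQ I₂ I₁ LinearMap.id h
  refine Helper22.flat_of_exact_of_flat_flat (i.restrictScalars A) (p.restrictScalars A) ?_ ?_ ?_
  · change Function.Injective i
    rw [injective_iff_map_eq_zero]
    intro x hx
    obtain ⟨a, rfl⟩ := Submodule.Quotient.mk_surjective _ x
    change (Submodule.Quotient.mk (a : B) : B ⧸ I₂) = 0 at hx
    rw [Submodule.Quotient.mk_eq_zero] at hx
    rw [Submodule.Quotient.mk_eq_zero]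
    exact hx
  · intro y
    obtain ⟨b, rfl⟩ := Submodule.Quotient.mk_surjective _ y
    exact ⟨Submodule.Quotient.mk b, rfl⟩
  · intro y
    obtain ⟨b, rfl⟩ := Submodule.Quotient.mk_surjective _ y
    change (Submodule.Quotient.mk b : B ⧸ I₁) = 0 ↔ _
    rw [Submodule.Quotient.mk_eq_zero]
    constructor
    · intro hb
      exact ⟨Submodule.Quotient.mk ⟨b, hb⟩, rfl⟩
    · rintro ⟨x, hx⟩
      obtain ⟨a, rfl⟩ := Submodule.Quotient.mk_surjective _ x
      change (Submodule.Quotient.mk (a : B) : B ⧸ I₂) = Submodule.Quotient.mk b at hx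
      rw [Submodule.Quotient.eq] at hx
      have := I₁.sub_mem a.2 (h hx)
      simpa using this

theorem flat_ideal (I : Ideal B) [Module.Flat A B] [Module.Flat A (B ⧸ I)] :
    Module.Flat A ↥I :=
  Helper22.flat_of_exact_of_flat_flat (I.subtype.restrictScalars A)
    ((Submodule.mkQ I).restrictScalars A) I.injective_subtype (Submodule.mkQ_surjective I)
    (LinearMap.exact_subtype_mkQ I)

theorem main (rs : List B) (hrs : RegImm.IsTransRegularSeq A B rs) (n m : ℕ) (hnm : n < m) :
    Module.Flat A (RestrictScalars A B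
      (↥(Ideal.ofList rs ^ n) ⧸ (Submodule.comap (Ideal.ofList rs ^ n).subtype (Ideal.ofList rs ^ m)))) ∧
      ∀ (q : Ideal B) [q.IsPrime], Ideal.ofList rs ≤ q →
        Module.Flat A (RestrictScalars A B (LocalizedModule q.primeCompl ↥(Ideal.ofList rs ^ n))) := by
  have hq : CAlgX.IsQuasiRegular rs.get :=
    Groth.Agent.S5802.result B rs.length rs.get (by rw [List.ofFn_get]; exact hrs.1)
  have hJ : Ideal.span (Set.range rs.get) = Ideal.ofList rs := by
    unfold Ideal.ofList
    congr 1
    ext x
    simp [List.mem_iff_get]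
  have hflatJ : Module.Flat A (B ⧸ Ideal.span (Set.range rs.get)) := by
    have := hrs.2 rs.length le_rfl
    rw [List.take_length] at this
    rw [hJ]
    exact this
  have hpow : ∀ k, Module.Flat A (B ⧸ Ideal.ofList rs ^ k) := by
    intro k
    have := flat_quot_pow (A := A) rs.get hq k
    rw [hJ] at this
    exact this
  have hB : Module.Flat A B := by
    have h0 := hrs.2 0 (Nat.zero_le _)
    have hbot : Ideal.ofList (rs.take 0) = ⊥ := by
      rw [List.take_zero, Ideal.ofList_nil]
    exact Module.Flat.of_linearEquiv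
      ((Submodule.quotEquivOfEqBot (Ideal.ofList (rs.take 0)) hbot).restrictScalars A).symm
  have hn := hpow n
  have hm := hpow m
  constructor
  · have := flat_sub_quot (A := A) (Ideal.pow_le_pow_right (I := Ideal.ofList rs) hnm.le)
    exact flat_restrictScalars _
  · intro q _ _
    have h1 : Module.Flat A ↥(Ideal.ofList rs ^ n) := flat_ideal _
    have h2 : Module.Flat A (LocalizedModule q.primeCompl ↥(Ideal.ofList rs ^ n)) :=
      Helper28.flat_localizedModule_of_flat q.primeCompl
    exact flat_restrictScalars _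

end

end Groth.Agent.Lib.T2H9.TransRegB
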