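import Mathlib

/-!
# Index of the twisted diagonal hypersurface over a discretely valued field

Helper library for S17785.
-/

set_option autoImplicit false
set_option linter.unusedSectionVars false
set_option linter.style.haveILetI false

universe u

namespace Groth.Agent.Lib.T2H9.TwistedDiag

open Polynomial

/-- The arithmetic function `I(d, N)`. -/
def Idx (d N : ℕ) : ℕ := ((Finset.Icc 1 N).filter (fun δ => δ ∣ d)).gcd (fun δ => d / δ)

theorem idx_dvd_of_dvd_mul {d N t M : ℕ} (hd : 1 ≤ d) (ht1 : 1 ≤ t) (htN : t ≤ N)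
    (h : d ∣ t * M) : Idx d N ∣ M := by
  set δ := Nat.gcd d t with hδ
  have hδpos : 0 < δ := Nat.gcd_pos_of_pos_left _ hd
  have hδd : δ ∣ d := Nat.gcd_dvd_left _ _
  have hδt : δ ∣ t := Nat.gcd_dvd_right _ _
  have hδle : δ ≤ t := Nat.le_of_dvd ht1 hδt
  have hmem : δ ∈ (Finset.Icc 1 N).filter (fun δ => δ ∣ d) := by
    rw [Finset.mem_filter, Finset.mem_Icc]
    exact ⟨⟨hδpos, hδle.trans htN⟩, hδd⟩
  have h1 : Idx d N ∣ d / δ := Finset.gcd_dvd (f := fun δ => d / δ) hmem
  refine h1.trans ?_
  have hcop : Nat.Coprime (d / δ) (t / δ) := Nat.coprime_div_gcd_div_gcd hδpos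
  obtain ⟨c, hc⟩ := h
  have h2 : (d / δ) ∣ (t / δ) * M := by
    refine ⟨c, ?_⟩
    have e1 : d = δ * (d / δ) := (Nat.mul_div_cancel' hδd).symm
    have e2 : t = δ * (t / δ) := (Nat.mul_div_cancel' hδt).symm
    have : δ * ((t / δ) * M) = δ * ((d / δ) * c) := by
      calc δ * ((t / δ) * M) = (δ * (t / δ)) * M := by ring
        _ = t * M := by rw [← e2]
        _ = d * c := hc
        _ = (δ * (d / δ)) * c := by rw [← e1]
        _ = δ * ((d / δ) * c) := by ring
    exact Nat.eq_of_mul_eq_mul_left hδpos this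
  exact hcop.dvd_of_dvd_mul_left h2

section valuation

variable {S Γ : Type*} [CommRing S] [LinearOrderedCommGroupWithZero Γ] (v : Valuation S Γ)

/-- If a finite sum vanishes and some term is not killed by the valuation, two distinct terms
have the same non-zero valuation. -/
theorem exists_ne_val_eq {ι : Type*} [Fintype ι] [DecidableEq ι] (c : ι → S)
    (hsum : ∑ i, c i = 0) (j : ι) (hj : v (c j) ≠ 0) :
    ∃ i i' : ι, i ≠ i' ∧ v (c i) = v (c i') ∧ v (c i) ≠ 0 := by
  obtain ⟨j₀, -, hmax⟩ := Finset.exists_max_image Finset.univ (fun i => v (c i)) ⟨j, Finset.mem_univ _⟩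
  have hj₀ : v (c j₀) ≠ 0 := by
    intro h0
    have := hmax j (Finset.mem_univ _)
    rw [h0] at this
    exact hj (le_antisymm this zero_le)
  by_contra hcon
  push Not at hcon
  have hlt : ∀ i ∈ Finset.univ.erase j₀, v (c i) < v (c j₀) := by
    intro i hi
    have hne : i ≠ j₀ := Finset.ne_of_mem_erase hi
    have hle := hmax i (Finset.mem_univ _)
    rcases lt_or_eq_of_le hle with h | h
    · exact h
    · exact absurd hj₀ (by
        have := hcon j₀ i hne.symm h.symm
        exact not_not.mpr this)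
  have h1 : v (∑ i ∈ Finset.univ.erase j₀, c i) < v (c j₀) := Valuation.map_sum_lt v hj₀ hlt
  have h2 : c j₀ = - ∑ i ∈ Finset.univ.erase j₀, c i := by
    rw [eq_neg_iff_add_eq_zero, Finset.add_sum_erase _ _ (Finset.mem_univ j₀), hsum]
  have h3 : v (c j₀) = v (∑ i ∈ Finset.univ.erase j₀, c i) := by
    conv_lhs => rw [h2, Valuation.map_neg]
  rw [h3] at h1
  exact lt_irrefl _ h1

end valuation

section separable

open IsDedekindDomain WithZero

variable {R : Type u} [CommRing R] [IsDomain R] [IsDiscreteValuationRing R]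
  {K : Type u} [Field K] [Algebra R K] [IsFractionRing R K]
  {E : Type u} [Field E] [Algebra K E] [Algebra R E] [IsScalarTower R K E]
  [FiniteDimensional K E] [Algebra.IsSeparable K E]

/-- Separable case with a multiplier `Q` on the exponents of the uniformiser. -/
theorem idx_dvd_mul_finrank (ϖ : R) (hϖ : Irreducible ϖ) (d N Q : ℕ) (hd : 1 ≤ d)
    (y : Fin (N + 1) → E) (hy : y ≠ 0)
    (heq : y 0 ^ d = ∑ i : Fin N, algebraMap R E (ϖ ^ (((i : ℕ) + 1) * Q)) * y i.succ ^ d) :
    Idx d N ∣ Q * Module.finrank K E := by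
  classical
  let S := integralClosure R E
  haveI : IsDedekindDomain S := IsIntegralClosure.isDedekindDomain R K E S
  haveI : Module.Finite R S := IsIntegralClosure.finite R K E S
  haveI : IsFractionRing S E := IsIntegralClosure.isFractionRing_of_finite_extension R K E S
  set p : Ideal R := IsLocalRing.maximalIdeal R with hp
  have hp0 : p ≠ ⊥ := IsDiscreteValuationRing.not_a_field R
  have hpspan : p = Ideal.span {ϖ} := (IsDiscreteValuationRing.irreducible_iff_uniformizer ϖ).mp hϖ
  have hsum := Ideal.sum_ramification_inertia S K E hp0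
  rw [← hsum, Finset.mul_sum]
  apply Finset.dvd_sum
  intro P hP
  rw [← mul_assoc]
  apply Dvd.dvd.mul_right
  have hinjS : Function.Injective (algebraMap R S) := by
    have h1 : Function.Injective (algebraMap R E) := by
      rw [IsScalarTower.algebraMap_eq R K E]
      exact (algebraMap K E).injective.comp (IsFractionRing.injective R K)
    intro a b hab
    exact h1 (congrArg (algebraMap S E) hab)
  haveI : Module.IsTorsionFree R S := Module.isTorsionFree_iff_algebraMap_injective.mpr hinjS
  obtain ⟨hPprime, hPover⟩ := (IsDedekindDomain.mem_primesOverFinset_iff hp0 _).mp hP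
  have hϖ0 : ϖ ≠ 0 := hϖ.ne_zero
  have hϖS : algebraMap R S ϖ ≠ 0 := fun h => hϖ0 (hinjS (by rw [h, map_zero]))
  have hmap : Ideal.map (algebraMap R S) p = Ideal.span {algebraMap R S ϖ} := by
    rw [hpspan, Ideal.map_span, Set.image_singleton]
  have hmap0 : Ideal.map (algebraMap R S) p ≠ ⊥ := by
    rw [hmap, Ne, Ideal.span_singleton_eq_bot]; exact hϖS
  have hP0 : P ≠ ⊥ := by
    rintro rfl
    have h1 : p = Ideal.comap (algebraMap R S) ⊥ := hPover.over
    apply hp0
    rw [h1, eq_bot_iff]
    intro a ha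
    rw [Ideal.mem_comap, Ideal.mem_bot] at ha
    exact hinjS (by rw [ha, map_zero])
  let vP : HeightOneSpectrum S := ⟨P, hPprime, hP0⟩
  set w := vP.valuation E with hw
  set e := p.ramificationIdx' P with he
  have hwϖ : w (algebraMap R E ϖ) = exp (-(e : ℤ)) := by
    have h1 : algebraMap R E ϖ = algebraMap S E (algebraMap R S ϖ) := rfl
    rw [h1, HeightOneSpectrum.valuation_of_algebraMap,
      vP.intValuation_eq_exp_neg_multiplicity hϖS, he,
      Ideal.IsDedekindDomain.ramificationIdx'_eq_multiplicity hmap0 hPprime, hmap]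
  have hwϖ0 : w (algebraMap R E ϖ) ≠ 0 := by rw [hwϖ]; exact exp_ne_zero
  let c : Fin (N + 1) → E := Fin.cons (-(y 0 ^ d))
    (fun i : Fin N => algebraMap R E (ϖ ^ (((i : ℕ) + 1) * Q)) * y i.succ ^ d)
  have hcsum : ∑ j, c j = 0 := by
    rw [Fin.sum_univ_succ]
    simp only [c, Fin.cons_zero, Fin.cons_succ]
    rw [← heq, neg_add_cancel]
  have hwc : ∀ j : Fin (N + 1),
      w (c j) = w (algebraMap R E ϖ) ^ ((j : ℕ) * Q) * w (y j) ^ d := by
    intro j
    refine Fin.cases ?_ (fun i => ?_) j
    · simp only [c, Fin.cons_zero, Valuation.map_neg, map_pow, Fin.val_zero, zero_mul, pow_zero,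
        one_mul]
    · simp only [c, Fin.cons_succ, map_mul, map_pow, Fin.val_succ]
  obtain ⟨j, hj⟩ := Function.ne_iff.mp hy
  have hcj : w (c j) ≠ 0 := by
    rw [hwc]
    exact mul_ne_zero (pow_ne_zero _ hwϖ0) (pow_ne_zero _ ((Valuation.ne_zero_iff _).mpr hj))
  have key : ∀ i i' : Fin (N + 1), (i : ℕ) < i' → w (c i) = w (c i') → w (c i) ≠ 0 →
      Idx d N ∣ Q * e := by
    intro i i' hlt heq' hne
    have hyi : w (y i) ≠ 0 := by
      intro h0
      apply hne
      rw [hwc, h0, zero_pow (by omega), mul_zero]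
    have hyi' : w (y i') ≠ 0 := by
      intro h0
      apply hne
      rw [heq', hwc, h0, zero_pow (by omega), mul_zero]
    have hlog := congrArg log heq'
    rw [hwc, hwc, log_mul (pow_ne_zero _ hwϖ0) (pow_ne_zero _ hyi),
      log_mul (pow_ne_zero _ hwϖ0) (pow_ne_zero _ hyi'), log_pow, log_pow, log_pow, log_pow,
      hwϖ, log_exp] at hlog
    simp only [nsmul_eq_mul] at hlog
    have hdvd : (d : ℤ) ∣ (((i' : ℕ) - (i : ℕ) : ℕ) : ℤ) * ((Q * e : ℕ) : ℤ) := by
      refine ⟨log (w (y i')) - log (w (y i)), ?_⟩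
      push_cast [Nat.cast_sub hlt.le]
      push_cast at hlog
      linear_combination hlog
    have hdvd' : d ∣ ((i' : ℕ) - (i : ℕ)) * (Q * e) := by exact_mod_cast hdvd
    exact idx_dvd_of_dvd_mul hd (by omega) (by have := i'.isLt; omega) hdvd'
  obtain ⟨i, i', hii', hval, hne⟩ := exists_ne_val_eq w c hcsum j hcj
  have hne' : (i : ℕ) ≠ i' := fun h => hii' (Fin.ext h)
  rcases lt_or_gt_of_ne hne' with h | h
  · exact key i i' h hval hne
  · exact key i' i h hval.symm (hval ▸ hne)

end separable

section general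

variable {R : Type u} [CommRing R] [IsDomain R] [IsDiscreteValuationRing R]
  {K : Type u} [Field K] [Algebra R K] [IsFractionRing R K]
  {L : Type u} [Field L] [Algebra K L] [FiniteDimensional K L]

/-- In a purely inseparable extension of degree `n`, `n`-th powers lie in the base field. -/
theorem pow_finrank_mem_range {E L : Type u} [Field E] [Field L] [Algebra E L]
    [FiniteDimensional E L] [IsPurelyInseparable E L] (x : L) :
    x ^ Module.finrank E L ∈ Set.range (algebraMap E L) := by
  obtain ⟨m, a, hm⟩ := IsPurelyInseparable.minpoly_eq_X_pow_sub_C E (ringExpChar E) x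
  have hint : IsIntegral E x := Algebra.IsIntegral.isIntegral x
  have hdvd : (minpoly E x).natDegree ∣ Module.finrank E L := minpoly.degree_dvd hint
  rw [hm, natDegree_sub_C, natDegree_X_pow] at hdvd
  obtain ⟨c, hc⟩ := hdvd
  have hx : x ^ (ringExpChar E) ^ m = algebraMap E L a := by
    have := minpoly.aeval E x
    rw [hm, map_sub, map_pow, aeval_X, aeval_C, sub_eq_zero] at this
    exact this
  exact ⟨a ^ c, by rw [map_pow, ← hx, ← pow_mul, ← hc]⟩

/-- General case: the index divides the degree of any finite extension with a solution. -/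
theorem idx_dvd_finrank (ϖ : R) (hϖ : Irreducible ϖ) (d N : ℕ) (hd : 1 ≤ d)
    (x : Fin (N + 1) → L) (hx : x ≠ 0)
    (heq : x 0 ^ d =
      ∑ i : Fin N, algebraMap K L (algebraMap R K (ϖ ^ ((i : ℕ) + 1))) * x i.succ ^ d) :
    Idx d N ∣ Module.finrank K L := by
  classical
  let q := ringExpChar K
  haveI : ExpChar K q := ringExpChar.expChar K
  haveI : ExpChar L q := expChar_of_injective_algebraMap (algebraMap K L).injective q
  let E := separableClosure K L
  haveI : Algebra.IsSeparable K E := separableClosure.isSeparable K L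
  haveI : IsPurelyInseparable E L := separableClosure.isPurelyInseparable K L
  letI : Algebra R E := ((algebraMap K E).comp (algebraMap R K)).toAlgebra
  haveI : IsScalarTower R K E := IsScalarTower.of_algebraMap_eq (fun _ => rfl)
  obtain ⟨k, hk⟩ := IsPurelyInseparable.finrank_eq_pow (F := E) L q
  have hpow : ∀ z : L, ∃ y : E, algebraMap E L y = z ^ q ^ k := by
    intro z
    have := pow_finrank_mem_range (E := E) (L := L) z
    rw [hk] at this
    exact this
  choose g hg using hpow
  let y : Fin (N + 1) → E := fun j => g (x j)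
  have hy : y ≠ 0 := by
    obtain ⟨j, hj⟩ := Function.ne_iff.mp hx
    refine Function.ne_iff.mpr ⟨j, ?_⟩
    intro h0
    have := hg (x j)
    change algebraMap E L (y j) = _ at this
    rw [h0, Pi.zero_apply, map_zero] at this
    exact hj (pow_eq_zero_iff (pow_ne_zero _ (expChar_pos K q).ne') |>.mp this.symm)
  have heq' : y 0 ^ d =
      ∑ i : Fin N, algebraMap R E (ϖ ^ (((i : ℕ) + 1) * q ^ k)) * y i.succ ^ d := by
    apply (algebraMap E L).injective
    rw [map_pow, map_sum]
    change (algebraMap E L (g (x 0))) ^ d = _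
    rw [hg, ← pow_mul, mul_comm, pow_mul, heq, sum_pow_char_pow]
    refine Finset.sum_congr rfl fun i _ => ?_
    rw [map_mul, map_pow]
    have e1 : algebraMap E L (algebraMap R E (ϖ ^ (((i : ℕ) + 1) * q ^ k))) =
        (algebraMap K L (algebraMap R K (ϖ ^ ((i : ℕ) + 1)))) ^ q ^ k := by
      rw [pow_mul, map_pow, map_pow]
      rfl
    have e2 : (algebraMap E L (g (x i.succ))) ^ d = (x i.succ ^ d) ^ q ^ k := by
      rw [hg, ← pow_mul, ← pow_mul, mul_comm]
    change _ = algebraMap E L (algebraMap R E (ϖ ^ (((i : ℕ) + 1) * q ^ k))) *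
      (algebraMap E L (g (x i.succ))) ^ d
    rw [mul_pow, e1, e2]
    simp only [map_pow]
  have h3 := idx_dvd_mul_finrank (K := K) (E := E) ϖ hϖ d N (q ^ k) hd y hy heq'
  rw [← hk, mul_comm, Module.finrank_mul_finrank K E L] at h3
  exact h3

end general

section construction

variable {R : Type u} [CommRing R] [IsDomain R] [IsDiscreteValuationRing R]
  (K : Type u) [Field K] [Algebra R K] [IsFractionRing R K]

theorem irreducible_X_pow_sub_C (ϖ : R) (hϖ : Irreducible ϖ) (m : ℕ) (hm : 1 ≤ m) :
    Irreducible (X ^ m - C (algebraMap R K ϖ) : K[X]) := by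
  have hmon : (X ^ m - C ϖ : R[X]).Monic := monic_X_pow_sub_C ϖ (by omega)
  have hP : IsLocalRing.maximalIdeal R = Ideal.span {ϖ} :=
    (IsDiscreteValuationRing.irreducible_iff_uniformizer ϖ).mp hϖ
  have hcoeff : ∀ n, (X ^ m - C ϖ : R[X]).coeff n = (if n = m then 1 else 0) - (if n = 0 then ϖ else 0) := by
    intro n
    rw [coeff_sub, coeff_X_pow, coeff_C]
  have hirr : Irreducible (X ^ m - C ϖ : R[X]) := by
    refine irreducible_of_eisenstein_criterion (P := IsLocalRing.maximalIdeal R) inferInstance ?_ ?_ ?_ ?_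
      hmon.isPrimitive
    · rw [hmon.leadingCoeff]
      exact fun h => (Ideal.ne_top_iff_one _).mp (Ideal.IsPrime.ne_top inferInstance) h
    · intro n hn
      rw [degree_eq_natDegree hmon.ne_zero, natDegree_X_pow_sub_C] at hn
      have hn' : n < m := by exact_mod_cast hn
      rw [hcoeff, if_neg (by omega), zero_sub, neg_mem_iff]
      split_ifs
      · rw [hP]; exact Ideal.mem_span_singleton_self ϖ
      · exact zero_mem _
    · rw [degree_eq_natDegree hmon.ne_zero, natDegree_X_pow_sub_C]
      exact_mod_cast hm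
    · rw [hcoeff, if_neg (by omega), if_pos rfl, zero_sub, neg_mem_iff, hP, Ideal.span_singleton_pow,
        Ideal.mem_span_singleton]
      rintro ⟨c, hc⟩
      have h1 : ϖ * 1 = ϖ * (ϖ * c) := by rw [mul_one, ← mul_assoc, ← sq]; exact hc
      have h2 := mul_left_cancel₀ hϖ.ne_zero h1
      exact hϖ.not_isUnit (IsUnit.of_mul_eq_one _ h2.symm)
  have := (hmon.irreducible_iff_irreducible_map_fraction_map (K := K)).1 hirr
  rwa [Polynomial.map_sub, Polynomial.map_pow, map_X, map_C] at this

theorem exists_extension (ϖ : R) (hϖ : Irreducible ϖ) (d N δ : ℕ) (hδ1 : 1 ≤ δ) (hδN : δ ≤ N)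
    (hδd : δ ∣ d) (hd : 1 ≤ d) :
    ∃ (L : Type u) (_ : Field L) (_ : Algebra K L), FiniteDimensional K L ∧
      ((d / δ : ℕ) : ℤ) = (Module.finrank K L : ℤ) ∧
      ∃ x : Fin (N + 1) → L, x ≠ 0 ∧ x 0 ^ d =
        ∑ i : Fin N, algebraMap K L (algebraMap R K (ϖ ^ ((i : ℕ) + 1))) * x i.succ ^ d := by
  classical
  set m := d / δ with hmdef
  have hmδ : m * δ = d := Nat.div_mul_cancel hδd
  have hm : 1 ≤ m := by
    rcases Nat.eq_zero_or_pos m with h | h
    · rw [h, zero_mul] at hmδ; omega
    · exact h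
  set f : K[X] := X ^ m - C (algebraMap R K ϖ) with hf
  haveI : Fact (Irreducible f) := ⟨irreducible_X_pow_sub_C K ϖ hϖ m hm⟩
  have hf0 : f ≠ 0 := (Fact.out : Irreducible f).ne_zero
  have hfdeg : f.natDegree = m := natDegree_X_pow_sub_C
  let pb := AdjoinRoot.powerBasis hf0
  haveI : FiniteDimensional K (AdjoinRoot f) := pb.finite
  have hfin : Module.finrank K (AdjoinRoot f) = m := by
    rw [pb.finrank, AdjoinRoot.powerBasis_dim, hfdeg]
  set t : AdjoinRoot f := AdjoinRoot.root f with ht
  have htm : t ^ m = algebraMap K (AdjoinRoot f) (algebraMap R K ϖ) := by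
    have := AdjoinRoot.eval₂_root f
    rw [hf, eval₂_sub, eval₂_pow, eval₂_X, eval₂_C, sub_eq_zero] at this
    exact this
  have hϖL : algebraMap K (AdjoinRoot f) (algebraMap R K ϖ) ≠ 0 := by
    rw [Ne, map_eq_zero, map_eq_zero_iff _ (IsFractionRing.injective R K)]
    exact hϖ.ne_zero
  have ht0 : t ≠ 0 := by
    intro h0
    rw [h0, zero_pow (by omega)] at htm
    exact hϖL htm.symm
  refine ⟨AdjoinRoot f, inferInstance, inferInstance, inferInstance, by rw [hfin], ?_⟩
  let x : Fin (N + 1) → AdjoinRoot f := fun j => if j = 0 then t else if (j : ℕ) = δ then 1 else 0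
  refine ⟨x, ?_, ?_⟩
  · refine Function.ne_iff.mpr ⟨0, ?_⟩
    simp only [x, if_pos, Pi.zero_apply]
    exact ht0
  · have hx0 : x 0 = t := by simp [x]
    have hxs : ∀ i : Fin N, x i.succ = if (i : ℕ) + 1 = δ then 1 else 0 := by
      intro i
      simp only [x, Fin.succ_ne_zero, if_false, Fin.val_succ]
    rw [hx0]
    have hδ' : δ - 1 < N := by omega
    rw [Finset.sum_eq_single (⟨δ - 1, hδ'⟩ : Fin N)]
    · rw [hxs, if_pos (by simp; omega), one_pow, mul_one]
      have : (δ - 1 + 1 : ℕ) = δ := by omega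
      simp only [this]
      rw [map_pow, map_pow, ← htm, ← pow_mul, hmδ]
    · intro i _ hi
      rw [hxs, if_neg, zero_pow (by omega), mul_zero]
      intro h
      apply hi
      apply Fin.ext
      simp only
      omega
    · intro h
      exact absurd (Finset.mem_univ _) h

end construction

end Groth.Agent.Lib.T2H9.TwistedDiag
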