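import Mathlib
import Groth.Prelude
import Groth.Agent.S12445
import Groth.Agent.S9126
import Groth.Agent.Lib.Helper4DimFormulaP
import Groth.Agent.Lib.Helper4DimFormulaN
import Groth.Agent.Lib.Helper28UnivCat
import Groth.Agent.Lib.Helper10Catenary2

set_option autoImplicit false
universe u
open CategoryTheory AlgebraicGeometry

namespace Groth.Agent.Lib.T2H9.UCSch

/-- If every scheme locally of finite type over `S` is catenary, the coordinate ring of an affine
open of `S` is universally catenary. -/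
theorem isUniversallyCatenary_sections (S : Scheme.{u}) [IsLocallyNoetherian S]
    (h : ∀ (X : Scheme.{u}) (f : X ⟶ S), LocallyOfFiniteType f → PtTop.IsCatenarySpace X)
    (U : S.Opens) (hU : IsAffineOpen U) : CAlg.IsUniversallyCatenary Γ(S, U) := by
  have hN : IsNoetherianRing Γ(S, U) :=
    IsLocallyNoetherian.component_noetherian (⟨U, hU⟩ : S.affineOpens)
  refine ⟨hN, fun B _ _ hB => ?_⟩
  have hft : LocallyOfFiniteType
      (Spec.map (CommRingCat.ofHom (algebraMap Γ(S, U) B)) ≫ hU.fromSpec) := by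
    have h1 : LocallyOfFiniteType (Spec.map (CommRingCat.ofHom (algebraMap Γ(S, U) B))) := by
      rw [HasRingHomProperty.Spec_iff (P := @LocallyOfFiniteType)]
      exact RingHom.finiteType_algebraMap.mpr hB
    infer_instance
  have := h _ _ hft
  exact (Groth.Agent.Lib.Helper10.Catenary2.isCatenarySpace_primeSpectrum_iff B).mp this

theorem isUniversallyCatenary_stalk (S : Scheme.{u}) [IsLocallyNoetherian S]
    (h : ∀ (X : Scheme.{u}) (f : X ⟶ S), LocallyOfFiniteType f → PtTop.IsCatenarySpace X)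
    (s : S) : CAlg.IsUniversallyCatenary (S.presheaf.stalk s) := by
  obtain ⟨U, hU, hsU, -⟩ := exists_isAffineOpen_mem_and_subset (x := s) (U := ⊤) trivial
  have hUC := isUniversallyCatenary_sections S h U hU
  let _ : Algebra Γ(S, U) (S.presheaf.stalk s) :=
    TopCat.Presheaf.algebra_section_stalk S.presheaf ⟨s, hsU⟩
  have hloc : IsLocalization.AtPrime (S.presheaf.stalk s) (hU.primeIdealOf ⟨s, hsU⟩).asIdeal :=
    hU.isLocalization_stalk ⟨s, hsU⟩
  have : Algebra.EssFiniteType Γ(S, U) (S.presheaf.stalk s) :=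
    Algebra.EssFiniteType.of_isLocalization _ (hU.primeIdealOf ⟨s, hsU⟩).asIdeal.primeCompl
  exact Groth.Agent.S9126.result _ _ hUC

theorem isCatenarySpace_of_stalks (S : Scheme.{u}) [IsLocallyNoetherian S]
    (h : ∀ s : S, CAlg.IsUniversallyCatenary (S.presheaf.stalk s))
    (X : Scheme.{u}) (f : X ⟶ S) [LocallyOfFiniteType f] : PtTop.IsCatenarySpace X := by
  rw [(Groth.Agent.S12445.result X).2]
  intro x
  obtain ⟨U, hU, hfxU, -⟩ := exists_isAffineOpen_mem_and_subset (x := f x) (U := ⊤) trivial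
  obtain ⟨W, hW, hxW, hWU⟩ := exists_isAffineOpen_mem_and_subset (x := x) (U := f ⁻¹ᵁ U) hfxU
  refine ⟨⟨W, hW⟩, hxW, ?_⟩
  let _ : Algebra Γ(S, U) Γ(X, W) := (f.appLE U W hWU).hom.toAlgebra
  have hft : Algebra.FiniteType Γ(S, U) Γ(X, W) :=
    RingHom.finiteType_algebraMap.mp (LocallyOfFiniteType.finiteType_appLE (f := f) hU hW hWU)
  apply Groth.Agent.Lib.Helper28.isCatenary_of_forall_localization
  intro Q hQ
  have hP : (Q.under Γ(S, U)).IsPrime := Ideal.comap_isPrime _ _
  have hlies : Q.LiesOver (Q.under Γ(S, U)) := ⟨rfl⟩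
  -- the stalk of `S` at the point of `U` given by `Q.under`
  have hyU : hU.fromSpec (⟨Q.under Γ(S, U), hP⟩ : PrimeSpectrum Γ(S, U)) ∈ U :=
    (hU.isoSpec.inv (⟨Q.under Γ(S, U), hP⟩ : PrimeSpectrum Γ(S, U))).2
  let _ : Algebra Γ(S, U)
      (S.presheaf.stalk (hU.fromSpec (⟨Q.under Γ(S, U), hP⟩ : PrimeSpectrum Γ(S, U)))) :=
    TopCat.Presheaf.algebra_section_stalk S.presheaf
      (⟨hU.fromSpec (⟨Q.under Γ(S, U), hP⟩ : PrimeSpectrum Γ(S, U)), hyU⟩ : U)
  have hloc : IsLocalization.AtPrime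
      (S.presheaf.stalk (hU.fromSpec (⟨Q.under Γ(S, U), hP⟩ : PrimeSpectrum Γ(S, U))))
      (Q.under Γ(S, U)) :=
    hU.isLocalization_stalk' (⟨Q.under Γ(S, U), hP⟩ : PrimeSpectrum Γ(S, U)) hyU
  have h1 : CAlg.IsUniversallyCatenary (Localization.AtPrime (Q.under Γ(S, U))) :=
    Groth.Agent.Lib.Helper4.DimFormula.isUniversallyCatenary_of_ringEquiv
      (IsLocalization.algEquiv (Q.under Γ(S, U)).primeCompl
        (S.presheaf.stalk (hU.fromSpec (⟨Q.under Γ(S, U), hP⟩ : PrimeSpectrum Γ(S, U))))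
        (Localization.AtPrime (Q.under Γ(S, U)))).toRingEquiv (h _)
  have h2 := Groth.Agent.Lib.Helper4.DimFormula.isUniversallyCatenary_localization_of_liesOver
    Γ(S, U) Γ(X, W) (Q.under Γ(S, U)) Q h1
  exact Groth.Agent.Lib.Helper4.DimFormula.isCatenary_of_isUniversallyCatenary _ h2

theorem universallyCatenary_iff (S : Scheme.{u}) [IsLocallyNoetherian S] :
    (∀ (X : Scheme.{u}) (f : X ⟶ S), LocallyOfFiniteType f → PtTop.IsCatenarySpace X) ↔
      ∀ s : S, CAlg.IsUniversallyCatenary (S.presheaf.stalk s) :=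
  ⟨fun h s => isUniversallyCatenary_stalk S h s,
    fun h X f _ => isCatenarySpace_of_stalks S h X f⟩

end Groth.Agent.Lib.T2H9.UCSch
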