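import Mathlib
import Groth.Prelude
import Groth.Agent.Lib.T2H9LocFact

open AlgebraicGeometry CategoryTheory Order TopologicalSpace

universe u

namespace Groth.Agent.Lib.T2H9.UFDCl

section RingSide

variable {A S K : Type*} [CommRing A] [IsDomain A] [CommRing S] [Algebra A S]
  (p : Ideal A) [p.IsPrime] [IsLocalization.AtPrime S p] [IsNoetherianRing S]
  [Ring.KrullDimLE 1 S] [Field K] [Algebra S K] [IsFractionRing S K] [Algebra A K]
  [IsScalarTower A S K] [Nontrivial S]

include p in
omit [IsDomain A] in
theorem ordFrac_algebraMap_of_notMem {a : A} (ha : a ∉ p) :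
    Ring.ordFrac S (algebraMap A K a) = 1 := by
  have hdom : IsDomain S := (FaithfulSMul.algebraMap_injective S K).isDomain
  rw [IsScalarTower.algebraMap_apply A S K]
  exact Ring.ordFrac_of_isUnit (IsLocalization.map_units S (⟨a, ha⟩ : p.primeCompl))

include p in
theorem ordFrac_algebraMap_generator {π : A} (hπ : π ≠ 0) (hp : p = Ideal.span {π}) :
    Ring.ordFrac S (algebraMap A K π) = Multiplicative.ofAdd (1 : ℤ) := by
  have hdom : IsDomain S := (FaithfulSMul.algebraMap_injective S K).isDomain
  have hloc : IsLocalRing S := IsLocalization.AtPrime.isLocalRing S p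
  have hinj : Function.Injective (algebraMap A S) :=
    IsLocalization.injective S (M := p.primeCompl)
      (fun x hx => mem_nonZeroDivisors_of_ne_zero (fun h => hx (h ▸ p.zero_mem)))
  have hne : algebraMap A S π ≠ 0 := fun h => hπ (hinj (by rw [h, map_zero]))
  rw [IsScalarTower.algebraMap_apply A S K, Ring.ordFrac_eq_ord S hne]
  have hspan : (Ideal.span {algebraMap A S π} : Ideal S) = IsLocalRing.maximalIdeal S := by
    rw [← IsLocalization.AtPrime.map_eq_maximalIdeal p S, hp, Ideal.map_span, Set.image_singleton]
  have hord : Ring.ord S (algebraMap A S π) = ((1 : ℕ) : ℕ∞) := by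
    unfold Ring.ord
    rw [Nat.cast_one, Module.length_eq_one_iff, hspan, isSimpleModule_iff_isCoatom,
      ← Ideal.isMaximal_def]
    infer_instance
  have := Ring.ordMonoidWithZeroHom_eq_coe S (mem_nonZeroDivisors_of_ne_zero hne) hord
  simpa using this

end RingSide

section SchemeSide

variable (A : Type u) [CommRing A] [IsDomain A] [IsNoetherianRing A]

noncomputable local instance (y : ↥(Spec (CommRingCat.of A))) :
    Algebra A ((Spec (CommRingCat.of A)).presheaf.stalk y) :=
  StructureSheaf.stalkAlgebra (R := A) y

local instance (y : ↥(Spec (CommRingCat.of A))) :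
    IsLocalization.AtPrime ((Spec (CommRingCat.of A)).presheaf.stalk y) y.asIdeal :=
  StructureSheaf.IsLocalization.to_stalk (R := A) y

noncomputable local instance : Algebra A (Spec (CommRingCat.of A)).functionField :=
  inferInstanceAs (Algebra (CommRingCat.of A) (Spec (CommRingCat.of A)).functionField)

local instance (y : ↥(Spec (CommRingCat.of A))) :
    IsScalarTower A ((Spec (CommRingCat.of A)).presheaf.stalk y)
      (Spec (CommRingCat.of A)).functionField := by
  apply IsScalarTower.of_algebraMap_eq'
  have h := StructureSheaf.toStalk_stalkSpecializes (R := A)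
    ((genericPoint_spec (Spec (CommRingCat.of A))).specializes (Set.mem_univ y))
  exact congrArg CommRingCat.Hom.hom h.symm

variable {A}

omit [IsNoetherianRing A] in
theorem algebraMap_ne_zero {a : A} (ha : a ≠ 0) :
    algebraMap A (Spec (CommRingCat.of A)).functionField a ≠ 0 := by
  have : IsFractionRing A (Spec (CommRingCat.of A)).functionField :=
    functionField_isFractionRing_of_affine (CommRingCat.of A)
  intro h
  exact ha ((IsFractionRing.injective A (Spec (CommRingCat.of A)).functionField)
    (by rw [h, map_zero]))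

theorem ordHom_algebraMap_of_notMem (y : ↥(Spec (CommRingCat.of A))) (hy : coheight y = 1)
    {a : A} (ha : a ∉ y.asIdeal) :
    (Spec (CommRingCat.of A)).ordHom y hy
      (algebraMap A (Spec (CommRingCat.of A)).functionField a) = 1 := by
  have : Ring.KrullDimLE 1 ((Spec (CommRingCat.of A)).presheaf.stalk y) :=
    krullDimLE_of_coheight_le hy.le
  exact ordFrac_algebraMap_of_notMem y.asIdeal ha

theorem ordHom_algebraMap_generator (y : ↥(Spec (CommRingCat.of A))) (hy : coheight y = 1)
    {π : A} (hπ : π ≠ 0) (hp : y.asIdeal = Ideal.span {π}) :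
    (Spec (CommRingCat.of A)).ordHom y hy
      (algebraMap A (Spec (CommRingCat.of A)).functionField π) = Multiplicative.ofAdd (1 : ℤ) := by
  have : Ring.KrullDimLE 1 ((Spec (CommRingCat.of A)).presheaf.stalk y) :=
    krullDimLE_of_coheight_le hy.le
  exact ordFrac_algebraMap_generator y.asIdeal hπ hp

theorem main [UniqueFactorizationMonoid A]
    (D : ↥(Spec (CommRingCat.of A)) → ℤ) (hD : ∀ x, Order.coheight x ≠ 1 → D x = 0)
    (hfin : {x | D x ≠ 0}.Finite) :
    ∃ f : ↑(Spec (CommRingCat.of A)).functionField, f ≠ 0 ∧
      ∀ x : ↥(Spec (CommRingCat.of A)), Order.coheight x = 1 → Scheme.ord f x = D x := by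
  classical
  have hgen : ∀ x : ↥(Spec (CommRingCat.of A)), Order.coheight x = 1 →
      ∃ t : A, t ≠ 0 ∧ x.asIdeal = Ideal.span {t} := fun x hx =>
    Groth.Agent.Lib.T2H9.LocFact.exists_eq_span_singleton_of_height_eq_one x.asIdeal
      (by rw [idealHeight_eq_coheight (CommRingCat.of A) x, hx])
  choose! π hπ0 hπ using hgen
  have hsupp : ∀ x ∈ hfin.toFinset, Order.coheight x = 1 := by
    intro x hx
    by_contra h
    exact (hfin.mem_toFinset.mp hx) (hD x h)
  have hfac : ∀ x ∈ hfin.toFinset,
      algebraMap A (Spec (CommRingCat.of A)).functionField (π x) ≠ 0 :=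
    fun x hx => algebraMap_ne_zero (hπ0 x (hsupp x hx))
  refine ⟨∏ x ∈ hfin.toFinset,
    (algebraMap A (Spec (CommRingCat.of A)).functionField (π x)) ^ (D x), ?_, ?_⟩
  · rw [Finset.prod_ne_zero_iff]
    exact fun x hx => zpow_ne_zero _ (hfac x hx)
  · intro y hy
    have hf0 : (∏ x ∈ hfin.toFinset,
        (algebraMap A (Spec (CommRingCat.of A)).functionField (π x)) ^ (D x)) ≠ 0 := by
      rw [Finset.prod_ne_zero_iff]
      exact fun x hx => zpow_ne_zero _ (hfac x hx)
    rw [Scheme.ord_eq_iff hy hf0, map_prod]
    have hterm : ∀ x ∈ hfin.toFinset,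
        (Spec (CommRingCat.of A)).ordHom y hy
          ((algebraMap A (Spec (CommRingCat.of A)).functionField (π x)) ^ (D x)) =
        if x = y then ((Multiplicative.ofAdd (D y) : Multiplicative ℤ) : WithZero (Multiplicative ℤ))
          else 1 := by
      intro x hx
      rw [map_zpow₀]
      split_ifs with hxy
      · subst hxy
        rw [ordHom_algebraMap_generator x hy (hπ0 x hy) (hπ x hy)]
        rw [← WithZero.coe_zpow, ← ofAdd_zsmul]
        simp
      · have hx1 := hsupp x hx
        have hnot : π x ∉ y.asIdeal := by
          intro hmem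
          have hle : x.asIdeal ≤ y.asIdeal := by
            rw [hπ x hx1]
            exact (Ideal.span_singleton_le_iff_mem _).mpr hmem
          have hhy : y.asIdeal.height = 1 := by
            rw [idealHeight_eq_coheight (CommRingCat.of A) y, hy]
          have hhx : x.asIdeal.height = 1 := by
            rw [idealHeight_eq_coheight (CommRingCat.of A) x, hx1]
          have hfinh : y.asIdeal.FiniteHeight :=
            y.asIdeal.finiteHeight_iff.mpr (Or.inr (by rw [hhy]; exact ENat.one_ne_top))
          rcases lt_or_eq_of_le hle with hlt | heq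
          · have h2 := Ideal.height_strict_mono_of_isPrime_of_isPrime hlt
            rw [hhx, hhy] at h2
            exact lt_irrefl _ h2
          · exact hxy (PrimeSpectrum.ext heq)
        rw [ordHom_algebraMap_of_notMem y hy hnot, one_zpow]
    rw [Finset.prod_congr rfl hterm, Finset.prod_ite_eq']
    split_ifs with hmem
    · rfl
    · have : D y = 0 := by
        by_contra h
        exact hmem (hfin.mem_toFinset.mpr h)
      rw [this]
      rfl

end SchemeSide

end Groth.Agent.Lib.T2H9.UFDCl
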