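import Groth.Agent.Lib.T2H9ConnComp
import Groth.Prelude.Def_CAlg2

/-!
# Connected fibres over unibranch points (helper9)

`isLocalRing_integralClosure`: the integral closure of a unibranch local domain in a field whose
algebraic part is radicial over the fraction field is local; `connectedSpace_fiber` (S4464).
-/

set_option autoImplicit false
set_option linter.style.haveILetI false
set_option linter.unusedSectionVars false
set_option linter.unusedVariables false
universe u
open CategoryTheory AlgebraicGeometry Limits TopologicalSpace Opposite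

namespace Groth.Agent.Lib.T2H9.Unibranch

section alg

variable {O K₀ K : Type u} [CommRing O] [IsDomain O] [IsLocalRing O] [Field K₀] [Algebra O K₀]
  [IsFractionRing O K₀] [Field K]

/-- integral closure of a unibranch local domain in a field extension whose algebraic part is
"radicial" over the fraction field is a local ring -/
theorem isLocalRing_integralClosure (ι : K₀ →+* K) (hO : CAlg2.IsUnibranch O)
    (hrad : ∀ x : K, (∃ q : Polynomial K₀, q ≠ 0 ∧ Polynomial.eval₂ ι x q = 0) →
      ∃ m : ℕ, 0 < m ∧ x ^ m ∈ Set.range ι) :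
    letI := (ι.comp (algebraMap O K₀)).toAlgebra
    IsLocalRing (integralClosure O K) := by
  letI := (ι.comp (algebraMap O K₀)).toAlgebra
  set φ : O →+* K := ι.comp (algebraMap O K₀) with hφ
  obtain ⟨hdomR, hlocN⟩ := hO
  haveI := hdomR
  haveI := hlocN
  have hφinj : Function.Injective φ := ι.injective.comp (IsFractionRing.injective O K₀)
  let π : O →+* CAlg2.red O := Ideal.Quotient.mk (nilradical O)
  have hπsurj : Function.Surjective π := Ideal.Quotient.mk_surjective
  have hnil : nilradical O = ⊥ := nilradical_eq_zero O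
  let ρ : CAlg2.red O →+* K := Ideal.Quotient.lift (nilradical O) φ (fun a ha => by
    rw [hnil] at ha
    rw [(Ideal.mem_bot.mp ha), map_zero])
  have hρπ : ∀ a, ρ (π a) = φ a := fun a => rfl
  have hρinj : Function.Injective ρ := by
    intro x y hxy
    obtain ⟨a, rfl⟩ := hπsurj x
    obtain ⟨b, rfl⟩ := hπsurj y
    rw [hρπ, hρπ] at hxy
    rw [hφinj hxy]
  let F := FractionRing (CAlg2.red O)
  let j : F →+* K := IsFractionRing.lift hρinj
  have hj : ∀ r, j (algebraMap (CAlg2.red O) F r) = ρ r := IsFractionRing.lift_algebraMap hρinj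
  have hjinj : Function.Injective j := j.injective
  have hcomp : j.comp ((algebraMap (CAlg2.red O) F).comp π) = algebraMap O K := by
    ext a
    change j (algebraMap (CAlg2.red O) F (π a)) = φ a
    rw [hj, hρπ]
  have key1 : ∀ u : F, IsIntegral O (j u) → u ∈ integralClosure (CAlg2.red O) F := by
    rintro u ⟨P, hP, hPu⟩
    refine ⟨P.map π, hP.map _, ?_⟩
    apply hjinj
    rw [map_zero, Polynomial.eval₂_map, Polynomial.hom_eval₂, hcomp]
    exact hPu
  have key2 : ∀ u : F, u ∈ integralClosure (CAlg2.red O) F → IsIntegral O (j u) := by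
    rintro u ⟨P, hP, hPu⟩
    obtain ⟨P', hP'map, -, hP'monic⟩ := Polynomial.lifts_and_degree_eq_and_monic
      ((Polynomial.mem_lifts _).2 (Polynomial.map_surjective π hπsurj P)) hP
    refine ⟨P', hP'monic, ?_⟩
    rw [← hcomp, ← Polynomial.hom_eval₂, ← Polynomial.eval₂_map, hP'map, hPu, map_zero]
  let C := integralClosure O K
  let N := integralClosure (CAlg2.red O) F
  let jN : N →+* C := (j.comp (N.val : N →+* F)).codRestrict C.toSubring (fun n => key2 n n.2)
  have hjN : ∀ n : N, ((jN n : C) : K) = j (n : F) := fun n => rfl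
  have hjNint : jN.IsIntegral := by
    apply RingHom.IsIntegral.tower_top ((algebraMap (CAlg2.red O) N).comp π) jN
    have e : jN.comp ((algebraMap (CAlg2.red O) N).comp π) = algebraMap O C := by
      ext a
      change j (algebraMap (CAlg2.red O) F (π a)) = φ a
      rw [hj, hρπ]
    rw [e]
    exact algebraMap_isIntegral_iff.mpr inferInstance
  -- every element of `C` has a power in `jN N`
  have hpow : ∀ c : C, ∃ m : ℕ, 0 < m ∧ ∃ n : N, c ^ m = jN n := by
    intro c
    obtain ⟨P, hP, hPc⟩ := c.2
    have halg : ∃ q : Polynomial K₀, q ≠ 0 ∧ Polynomial.eval₂ ι (c : K) q = 0 := by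
      refine ⟨P.map (algebraMap O K₀), (hP.map _).ne_zero, ?_⟩
      rw [Polynomial.eval₂_map]
      exact hPc
    obtain ⟨m, hm, t, ht⟩ := hrad _ halg
    obtain ⟨a, b, hb, hab⟩ := IsFractionRing.div_surjective O t
    have hb0 : b ≠ 0 := nonZeroDivisors.ne_zero hb
    let u : F := algebraMap (CAlg2.red O) F (π a) / algebraMap (CAlg2.red O) F (π b)
    have hju : j u = (c : K) ^ m := by
      change j (_ / _) = _
      rw [map_div₀, hj, hj, hρπ, hρπ, ← ht, ← hab, map_div₀]
      rfl
    have hint : IsIntegral O (j u) := by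
      rw [hju]
      exact (c.2 : IsIntegral O (c : K)).pow m
    refine ⟨m, hm, ⟨u, key1 u hint⟩, ?_⟩
    apply Subtype.ext
    rw [hjN]
    change ((c ^ m : C) : K) = j u
    rw [hju]
    rfl
  obtain ⟨𝔫, h𝔫⟩ := Ideal.exists_maximal C
  refine IsLocalRing.of_unique_max_ideal ⟨𝔫, h𝔫, fun 𝔫' h𝔫' => ?_⟩
  have hle : ∀ (𝔞 𝔟 : Ideal C), 𝔞.IsMaximal → 𝔟.IsMaximal → 𝔞 ≤ 𝔟 := by
    intro 𝔞 𝔟 h𝔞 h𝔟 c hc
    obtain ⟨m, hm, n, hn⟩ := hpow c
    haveI := h𝔞
    haveI := h𝔟
    have h1 : (𝔞.comap jN) = IsLocalRing.maximalIdeal N :=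
      IsLocalRing.eq_maximalIdeal (Ideal.isMaximal_comap_of_isIntegral_of_isMaximal' jN hjNint 𝔞)
    have h2 : (𝔟.comap jN) = IsLocalRing.maximalIdeal N :=
      IsLocalRing.eq_maximalIdeal (Ideal.isMaximal_comap_of_isIntegral_of_isMaximal' jN hjNint 𝔟)
    have h3 : n ∈ 𝔞.comap jN := by
      rw [Ideal.mem_comap, ← hn]
      exact Ideal.pow_mem_of_mem 𝔞 hc m hm
    rw [h1, ← h2, Ideal.mem_comap, ← hn] at h3
    exact h𝔟.isPrime.mem_of_pow_mem m h3
  exact le_antisymm (hle _ _ h𝔫' h𝔫) (hle _ _ h𝔫 h𝔫')

end alg

section geom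

variable {X Y : Scheme.{u}} [IsIntegral X] [IsIntegral Y] (f : X ⟶ Y)
  (hdom : f.base (genericPoint X) ⤳ genericPoint Y)

include hdom in
theorem specializes_of_dom (y : Y) : f.base (genericPoint X) ⤳ y :=
  hdom.trans ((genericPoint_spec Y).specializes trivial)

theorem stalkToFunctionField_eq (y : Y) :
    (CohIII.stalkToFunctionField f (genericPoint Y) hdom).comp
      (algebraMap (Y.presheaf.stalk y) Y.functionField) =
      CohIII.stalkToFunctionField f y (specializes_of_dom f hdom y) := by
  ext t
  change f.stalkMap (genericPoint X) (Y.presheaf.stalkSpecializes hdom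
    (Y.presheaf.stalkSpecializes ((genericPoint_spec Y).specializes trivial) t)) =
    f.stalkMap (genericPoint X) (Y.presheaf.stalkSpecializes (specializes_of_dom f hdom y) t)
  congr 1
  exact ConcreteCategory.congr_hom (TopCat.Presheaf.stalkSpecializes_comp Y.presheaf hdom
    ((genericPoint_spec Y).specializes trivial)) t

variable [IsProper f] [IsLocallyNoetherian Y]

include hdom in
/-- S4464 -/
theorem connectedSpace_fiber
    (hrad : ∀ x : X.functionField,
      (∃ q : Polynomial Y.functionField, q ≠ 0 ∧
        Polynomial.eval₂ (CohIII.stalkToFunctionField f (genericPoint Y) hdom) x q = 0) →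
      ∃ e : ℕ, x ^ (ringExpChar X.functionField ^ e) ∈
        Set.range (CohIII.stalkToFunctionField f (genericPoint Y) hdom))
    (y : Y) (hy : CAlg2.IsUnibranch (Y.presheaf.stalk y)) :
    ConnectedSpace ↥(f.fiber y) := by
  have h := specializes_of_dom f hdom y
  -- nonempty
  have hcl : IsClosed (Set.range f.base) := f.isClosedMap.isClosed_range
  obtain ⟨x, hx⟩ : y ∈ Set.range f.base := h.mem_closed hcl ⟨genericPoint X, rfl⟩
  have hne : Nonempty ↥(f.fiber y) := by
    have h2 := f.range_fiberι y
    have : x ∈ Set.range (f.fiberι y).base := by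
      rw [h2]; exact hx
    obtain ⟨z, -⟩ := this
    exact ⟨z⟩
  -- the integral closure is local
  have hloc := isLocalRing_integralClosure (O := Y.presheaf.stalk y) (K₀ := Y.functionField)
    (K := X.functionField) (CohIII.stalkToFunctionField f (genericPoint Y) hdom) hy
    (fun x hx => by
      obtain ⟨e, he⟩ := hrad x hx
      refine ⟨ringExpChar X.functionField ^ e, pow_pos ?_ e, he⟩
      exact lt_max_of_lt_right one_pos)
  rw [stalkToFunctionField_eq f hdom y] at hloc
  have hcard := ConnComp.card_connectedComponents_le f y h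
  have hsub : Subsingleton (MaximalSpectrum (CohIII.integralClosureStalk f y h)) := by
    letI := (CohIII.stalkToFunctionField f y h).toAlgebra
    haveI : IsLocalRing (integralClosure (Y.presheaf.stalk y) X.functionField) := hloc
    have : Subsingleton (MaximalSpectrum (integralClosure (Y.presheaf.stalk y) X.functionField)) := by
      constructor
      intro a b
      exact MaximalSpectrum.ext ((IsLocalRing.eq_maximalIdeal a.2).trans
        (IsLocalRing.eq_maximalIdeal b.2).symm)
    exact this
  have hsub2 : Subsingleton (_root_.ConnectedComponents ↥(f.fiber y)) := by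
    rw [← Cardinal.le_one_iff_subsingleton]
    exact hcard.trans (Cardinal.le_one_iff_subsingleton.mpr hsub)
  haveI : PreconnectedSpace ↥(f.fiber y) := by
    rw [preconnectedSpace_iff_connectedComponent]
    intro x
    ext z
    simp only [Set.mem_univ, iff_true]
    exact ConnectedComponents.coe_eq_coe'.mp (Subsingleton.elim _ _)
  exact ⟨hne⟩

end geom

end Groth.Agent.Lib.T2H9.Unibranch
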