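import Mathlib
import Groth.Prelude.Def_EtRam
import Groth.Agent.Lib.T2H9SolAll
import Groth.Agent.Lib.T2H9ResSep

set_option autoImplicit false
set_option linter.style.haveILetI false
set_option linter.unusedSectionVars false
universe u

/-!
# Base change of an unramified extension along an extension of discrete valuation rings
-/

namespace Groth.Agent.Lib.T2H9.UnramBC

open IsLocalRing TensorProduct Groth.Agent.Lib.T2H9.RamTower Groth.Agent.Lib.T2H9.FinDVR
  Groth.Agent.Lib.T2H9.ValGen Groth.Agent.Lib.T2H9.RedArt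
  Groth.Agent.Lib.T2H9.SolAll Groth.Agent.Lib.T2H9.ResSep

section main

variable (A B K L : Type u) [CommRing A] [IsDomain A] [IsDiscreteValuationRing A]
  [CommRing B] [IsDomain B] [IsDiscreteValuationRing B] [Algebra A B] [IsLocalHom (algebraMap A B)]
  [Field K] [Field L] [Algebra A K] [IsFractionRing A K] [Algebra B L] [IsFractionRing B L]
  [Algebra K L] [Algebra A L] [IsScalarTower A K L] [IsScalarTower A B L]
  (K₁ : Type u) [Field K₁] [Algebra K K₁] [FiniteDimensional K K₁]
  (M : Type u) [Field M] [Algebra K M] [Algebra L M] [Algebra K₁ M] [IsScalarTower K L M]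
  [IsScalarTower K K₁ M]

include K in
theorem core (h : EtRam.IsUnramifiedExt A ((algebraMap K K₁).comp (algebraMap A K)))
    (hgen : Algebra.adjoin L (Set.range (algebraMap K₁ M)) = ⊤) (W : ValuationSubring M)
    (hW : EtRam.Dominates B ((algebraMap L M).comp (algebraMap B L)) W) :
    letI : Algebra B W :=
      (RingHom.codRestrict ((algebraMap L M).comp (algebraMap B L)) W hW.1).toAlgebra
    ∀ [IsLocalHom (algebraMap B W)],
      EtRam.IsWeaklyUnramified B W ∧
        Algebra.IsSeparable (ResidueField B) (ResidueField W) := by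
  classical
  letI : Algebra A K₁ := ((algebraMap K K₁).comp (algebraMap A K)).toAlgebra
  haveI : IsScalarTower A K K₁ := IsScalarTower.of_algebraMap_eq (fun _ => rfl)
  letI : Algebra B M := ((algebraMap L M).comp (algebraMap B L)).toAlgebra
  haveI : IsScalarTower B L M := IsScalarTower.of_algebraMap_eq (fun _ => rfl)
  haveI hfinLM : Module.Finite L M := finite_of_adjoin K L K₁ M hgen
  have hWB : EtRam.Dominates B (algebraMap B M) W := hW
  haveI : IsDiscreteValuationRing W := isDiscreteValuationRing_of_dominates B L M W hWB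
  have hcompat : ∀ a : A,
      algebraMap K₁ M (algebraMap A K₁ a) = algebraMap B M (algebraMap A B a) := by
    intro a
    change algebraMap K₁ M (algebraMap K K₁ (algebraMap A K a)) =
      algebraMap L M (algebraMap B L (algebraMap A B a))
    rw [← IsScalarTower.algebraMap_apply K K₁ M, ← IsScalarTower.algebraMap_apply A B L,
      IsScalarTower.algebraMap_apply A K L, ← IsScalarTower.algebraMap_apply K L M]
  set f := algebraMap K₁ M with hf
  set V₁ := W.comap f with hV₁
  have hV₁dom : EtRam.Dominates A (algebraMap A K₁) V₁ := by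
    rw [dominates_comap_iff]
    refine ⟨fun a => ?_, fun a ha => ?_⟩
    · rw [RingHom.comp_apply, hcompat]
      exact hWB.1 _
    · rw [RingHom.comp_apply, hcompat]
      apply hWB.2
      rw [mem_maximalIdeal, mem_nonunits_iff] at ha ⊢
      intro hu
      exact ha (isUnit_of_map_unit (algebraMap A B) a hu)
  haveI : IsDiscreteValuationRing V₁ := isDiscreteValuationRing_of_dominates A K K₁ V₁ hV₁dom
  letI algAV₁ : Algebra A V₁ :=
    (RingHom.codRestrict ((algebraMap K K₁).comp (algebraMap A K)) V₁ hV₁dom.1).toAlgebra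
  haveI : IsScalarTower A V₁ K₁ := IsScalarTower.of_algebraMap_eq (fun _ => rfl)
  haveI : IsLocalHom (algebraMap A V₁) := isLocalHom_of_dominates (algebraMap A K₁) V₁ hV₁dom
  letI algBW : Algebra B W := (RingHom.codRestrict (algebraMap B M) W hWB.1).toAlgebra
  haveI : IsScalarTower B W M := IsScalarTower.of_algebraMap_eq (fun _ => rfl)
  intro _
  letI algV₁W : Algebra V₁ W := (EtRam.inclOfComap W f).toAlgebra
  haveI : IsLocalHom (algebraMap V₁ W) := EtRam.isLocalHom_inclOfComap W f
  obtain ⟨hwu, hsep⟩ := h V₁ hV₁dom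
  haveI := hsep
  have hinjAK₁ : Function.Injective (algebraMap A K₁) :=
    (algebraMap K K₁).injective.comp (IsFractionRing.injective A K)
  have hinjAV₁ : Function.Injective (algebraMap A V₁) := fun a b hab =>
    hinjAK₁ (congrArg Subtype.val hab)
  obtain ⟨hresfin, -⟩ := Groth.Agent.Lib.Helper24DvrEF.s7132 A V₁ K K₁ hinjAV₁
  haveI := hresfin
  obtain ⟨π, hπ⟩ := IsDiscreteValuationRing.exists_irreducible A
  obtain ⟨πB, hπB⟩ := IsDiscreteValuationRing.exists_irreducible B
  set t : M := algebraMap B M πB with ht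
  have ht1 : W.valuation t < 1 := by
    apply hWB.2
    rw [mem_maximalIdeal, mem_nonunits_iff]
    exact hπB.not_isUnit
  have ht0 : t ≠ 0 := by
    intro h0
    exact hπB.ne_zero (algebraMap_injective B L M (h0.trans (map_zero _).symm))
  -- the subring generated by `B` and `V₁`
  set R : Subalgebra B M := Algebra.adjoin B (Set.range (fun v : V₁ => f (v : K₁))) with hR
  have hRW : ∀ x ∈ R, x ∈ W := by
    intro x hx
    induction hx using Algebra.adjoin_induction with
    | mem y hy =>
      obtain ⟨v, rfl⟩ := hy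
      exact v.2
    | algebraMap c => exact hWB.1 c
    | add y y' _ _ hy hy' => exact W.add_mem _ _ hy hy'
    | mul y y' _ _ hy hy' => exact W.mul_mem _ _ hy hy'
  let ι₁ : V₁ →+* R :=
    { toFun := fun v => ⟨f (v : K₁), Algebra.subset_adjoin ⟨v, rfl⟩⟩
      map_one' := Subtype.ext (map_one f)
      map_mul' := fun x y => Subtype.ext (map_mul f (x : K₁) (y : K₁))
      map_zero' := Subtype.ext (map_zero f)
      map_add' := fun x y => Subtype.ext (map_add f (x : K₁) (y : K₁)) }
  set tR : R := algebraMap B R πB with htR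
  have hAR : ∀ a : A, algebraMap B R (algebraMap A B a) = ι₁ (algebraMap A V₁ a) := by
    intro a
    apply Subtype.ext
    exact (hcompat a).symm
  have hBt : ∀ b ∈ maximalIdeal B, algebraMap B R b ∈ Ideal.span {tR} := by
    intro b hb
    rw [hπB.maximalIdeal_eq, Ideal.mem_span_singleton'] at hb
    obtain ⟨c, rfl⟩ := hb
    rw [map_mul]
    exact Ideal.mul_mem_left _ _ (Ideal.mem_span_singleton_self tR)
  have hV₁t : ∀ v ∈ maximalIdeal V₁, ι₁ v ∈ Ideal.span {tR} := by
    intro v hv
    unfold EtRam.IsWeaklyUnramified at hwu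
    rw [← hwu, hπ.maximalIdeal_eq, Ideal.map_span, Set.image_singleton,
      Ideal.mem_span_singleton'] at hv
    obtain ⟨c, rfl⟩ := hv
    rw [map_mul, ← hAR]
    apply Ideal.mul_mem_left
    apply hBt
    have : π ∈ maximalIdeal A := by
      rw [hπ.maximalIdeal_eq]
      exact Ideal.mem_span_singleton_self π
    rw [mem_maximalIdeal, mem_nonunits_iff] at this ⊢
    exact fun hu => this (isUnit_of_map_unit (algebraMap A B) π hu)
  let g₁ : ResidueField V₁ →+* R ⧸ Ideal.span {tR} :=
    Ideal.Quotient.lift (maximalIdeal V₁) ((Ideal.Quotient.mk _).comp ι₁) (fun v hv => by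
      rw [RingHom.comp_apply, Ideal.Quotient.eq_zero_iff_mem]
      exact hV₁t v hv)
  let g₂ : ResidueField B →+* R ⧸ Ideal.span {tR} :=
    Ideal.Quotient.lift (maximalIdeal B) ((Ideal.Quotient.mk _).comp (algebraMap B R))
      (fun b hb => by
        rw [RingHom.comp_apply, Ideal.Quotient.eq_zero_iff_mem]
        exact hBt b hb)
  letI algQ : Algebra (ResidueField B) (R ⧸ Ideal.span {tR}) := g₂.toAlgebra
  have hcomp : ∀ c : ResidueField A, g₁ (algebraMap (ResidueField A) (ResidueField V₁) c) =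
      algebraMap (ResidueField B) (R ⧸ Ideal.span {tR})
        (algebraMap (ResidueField A) (ResidueField B) c) := by
    intro c
    obtain ⟨a, rfl⟩ := residue_surjective c
    change Ideal.Quotient.mk _ (ι₁ (algebraMap A V₁ a)) =
      Ideal.Quotient.mk _ (algebraMap B R (algebraMap A B a))
    rw [hAR]
  have hgenQ : ∀ x : R ⧸ Ideal.span {tR}, x ∈ Subring.closure
      (Set.range (algebraMap (ResidueField B) (R ⧸ Ideal.span {tR})) ∪ Set.range g₁) := by
    intro x
    obtain ⟨r, rfl⟩ := Ideal.Quotient.mk_surjective x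
    obtain ⟨r, hr⟩ := r
    induction hr using Algebra.adjoin_induction with
    | mem y hy =>
      obtain ⟨v, rfl⟩ := hy
      exact Subring.subset_closure (Or.inr ⟨residue V₁ v, rfl⟩)
    | algebraMap b => exact Subring.subset_closure (Or.inl ⟨residue B b, rfl⟩)
    | add y y' hy hy' h1 h2 =>
      have : (⟨y + y', add_mem hy hy'⟩ : R) = ⟨y, hy⟩ + ⟨y', hy'⟩ := rfl
      rw [this, map_add]
      exact add_mem h1 h2
    | mul y y' hy hy' h1 h2 =>
      have : (⟨y * y', mul_mem hy hy'⟩ : R) = ⟨y, hy⟩ * ⟨y', hy'⟩ := rfl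
      rw [this, map_mul]
      exact mul_mem h1 h2
  obtain ⟨hart, hred⟩ := reducedArtinian_of_gen (ResidueField A) (ResidueField B)
    (ResidueField V₁) (R ⧸ Ideal.span {tR}) g₁ hcomp hgenQ
  haveI := hart
  haveI := hred
  let ι : R →+* W :=
    { toFun := fun y => ⟨y.1, hRW y.1 y.2⟩
      map_one' := rfl
      map_mul' := fun _ _ => rfl
      map_zero' := rfl
      map_add' := fun _ _ => rfl }
  have h𝔫 : (maximalIdeal W).comap ι ≠ ⊤ := (Ideal.comap_isPrime ι _).ne_top
  have hmem𝔫 : ∀ y : R, y ∈ (maximalIdeal W).comap ι ↔ W.valuation (y : M) < 1 :=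
    fun y => W.valuation_lt_one_iff (ι y)
  have ht𝔫 : tR ∈ (maximalIdeal W).comap ι := (hmem𝔫 _).mpr ht1
  have h2 : ∀ y ∈ R.toSubring, W.valuation y < 1 →
      ∃ s ∈ R.toSubring, W.valuation s = 1 ∧ ∃ y' ∈ R.toSubring, s * y = t * y' := by
    intro y hy hlt
    obtain ⟨s, hs, y', hsy⟩ := exists_mul_eq_mul tR ((maximalIdeal W).comap ι) h𝔫 ht𝔫 ⟨y, hy⟩
      ((hmem𝔫 _).mpr hlt)
    refine ⟨s.1, s.2, ?_, y'.1, y'.2, congrArg Subtype.val hsy⟩
    rw [hmem𝔫, not_lt] at hs
    exact le_antisymm ((W.valuation_le_one_iff _).mpr (hRW _ s.2)) hs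
  have h3 : ∀ x : M, ∃ y ∈ R.toSubring, ∃ y' ∈ R.toSubring, y' ≠ 0 ∧ x * y' = y := by
    intro x
    have hx : x ∈ Algebra.adjoin L (Set.range f) := by rw [hgen]; exact Algebra.mem_top
    induction hx using Algebra.adjoin_induction with
    | mem z hz =>
      obtain ⟨c, rfl⟩ := hz
      by_cases hcV : c ∈ V₁
      · exact ⟨f c, Algebra.subset_adjoin ⟨⟨c, hcV⟩, rfl⟩, 1, R.one_mem, one_ne_zero,
          mul_one _⟩
      · have hc := (V₁.mem_or_inv_mem c).resolve_left hcV
        have hc0 : c ≠ 0 := by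
          intro h0
          exact hcV (h0 ▸ V₁.zero_mem)
        refine ⟨1, R.one_mem, f c⁻¹, Algebra.subset_adjoin ⟨⟨c⁻¹, hc⟩, rfl⟩, ?_, ?_⟩
        · rw [Ne, map_eq_zero]
          exact inv_ne_zero hc0
        · rw [← map_mul, mul_inv_cancel₀ hc0, map_one]
    | algebraMap l =>
      obtain ⟨p, q, hq, rfl⟩ := IsFractionRing.div_surjective (A := B) l
      have hq0 : algebraMap B M q ≠ 0 := by
        intro h0
        exact nonZeroDivisors.ne_zero hq
          (algebraMap_injective B L M (h0.trans (map_zero _).symm))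
      refine ⟨algebraMap B M p, R.algebraMap_mem p, algebraMap B M q, R.algebraMap_mem q, hq0, ?_⟩
      rw [map_div₀, ← IsScalarTower.algebraMap_apply, ← IsScalarTower.algebraMap_apply,
        div_mul_cancel₀ _ hq0]
    | add x₁ x₂ _ _ h1 h2 =>
      obtain ⟨y₁, hy₁, y₁', hy₁', hy₁0, e₁⟩ := h1
      obtain ⟨y₂, hy₂, y₂', hy₂', hy₂0, e₂⟩ := h2
      refine ⟨y₁ * y₂' + y₂ * y₁', R.add_mem (R.mul_mem hy₁ hy₂') (R.mul_mem hy₂ hy₁'),
        y₁' * y₂', R.mul_mem hy₁' hy₂', mul_ne_zero hy₁0 hy₂0, ?_⟩
      rw [← e₁, ← e₂]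
      ring
    | mul x₁ x₂ _ _ h1 h2 =>
      obtain ⟨y₁, hy₁, y₁', hy₁', hy₁0, e₁⟩ := h1
      obtain ⟨y₂, hy₂, y₂', hy₂', hy₂0, e₂⟩ := h2
      refine ⟨y₁ * y₂, R.mul_mem hy₁ hy₂, y₁' * y₂', R.mul_mem hy₁' hy₂',
        mul_ne_zero hy₁0 hy₂0, ?_⟩
      rw [← e₁, ← e₂]
      ring
  have hRW' : ∀ x ∈ R.toSubring, x ∈ W := hRW
  have htR' : t ∈ R.toSubring := tR.2
  obtain ⟨hc1, hc2⟩ := gen_of_subring W R.toSubring hRW' t htR' ht1 ht0 h2 h3
  refine ⟨?_, ?_⟩
  · unfold EtRam.IsWeaklyUnramified
    apply le_antisymm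
    · exact ((local_hom_TFAE (algebraMap B W)).out 0 2).mp ‹_›
    · intro x hx
      obtain ⟨w, hw', hxw⟩ := hc1 x ((W.valuation_lt_one_iff x).mp hx)
      have hx' : x = algebraMap B W πB * ⟨w, hw'⟩ := Subtype.ext hxw
      rw [hx']
      apply Ideal.mul_mem_right
      apply Ideal.mem_map_of_mem
      rw [mem_maximalIdeal, mem_nonunits_iff]
      exact hπB.not_isUnit
  · have hcomp' : ∀ c : ResidueField A,
        (ResidueField.map (algebraMap V₁ W)) (algebraMap (ResidueField A) (ResidueField V₁) c) =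
        algebraMap (ResidueField B) (ResidueField W)
          (algebraMap (ResidueField A) (ResidueField B) c) := by
      intro c
      obtain ⟨a, rfl⟩ := residue_surjective c
      change residue W (algebraMap V₁ W (algebraMap A V₁ a)) =
        residue W (algebraMap B W (algebraMap A B a))
      congr 1
      apply Subtype.ext
      exact hcompat a
    set C := Subring.closure (Set.range (algebraMap (ResidueField B) (ResidueField W)) ∪
      Set.range (ResidueField.map (algebraMap V₁ W))) with hC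
    have hres : ∀ r : R, residue W (ι r) ∈ C := by
      intro r
      obtain ⟨r, hr⟩ := r
      induction hr using Algebra.adjoin_induction with
      | mem y hy =>
        obtain ⟨v, rfl⟩ := hy
        exact Subring.subset_closure (Or.inr ⟨residue V₁ v, rfl⟩)
      | algebraMap b => exact Subring.subset_closure (Or.inl ⟨residue B b, rfl⟩)
      | add y y' hy hy' h1 h2 =>
        have : ι (⟨y + y', add_mem hy hy'⟩ : R) = ι ⟨y, hy⟩ + ι ⟨y', hy'⟩ := rfl
        rw [this, map_add]
        exact add_mem h1 h2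
      | mul y y' hy hy' h1 h2 =>
        have : ι (⟨y * y', mul_mem hy hy'⟩ : R) = ι ⟨y, hy⟩ * ι ⟨y', hy'⟩ := rfl
        rw [this, map_mul]
        exact mul_mem h1 h2
    have hfrac : ∀ x : ResidueField W, ∃ u ∈ C, ∃ u' ∈ C, u' ≠ 0 ∧ x * u' = u := by
      intro x
      obtain ⟨w, rfl⟩ := residue_surjective x
      rcases lt_or_eq_of_le (W.valuation_le_one w) with hlt | heq
      · have : residue W w = 0 := by
          rw [residue_eq_zero_iff]
          exact (W.valuation_lt_one_iff w).mpr hlt
        exact ⟨0, C.zero_mem, 1, C.one_mem, one_ne_zero, by rw [this, zero_mul]⟩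
      · obtain ⟨v, hv, v', hv', hv1, hv'1, hxv⟩ := hc2 w heq
        refine ⟨residue W (ι ⟨v, hv⟩), hres _, residue W (ι ⟨v', hv'⟩), hres _, ?_, ?_⟩
        · have hunit : IsUnit (ι ⟨v', hv'⟩) := (W.valuation_eq_one_iff _).mpr hv'1
          rw [Ne, residue_eq_zero_iff, mem_maximalIdeal, mem_nonunits_iff, not_not]
          exact hunit
        · rw [← map_mul]
          congr 1
          exact Subtype.ext hxv
    exact isSeparable_of_fracGen (ResidueField A) (ResidueField B) (ResidueField V₁)
      (ResidueField W) (ResidueField.map (algebraMap V₁ W)) hcomp' hfrac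

end main

end Groth.Agent.Lib.T2H9.UnramBC
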