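import Mathlib
import Groth.Prelude.Def_EtRam
import Groth.Agent.Lib.T2H9UnramBC
import Groth.Agent.Lib.T2H9TameBC

set_option autoImplicit false
set_option linter.style.haveILetI false
set_option linter.unusedSectionVars false
universe u

/-!
# Unramified and tamely ramified extensions are stable under compositum
-/

namespace Groth.Agent.Lib.T2H9.UnramComp

open IsLocalRing Groth.Agent.Lib.T2H9.RamTower Groth.Agent.Lib.T2H9.FinDVR

section comp

variable (A K : Type u) [CommRing A] [IsDomain A] [IsDiscreteValuationRing A] [Field K]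
  [Algebra A K] [IsFractionRing A K]
  (L₁ L₂ M : Type u) [Field L₁] [Field L₂] [Field M] [Algebra K L₁] [Algebra K L₂]
  [Algebra K M] [FiniteDimensional K L₁] [FiniteDimensional K L₂] [Algebra L₁ M] [Algebra L₂ M]
  [IsScalarTower K L₁ M] [IsScalarTower K L₂ M]

theorem comp_unr (hgen : Algebra.adjoin L₁ (Set.range (algebraMap L₂ M)) = ⊤)
    (h₁ : EtRam.IsUnramifiedExt A ((algebraMap K L₁).comp (algebraMap A K)))
    (h₂ : EtRam.IsUnramifiedExt A ((algebraMap K L₂).comp (algebraMap A K))) :
    EtRam.IsUnramifiedExt A ((algebraMap K M).comp (algebraMap A K)) := by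
  intro V hV
  letI algAV : Algebra A V :=
    (RingHom.codRestrict ((algebraMap K M).comp (algebraMap A K)) V hV.1).toAlgebra
  intro _
  letI algAM : Algebra A M := ((algebraMap K M).comp (algebraMap A K)).toAlgebra
  haveI : IsScalarTower A K M := IsScalarTower.of_algebraMap_eq (fun _ => rfl)
  haveI : Module.Finite L₁ M := Groth.Agent.Lib.T2H9.SolAll.finite_of_adjoin K L₁ L₂ M hgen
  haveI : FiniteDimensional K M := FiniteDimensional.trans K L₁ M
  haveI : IsDiscreteValuationRing V := isDiscreteValuationRing_of_dominates A K M V hV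
  letI algAL₁ : Algebra A L₁ := ((algebraMap K L₁).comp (algebraMap A K)).toAlgebra
  haveI : IsScalarTower A K L₁ := IsScalarTower.of_algebraMap_eq (fun _ => rfl)
  set V₁ := V.comap (algebraMap L₁ M) with hV₁
  have hcomp : ∀ a : A, algebraMap L₁ M (algebraMap A L₁ a) =
      (algebraMap K M) (algebraMap A K a) := by
    intro a
    change algebraMap L₁ M (algebraMap K L₁ (algebraMap A K a)) = _
    rw [← IsScalarTower.algebraMap_apply K L₁ M]
  have hV₁dom : EtRam.Dominates A ((algebraMap K L₁).comp (algebraMap A K)) V₁ := by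
    rw [dominates_comap_iff]
    have : (algebraMap L₁ M).comp ((algebraMap K L₁).comp (algebraMap A K)) =
        (algebraMap K M).comp (algebraMap A K) := RingHom.ext hcomp
    rw [this]
    exact hV
  haveI : IsDiscreteValuationRing V₁ :=
    isDiscreteValuationRing_of_dominates A K L₁ V₁ hV₁dom
  letI algAV₁ : Algebra A V₁ :=
    (RingHom.codRestrict ((algebraMap K L₁).comp (algebraMap A K)) V₁ hV₁dom.1).toAlgebra
  haveI : IsScalarTower A V₁ L₁ := IsScalarTower.of_algebraMap_eq (fun _ => rfl)
  haveI : IsLocalHom (algebraMap A V₁) := isLocalHom_of_dominates _ V₁ hV₁dom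
  obtain ⟨hwu₁, hsep₁⟩ := h₁ V₁ hV₁dom
  have hV' : EtRam.Dominates V₁ ((algebraMap L₁ M).comp (algebraMap V₁ L₁)) V := by
    refine ⟨fun x => x.2, fun x hx => ?_⟩
    have h1 : V₁.valuation (x : L₁) < 1 := (V₁.valuation_lt_one_iff x).mp hx
    rw [valuation_comap_lt_one_iff] at h1
    exact h1
  letI algV₁V : Algebra V₁ V :=
    (RingHom.codRestrict ((algebraMap L₁ M).comp (algebraMap V₁ L₁)) V hV'.1).toAlgebra
  haveI : IsLocalHom (algebraMap V₁ V) := isLocalHom_of_dominates _ V hV'
  obtain ⟨hwu₂, hsep₂⟩ := Groth.Agent.Lib.T2H9.UnramBC.core A V₁ K L₁ L₂ M h₂ hgen V hV'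
  haveI : IsScalarTower A V₁ V := IsScalarTower.of_algebraMap_eq (fun a => by
    apply Subtype.ext
    exact (hcomp a).symm)
  refine ⟨?_, ?_⟩
  · unfold EtRam.IsWeaklyUnramified at hwu₁ hwu₂ ⊢
    rw [IsScalarTower.algebraMap_eq A V₁ V, ← Ideal.map_map, hwu₁, hwu₂]
  · haveI := hsep₁
    haveI := hsep₂
    exact separable_trans_of_tower (A := A) (V := V₁) (W := V)

theorem comp_tame (hgen : Algebra.adjoin L₁ (Set.range (algebraMap L₂ M)) = ⊤)
    (h₁ : EtRam.IsTamelyRamified A ((algebraMap K L₁).comp (algebraMap A K)))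
    (h₂ : EtRam.IsTamelyRamified A ((algebraMap K L₂).comp (algebraMap A K))) :
    EtRam.IsTamelyRamified A ((algebraMap K M).comp (algebraMap A K)) := by
  intro V hV
  letI algAV : Algebra A V :=
    (RingHom.codRestrict ((algebraMap K M).comp (algebraMap A K)) V hV.1).toAlgebra
  intro _
  letI algAM : Algebra A M := ((algebraMap K M).comp (algebraMap A K)).toAlgebra
  haveI : IsScalarTower A K M := IsScalarTower.of_algebraMap_eq (fun _ => rfl)
  haveI : Module.Finite L₁ M := Groth.Agent.Lib.T2H9.SolAll.finite_of_adjoin K L₁ L₂ M hgen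
  haveI : FiniteDimensional K M := FiniteDimensional.trans K L₁ M
  haveI : IsDiscreteValuationRing V := isDiscreteValuationRing_of_dominates A K M V hV
  letI algAL₁ : Algebra A L₁ := ((algebraMap K L₁).comp (algebraMap A K)).toAlgebra
  haveI : IsScalarTower A K L₁ := IsScalarTower.of_algebraMap_eq (fun _ => rfl)
  set V₁ := V.comap (algebraMap L₁ M) with hV₁
  have hcomp : ∀ a : A, algebraMap L₁ M (algebraMap A L₁ a) =
      (algebraMap K M) (algebraMap A K a) := by
    intro a
    change algebraMap L₁ M (algebraMap K L₁ (algebraMap A K a)) = _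
    rw [← IsScalarTower.algebraMap_apply K L₁ M]
  have hV₁dom : EtRam.Dominates A ((algebraMap K L₁).comp (algebraMap A K)) V₁ := by
    rw [dominates_comap_iff]
    have : (algebraMap L₁ M).comp ((algebraMap K L₁).comp (algebraMap A K)) =
        (algebraMap K M).comp (algebraMap A K) := RingHom.ext hcomp
    rw [this]
    exact hV
  haveI : IsDiscreteValuationRing V₁ :=
    isDiscreteValuationRing_of_dominates A K L₁ V₁ hV₁dom
  letI algAV₁ : Algebra A V₁ :=
    (RingHom.codRestrict ((algebraMap K L₁).comp (algebraMap A K)) V₁ hV₁dom.1).toAlgebra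
  haveI : IsScalarTower A V₁ L₁ := IsScalarTower.of_algebraMap_eq (fun _ => rfl)
  haveI : IsLocalHom (algebraMap A V₁) := isLocalHom_of_dominates _ V₁ hV₁dom
  obtain ⟨hsep₁, htame₁⟩ := h₁ V₁ hV₁dom
  have hV' : EtRam.Dominates V₁ ((algebraMap L₁ M).comp (algebraMap V₁ L₁)) V := by
    refine ⟨fun x => x.2, fun x hx => ?_⟩
    have h1 : V₁.valuation (x : L₁) < 1 := (V₁.valuation_lt_one_iff x).mp hx
    rw [valuation_comap_lt_one_iff] at h1
    exact h1
  letI algV₁V : Algebra V₁ V :=
    (RingHom.codRestrict ((algebraMap L₁ M).comp (algebraMap V₁ L₁)) V hV'.1).toAlgebra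
  haveI : IsLocalHom (algebraMap V₁ V) := isLocalHom_of_dominates _ V hV'
  obtain ⟨hsep₂, htame₂⟩ := Groth.Agent.Lib.T2H9.TameBC.core A V₁ K L₁ L₂ M h₂ hgen V hV'
  haveI : IsScalarTower A V₁ V := IsScalarTower.of_algebraMap_eq (fun a => by
    apply Subtype.ext
    exact (hcomp a).symm)
  refine ⟨?_, ?_⟩
  · haveI := hsep₁
    haveI := hsep₂
    exact separable_trans_of_tower (A := A) (V := V₁) (W := V)
  · intro p hp hchar
    have hinjV₁V : Function.Injective (algebraMap V₁ V) := fun x y hxy =>
      Subtype.ext ((algebraMap L₁ M).injective (congrArg Subtype.val hxy))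
    have hinjAM : Function.Injective (algebraMap A M) :=
      (algebraMap K M).injective.comp (IsFractionRing.injective A K)
    have hinjAV : Function.Injective (algebraMap A V) := fun x y hxy =>
      hinjAM (congrArg Subtype.val hxy)
    have hAV : (maximalIdeal A).map (algebraMap A V) ≠ ⊥ := by
      rw [Ne, Ideal.map_eq_bot_iff_of_injective hinjAV]
      exact IsDiscreteValuationRing.not_a_field A
    rw [ramificationIdx'_tower (A := A) (V := V₁) (W := V) hinjV₁V hAV]
    intro hdvd
    rcases (Nat.Prime.dvd_mul hp).mp hdvd with h | h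
    · exact htame₁ p hp hchar h
    · have hchar' : CharP (ResidueField V₁) p :=
        ((algebraMap (ResidueField A) (ResidueField V₁)).charP_iff
          (algebraMap (ResidueField A) (ResidueField V₁)).injective p).mp hchar
      exact htame₂ p hp hchar' h

end comp

end Groth.Agent.Lib.T2H9.UnramComp
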