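import Mathlib
import Groth.Prelude
import Groth.Agent.Lib.T2H9VBSimple
import Groth.Agent.Lib.T2H6CurveDeg

/-!
# Decomposable normalized rank-two bundles on a curve (helper9)

* `deg_le_zero_of_summand` : a direct summand `L` (invertible) of a module `E` with `H⁰(E ⊗ M) = 0` for all `M` of
  negative degree has `deg L ≤ 0`.
* `main` : S11353.
-/

set_option autoImplicit false
set_option linter.style.haveILetI false
set_option linter.unusedSectionVars false
set_option linter.unusedVariables false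
universe u

open CategoryTheory CategoryTheory.Limits AlgebraicGeometry

namespace Groth.Agent.Lib.T2H9.VBDecomp

open Groth.Agent.Lib.T2H5.Twist Groth.Agent.Lib.T2H9.TensorInv Groth.Agent.Lib.T2H6.CurveSerre
  Groth.Agent.Lib.T2H6.HHLin Groth.Agent.Lib.T2H9.VBSimple

variable (k : Type u) [Field k] {X : Scheme.{u}} [X.Over (Spec (CommRingCat.of k))]
  [IsIntegral X] [IsProper (X ↘ Spec (CommRingCat.of k))]

theorem deg_le_zero_of_summand (hdim : topologicalKrullDim X = 1)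
    (h0 : Module.finrank k (Coh.HH X (Coh.structureModule X) 0) = 1)
    (E L : X.Modules) (hL : PicF.IsInvertible L) (ι : L ⟶ E) (π : E ⟶ L) (hιπ : ι ≫ π = 𝟙 L)
    (hneg : ∀ M : X.Modules, PicF.IsInvertible M → Curv2.deg k X M 1 < 0 →
      Subsingleton (Coh.HH X (CohB1.tensorMod E M) 0)) :
    Curv2.deg k X L 1 ≤ 0 := by
  by_contra hpos
  rw [not_le] at hpos
  have hiL := isInvertible_inv L hL
  have hdeg : Curv2.deg k X (inv L) 1 < 0 := by
    rw [Groth.Agent.Lib.T2H6.PtTwistD.deg_inv k hdim L hL]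
    linarith
  have hsub : Subsingleton (Coh.HH X ((tr (inv L)).obj E) 0) := hneg (inv L) hiL hdeg
  let u : Coh.structureModule X ≅ (tr (inv L)).obj L := (tensorInvIso L hL).symm
  have hσ : u.hom ≫ (tr (inv L)).map ι = 0 := by
    apply (bijective_evLin k ((tr (inv L)).obj E)).1
    exact Subsingleton.elim _ _
  have hu : u.hom = 0 := by
    have h1 : u.hom = (u.hom ≫ (tr (inv L)).map ι) ≫ (tr (inv L)).map π := by
      rw [Category.assoc, ← Functor.map_comp, hιπ, CategoryTheory.Functor.map_id, Category.comp_id]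
    rw [h1, hσ, zero_comp]
  have hO : 𝟙 (Coh.structureModule X) = 0 := by
    rw [← u.hom_inv_id, hu, zero_comp]
  exact id_ne_zero_of_isInvertible k h0 (Coh.structureModule X)
    (Groth.Agent.Lib.Helper23.TensorUnit.isInvertible_structureModule X) hO

theorem main (hdim : topologicalKrullDim X = 1)
    (h0 : Module.finrank k (Coh.HH X (Coh.structureModule X) 0) = 1)
    (E L₁ L₂ : X.Modules) (hL₁ : PicF.IsInvertible L₁) (hL₂ : PicF.IsInvertible L₂)
    (e : E ≅ L₁ ⊞ L₂) (hn0 : Nontrivial (Coh.HH X E 0))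
    (hneg : ∀ M : X.Modules, PicF.IsInvertible M → Curv2.deg k X M 1 < 0 →
      Subsingleton (Coh.HH X (CohB1.tensorMod E M) 0)) :
    ∃ L : X.Modules, PicF.IsInvertible L ∧ Curv2.deg k X L 1 ≤ 0 ∧
      Nonempty (E ≅ Coh.structureModule X ⊞ L) := by
  have hd1 : Curv2.deg k X L₁ 1 ≤ 0 :=
    deg_le_zero_of_summand k hdim h0 E L₁ hL₁ (biprod.inl ≫ e.inv) (e.hom ≫ biprod.fst)
      (by simp) hneg
  have hd2 : Curv2.deg k X L₂ 1 ≤ 0 :=
    deg_le_zero_of_summand k hdim h0 E L₂ hL₂ (biprod.inr ≫ e.inv) (e.hom ≫ biprod.snd)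
      (by simp) hneg
  obtain ⟨x, hx⟩ := exists_ne (0 : Coh.HH X E 0)
  obtain ⟨σ, hσx⟩ := (bijective_evLin k E).2 x
  have hσ : σ ≠ 0 := by
    intro h
    rw [h, map_zero] at hσx
    exact hx hσx.symm
  have hτ : σ ≫ e.hom ≠ 0 := by
    intro h
    apply hσ
    rw [← cancel_mono e.hom, h, zero_comp]
  by_cases h1 : (σ ≫ e.hom) ≫ biprod.fst = 0
  · have h2 : (σ ≫ e.hom) ≫ biprod.snd ≠ 0 := by
      intro h2
      apply hτ
      apply biprod.hom_ext
      · rw [h1, zero_comp]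
      · rw [h2, zero_comp]
    haveI := Groth.Agent.Lib.T2H6.CurveDeg.isIso_of_deg_nonpos k hdim L₂ hL₂ _ h2 hd2
    exact ⟨L₁, hL₁, hd1, ⟨e ≪≫ biprod.braiding L₁ L₂ ≪≫
      biprod.mapIso (asIso ((σ ≫ e.hom) ≫ biprod.snd)).symm (Iso.refl L₁)⟩⟩
  · haveI := Groth.Agent.Lib.T2H6.CurveDeg.isIso_of_deg_nonpos k hdim L₁ hL₁ _ h1 hd1
    exact ⟨L₂, hL₂, hd2, ⟨e ≪≫
      biprod.mapIso (asIso ((σ ≫ e.hom) ≫ biprod.fst)).symm (Iso.refl L₂)⟩⟩

end Groth.Agent.Lib.T2H9.VBDecomp
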