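import Mathlib
import Groth.Prelude
import Groth.Agent.Lib.T2H9VBH0Bound

/-!
# `h⁰` bound for bundles all of whose subbundles have bounded slope (helper9)
-/

set_option autoImplicit false
set_option linter.style.haveILetI false
set_option linter.unusedSectionVars false
set_option linter.unusedVariables false
universe u

open CategoryTheory CategoryTheory.Limits AlgebraicGeometry

namespace Groth.Agent.Lib.T2H9.VBSlopeLE

open Groth.Agent.Lib.T2H5.Twist Groth.Agent.Lib.T2H9.TensorInv Groth.Agent.Lib.T2H6.CurveSerre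
  Groth.Agent.Lib.T2H6.HHLin Groth.Agent.Lib.T2H9.VBSimple Groth.Agent.Lib.T2H9.VBNorm
  Groth.Agent.Lib.T2H6.PtTwistA Groth.Agent.Lib.T2H6.TensorPows Groth.Agent.Lib.T2H6.AmpleCrit

variable (k : Type u) [Field k] {X : Scheme.{u}} [X.Over (Spec (CommRingCat.of k))]
  [IsProper (X ↘ Spec (CommRingCat.of k))] [IsIntegral X]

/-- all finite locally free submodules of `G` of positive rank have slope `≤ a / b`. -/
def SlopeLE (G : X.Modules) (a : ℤ) (b : ℕ) : Prop :=
  ∀ (F : X.Modules) (r' : ℕ) (i : F ⟶ G), Mono i → 0 < r' → FlatMod.IsFinLocFreeOfRank r' F →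
    Curv2.deg k X F r' * (b : ℤ) ≤ a * (r' : ℤ)

theorem slopeLE_of_semistable {G : X.Modules} {r : ℕ} (h : ModFun.IsSlopeSemistable k X G r) :
    SlopeLE k G (Curv2.deg k X G r) r := h

theorem slopeLE_of_mono {K G : X.Modules} (j : K ⟶ G) [Mono j] {a : ℤ} {b : ℕ}
    (h : SlopeLE k G a b) : SlopeLE k K a b := by
  intro F r' i hi hr' hF
  haveI := hi
  exact h F r' (i ≫ j) (mono_comp _ _) hr' hF

/-- twisting by an invertible module shifts the slope bound by its degree. -/
theorem slopeLE_tensor (hdim : topologicalKrullDim X = 1) (G : X.Modules)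
    (N : X.Modules) (hN : PicF.IsInvertible N) {a : ℤ} {b : ℕ} (h : SlopeLE k G a b) :
    SlopeLE k (CohB1.tensorMod G N) (a + b * Curv2.deg k X N 1) b := by
  intro F r' i hi hr' hF
  haveI := hi
  haveI : IsNoetherian X := Groth.Agent.Lib.T2H6.CurveSatur.isNoetherian_of_proper k
  have hiN := isInvertible_inv N hN
  have hiN1 := Groth.Agent.Lib.Helper23.SecTw.isFinLocFreeOfRank_one_of_isInvertible _ hiN
  have hF' : FlatMod.IsFinLocFreeOfRank (r' * 1) (CohB1.tensorMod F (inv N)) :=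
    Groth.Agent.Lib.T2H9.TensorRank.isFinLocFreeOfRank_tensor F (inv N) r' 1 hF hiN1
  let eA : CohB1.tensorMod (CohB1.tensorMod G N) (inv N) ≅ G :=
    assocIso' G N (inv N) ≪≫ (trCongr (tensorInvIso N hN)).app G ≪≫ (trUnitIso (X := X)).app G
  have hlfN : FlatMod.IsFinLocFree (inv N) := fun x => by
    obtain ⟨U, hx, h⟩ := hiN1 x
    exact ⟨U, 1, hx, h⟩
  haveI := Groth.Agent.Lib.T2H6.TensorDeg.preservesFiniteLimits_tr_of_isFinLocFree (inv N) hlfN
  haveI : (tr (inv N)).PreservesMonomorphisms :=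
    CategoryTheory.preservesMonomorphisms_of_preservesLimitsOfShape _
  haveI : Mono ((tr (inv N)).map i) := Functor.map_mono (tr (inv N)) i
  have hm : Mono ((tr (inv N)).map i ≫ eA.hom) := mono_comp ((tr (inv N)).map i) eA.hom
  have h1 := h (CohB1.tensorMod F (inv N)) (r' * 1) ((tr (inv N)).map i ≫ eA.hom) hm
    (by omega) hF'
  have hd1 := Groth.Agent.Lib.T2H6.TensorDegGen.deg_tensor k hdim.le r' 1 F (inv N) hF hiN1
  have hdi := Groth.Agent.Lib.T2H6.PtTwistD.deg_inv k hdim N hN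
  rw [hd1, hdi] at h1
  push_cast at h1 ⊢
  nlinarith [h1]

/-- no sections when the slope bound is negative. -/
theorem h0_eq_zero_of_neg (hdim : topologicalKrullDim X = 1)
    (hreg : ∀ x : X, IsRegularLocalRing (X.presheaf.stalk x)) (G : X.Modules) (s : ℕ)
    (hG : FlatMod.IsFinLocFreeOfRank s G) {a : ℤ} {b : ℕ} (h : SlopeLE k G a b)
    (hneg : a < 0) : Module.finrank k (Coh.HH X G 0) = 0 := by
  have hO := Groth.Agent.Lib.Helper23.TensorUnit.isInvertible_structureModule X
  have hO1 := Groth.Agent.Lib.Helper23.SecTw.isFinLocFreeOfRank_one_of_isInvertible _ hO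
  have hz : ∀ σ : Coh.structureModule X ⟶ G, σ = 0 := by
    intro σ
    by_contra hs
    haveI := mono_of_ne_zero k hdim hreg hO s hG σ hs
    have h1 := h _ 1 σ inferInstance one_pos hO1
    rw [Groth.Agent.Lib.T2H6.CurveDeg.deg_structureModule] at h1
    push_cast at h1
    linarith
  rw [← finrank_hom_eq k G]
  haveI : Subsingleton (Coh.structureModule X ⟶ G) := ⟨fun x y => by rw [hz x, hz y]⟩
  exact Module.finrank_zero_of_subsingleton

/-- induction: slope bound `a / b < n` gives `h⁰ ≤ rank · n`. -/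
theorem h0_le_aux (hdim : topologicalKrullDim X = 1)
    (hreg : ∀ x : X, IsRegularLocalRing (X.presheaf.stalk x))
    (p : X) (hp : IsClosed ({p} : Set X))
    (hI : PicF.IsInvertible (ClSub.idealMod (ptIdeal p hp)))
    (hdp : Curv2.deg k X (ClSub.idealMod (ptIdeal p hp)) 1 = -1) (b : ℕ) :
    ∀ (n : ℕ) (G : X.Modules) (s : ℕ) (a : ℤ), FlatMod.IsFinLocFreeOfRank s G →
      SlopeLE k G a b → a < (n : ℤ) * b →
      (Module.finrank k (Coh.HH X G 0) : ℤ) ≤ (s : ℤ) * n := by
  haveI : IsNoetherian X := Groth.Agent.Lib.T2H6.CurveSatur.isNoetherian_of_proper k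
  have hI1 := Groth.Agent.Lib.Helper23.SecTw.isFinLocFreeOfRank_one_of_isInvertible _ hI
  intro n
  induction n with
  | zero =>
    intro G s a hG hss hμ
    have h := h0_eq_zero_of_neg k hdim hreg G s hG hss (by simpa using hμ)
    rw [h]
    simp
  | succ n ih =>
    intro G s a hG hss hμ
    have hG' : FlatMod.IsFinLocFreeOfRank s (CohB1.tensorMod G (ClSub.idealMod (ptIdeal p hp))) := by
      have h := Groth.Agent.Lib.T2H9.TensorRank.isFinLocFreeOfRank_tensor G _ s 1 hG hI1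
      rwa [mul_one] at h
    have hss' := slopeLE_tensor k hdim G _ hI hss
    rw [hdp] at hss'
    have h1 := ih _ s _ hG' hss' (by push_cast at hμ ⊢; linarith)
    have h2 := Groth.Agent.Lib.T2H9.VBH0Bound.h0_le_twist k hdim G s hG p hp hI
    rw [hdp] at h2
    push_cast
    linarith

/-- `b · h⁰(G) ≤ rank · max(a + b, 0)` when all subbundles have slope `≤ a / b`. -/
theorem mul_h0_le (hdim : topologicalKrullDim X = 1)
    (hreg : ∀ x : X, IsRegularLocalRing (X.presheaf.stalk x))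
    (p : X) (hp : IsClosed ({p} : Set X))
    (hI : PicF.IsInvertible (ClSub.idealMod (ptIdeal p hp)))
    (hdp : Curv2.deg k X (ClSub.idealMod (ptIdeal p hp)) 1 = -1) (b : ℕ) (hb : 0 < b)
    (G : X.Modules) (s : ℕ) (a : ℤ) (hG : FlatMod.IsFinLocFreeOfRank s G) (h : SlopeLE k G a b) :
    (b : ℤ) * (Module.finrank k (Coh.HH X G 0) : ℤ) ≤ (s : ℤ) * max (a + b) 0 := by
  have hbz : (0 : ℤ) < (b : ℤ) := by exact_mod_cast hb
  obtain ⟨n, hn⟩ : ∃ n : ℕ, (n : ℤ) = max (a / (b : ℤ) + 1) 0 :=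
    ⟨(max (a / (b : ℤ) + 1) 0).toNat, Int.toNat_of_nonneg (le_max_right _ _)⟩
  have h1 : a < (a / (b : ℤ) + 1) * b := Int.lt_ediv_add_one_mul_self a hbz
  have h2 : a / (b : ℤ) * b ≤ a := Int.ediv_mul_le a hbz.ne'
  have hlt : a < (n : ℤ) * b := by
    rw [hn]
    have : (a / (b : ℤ) + 1) * b ≤ max (a / (b : ℤ) + 1) 0 * b :=
      mul_le_mul_of_nonneg_right (le_max_left _ _) hbz.le
    linarith
  have hle : (n : ℤ) * b ≤ max (a + b) 0 := by
    rw [hn]
    rcases le_total (a / (b : ℤ) + 1) 0 with h0 | h0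
    · rw [max_eq_right h0, zero_mul]
      exact le_max_right _ _
    · rw [max_eq_left h0]
      refine le_trans ?_ (le_max_left _ _)
      linarith
  have h3 := h0_le_aux k hdim hreg p hp hI hdp b n G s a hG h hlt
  have hs0 : (0 : ℤ) ≤ (s : ℤ) := Int.natCast_nonneg s
  calc (b : ℤ) * (Module.finrank k (Coh.HH X G 0) : ℤ)
      ≤ (b : ℤ) * ((s : ℤ) * n) := mul_le_mul_of_nonneg_left h3 hbz.le
    _ = (s : ℤ) * ((n : ℤ) * b) := by ring
    _ ≤ (s : ℤ) * max (a + b) 0 := mul_le_mul_of_nonneg_left hle hs0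

end Groth.Agent.Lib.T2H9.VBSlopeLE
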