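import Mathlib
import Groth.Prelude
import Groth.Agent.Lib.T2H9VBSlopeLE
import Groth.Agent.Lib.T2H9VBNormB
import Groth.Agent.Lib.T2H6CurveAmple
import Groth.Agent.Lib.T2H6TensorFree
import Groth.Agent.Lib.T2H5GenIsoA
import Groth.Agent.Lib.T2H6CurveLinSer
import Groth.Agent.Lib.T2H6CurveSub

/-!
# A uniform `h⁰` criterion for slope-semistability of quotients of `O^N` on a curve (helper9): S18840
-/

set_option autoImplicit false
set_option linter.style.haveILetI false
set_option linter.unusedSectionVars false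
set_option linter.unusedVariables false
universe u

open CategoryTheory CategoryTheory.Limits AlgebraicGeometry

namespace Groth.Agent.Lib.T2H9.VBLePotier

open Groth.Agent.Lib.T2H5.Twist Groth.Agent.Lib.T2H9.TensorInv Groth.Agent.Lib.T2H6.CurveSerre
  Groth.Agent.Lib.T2H6.HHLin Groth.Agent.Lib.T2H9.VBSimple Groth.Agent.Lib.T2H9.VBNorm
  Groth.Agent.Lib.T2H6.PtTwistA Groth.Agent.Lib.T2H6.TensorPows Groth.Agent.Lib.T2H6.AmpleCrit
  Groth.Agent.Lib.T2H9.VBSlopeLE Groth.Agent.Lib.T2H9.CurveDual Groth.Agent.Lib.T2H9.CurveOmega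

variable (k : Type u) [Field k] {X : Scheme.{u}} [X.Over (Spec (CommRingCat.of k))]

include k in
/-- cohomology of a finite coproduct vanishes if that of the summands does. -/
theorem subsingleton_HH_sigma {J : Type} [Finite J] (E : J → X.Modules) (i : ℕ)
    (h : ∀ j, Subsingleton (Coh.HH X (E j) i)) : Subsingleton (Coh.HH X (∐ E) i) := by
  classical
  have := Fintype.ofFinite J
  have hsum : ∑ j, Sigma.π E j ≫ Sigma.ι E j = 𝟙 (∐ E) := by
    apply Sigma.hom_ext
    intro b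
    rw [Preadditive.comp_sum, Category.comp_id]
    rw [Finset.sum_eq_single b]
    · rw [← Category.assoc, Sigma.ι_π_eq_id, Category.id_comp]
    · intro c _ hc
      rw [← Category.assoc, Sigma.ι_π_of_ne E (Ne.symm hc), zero_comp]
    · intro hb
      exact absurd (Finset.mem_univ b) hb
  have hadd : ∀ (s : Finset J) (x : Coh.HH X (∐ E) i),
      Canon.HHlin k (∑ j ∈ s, Sigma.π E j ≫ Sigma.ι E j) i x = 0 := by
    intro s
    induction s using Finset.induction_on with
    | empty =>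
      intro x
      rw [Finset.sum_empty, HHlin_zero]
      rfl
    | insert a s ha ih =>
      intro x
      rw [Finset.sum_insert ha, HHlin_add, LinearMap.add_apply, ih x, add_zero, HHlin_comp_apply]
      have : Canon.HHlin k (Sigma.π E a) i x = 0 := @Subsingleton.elim _ (h a) _ _
      rw [this, map_zero]
  refine ⟨fun x y => ?_⟩
  have hx : ∀ z : Coh.HH X (∐ E) i, z = 0 := by
    intro z
    have h1 := hadd Finset.univ z
    rw [hsum, HHlin_id] at h1
    exact h1
  rw [hx x, hx y]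

variable [IsProper (X ↘ Spec (CommRingCat.of k))] [IsIntegral X]

include k in
/-- `H¹` of a twist of a quotient of `O^N` by an invertible module with vanishing `H¹` vanishes. -/
theorem h1_twist_of_epi (hdim : topologicalKrullDim X = 1) (N : ℕ) (F : X.Modules) (hF : Coh.IsCoh F)
    (q : FlatMod.freeMod X N ⟶ F) [Epi q] (M : X.Modules) (hM : PicF.IsInvertible M)
    (h1 : Subsingleton (Coh.HH X M 1)) : Subsingleton (Coh.HH X (CohB1.tensorMod F M) 1) := by
  haveI : IsNoetherian X := Groth.Agent.Lib.T2H6.CurveSatur.isNoetherian_of_proper k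
  have hMc := Groth.Agent.Lib.T2H6.CurveDeg.isCoh_of_isInvertible M hM
  have hOc : Coh.IsCoh (Coh.structureModule X) := Groth.Agent.Lib.T2H5.GenIsoF.isCoh_structureModule
  have hfree : Coh.IsCoh (FlatMod.freeMod X N) :=
    Groth.Agent.Lib.T2H5.GenIsoA.isCoh_sigma _ (fun _ => hOc)
  have hAc := Groth.Agent.Lib.T2H6.TensorDeg.isCoh_tensor _ M hfree hMc
  have hFMc := Groth.Agent.Lib.T2H6.TensorDeg.isCoh_tensor F M hF hMc
  obtain ⟨e1⟩ := Groth.Agent.Lib.T2H6.TensorFree.nonempty_braidIso' (FlatMod.freeMod X N) M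
  obtain ⟨e2⟩ := Groth.Agent.Lib.T2H6.TensorFree.nonempty_tensor_iso_of_free M (FlatMod.freeMod X N) N
    (Iso.refl _)
  have hA1 : Subsingleton (Coh.HH X (CohB1.tensorMod (FlatMod.freeMod X N) M) 1) := by
    have := subsingleton_HH_sigma k (fun _ : Fin N => M) 1 (fun _ => h1)
    exact (HHequiv k (e1 ≪≫ e2) 1).toEquiv.subsingleton
  haveI := preservesFiniteColimits_tr (X := X) M
  haveI : (tr M).PreservesEpimorphisms :=
    CategoryTheory.preservesEpimorphisms_of_preservesColimitsOfShape _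
  have hepi : Epi ((tr M).map q) := Functor.map_epi (tr M) q
  obtain ⟨g, hg⟩ : ∃ g : CohB1.tensorMod (FlatMod.freeMod X N) M ⟶ CohB1.tensorMod F M,
    g = (tr M).map q := ⟨_, rfl⟩
  haveI : Epi g := hg ▸ hepi
  have hS : (ShortComplex.mk (kernel.ι g) g (kernel.condition g)).ShortExact :=
    { exact := ShortComplex.exact_of_f_is_kernel _ (kernelIsKernel g)
      mono_f := inferInstanceAs (Mono (kernel.ι g))
      epi_g := inferInstanceAs (Epi g) }
  have hKc := Groth.Agent.Lib.T2H5.GenIsoB.isCoh_kernel g hAc hFMc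
  haveI := hKc.1
  have h2 := Groth.Agent.Lib.T2H6.CurveVanish.subsingleton_HH_of_two_le k hdim (kernel g) 2 le_rfl
  have hsurj := surjective_g k _ hS 1 h2
  refine ⟨fun x y => ?_⟩
  obtain ⟨x', rfl⟩ := hsurj x
  obtain ⟨y', rfl⟩ := hsurj y
  rw [@Subsingleton.elim _ hA1 x' y']

/-- an invertible module has all subbundles of slope at most its degree. -/
theorem slopeLE_of_isInvertible (hdim : topologicalKrullDim X = 1)
    (h0 : Module.finrank k (Coh.HH X (Coh.structureModule X) 0) = 1)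
    (Q : X.Modules) (hQ : PicF.IsInvertible Q) : SlopeLE k Q (Curv2.deg k X Q 1) 1 := by
  intro F r' i hi hr' hF
  haveI := hi
  have hQ1 := Groth.Agent.Lib.Helper23.SecTw.isFinLocFreeOfRank_one_of_isInvertible Q hQ
  have hle := Groth.Agent.Lib.T2H6.CurveSub.rank_le_of_mono i r' 1 hF hQ1
  have hr1 : r' = 1 := by omega
  subst hr1
  have hFinv : PicF.IsInvertible F := Groth.Agent.Lib.T2H6.CurveExt.isInvertible_of_rank_one _ hF
  have hine : i ≠ 0 := by
    intro h
    apply id_ne_zero_of_isInvertible k h0 F hFinv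
    rw [← cancel_mono i, h, comp_zero, comp_zero]
  have h := Groth.Agent.Lib.T2H6.CurveDeg.deg_le k hdim hFinv hQ i hine
  push_cast
  linarith

/-- the criterion implies the slope inequality (when `H¹(G) = 0`). -/
theorem deg_le_of_h0_le (hdim : topologicalKrullDim X = 1) (G : X.Modules) (r : ℕ)
    (hG : FlatMod.IsFinLocFreeOfRank r G) (hH1 : Subsingleton (Coh.HH X G 1))
    (G' : X.Modules) (r' : ℕ) (hG' : FlatMod.IsFinLocFreeOfRank r' G')
    (hcrit : Module.finrank k (Coh.HH X G' 0) * r ≤ Module.finrank k (Coh.HH X G 0) * r') :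
    Curv2.deg k X G' r' * (r : ℤ) ≤ Curv2.deg k X G r * (r' : ℤ) := by
  have hGc := Groth.Agent.Lib.T2H6.RankAdd.isCoh_of_isFinLocFreeOfRank G r hG
  have hG'c := Groth.Agent.Lib.T2H6.RankAdd.isCoh_of_isFinLocFreeOfRank G' r' hG'
  haveI := hGc.1
  haveI := hG'c.1
  have e1 := Groth.Agent.Lib.T2H6.CurveRR.euler_eq_sub k hdim G
  rw [Module.finrank_zero_of_subsingleton (M := Coh.HH X G 1)] at e1
  have e2 := Groth.Agent.Lib.T2H6.CurveSub.euler_le_h0 k hdim G'
  have hd1 : Curv2.deg k X G r = Curv2.euler k X G - r * Curv2.euler k X (Coh.structureModule X) := rfl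
  have hd2 : Curv2.deg k X G' r' =
      Curv2.euler k X G' - r' * Curv2.euler k X (Coh.structureModule X) := rfl
  have hc : (Module.finrank k (Coh.HH X G' 0) : ℤ) * r ≤ (Module.finrank k (Coh.HH X G 0) : ℤ) * r' := by
    exact_mod_cast hcrit
  have hr0 : (0 : ℤ) ≤ (r : ℤ) := Int.natCast_nonneg r
  have h3 := mul_le_mul_of_nonneg_right e2 hr0
  rw [hd1, hd2]
  push_cast at e1
  nlinarith

/-- a semistable bundle `G` of large degree with `H¹(G) = 0` satisfies the criterion. -/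
theorem h0_le_of_semistable (hdim : topologicalKrullDim X = 1)
    (hreg : ∀ x : X, IsRegularLocalRing (X.presheaf.stalk x))
    (h0 : Module.finrank k (Coh.HH X (Coh.structureModule X) 0) = 1)
    (p : X) (hp : IsClosed ({p} : Set X))
    (hI : PicF.IsInvertible (ClSub.idealMod (ptIdeal p hp)))
    (hdp : Curv2.deg k X (ClSub.idealMod (ptIdeal p hp)) 1 = -1)
    (G : X.Modules) (r : ℕ) (hr : 0 < r)
    (hG : FlatMod.IsFinLocFreeOfRank r G) (hss : ModFun.IsSlopeSemistable k X G r)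
    (hH1 : Subsingleton (Coh.HH X G 1))
    (hbig : (r : ℤ) * ((r : ℤ) * (Curv2.genus k X : ℤ) + max (2 * (Curv2.genus k X : ℤ) - 1) 0 - 1) ≤
      Curv2.deg k X G r)
    (G' : X.Modules) (r' : ℕ) (i' : G' ⟶ G) [Mono i'] (hr' : 0 < r')
    (hG' : FlatMod.IsFinLocFreeOfRank r' G') :
    Module.finrank k (Coh.HH X G' 0) * r ≤ Module.finrank k (Coh.HH X G 0) * r' := by
  haveI : IsNoetherian X := Groth.Agent.Lib.T2H6.CurveSatur.isNoetherian_of_proper k
  have hGc := Groth.Agent.Lib.T2H6.RankAdd.isCoh_of_isFinLocFreeOfRank G r hG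
  have hG'c := Groth.Agent.Lib.T2H6.RankAdd.isCoh_of_isFinLocFreeOfRank G' r' hG'
  haveI := hGc.1
  haveI := hG'c.1
  haveI : (Coh.structureModule X).IsQuasicoherent :=
    (Groth.Agent.Lib.T2H5.GenIsoF.isCoh_structureModule (Z := X)).1
  have hsub : r' ≤ r := Groth.Agent.Lib.T2H6.CurveSub.rank_le_of_mono i' r' r hG' hG
  have eO := Groth.Agent.Lib.T2H6.CurveRR.euler_eq_sub k hdim (Coh.structureModule X)
  have hgg : (Module.finrank k (Coh.HH X (Coh.structureModule X) 1) : ℤ) = (Curv2.genus k X : ℤ) := rfl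
  rw [h0, hgg] at eO
  have e1 := Groth.Agent.Lib.T2H6.CurveRR.euler_eq_sub k hdim G
  rw [Module.finrank_zero_of_subsingleton (M := Coh.HH X G 1)] at e1
  have hd1 : Curv2.deg k X G r = Curv2.euler k X G - r * Curv2.euler k X (Coh.structureModule X) := rfl
  have hd2 : Curv2.deg k X G' r' =
      Curv2.euler k X G' - r' * Curv2.euler k X (Coh.structureModule X) := rfl
  have hg0 : (0 : ℤ) ≤ (Curv2.genus k X : ℤ) := Int.natCast_nonneg _
  have hr0 : (0 : ℤ) < (r : ℤ) := by exact_mod_cast hr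
  have hr'0 : (0 : ℤ) < (r' : ℤ) := by exact_mod_cast hr'
  have hsubz : (r' : ℤ) ≤ (r : ℤ) := by exact_mod_cast hsub
  suffices hz : (Module.finrank k (Coh.HH X G' 0) : ℤ) * r ≤ (Module.finrank k (Coh.HH X G 0) : ℤ) * r' by
    exact_mod_cast hz
  by_cases h1 : Subsingleton (Coh.HH X G' 1)
  · have e2 := Groth.Agent.Lib.T2H6.CurveRR.euler_eq_sub k hdim G'
    rw [Module.finrank_zero_of_subsingleton (M := Coh.HH X G' 1)] at e2
    have hs := hss G' r' i' inferInstance hr' hG'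
    rw [hd1, hd2] at hs
    push_cast at e1 e2 eO
    nlinarith
  · rw [not_subsingleton_iff_nontrivial] at h1
    obtain ⟨ω, tr', hd, hω, hinv, hdeg, -, -⟩ := exists_omega k hdim hreg h0 (X := X)
    obtain ⟨ψ, hψ⟩ := exists_hom_ne_zero hd G' hG'c.1 h1
    have hω1 := Groth.Agent.Lib.Helper23.SecTw.isFinLocFreeOfRank_one_of_isInvertible ω hinv
    obtain ⟨rK, rI, hK, hIm, hrk, hrI, hdE⟩ :=
      Groth.Agent.Lib.T2H6.CurveVB.ker_im_data k hdim hreg ψ r' 1 hG' hω1
    have hrI0 : rI ≠ 0 := by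
      intro h
      subst h
      apply hψ
      rw [← Abelian.image.fac ψ]
      have hz := Groth.Agent.Lib.T2H6.CurveVB.isZero_of_rank_zero _ hIm
      rw [hz.eq_of_tgt (Abelian.factorThruImage ψ) 0, zero_comp]
    have hrI1 : rI = 1 := by omega
    subst hrI1
    have hQinv : PicF.IsInvertible (Abelian.image ψ) :=
      Groth.Agent.Lib.T2H6.CurveExt.isInvertible_of_rank_one _ hIm
    have hιne : Abelian.image.ι ψ ≠ 0 := by
      intro h
      apply hψ
      rw [← Abelian.image.fac ψ, h, comp_zero]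
    have hdQ := Groth.Agent.Lib.T2H6.CurveDeg.deg_le k hdim hQinv hinv (Abelian.image.ι ψ) hιne
    rw [hdeg] at hdQ
    -- `h⁰(G') ≤ h⁰(ker) + h⁰(im)`
    have hcount := Groth.Agent.Lib.T2H6.CurveLinSer.finrank_H0_eq k
      (Groth.Agent.Lib.T2H6.CurveVB.kerImSC ψ) (Groth.Agent.Lib.T2H6.CurveVB.kerImSC_shortExact ψ) hG'c
    have hQc := Groth.Agent.Lib.T2H6.CurveDeg.isCoh_of_isInvertible _ hQinv
    haveI : Module.Finite k (Coh.HH X (Groth.Agent.Lib.T2H6.CurveVB.kerImSC ψ).X₃ 0) :=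
      Groth.Agent.Lib.T2H6.EulerField.finite_HH k X _ hQc 0
    have hrange : Module.finrank k (LinearMap.range
        (Canon.HHlin k (Groth.Agent.Lib.T2H6.CurveVB.kerImSC ψ).g 0)) ≤
        Module.finrank k (Coh.HH X (Abelian.image ψ) 0) := Submodule.finrank_le _
    change Module.finrank k (Coh.HH X G' 0) = Module.finrank k (Coh.HH X (kernel ψ) 0) + _ at hcount
    -- bound for the image
    have hQb := mul_h0_le k hdim hreg p hp hI hdp 1 one_pos (Abelian.image ψ) 1 _ hIm
      (slopeLE_of_isInvertible k hdim h0 _ hQinv)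
    -- bound for the kernel
    haveI : Mono (kernel.ι ψ ≫ i') := mono_comp _ _
    have hKs : SlopeLE k (kernel ψ) (Curv2.deg k X G r) r :=
      slopeLE_of_mono k (kernel.ι ψ ≫ i') (slopeLE_of_semistable k hss)
    have hKb := mul_h0_le k hdim hreg p hp hI hdp r hr (kernel ψ) rK _ hK hKs
    -- arithmetic
    have hB : max (Curv2.deg k X (Abelian.image ψ) 1 + ((1 : ℕ) : ℤ)) 0 ≤
        max (2 * (Curv2.genus k X : ℤ) - 1) 0 := by
      apply max_le_max _ le_rfl
      push_cast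
      linarith
    have hmax : max (Curv2.deg k X G r + (r : ℤ)) 0 = Curv2.deg k X G r + r := by
      apply max_eq_left
      have hB0' : (0 : ℤ) ≤ max (2 * (Curv2.genus k X : ℤ) - 1) 0 := le_max_right _ _
      have h8 : (0 : ℤ) ≤ (r : ℤ) * ((r : ℤ) * (Curv2.genus k X : ℤ) + max (2 * (Curv2.genus k X : ℤ) - 1) 0) :=
        mul_nonneg hr0.le (add_nonneg (mul_nonneg hr0.le hg0) hB0')
      have h9 : (r : ℤ) * ((r : ℤ) * (Curv2.genus k X : ℤ) + max (2 * (Curv2.genus k X : ℤ) - 1) 0 - 1) =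
          (r : ℤ) * ((r : ℤ) * (Curv2.genus k X : ℤ) + max (2 * (Curv2.genus k X : ℤ) - 1) 0) - r := by ring
      linarith
    rw [hmax] at hKb
    have hrKz : (rK : ℤ) = (r' : ℤ) - 1 := by
      have : r' = rK + 1 := hrk
      push_cast [this]
      ring
    have hB0 : (0 : ℤ) ≤ max (2 * (Curv2.genus k X : ℤ) - 1) 0 := le_max_right _ _
    set B := max (2 * (Curv2.genus k X : ℤ) - 1) 0 with hBdef
    have hcz : (Module.finrank k (Coh.HH X G' 0) : ℤ) ≤
        (Module.finrank k (Coh.HH X (kernel ψ) 0) : ℤ) +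
          (Module.finrank k (Coh.HH X (Abelian.image ψ) 0) : ℤ) := by
      have : Module.finrank k (Coh.HH X G' 0) ≤ Module.finrank k (Coh.HH X (kernel ψ) 0) +
          Module.finrank k (Coh.HH X (Abelian.image ψ) 0) := by omega
      exact_mod_cast this
    have hQb' : (Module.finrank k (Coh.HH X (Abelian.image ψ) 0) : ℤ) ≤ B := by
      push_cast at hQb hB
      linarith
    rw [hrKz] at hKb
    push_cast at e1 eO
    -- `h⁰(G) = deg G + r (1 - g)`
    have hG0 : (Module.finrank k (Coh.HH X G 0) : ℤ) =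
        Curv2.deg k X G r + r * (1 - (Curv2.genus k X : ℤ)) := by
      rw [hd1, eO]; linarith
    rw [hG0]
    have hmul : (Module.finrank k (Coh.HH X G' 0) : ℤ) * r ≤
        ((r' : ℤ) - 1) * (Curv2.deg k X G r + r) + r * B := by
      have h5 := mul_le_mul_of_nonneg_right hcz hr0.le
      have h6 := mul_le_mul_of_nonneg_left hQb' hr0.le
      nlinarith
    have hfin : ((r' : ℤ) - 1) * (Curv2.deg k X G r + r) + r * B ≤
        (Curv2.deg k X G r + r * (1 - (Curv2.genus k X : ℤ))) * r' := by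
      have h7 : (r : ℤ) * (r' : ℤ) * (Curv2.genus k X : ℤ) ≤ (r : ℤ) * (r : ℤ) * (Curv2.genus k X : ℤ) := by
        apply mul_le_mul_of_nonneg_right _ hg0
        exact mul_le_mul_of_nonneg_left hsubz hr0.le
      nlinarith
    linarith

/-- Euler characteristic of a twist of a bundle. -/
theorem euler_twist (hdim : topologicalKrullDim X = 1) (L : X.Modules) (hL : PicF.IsInvertible L)
    (F : X.Modules) (r : ℕ) (hF : FlatMod.IsFinLocFreeOfRank r F) (m : ℕ) :
    Curv2.deg k X (ShStab.twist X L F m) r =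
      (r : ℤ) * ((m : ℤ) * Curv2.deg k X L 1) + Curv2.deg k X F r := by
  have hLm := Groth.Agent.Lib.Helper23.SecTw.isInvertible_tensorPow hL m
  have hLm1 := Groth.Agent.Lib.Helper23.SecTw.isFinLocFreeOfRank_one_of_isInvertible _ hLm
  have h := Groth.Agent.Lib.T2H6.TensorDegGen.deg_tensor k hdim.le r 1 F (CohB1.tensorPow L m) hF hLm1
  have hr1 : r * 1 = r := mul_one r
  rw [hr1, deg_tensorPow k hdim L hL m] at h
  change Curv2.deg k X (CohB1.tensorMod F (CohB1.tensorPow L m)) r = _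
  rw [h]
  push_cast
  ring

variable [IsAlgClosed k]

/-- **S18840.** -/
theorem exists_twist_criterion (hdim : topologicalKrullDim X = 1)
    (hreg : ∀ x : X, IsRegularLocalRing (X.presheaf.stalk x))
    (L : X.Modules) (hLi : PicF.IsInvertible L) (hL : CohB1.IsAmple L) (N : ℕ) (P : Polynomial ℚ) :
    ∃ l : ℕ, ∀ (r : ℕ) (F : X.Modules) (q : FlatMod.freeMod X N ⟶ F),
      0 < r → FlatMod.IsFinLocFreeOfRank r F → Epi q → ShStab.IsHilbPoly k X L F P →
        (ModFun.IsSlopeSemistable k X F r ↔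
          ∀ (F' : X.Modules) (r' : ℕ) (i : F' ⟶ F), Mono i → 0 < r' → FlatMod.IsFinLocFreeOfRank r' F' →
            (Module.finrank k (Coh.HH X (ShStab.twist X L F' l) 0) : ℚ) / (r' : ℚ) ≤
              (Module.finrank k (Coh.HH X (ShStab.twist X L F l) 0) : ℚ) / (r : ℚ)) := by
  haveI : IsNoetherian X := Groth.Agent.Lib.T2H6.CurveSatur.isNoetherian_of_proper k
  have h0 := Groth.Agent.Lib.T2H6.PosI.finrank_HH_zero_structureModule k X
  obtain ⟨p, -, hp, hdvr, hrat⟩ := Groth.Agent.Lib.T2H6.PtTwistD.exists_dvr_point k X hdim ⊤ trivial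
  have hI := Groth.Agent.Lib.T2H6.PtTwistD.isInvertible_idealMod_ptIdeal X hdim p hp hdvr
  have hdp := Groth.Agent.Lib.T2H6.PtTwistD.deg_idealMod_ptIdeal k p hp hrat
  have hdL : 0 < Curv2.deg k X L 1 := Groth.Agent.Lib.T2H6.CurveAmple.deg_pos_of_isAmple k hdim L hL
  have hdLq : (0 : ℚ) < (Curv2.deg k X L 1 : ℚ) := by exact_mod_cast hdL
  -- the choice of `l`
  obtain ⟨rP, hrP⟩ : ∃ rP : ℚ, rP = (P.eval 1 - P.eval 0) / (Curv2.deg k X L 1 : ℚ) := ⟨_, rfl⟩
  obtain ⟨DP, hDP⟩ : ∃ DP : ℚ, DP = P.eval 0 - rP * (Curv2.euler k X (Coh.structureModule X) : ℚ) :=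
    ⟨_, rfl⟩
  obtain ⟨l₀, hl₀⟩ := exists_nat_ge ((rP * (rP * (Curv2.genus k X : ℚ) +
    ((max (2 * (Curv2.genus k X : ℤ) - 1) 0 : ℤ) : ℚ) - 1) - DP) / (rP * (Curv2.deg k X L 1 : ℚ)))
  refine ⟨l₀ + 2 * Curv2.genus k X, ?_⟩
  intro r F q hr hF hq hP
  haveI := hq
  have hFc := Groth.Agent.Lib.T2H6.RankAdd.isCoh_of_isFinLocFreeOfRank F r hF
  have hrq : (0 : ℚ) < (r : ℚ) := by exact_mod_cast hr
  -- identify `rP` and `DP`
  have hE : ∀ m : ℕ, (P.eval (m : ℚ)) = (r : ℚ) * ((m : ℚ) * (Curv2.deg k X L 1 : ℚ)) +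
      (Curv2.deg k X F r : ℚ) + (r : ℚ) * (Curv2.euler k X (Coh.structureModule X) : ℚ) := by
    intro m
    rw [← hP m]
    have h1 := euler_twist k hdim L hLi F r hF m
    have h2 : Curv2.deg k X (ShStab.twist X L F m) r = Curv2.euler k X (ShStab.twist X L F m) -
        r * Curv2.euler k X (Coh.structureModule X) := rfl
    rw [h2] at h1
    have h3 : Curv2.euler k X (ShStab.twist X L F m) = (r : ℤ) * ((m : ℤ) * Curv2.deg k X L 1) +
        Curv2.deg k X F r + r * Curv2.euler k X (Coh.structureModule X) := by linarith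
    rw [h3]
    push_cast
    ring
  have hP0 := hE 0
  have hP1 := hE 1
  simp only [Nat.cast_zero, Nat.cast_one, zero_mul, mul_zero, zero_add, one_mul] at hP0 hP1
  have hrPr : rP = (r : ℚ) := by
    rw [hrP, hP0, hP1]
    field_simp
    ring
  have hDPd : DP = (Curv2.deg k X F r : ℚ) := by
    rw [hDP, hrPr, hP0]
    ring
  rw [hrPr, hDPd] at hl₀
  -- the twisting module
  obtain ⟨l, hl⟩ : ∃ l : ℕ, l = l₀ + 2 * Curv2.genus k X := ⟨_, rfl⟩
  rw [← hl]
  have hLl := Groth.Agent.Lib.Helper23.SecTw.isInvertible_tensorPow hLi l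
  have hLl1 := Groth.Agent.Lib.Helper23.SecTw.isFinLocFreeOfRank_one_of_isInvertible _ hLl
  have hdLl := deg_tensorPow k hdim L hLi l
  have hlz : (l : ℤ) = (l₀ : ℤ) + 2 * (Curv2.genus k X : ℤ) := by rw [hl]; push_cast; ring
  have hl0z : (0 : ℤ) ≤ (l₀ : ℤ) := Int.natCast_nonneg _
  have hg0 : (0 : ℤ) ≤ (Curv2.genus k X : ℤ) := Int.natCast_nonneg _
  have hH1L : Subsingleton (Coh.HH X (CohB1.tensorPow L l) 1) := by
    apply Groth.Agent.Lib.T2H9.VBNorm.h1_subsingleton_of_deg_gt k hdim h0 _ hLl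
    rw [hdLl, hlz]
    nlinarith
  have hG : FlatMod.IsFinLocFreeOfRank r (ShStab.twist X L F l) := by
    have h := Groth.Agent.Lib.T2H9.TensorRank.isFinLocFreeOfRank_tensor F _ r 1 hF hLl1
    rwa [mul_one] at h
  have hH1 : Subsingleton (Coh.HH X (ShStab.twist X L F l) 1) :=
    h1_twist_of_epi k hdim N F hFc q _ hLl hH1L
  have hdG := euler_twist k hdim L hLi F r hF l
  -- the key inequality
  have hbig : (r : ℤ) * ((r : ℤ) * (Curv2.genus k X : ℤ) + max (2 * (Curv2.genus k X : ℤ) - 1) 0 - 1) ≤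
      Curv2.deg k X (ShStab.twist X L F l) r := by
    rw [hdG]
    have hpos : (0 : ℚ) < (r : ℚ) * (Curv2.deg k X L 1 : ℚ) := mul_pos hrq hdLq
    rw [div_le_iff₀ hpos] at hl₀
    have h1 : ((r : ℤ) * ((r : ℤ) * (Curv2.genus k X : ℤ) + max (2 * (Curv2.genus k X : ℤ) - 1) 0 - 1) -
        Curv2.deg k X F r : ℤ) ≤ (l₀ : ℤ) * ((r : ℤ) * Curv2.deg k X L 1) := by
      have : (((r : ℤ) * ((r : ℤ) * (Curv2.genus k X : ℤ) + max (2 * (Curv2.genus k X : ℤ) - 1) 0 - 1) -
          Curv2.deg k X F r : ℤ) : ℚ) ≤ (((l₀ : ℤ) * ((r : ℤ) * Curv2.deg k X L 1) : ℤ) : ℚ) := by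
        push_cast
        push_cast at hl₀
        linarith
      exact_mod_cast this
    have h2 : (l₀ : ℤ) * ((r : ℤ) * Curv2.deg k X L 1) ≤ (l : ℤ) * ((r : ℤ) * Curv2.deg k X L 1) := by
      apply mul_le_mul_of_nonneg_right _ (by positivity)
      rw [hlz]; linarith
    have hr0 : (0 : ℤ) < (r : ℤ) := by exact_mod_cast hr
    nlinarith
  have hlfL : FlatMod.IsFinLocFree (CohB1.tensorPow L l) := fun x => by
    obtain ⟨U, hx, h⟩ := hLl1 x
    exact ⟨U, 1, hx, h⟩
  haveI := Groth.Agent.Lib.T2H6.TensorDeg.preservesFiniteLimits_tr_of_isFinLocFree _ hlfL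
  haveI : (tr (CohB1.tensorPow L l)).PreservesMonomorphisms :=
    CategoryTheory.preservesMonomorphisms_of_preservesLimitsOfShape _
  have hsub : ∀ (F' : X.Modules) (r' : ℕ) (i : F' ⟶ F), Mono i → FlatMod.IsFinLocFreeOfRank r' F' →
      ∃ i' : ShStab.twist X L F' l ⟶ ShStab.twist X L F l, Mono i' ∧
        FlatMod.IsFinLocFreeOfRank r' (ShStab.twist X L F' l) := by
    intro F' r' i hi hF'
    haveI := hi
    refine ⟨(tr (CohB1.tensorPow L l)).map i, Functor.map_mono (tr (CohB1.tensorPow L l)) i, ?_⟩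
    have h := Groth.Agent.Lib.T2H9.TensorRank.isFinLocFreeOfRank_tensor F' _ r' 1 hF' hLl1
    rwa [mul_one] at h
  constructor
  · intro hss F' r' i hi hr' hF'
    obtain ⟨i', hi', hG'⟩ := hsub F' r' i hi hF'
    haveI := hi'
    have hssG : ModFun.IsSlopeSemistable k X (ShStab.twist X L F l) r :=
      Groth.Agent.Lib.T2H9.VBH0Bound.semistable_tensor k hdim F r hF _ hLl hss
    have h := h0_le_of_semistable k hdim hreg h0 p hp hI hdp _ r hr hG hssG hH1 hbig _ r' i' hr' hG'
    have hr'q : (0 : ℚ) < (r' : ℚ) := by exact_mod_cast hr'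
    rw [div_le_div_iff₀ hr'q hrq]
    exact_mod_cast h
  · intro hcrit F' r' i hi hr' hF'
    obtain ⟨i', hi', hG'⟩ := hsub F' r' i hi hF'
    have hc := hcrit F' r' i hi hr' hF'
    have hr'q : (0 : ℚ) < (r' : ℚ) := by exact_mod_cast hr'
    rw [div_le_div_iff₀ hr'q hrq] at hc
    have hc' : Module.finrank k (Coh.HH X (ShStab.twist X L F' l) 0) * r ≤
        Module.finrank k (Coh.HH X (ShStab.twist X L F l) 0) * r' := by exact_mod_cast hc
    have h := deg_le_of_h0_le k hdim _ r hG hH1 _ r' hG' hc'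
    rw [hdG, euler_twist k hdim L hLi F' r' hF' l] at h
    nlinarith

end Groth.Agent.Lib.T2H9.VBLePotier
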