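import Mathlib
import Groth.Prelude
import Groth.Agent.Lib.T2H9VBFibre
import Groth.Agent.Lib.T2H9VBSlopeTw
import Groth.Agent.Lib.T2H6PtTwistE
import Groth.Agent.Lib.T2H6PosI
import Groth.Agent.Lib.T2H9DVRSmooth
import Groth.Agent.Lib.Helper19ComplDVR
import Groth.Agent.Lib.T2H9TensorRank
import Groth.Agent.Lib.T2H6NefSES

/-!
# Nef bundles twisted by degree `≥ 2g` are globally generated (helper9): S17281
-/

set_option autoImplicit false
set_option linter.style.haveILetI false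
set_option linter.unusedSectionVars false
set_option linter.unusedVariables false
universe u

open CategoryTheory CategoryTheory.Limits AlgebraicGeometry

namespace Groth.Agent.Lib.T2H9.VBNef

open Groth.Agent.Lib.T2H5.Twist Groth.Agent.Lib.T2H9.TensorInv Groth.Agent.Lib.T2H6.CurveSerre
  Groth.Agent.Lib.T2H6.HHLin Groth.Agent.Lib.T2H9.VBSimple Groth.Agent.Lib.T2H9.CurveDual
  Groth.Agent.Lib.T2H6.CurveSS2 Groth.Agent.Lib.T2H9.CurveOmega Groth.Agent.Lib.T2H6.PtTwistA
  Groth.Agent.Lib.T2H6.TensorPows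

variable (k : Type u) [Field k] {X : Scheme.{u}} [X.Over (Spec (CommRingCat.of k))]
  [IsProper (X ↘ Spec (CommRingCat.of k))] [IsIntegral X]

/-- the image of a nonzero map from a bundle `E` to an invertible module `L'` is an invertible quotient of `E` of
degree `≤ deg L'`. -/
theorem exists_quot_of_hom (hdim : topologicalKrullDim X = 1)
    (hreg : ∀ x : X, IsRegularLocalRing (X.presheaf.stalk x))
    (r : ℕ) (E : X.Modules) (hE : FlatMod.IsFinLocFreeOfRank r E)
    (L' : X.Modules) (hinv : PicF.IsInvertible L') (φ : E ⟶ L') (hφ : φ ≠ 0) :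
    ∃ (M : X.Modules) (q : E ⟶ M), PicF.IsInvertible M ∧ Epi q ∧
      Curv2.deg k X M 1 ≤ Curv2.deg k X L' 1 := by
  have hω1 := Groth.Agent.Lib.Helper23.SecTw.isFinLocFreeOfRank_one_of_isInvertible L' hinv
  obtain ⟨rK, rI, hK, hI, hrk, hrI, hdE⟩ :=
    Groth.Agent.Lib.T2H6.CurveVB.ker_im_data k hdim hreg φ r 1 hE hω1
  have hrI0 : rI ≠ 0 := by
    intro h
    subst h
    apply hφ
    rw [← Abelian.image.fac φ]
    have hz := Groth.Agent.Lib.T2H6.CurveVB.isZero_of_rank_zero _ hI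
    rw [hz.eq_of_tgt (Abelian.factorThruImage φ) 0, zero_comp]
  have hrI1 : rI = 1 := by omega
  subst hrI1
  have hIinv : PicF.IsInvertible (Abelian.image φ) :=
    Groth.Agent.Lib.T2H6.CurveExt.isInvertible_of_rank_one _ hI
  have hιne : Abelian.image.ι φ ≠ 0 := by
    intro h
    apply hφ
    rw [← Abelian.image.fac φ, h, comp_zero]
  have hle := Groth.Agent.Lib.T2H6.CurveDeg.deg_le k hdim hIinv hinv (Abelian.image.ι φ) hιne
  exact ⟨Abelian.image φ, Abelian.factorThruImage φ, hIinv, inferInstance, hle⟩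

/-- if `H¹(E ⊗ N) ≠ 0` with `N` invertible then `E` has an invertible quotient of degree `≤ 2g - 2 - deg N`. -/
theorem exists_quot_of_h1_tensor (hdim : topologicalKrullDim X = 1)
    (hreg : ∀ x : X, IsRegularLocalRing (X.presheaf.stalk x))
    (h0 : Module.finrank k (Coh.HH X (Coh.structureModule X) 0) = 1)
    (r : ℕ) (E : X.Modules) (hE : FlatMod.IsFinLocFreeOfRank r E)
    (N : X.Modules) (hN : PicF.IsInvertible N)
    (h1 : Nontrivial (Coh.HH X (CohB1.tensorMod E N) 1)) :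
    ∃ (M : X.Modules) (q : E ⟶ M), PicF.IsInvertible M ∧ Epi q ∧
      Curv2.deg k X M 1 ≤ 2 * (Curv2.genus k X : ℤ) - 2 - Curv2.deg k X N 1 := by
  obtain ⟨ω, tr', hd, hω, hinv, hdeg, -, -⟩ := exists_omega k hdim hreg h0 (X := X)
  have hEc := Groth.Agent.Lib.T2H6.RankAdd.isCoh_of_isFinLocFreeOfRank E r hE
  have hNc := Groth.Agent.Lib.T2H6.CurveDeg.isCoh_of_isInvertible N hN
  have hENc := Groth.Agent.Lib.T2H6.TensorDeg.isCoh_tensor E N hEc hNc
  obtain ⟨ψ, hψ⟩ := exists_hom_ne_zero hd (CohB1.tensorMod E N) hENc.1 h1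
  haveI := isEquivalence_tr (inv N) (isInvertible_inv N hN)
  let b : (tr (inv N)).obj (CohB1.tensorMod E N) ≅ E := (trCompIsoId (tensorInvIso N hN)).app E
  have hL' : PicF.IsInvertible (CohB1.tensorMod ω (inv N)) :=
    Groth.Agent.Lib.Helper23.SecTw.isInvertible_tensorMod hinv (isInvertible_inv N hN)
  obtain ⟨φ, hφdef⟩ : ∃ φ : E ⟶ CohB1.tensorMod ω (inv N), φ = b.inv ≫ (tr (inv N)).map ψ := ⟨_, rfl⟩
  have hφ : φ ≠ 0 := by
    intro h
    apply hψ
    apply (tr (inv N)).map_injective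
    rw [Functor.map_zero]
    have h2 : b.inv ≫ (tr (inv N)).map ψ = 0 := hφdef ▸ h
    rw [Iso.inv_comp_eq, comp_zero] at h2
    exact h2
  obtain ⟨M, q, hM, hq, hle⟩ := exists_quot_of_hom k hdim hreg r E hE _ hL' φ hφ
  refine ⟨M, q, hM, hq, ?_⟩
  rw [Groth.Agent.Lib.T2H6.PtTwistD.deg_tensor1 k hdim ω (inv N) hinv (isInvertible_inv N hN),
    Groth.Agent.Lib.T2H6.PtTwistD.deg_inv k hdim N hN, hdeg] at hle
  linarith

variable [IsAlgClosed k]

/-- **S17281** (internal form): a bundle all of whose invertible quotients have degree `≥ 0`, twisted by an invertible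
module of degree `≥ 2g`, is globally generated. -/
theorem isGloballyGenerated_tensor (hdim : topologicalKrullDim X = 1)
    (hreg : ∀ x : X, IsRegularLocalRing (X.presheaf.stalk x))
    (E : X.Modules) (hE : FlatMod.IsFinLocFree E)
    (hnef : ∀ (M : X.Modules), PicF.IsInvertible M → ∀ (q : E ⟶ M), Epi q → 0 ≤ Curv2.deg k X M 1)
    (H : X.Modules) (hH : PicF.IsInvertible H)
    (hdeg : 2 * (Curv2.genus k X : ℤ) ≤ Curv2.deg k X H 1) :
    Curv2.IsGloballyGenerated (CohB1.tensorMod E H) := by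
  haveI : IsNoetherian X := Groth.Agent.Lib.T2H6.CurveSatur.isNoetherian_of_proper k
  have h0 := Groth.Agent.Lib.T2H6.PosI.finrank_HH_zero_structureModule k X
  have hH1 := Groth.Agent.Lib.Helper23.SecTw.isFinLocFreeOfRank_one_of_isInvertible H hH
  have hHc := Groth.Agent.Lib.T2H6.CurveDeg.isCoh_of_isInvertible H hH
  have hEc : Coh.IsCoh E := Groth.Agent.Lib.T2H6.NefSES.isCoh_of_isFinLocFree E hE
  haveI := hEc.1
  obtain ⟨r, hEr⟩ : ∃ r, FlatMod.IsFinLocFreeOfRank r E :=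
    ⟨_, Groth.Agent.Lib.T2H6.CurveVB.exists_rank E hE⟩
  have hEHc := Groth.Agent.Lib.T2H6.TensorDeg.isCoh_tensor E H hEc hHc
  have hEHlf : FlatMod.IsFinLocFree (CohB1.tensorMod E H) := by
    have h := Groth.Agent.Lib.T2H9.TensorRank.isFinLocFreeOfRank_tensor E H r 1 hEr hH1
    intro x
    obtain ⟨U, hx, hU⟩ := h x
    exact ⟨U, _, hx, hU⟩
  apply Groth.Agent.Lib.T2H9.VBFibre.isGloballyGenerated_of_h1 _ hEHc hEHlf
  intro p hp
  by_contra hns
  rw [not_subsingleton_iff_nontrivial] at hns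
  have hd1 := Groth.Agent.Lib.T2H9.DVRSmooth.ringKrullDim_stalk_eq_one_of_isClosed X hdim p hp
  have hdvr : IsDiscreteValuationRing (X.presheaf.stalk p) :=
    ((Groth.Agent.Lib.Helper19.isDiscreteValuationRing_iff_regular_dim_one _).2 ⟨hreg p, hd1⟩).2
  have hI := Groth.Agent.Lib.T2H6.PtTwistD.isInvertible_idealMod_ptIdeal X hdim p hp hdvr
  have hdI := Groth.Agent.Lib.T2H6.PtTwistD.deg_idealMod_ptIdeal k p hp
    (Groth.Agent.Lib.T2H6.PtTwistC.surjective_resMap k X p hp)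
  have hN : PicF.IsInvertible (CohB1.tensorMod H (ClSub.idealMod (ptIdeal p hp))) :=
    Groth.Agent.Lib.Helper23.SecTw.isInvertible_tensorMod hH hI
  have hdN := Groth.Agent.Lib.T2H6.PtTwistD.deg_tensor1 k hdim H _ hH hI
  have e : CohB1.tensorMod (CohB1.tensorMod E H) (ClSub.idealMod (ptIdeal p hp)) ≅
      CohB1.tensorMod E (CohB1.tensorMod H (ClSub.idealMod (ptIdeal p hp))) := assocIso' E H _
  have hns' : Nontrivial (Coh.HH X (CohB1.tensorMod E
      (CohB1.tensorMod H (ClSub.idealMod (ptIdeal p hp)))) 1) :=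
    (HHequiv k e 1).symm.toEquiv.nontrivial
  obtain ⟨M, q, hM, hq, hle⟩ := exists_quot_of_h1_tensor k hdim hreg h0 r E hEr _ hN hns'
  have hpos := hnef M hM q hq
  rw [hdN, hdI] at hle
  linarith

end Groth.Agent.Lib.T2H9.VBNef
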