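import Mathlib
import Groth.Prelude
import Groth.Agent.Lib.T2H9DegDual
import Groth.Agent.Lib.T2H9DualRank
import Groth.Agent.Lib.T2H6CurveSatur

/-!
# A bundle of degree 0 with `Hom(E, F) = 0` for some `F` of slope `g - 1` is semistable (helper9): S18342
-/

set_option autoImplicit false
set_option linter.style.haveILetI false
set_option linter.unusedSectionVars false
set_option linter.unusedVariables false
universe u

open CategoryTheory CategoryTheory.Limits AlgebraicGeometry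

namespace Groth.Agent.Lib.T2H9.VBThetaSS

open Groth.Agent.Lib.T2H5.Twist Groth.Agent.Lib.T2H9.TensorInv Groth.Agent.Lib.T2H6.CurveSerre
  Groth.Agent.Lib.T2H6.HHLin Groth.Agent.Lib.T2H9.VBSimple Groth.Agent.Lib.T2H9.VBNorm
  Groth.Agent.Lib.Helper21.Dual Groth.Agent.Lib.T2H9.DualHom Groth.Agent.Lib.T2H9.VBSplit
  Groth.Agent.Lib.T2H9.DegDual

variable (k : Type u) [Field k] {X : Scheme.{u}} [X.Over (Spec (CommRingCat.of k))]
  [IsProper (X ↘ Spec (CommRingCat.of k))] [IsIntegral X]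

/-- if a bundle `Q` of rank `q > 0` has `deg Q · n < (deg F - n (g - 1)) · q`, there is a nonzero map `Q → F`. -/
theorem exists_hom_ne_zero_of_deg (hdim : topologicalKrullDim X = 1)
    (hreg : ∀ x : X, IsRegularLocalRing (X.presheaf.stalk x))
    (h0 : Module.finrank k (Coh.HH X (Coh.structureModule X) 0) = 1)
    (Q F : X.Modules) (q n : ℕ) (hQ : FlatMod.IsFinLocFreeOfRank q Q)
    (hF : FlatMod.IsFinLocFreeOfRank n F)
    (hdeg : Curv2.deg k X Q q * (n : ℤ) < (Curv2.deg k X F n - n * ((Curv2.genus k X : ℤ) - 1)) * q) :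
    ∃ φ : Q ⟶ F, φ ≠ 0 := by
  haveI : IsNoetherian X := Groth.Agent.Lib.T2H6.CurveSatur.isNoetherian_of_proper k
  have hQlf : FlatMod.IsFinLocFree Q := fun x => by
    obtain ⟨U, hx, h⟩ := hQ x
    exact ⟨U, q, hx, h⟩
  have hL : IsLocFF (O := X.sheaf) Q := isLocFF_of_isFinLocFree Q hQlf
  have hD : FlatMod.IsFinLocFreeOfRank q (dualMod Q) :=
    Groth.Agent.Lib.T2H9.DualRank.isFinLocFreeOfRank_dual Q q hQ
  have hdD := deg_dual k hdim hreg h0 Q q hQ
  have hT := Groth.Agent.Lib.T2H9.TensorRank.isFinLocFreeOfRank_tensor F (dualMod Q) n q hF hD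
  have hTc := Groth.Agent.Lib.T2H6.RankAdd.isCoh_of_isFinLocFreeOfRank _ _ hT
  haveI := hTc.1
  haveI : (Coh.structureModule X).IsQuasicoherent :=
    (Groth.Agent.Lib.T2H5.GenIsoF.isCoh_structureModule (Z := X)).1
  have hdT := Groth.Agent.Lib.T2H6.TensorDegGen.deg_tensor k hdim.le n q F (dualMod Q) hF hD
  rw [hdD] at hdT
  have eO := Groth.Agent.Lib.T2H6.CurveRR.euler_eq_sub k hdim (Coh.structureModule X)
  have hgg : (Module.finrank k (Coh.HH X (Coh.structureModule X) 1) : ℤ) = (Curv2.genus k X : ℤ) := rfl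
  rw [h0, hgg] at eO
  have hle := Groth.Agent.Lib.T2H6.CurveSub.euler_le_h0 k hdim (CohB1.tensorMod F (dualMod Q))
  have hd1 : Curv2.deg k X (CohB1.tensorMod F (dualMod Q)) (n * q) =
      Curv2.euler k X (CohB1.tensorMod F (dualMod Q)) -
        ((n * q : ℕ) : ℤ) * Curv2.euler k X (Coh.structureModule X) := rfl
  rw [hd1, eO] at hdT
  have hpos : 0 < Module.finrank k (Coh.HH X (CohB1.tensorMod F (dualMod Q)) 0) := by
    have : (0 : ℤ) < (Module.finrank k (Coh.HH X (CohB1.tensorMod F (dualMod Q)) 0) : ℤ) := by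
      push_cast at hdT
      nlinarith
    exact_mod_cast this
  have hnt : Nontrivial (Coh.HH X (CohB1.tensorMod F (dualMod Q)) 0) :=
    Module.nontrivial_of_finrank_pos (R := k) hpos
  obtain ⟨x, hx⟩ := exists_ne (0 : Coh.HH X (CohB1.tensorMod F (dualMod Q)) 0)
  obtain ⟨s, hsx⟩ := (bijective_evLin k (CohB1.tensorMod F (dualMod Q))).2 x
  have hs : s ≠ 0 := by
    intro h
    rw [h, map_zero] at hsx
    exact hx hsx.symm
  refine ⟨(homDualEquiv (O := X.sheaf) Q hL F).symm s, ?_⟩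
  intro h
  apply hs
  have h2 := congrArg (homDualEquiv (O := X.sheaf) Q hL F) h
  rw [AddEquiv.apply_symm_apply] at h2
  exact h2.trans (map_zero (homDualEquiv (O := X.sheaf) Q hL F))

/-- **S18342** (internal form). -/
theorem semistable_of_hom_eq_zero (hdim : topologicalKrullDim X = 1)
    (hreg : ∀ x : X, IsRegularLocalRing (X.presheaf.stalk x))
    (h0 : Module.finrank k (Coh.HH X (Coh.structureModule X) 0) = 1)
    (E : X.Modules) (r : ℕ) (hr : 0 < r) (hE : FlatMod.IsFinLocFreeOfRank r E)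
    (hEdeg : Curv2.deg k X E r = 0)
    (F : X.Modules) (n : ℕ) (hn : 0 < n) (hF : FlatMod.IsFinLocFreeOfRank n F)
    (hFdeg : Curv2.deg k X F n = (n : ℤ) * ((Curv2.genus k X : ℤ) - 1))
    (hhom : ∀ φ : E ⟶ F, φ = 0) : ModFun.IsSlopeSemistable k X E r := by
  intro G r' i hi hr' hG
  haveI := hi
  rw [hEdeg, zero_mul]
  by_contra hcon
  rw [not_le] at hcon
  have hr0 : (0 : ℤ) < (r : ℤ) := by exact_mod_cast hr
  have hn0 : (0 : ℤ) < (n : ℤ) := by exact_mod_cast hn
  have hGpos : 0 < Curv2.deg k X G r' := by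
    by_contra h
    rw [not_lt] at h
    nlinarith
  obtain ⟨I', i', j, hi', hji, hle, hI', hQ, hdle, -⟩ :=
    Groth.Agent.Lib.T2H6.CurveSatur.exists_saturation k hdim hreg i r' r hG hE
  haveI := hi'
  have hS := shortExact_cokernel i'
  have hadd := Groth.Agent.Lib.T2H6.RankAdd.deg_additive k _ hS r' r (r - r') hI' hE hQ
  change Curv2.deg k X E r = Curv2.deg k X I' r' + Curv2.deg k X (cokernel i') (r - r') at hadd
  rw [hEdeg] at hadd
  have hQneg : Curv2.deg k X (cokernel i') (r - r') < 0 := by linarith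
  have hq : 0 < r - r' := by
    by_contra h
    have h0' : r - r' = 0 := by omega
    rw [h0'] at hQ hQneg
    have hz := Groth.Agent.Lib.T2H6.CurveVB.isZero_of_rank_zero _ hQ
    have : Curv2.deg k X (cokernel i') 0 = 0 := by
      unfold Curv2.deg
      rw [Groth.Agent.Lib.T2H6.CurveSS2.euler_eq_zero_of_isZero k _ hz]
      simp
    rw [this] at hQneg
    exact lt_irrefl _ hQneg
  have hq0 : (0 : ℤ) < ((r - r' : ℕ) : ℤ) := by exact_mod_cast hq
  obtain ⟨φ, hφ⟩ := exists_hom_ne_zero_of_deg k hdim hreg h0 (cokernel i') F (r - r') n hQ hF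
    (by rw [hFdeg]; nlinarith)
  apply hφ
  have h := hhom (cokernel.π i' ≫ φ)
  rw [← cancel_epi (cokernel.π i'), h, comp_zero]

end Groth.Agent.Lib.T2H9.VBThetaSS
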