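import Mathlib
import Groth.Agent.Lib.Helper7GeomInt

/-!
# Integrality over a complete valuation ring of height one is detected by the norm

* a valuation ring of Krull dimension at most one which is complete for a principal ideal is a
  henselian local ring;
* Kaplansky's `u, u⁻¹` lemma for local rings integrally closed in a field;
* an irreducible monic polynomial over the fraction field of a henselian valuation ring whose
  constant coefficient is integral has all its coefficients integral.
-/

set_option autoImplicit false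
set_option linter.style.haveILetI false
set_option linter.unusedSectionVars false
set_option linter.overlappingInstances false
universe u

namespace Groth.Agent.Lib.T2H9.ValNorm

open Polynomial IsLocalRing

section newton

variable {R : Type u} [CommRing R]

theorem newton_step (f : R[X]) (a u : R) (hu : f.derivative.eval a * u = 1) :
    ∃ b c : R, b - a = -(f.eval a * u) ∧ f.eval b = c * (f.eval a) ^ 2 := by
  obtain ⟨k, hk⟩ := f.binomExpansion a (-(f.eval a * u))
  refine ⟨a + -(f.eval a * u), k * u ^ 2, by ring, ?_⟩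
  rw [hk]
  linear_combination (-(f.eval a)) * hu

variable [IsLocalRing R]

theorem isUnit_derivative_of_sub_mem (f : R[X]) (a b : R) (ha : IsUnit (f.derivative.eval a))
    (hab : b - a ∈ maximalIdeal R) : IsUnit (f.derivative.eval b) := by
  have h1 : b - a ∣ f.derivative.eval b - f.derivative.eval a := sub_dvd_eval_sub b a _
  have h2 : f.derivative.eval b - f.derivative.eval a ∈ maximalIdeal R :=
    Ideal.mem_of_dvd _ h1 hab
  by_contra hb
  have h3 : f.derivative.eval b ∈ maximalIdeal R := (mem_maximalIdeal _).mpr hb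
  have h4 : f.derivative.eval a ∈ maximalIdeal R := by
    have := (maximalIdeal R).sub_mem h3 h2
    rwa [sub_sub_cancel] at this
  exact (mem_maximalIdeal _).mp h4 ha

theorem exists_approx (f : R[X]) (a₀ : R) (h₁ : f.eval a₀ ∈ maximalIdeal R)
    (h₂ : IsUnit (f.derivative.eval a₀)) (j : ℕ) :
    ∃ a : R, a - a₀ ∈ maximalIdeal R ∧ (f.eval a₀) ^ (j + 1) ∣ f.eval a := by
  induction j with
  | zero => exact ⟨a₀, by simp, by simp⟩
  | succ j ih =>
    obtain ⟨a, ha, hdvd⟩ := ih
    have hua : IsUnit (f.derivative.eval a) := isUnit_derivative_of_sub_mem f a₀ a h₂ ha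
    obtain ⟨u, hu⟩ := hua.exists_right_inv
    obtain ⟨b, c, hb, hc⟩ := newton_step f a u hu
    have hfa : f.eval a ∈ maximalIdeal R := by
      refine Ideal.mem_of_dvd _ (dvd_trans (dvd_pow_self _ (Nat.succ_ne_zero j)) hdvd) h₁
    refine ⟨b, ?_, ?_⟩
    · have : b - a₀ = (b - a) + (a - a₀) := by ring
      rw [this, hb]
      refine (maximalIdeal R).add_mem ?_ ha
      exact (maximalIdeal R).neg_mem (Ideal.mul_mem_right _ _ hfa)
    · rw [hc]
      obtain ⟨e, he⟩ := hdvd
      refine ⟨c * e ^ 2 * (f.eval a₀) ^ j, ?_⟩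
      rw [he]
      ring

end newton

section hensel

variable (R : Type u) [CommRing R] [IsDomain R] [ValuationRing R] [Ring.KrullDimLE 1 R]

theorem mem_radical_of_mem_maximalIdeal (t : R) (ht : t ≠ 0) (s : R)
    (hs : s ∈ maximalIdeal R) : s ∈ (Ideal.span {t}).radical := by
  rw [Ideal.radical_eq_sInf, Ideal.mem_sInf]
  rintro p ⟨hle, hp⟩
  have hpne : p ≠ ⊥ := by
    rintro rfl
    exact ht ((Ideal.mem_bot).mp (hle (Ideal.mem_span_singleton_self t)))
  have hpmax : p.IsMaximal := hp.isMaximal_of_ne_bot hpne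
  rw [IsLocalRing.eq_maximalIdeal hpmax]
  exact hs

theorem henselianLocalRing (t : R) (ht : t ≠ 0) [IsAdicComplete (Ideal.span {t}) R] :
    HenselianLocalRing R := by
  refine { is_henselian := fun f hf a₀ h₁ h₂ => ?_ }
  have hjac : Ideal.span {t} ≤ maximalIdeal R := by
    have := IsAdicComplete.le_jacobson_bot (Ideal.span {t}) (R := R)
    rwa [IsLocalRing.jacobson_eq_maximalIdeal ⊥ bot_ne_top] at this
  obtain ⟨k, hk⟩ := Ideal.mem_radical_iff.mp
    (mem_radical_of_mem_maximalIdeal R t ht (f.eval a₀) h₁)
  obtain ⟨a, ha, hdvd⟩ := exists_approx f a₀ h₁ h₂ k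
  have hfa : f.eval a ∈ Ideal.span {t} := by
    refine Ideal.mem_of_dvd _ hdvd ?_
    rw [pow_succ]
    exact Ideal.mul_mem_right _ _ hk
  have hua : IsUnit (f.derivative.eval a) := isUnit_derivative_of_sub_mem f a₀ a h₂ ha
  obtain ⟨b, hb, hba⟩ := HenselianRing.is_henselian (I := Ideal.span {t}) f hf a hfa
    (hua.map (Ideal.Quotient.mk _))
  refine ⟨b, hb, ?_⟩
  have : b - a₀ = (b - a) + (a - a₀) := by ring
  rw [this]
  exact (maximalIdeal R).add_mem (hjac hba) ha

end hensel

section kaplansky

variable {S E : Type u} [CommRing S] [IsLocalRing S] [Field E] [Algebra S E]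

/-- Kaplansky's `u, u⁻¹` lemma: if the local ring `S` is integrally closed in the field `E` and
`u : E` is a root of a polynomial over `S` with a unit coefficient, then `u` or `u⁻¹` lies in
(the image of) `S`. -/
theorem mem_or_inv_mem_aux (hic : ∀ x : E, IsIntegral S x → x ∈ (algebraMap S E).range) (u : E) :
    ∀ (n : ℕ) (p : S[X]), p.natDegree ≤ n → aeval u p = 0 → (∃ i, IsUnit (p.coeff i)) →
      u ∈ (algebraMap S E).range ∨ u⁻¹ ∈ (algebraMap S E).range := by
  intro n
  induction n with
  | zero =>
    rintro p hp h0 ⟨i, hi⟩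
    exfalso
    rw [eq_C_of_natDegree_le_zero hp, aeval_C] at h0
    rw [eq_C_of_natDegree_le_zero hp, coeff_C] at hi
    split_ifs at hi with h
    · have := hi.map (algebraMap S E)
      rw [h0] at this
      exact not_isUnit_zero this
    · exact not_isUnit_zero hi
  | succ n ih =>
    rintro p hp h0 ⟨i, hi⟩
    by_cases hdeg : p.natDegree ≤ n
    · exact ih p hdeg h0 ⟨i, hi⟩
    have hdeg' : p.natDegree = n + 1 := by omega
    by_cases hu0 : u = 0
    · left
      exact ⟨0, by rw [map_zero, hu0]⟩
    have hint : IsIntegral S (p.leadingCoeff • u) := isIntegral_leadingCoeff_smul p u h0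
    obtain ⟨b, hb⟩ := hic _ hint
    rw [Algebra.smul_def] at hb
    by_cases hc : IsUnit p.leadingCoeff
    · left
      obtain ⟨c', hc'⟩ := hc.exists_left_inv
      refine ⟨c' * b, ?_⟩
      rw [map_mul, hb, ← mul_assoc, ← map_mul, hc', map_one, one_mul]
    by_cases hbu : IsUnit b
    · right
      obtain ⟨b', hb'⟩ := hbu.exists_left_inv
      refine ⟨b' * p.leadingCoeff, ?_⟩
      have h1 : algebraMap S E b' * algebraMap S E b = 1 := by rw [← map_mul, hb', map_one]
      rw [map_mul]
      rw [hb, ← mul_assoc] at h1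
      exact eq_inv_of_mul_eq_one_left h1
    -- the reduced polynomial
    set q : S[X] := p.eraseLead + C b * X ^ n with hq
    have hq0 : aeval u q = 0 := by
      have h1 : aeval u p = aeval u p.eraseLead + algebraMap S E p.leadingCoeff * u ^ (n + 1) := by
        conv_lhs => rw [← eraseLead_add_C_mul_X_pow p, hdeg']
        simp
      rw [h0] at h1
      rw [hq, map_add, map_mul, aeval_C, map_pow, aeval_X, hb]
      linear_combination (-1 : E) * h1
    have hqdeg : q.natDegree ≤ n := by
      refine (natDegree_add_le _ _).trans (max_le ?_ (natDegree_C_mul_X_pow_le _ _))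
      have := eraseLead_natDegree_le p
      omega
    have hine : i ≠ n + 1 := by
      rintro rfl
      apply hc
      rwa [leadingCoeff, hdeg']
    have hqi : IsUnit (q.coeff i) := by
      rw [hq, coeff_add, eraseLead_coeff_of_ne i (by rwa [hdeg']), coeff_C_mul, coeff_X_pow]
      split_ifs with h
      · rw [mul_one]
        by_contra hcon
        have h2 : b ∈ maximalIdeal S := (mem_maximalIdeal _).mpr hbu
        have h3 : p.coeff i + b ∈ maximalIdeal S := (mem_maximalIdeal _).mpr hcon
        have h4 : p.coeff i ∈ maximalIdeal S := by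
          have := (maximalIdeal S).sub_mem h3 h2
          rwa [add_sub_cancel_right] at this
        exact (mem_maximalIdeal _).mp h4 hi
      · rwa [mul_zero, add_zero]
    exact ih q hqdeg hq0 ⟨i, hqi⟩

theorem mem_or_inv_mem (hic : ∀ x : E, IsIntegral S x → x ∈ (algebraMap S E).range) (u : E)
    (p : S[X]) (h0 : aeval u p = 0) (hp : ∃ i, IsUnit (p.coeff i)) :
    u ∈ (algebraMap S E).range ∨ u⁻¹ ∈ (algebraMap S E).range :=
  mem_or_inv_mem_aux hic u p.natDegree p le_rfl h0 hp

end kaplansky

section primitive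

variable {R : Type u} [CommRing R] [IsDomain R] [ValuationRing R]

theorem exists_dvd_all (s : Finset ℕ) (hs : s.Nonempty) (a : ℕ → R) :
    ∃ i₀ ∈ s, ∀ i ∈ s, a i₀ ∣ a i := by
  induction hs using Finset.Nonempty.cons_induction with
  | singleton i =>
    exact ⟨i, Finset.mem_singleton_self i, fun j hj => by rw [Finset.mem_singleton.mp hj]⟩
  | cons i s hi hs ih =>
    obtain ⟨i₀, hi₀, h⟩ := ih
    rcases ValuationRing.dvd_total (a i₀) (a i) with h1 | h1
    · refine ⟨i₀, Finset.mem_cons_of_mem hi₀, fun j hj => ?_⟩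
      rcases Finset.mem_cons.mp hj with rfl | hj
      · exact h1
      · exact h j hj
    · refine ⟨i, Finset.mem_cons_self i s, fun j hj => ?_⟩
      rcases Finset.mem_cons.mp hj with rfl | hj
      · exact dvd_rfl
      · exact h1.trans (h j hj)

theorem exists_primitive (q : R[X]) (hq : q ≠ 0) :
    ∃ (c : R) (p : R[X]), c ≠ 0 ∧ q = C c * p ∧ ∃ i, p.coeff i = 1 := by
  have hs : q.support.Nonempty := support_nonempty.mpr hq
  obtain ⟨i₀, hi₀, h⟩ := exists_dvd_all q.support hs q.coeff
  have hc : q.coeff i₀ ≠ 0 := mem_support_iff.mp hi₀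
  have hdvd : C (q.coeff i₀) ∣ q := by
    rw [C_dvd_iff_dvd_coeff]
    intro i
    by_cases hi : i ∈ q.support
    · exact h i hi
    · rw [notMem_support_iff.mp hi]
      exact dvd_zero _
  obtain ⟨p, hp⟩ := hdvd
  refine ⟨q.coeff i₀, p, hc, hp, i₀, ?_⟩
  have h1 := congrArg (fun r => r.coeff i₀) hp
  simp only [coeff_C_mul] at h1
  exact mul_left_cancel₀ hc (by rw [mul_one]; exact h1.symm)

end primitive

section core

variable (R : Type u) [CommRing R] [IsDomain R] [ValuationRing R] [HenselianLocalRing R]
  (F : Type u) [Field F] [Algebra R F] [IsFractionRing R F]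
  (Ω : Type u) [Field Ω] [Algebra F Ω] [Algebra R Ω] [IsScalarTower R F Ω]
  [Algebra.IsAlgebraic F Ω]

include F in
/-- Every element of an algebraic extension of the fraction field of a henselian valuation ring
is integral or has an integral inverse. -/
theorem isIntegral_or_isIntegral_inv (γ : Ω) : IsIntegral R γ ∨ IsIntegral R γ⁻¹ := by
  have hinj : Function.Injective (algebraMap R Ω) := by
    rw [IsScalarTower.algebraMap_eq R F Ω]
    exact (algebraMap F Ω).injective.comp (IsFractionRing.injective R F)
  set B : Subalgebra R Ω := integralClosure R Ω with hB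
  haveI : IsLocalRing B :=
    Groth.Agent.Lib.Helper7.GeomInt.isLocalRing_of_isIntegral_of_isDomain R B
  have hic : ∀ x : Ω, IsIntegral B x → x ∈ (algebraMap B Ω).range := by
    intro x hx
    have hx' : IsIntegral R x := isIntegral_trans x hx
    exact ⟨⟨x, hx'⟩, rfl⟩
  have halg : IsAlgebraic R γ :=
    (IsFractionRing.isAlgebraic_iff R F Ω).mpr (Algebra.IsAlgebraic.isAlgebraic γ)
  obtain ⟨q, hq, hq0⟩ := halg
  obtain ⟨c, p, hc, rfl, i, hi⟩ := exists_primitive q hq
  have hp0 : aeval γ p = 0 := by
    rw [map_mul, aeval_C] at hq0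
    rcases mul_eq_zero.mp hq0 with h | h
    · exact absurd ((map_eq_zero_iff _ hinj).mp h) hc
    · exact h
  have hp0' : aeval γ (p.map (algebraMap R B)) = 0 := by
    rw [aeval_map_algebraMap, hp0]
  have hunit : ∃ i, IsUnit ((p.map (algebraMap R B)).coeff i) :=
    ⟨i, by rw [coeff_map, hi, map_one]; exact isUnit_one⟩
  rcases mem_or_inv_mem hic γ _ hp0' hunit with ⟨b, hb⟩ | ⟨b, hb⟩
  · left
    rw [← hb]
    exact b.2
  · right
    rw [← hb]
    exact b.2

variable [Normal F Ω]

/-- If the product of the conjugates of `β` is integral then so is `β`. -/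
theorem isIntegral_of_prod_aroots (β : Ω)
    (hprod : IsIntegral R ((minpoly F β).aroots Ω).prod) : IsIntegral R β := by
  classical
  rcases isIntegral_or_isIntegral_inv R F Ω β with h | h
  · exact h
  have hβint : IsIntegral F β := Algebra.IsIntegral.isIntegral β
  have hmem : β ∈ (minpoly F β).aroots Ω := by
    rw [mem_aroots]
    exact ⟨minpoly.ne_zero hβint, minpoly.aeval F β⟩
  obtain ⟨rest, hrest⟩ := Multiset.exists_cons_of_mem hmem
  have hβ0 : β ≠ 0 ∨ β = 0 := (em _).symm
  rcases hβ0 with hβ0 | hβ0
  swap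
  · rw [hβ0]; exact isIntegral_zero
  -- all conjugates have integral inverse
  have hconj : ∀ γ ∈ rest, IsIntegral R γ⁻¹ := by
    intro γ hγ
    have hγmem : γ ∈ (minpoly F β).aroots Ω := by
      rw [hrest]
      exact Multiset.mem_cons_of_mem hγ
    rw [mem_aroots] at hγmem
    have hγint : IsIntegral F γ := Algebra.IsIntegral.isIntegral γ
    have hmin : minpoly F γ = minpoly F β := by
      symm
      exact minpoly.eq_of_irreducible_of_monic (minpoly.irreducible hβint) hγmem.2
        (minpoly.monic hβint)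
    obtain ⟨σ, hσ⟩ := (Normal.minpoly_eq_iff_mem_orbit (F := F) (E := Ω)).mp hmin
    have hσ' : σ β = γ := hσ
    have h1 : IsIntegral R ((σ.toAlgHom.restrictScalars R) β⁻¹) := h.map _
    have h2 : (σ.toAlgHom.restrictScalars R) β⁻¹ = γ⁻¹ := by
      change σ β⁻¹ = γ⁻¹
      rw [map_inv₀, hσ']
    rwa [h2] at h1
  have hrestprod : IsIntegral R (rest.map (fun γ => γ⁻¹)).prod := by
    refine Subalgebra.multiset_prod_mem (integralClosure R Ω) ?_
    intro x hx
    obtain ⟨γ, hγ, rfl⟩ := Multiset.mem_map.mp hx
    exact hconj γ hγ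
  have hne : ∀ γ ∈ rest, γ ≠ 0 := by
    intro γ hγ h0
    have := hconj γ hγ
    have hγmem : γ ∈ (minpoly F β).aroots Ω := by
      rw [hrest]
      exact Multiset.mem_cons_of_mem hγ
    rw [mem_aroots, h0] at hγmem
    have hmin : minpoly F (0 : Ω) = minpoly F β := by
      symm
      exact minpoly.eq_of_irreducible_of_monic (minpoly.irreducible hβint) hγmem.2
        (minpoly.monic hβint)
    have h3 : aeval (0 : Ω) (minpoly F β) = 0 := hγmem.2
    rw [minpoly.zero] at hmin
    have h4 : aeval β (X : F[X]) = 0 := by rw [hmin]; exact minpoly.aeval F β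
    rw [aeval_X] at h4
    exact hβ0 h4
  have hkey : β = (rest.map (fun γ => γ⁻¹)).prod * ((minpoly F β).aroots Ω).prod := by
    have hr0 : rest.prod ≠ 0 := by
      rw [Ne, Multiset.prod_eq_zero_iff]
      exact fun h0 => hne 0 h0 rfl
    rw [hrest, Multiset.prod_cons, Multiset.prod_map_inv, Multiset.map_id', mul_comm β,
      ← mul_assoc, inv_mul_cancel₀ hr0, one_mul]
  rw [hkey]
  exact hrestprod.mul hprod

end core

end Groth.Agent.Lib.T2H9.ValNorm
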