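import Mathlib
import Groth.Agent.Lib.Helper13Vasc2

/-!
# Vasconcelos: a free rank-one summand of the conormal module is generated by a nonzerodivisor
-/

set_option autoImplicit false
universe u
open CategoryTheory IsLocalRing

namespace Groth.Agent.Lib.T2H9.Vasc

open Groth.Agent.Helper13Vasc Groth.Agent.Lib.Helper21.PdLoc

theorem mem_nonZeroDivisors_of_isSMulRegular {R : Type*} [CommRing R] {x : R}
    (h : IsSMulRegular R x) : x ∈ nonZeroDivisors R := by
  rw [mem_nonZeroDivisors_iff_right]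
  intro z hz
  apply h
  change x * z = x * 0
  rw [mul_zero, mul_comm, hz]

variable {R : Type u} [CommRing R]

/-- The `R`-linear functional `I → R/I` attached to a rank one free summand `F` of `I/I²`. -/
noncomputable def coordFun (I : Ideal R) (F G : Submodule (R ⧸ I) I.Cotangent) (hFG : IsCompl F G)
    (e : F ≃ₗ[R ⧸ I] (R ⧸ I)) : ↥I →ₗ[R] R ⧸ I :=
  ((e.toLinearMap ∘ₗ Submodule.projectionOnto F G hFG).restrictScalars R) ∘ₗ I.toCotangent

lemma coordFun_apply (I : Ideal R) (F G : Submodule (R ⧸ I) I.Cotangent) (hFG : IsCompl F G)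
    (e : F ≃ₗ[R ⧸ I] (R ⧸ I)) (y : I) (hy : I.toCotangent y ∈ F) :
    coordFun I F G hFG e y = e ⟨I.toCotangent y, hy⟩ := by
  show e (Submodule.projectionOnto F G hFG (I.toCotangent y)) = _
  have := Submodule.projectionOnto_apply_left hFG ⟨I.toCotangent y, hy⟩
  exact congrArg e this

/-- elements of `I` whose class lies in `F`. -/
noncomputable def preF (I : Ideal R) (F : Submodule (R ⧸ I) I.Cotangent) : Ideal R :=
  Submodule.map I.subtype (Submodule.comap I.toCotangent (F.restrictScalars R))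

lemma mem_preF (I : Ideal R) (F : Submodule (R ⧸ I) I.Cotangent) (x : R) :
    x ∈ preF I F ↔ ∃ hx : x ∈ I, I.toCotangent ⟨x, hx⟩ ∈ F := by
  constructor
  · rintro ⟨y, hy, rfl⟩
    exact ⟨y.2, hy⟩
  · rintro ⟨hx, h⟩
    exact ⟨⟨x, hx⟩, h, rfl⟩

/-- elements of `preF` whose coordinate is not a unit. -/
noncomputable def preF' [IsLocalRing R] (I : Ideal R) (F G : Submodule (R ⧸ I) I.Cotangent)
    (hFG : IsCompl F G) (e : F ≃ₗ[R ⧸ I] (R ⧸ I)) : Ideal R :=
  Submodule.map I.subtype (Submodule.comap I.toCotangent (F.restrictScalars R) ⊓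
    Submodule.comap (coordFun I F G hFG e)
      (((maximalIdeal R).map (Ideal.Quotient.mk I)).restrictScalars R))

lemma mem_preF' [IsLocalRing R] (I : Ideal R) (F G : Submodule (R ⧸ I) I.Cotangent)
    (hFG : IsCompl F G) (e : F ≃ₗ[R ⧸ I] (R ⧸ I)) (x : R) :
    x ∈ preF' I F G hFG e ↔ ∃ hx : x ∈ I, I.toCotangent ⟨x, hx⟩ ∈ F ∧
      coordFun I F G hFG e ⟨x, hx⟩ ∈ (maximalIdeal R).map (Ideal.Quotient.mk I) := by
  constructor
  · rintro ⟨y, ⟨hy1, hy2⟩, rfl⟩
    exact ⟨y.2, hy1, hy2⟩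
  · rintro ⟨hx, h1, h2⟩
    exact ⟨⟨x, hx⟩, ⟨h1, h2⟩, rfl⟩

lemma isUnit_of_not_mem_map [IsLocalRing R] (I : Ideal R) (z : R ⧸ I)
    (hz : z ∉ (maximalIdeal R).map (Ideal.Quotient.mk I)) : IsUnit z := by
  obtain ⟨r, rfl⟩ := Ideal.Quotient.mk_surjective z
  have hr : r ∉ maximalIdeal R := fun h => hz (Ideal.mem_map_of_mem _ h)
  have : IsUnit r := by
    by_contra hu
    exact hr ((IsLocalRing.mem_maximalIdeal r).mpr hu)
  exact this.map (Ideal.Quotient.mk I)

lemma one_not_mem_map [IsLocalRing R] (I : Ideal R) (hI : I ≠ ⊤) :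
    (1 : R ⧸ I) ∉ (maximalIdeal R).map (Ideal.Quotient.mk I) := by
  intro h
  have hle : I ≤ maximalIdeal R := IsLocalRing.le_maximalIdeal hI
  have h1 : (1 : R) ∈ Ideal.comap (Ideal.Quotient.mk I) ((maximalIdeal R).map (Ideal.Quotient.mk I)) := by
    rw [Ideal.mem_comap, map_one]; exact h
  rw [Ideal.comap_map_of_surjective _ Ideal.Quotient.mk_surjective, ← RingHom.ker_eq_comap_bot,
    Ideal.mk_ker, sup_eq_left.mpr hle] at h1
  exact (maximalIdeal.isMaximal R).ne_top ((Ideal.eq_top_iff_one _).mpr h1)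

/-- prime avoidance with the two non-prime ideals equal: an ideal `K` containing `I ^ 2`, not
contained in `K'`, where `I` contains a regular element, contains a regular element outside `K'`. -/
theorem exists_regular_not_mem [IsNoetherianRing R] (I K K' : Ideal R) (hIK : I ^ 2 ≤ K)
    (hKK' : ¬ K ≤ K') (hreg : ∃ y ∈ I, IsSMulRegular R y) :
    ∃ y ∈ K, y ∉ K' ∧ IsSMulRegular R y := by
  classical
  by_contra hcon
  push Not at hcon
  have hfin : (associatedPrimes R R).Finite := associatedPrimes.finite R R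
  let T : Finset (Ideal R) := insert K' hfin.toFinset
  have hsub : ((K : Ideal R) : Set R) ⊆
      ⋃ i ∈ (↑T : Set (Ideal R)), ((id i : Ideal R) : Set R) := by
    intro x hx
    by_cases hx2 : x ∈ K'
    · refine Set.mem_biUnion (x := K') ?_ hx2
      exact Finset.mem_coe.mpr (Finset.mem_insert_self _ _)
    · have hnr := hcon x hx hx2
      have : x ∈ ⋃ p ∈ associatedPrimes R R, (p : Set R) := by
        rw [biUnion_associatedPrimes_eq_compl_regular]
        exact hnr
      obtain ⟨p, hp, hxp⟩ := Set.mem_iUnion₂.mp this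
      refine Set.mem_biUnion (x := p) ?_ hxp
      exact Finset.mem_coe.mpr (Finset.mem_insert_of_mem ((Set.Finite.mem_toFinset _).mpr hp))
  rw [Ideal.subset_union_prime K' K'] at hsub
  · obtain ⟨i, hi, hle⟩ := hsub
    rw [Finset.mem_insert] at hi
    rcases hi with rfl | hi
    · exact hKK' hle
    · rw [Set.Finite.mem_toFinset] at hi
      obtain ⟨y, hyI, hyreg⟩ := hreg
      have := hi.isPrime
      have hIi : I ≤ i := Ideal.IsPrime.le_of_pow_le (hIK.trans hle)
      have : y ∈ ⋃ p ∈ associatedPrimes R R, (p : Set R) :=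
        Set.mem_biUnion hi (hIi hyI)
      rw [biUnion_associatedPrimes_eq_compl_regular] at this
      exact this hyreg
  · intro i hi hne _
    rw [Finset.mem_insert] at hi
    rcases hi with rfl | hi
    · exact absurd rfl hne
    · rw [Set.Finite.mem_toFinset] at hi
      exact hi.isPrime

/-- **Vasconcelos**: if `I` has finite projective dimension and `F ≅ R/I` is a direct summand of
`I/I²`, then some nonzerodivisor of `I` generates `F`. -/
theorem exists_nzd_summand [IsNoetherianRing R] [IsLocalRing R] (I : Ideal R) (n : ℕ)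
    (hpd : HasProjectiveDimensionLT (ModuleCat.of R I) n)
    (F G : Submodule (R ⧸ I) I.Cotangent) (hFG : IsCompl F G) (e : F ≃ₗ[R ⧸ I] (R ⧸ I)) :
    ∃ (x : R) (hx : x ∈ I), x ∈ nonZeroDivisors R ∧
      Submodule.span (R ⧸ I) {I.toCotangent ⟨x, hx⟩} = F := by
  by_cases hI : I = ⊤
  · subst hI
    have : Subsingleton (R ⧸ (⊤ : Ideal R)) := Ideal.Quotient.subsingleton_iff.mpr rfl
    have : Subsingleton ((⊤ : Ideal R).Cotangent) := Module.subsingleton (R ⧸ (⊤ : Ideal R)) _
    refine ⟨1, Submodule.mem_top, one_mem _, ?_⟩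
    ext z
    rw [Subsingleton.elim z 0]
    simp
  -- a generator of `F`
  obtain ⟨y₀, hy₀⟩ := I.toCotangent_surjective ((e.symm 1 : F) : I.Cotangent)
  have hy₀F : I.toCotangent y₀ ∈ F := by rw [hy₀]; exact (e.symm 1).2
  have hψy₀ : coordFun I F G hFG e y₀ = 1 := by
    rw [coordFun_apply I F G hFG e y₀ hy₀F]
    have : (⟨I.toCotangent y₀, hy₀F⟩ : F) = e.symm 1 := Subtype.ext hy₀
    rw [this, LinearEquiv.apply_symm_apply]
  have : Nontrivial (R ⧸ I) := Ideal.Quotient.nontrivial_iff.mpr hI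
  -- `I ≠ ⊥`
  have hI0 : I ≠ ⊥ := by
    intro h0
    have hy0 : y₀ = 0 := by
      apply Subtype.ext
      have h1 : (y₀ : R) ∈ (⊥ : Ideal R) := h0 ▸ y₀.2
      exact h1
    rw [hy0, map_zero] at hψy₀
    exact zero_ne_one hψy₀
  -- a regular element of `I`
  have hn1 : HasProjectiveDimensionLT (ModuleCat.of R ↥I) (n + 1) :=
    hasProjectiveDimensionLT_of_ge _ n (n + 1) (Nat.le_succ n)
  have hpdq : HasProjectiveDimensionLT (ModuleCat.of R (R ⧸ I)) (n + 1 + 1) :=
    (pdLT_succ_iff_of_ses I.subtype (Submodule.mkQ I) (Submodule.injective_subtype _)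
      (Submodule.mkQ_surjective _) (LinearMap.exact_subtype_mkQ _) n).mpr hn1
  obtain ⟨y₁, hy₁I, hy₁reg⟩ := exists_isSMulRegular_mem I hI0 (n + 1) hpdq
  -- prime avoidance
  have hIK : I ^ 2 ≤ preF I F := by
    intro x hx
    rw [mem_preF]
    have hxI : x ∈ I := Ideal.pow_le_self two_ne_zero hx
    refine ⟨hxI, ?_⟩
    have : I.toCotangent ⟨x, hxI⟩ = 0 := (I.toCotangent_eq_zero ⟨x, hxI⟩).mpr hx
    rw [this]
    exact F.zero_mem
  have hKK' : ¬ preF I F ≤ preF' I F G hFG e := by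
    intro hle
    have h1 : (y₀ : R) ∈ preF I F := (mem_preF I F _).mpr ⟨y₀.2, hy₀F⟩
    obtain ⟨_, _, h2⟩ := (mem_preF' I F G hFG e _).mp (hle h1)
    have h3 : coordFun I F G hFG e ⟨(y₀ : R), y₀.2⟩ = 1 := hψy₀
    rw [h3] at h2
    exact one_not_mem_map I hI h2
  obtain ⟨x, hxK, hxK', hxreg⟩ := exists_regular_not_mem I (preF I F) (preF' I F G hFG e) hIK hKK'
    ⟨y₁, hy₁I, hy₁reg⟩
  obtain ⟨hxI, hxF⟩ := (mem_preF I F x).mp hxK
  have hunit : IsUnit (coordFun I F G hFG e ⟨x, hxI⟩) := by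
    apply isUnit_of_not_mem_map
    intro h
    exact hxK' ((mem_preF' I F G hFG e x).mpr ⟨hxI, hxF, h⟩)
  refine ⟨x, hxI, mem_nonZeroDivisors_of_isSMulRegular hxreg, ?_⟩
  apply le_antisymm
  · rw [Submodule.span_le, Set.singleton_subset_iff]
    exact hxF
  · intro z hz
    rw [coordFun_apply I F G hFG e ⟨x, hxI⟩ hxF] at hunit
    obtain ⟨u, hu⟩ := hunit
    have h1 : (⟨z, hz⟩ : F) = (e ⟨z, hz⟩ * ((u⁻¹ : (R ⧸ I)ˣ) : R ⧸ I)) •
        (⟨I.toCotangent ⟨x, hxI⟩, hxF⟩ : F) := by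
      apply e.injective
      rw [map_smul, ← hu, smul_eq_mul, mul_assoc, Units.inv_mul, mul_one]
    have h2 := congrArg (Subtype.val) h1
    rw [Submodule.mem_span_singleton]
    exact ⟨_, h2.symm⟩

end Groth.Agent.Lib.T2H9.Vasc
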