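import Mathlib
import Groth.Agent.Lib.T2H9ASBunG1
import Groth.Agent.Lib.T2H5AmpleSerre

set_option autoImplicit false
set_option linter.style.haveILetI false
universe u v

open CategoryTheory CategoryTheory.Limits AlgebraicGeometry

namespace Groth.Agent.Lib.T2H9.WeilFin

open Groth.Agent.Lib.T2H9.KS

section Abstract

variable {C : Type u} [Category.{v} C] [Preadditive C] [HasFiniteBiproducts C] [HasBinaryBiproducts C]
  [HasFiniteCoproducts C]

/-- the index type of the summands of `P(E)`. -/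
abbrev PolyIdx (P : Polynomial ℕ) : Type := Σ i : Fin (P.natDegree + 1), Fin (P.coeff (i : ℕ))

/-- `P(f) = ∐_i (f i)^{P_i}`. -/
noncomputable abbrev polyObj (f : ℕ → C) (P : Polynomial ℕ) : C :=
  ∐ fun i : Fin (P.natDegree + 1) => ∐ fun _ : Fin (P.coeff (i : ℕ)) => f (i : ℕ)

/-- `P(f)` as a biproduct over `PolyIdx P`. -/
noncomputable def polyObjIso (f : ℕ → C) (P : Polynomial ℕ) :
    polyObj f P ≅ ⨁ fun p : PolyIdx P => f (p.1 : ℕ) :=
  (biproduct.isoCoproduct _).symm ≪≫
    biproduct.mapIso (fun i => (biproduct.isoCoproduct (fun _ : Fin (P.coeff (i : ℕ)) => f (i : ℕ))).symm) ≪≫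
    biproductBiproductIso (fun i : Fin (P.natDegree + 1) => Fin (P.coeff (i : ℕ)))
      (fun i _ => f (i : ℕ))

theorem card_polyIdx_fiber (P : Polynomial ℕ) (n : ℕ) :
    Fintype.card {p : PolyIdx P // (p.1 : ℕ) = n} = P.coeff n := by
  classical
  by_cases hn : n < P.natDegree + 1
  · let e : {p : PolyIdx P // (p.1 : ℕ) = n} ≃ Fin (P.coeff n) :=
      { toFun := fun p => Fin.cast (by rw [p.2]) p.1.2
        invFun := fun a => ⟨⟨⟨n, hn⟩, a⟩, rfl⟩
        left_inv := by
          rintro ⟨⟨⟨i, hi⟩, a⟩, h⟩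
          simp only at h
          subst h
          rfl
        right_inv := fun a => rfl }
    rw [Fintype.card_congr e, Fintype.card_fin]
  · haveI : IsEmpty {p : PolyIdx P // (p.1 : ℕ) = n} :=
      ⟨fun p => hn (by rw [← p.2]; exact p.1.1.2)⟩
    rw [Fintype.card_eq_zero, Polynomial.coeff_eq_zero_of_natDegree_lt (by omega)]

/-- if the `f i` have local endomorphism rings and are pairwise non-isomorphic, `P(f) ≅ Q(f)` forces `P = Q`. -/
theorem eq_of_polyObj_iso (f : ℕ → C) (hloc : ∀ i, IsLocalRing (End (f i)))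
    (hne : ∀ i j, Nonempty (f i ≅ f j) → i = j) (P Q : Polynomial ℕ)
    (φ : polyObj f P ≅ polyObj f Q) : P = Q := by
  classical
  obtain ⟨ε, hε⟩ := uniq (fun p : PolyIdx P => f (p.1 : ℕ)) (fun q : PolyIdx Q => f (q.1 : ℕ))
    (fun p => hloc _) (fun q => hloc _) ((polyObjIso f P).symm ≪≫ φ ≪≫ polyObjIso f Q)
  ext n
  rw [← card_polyIdx_fiber P n, ← card_polyIdx_fiber Q n]
  refine Fintype.card_congr (ε.subtypeEquiv fun p => ?_)
  rw [hne _ _ (hε p)]

/-- `(X^n)(f) ≅ f n`. -/
theorem nonempty_polyObj_X_pow_iso (f : ℕ → C) (n : ℕ) :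
    Nonempty (polyObj f (Polynomial.X ^ n : Polynomial ℕ) ≅ f n) := by
  classical
  have hall : ∀ p : PolyIdx (Polynomial.X ^ n : Polynomial ℕ), (p.1 : ℕ) = n := by
    intro p
    have h1 := p.2.pos
    rw [Polynomial.coeff_X_pow] at h1
    by_contra hne
    rw [if_neg hne] at h1
    exact lt_irrefl _ h1
  have hcard : Fintype.card (PolyIdx (Polynomial.X ^ n : Polynomial ℕ)) = 1 := by
    have h1 := card_polyIdx_fiber (Polynomial.X ^ n : Polynomial ℕ) n
    rw [Polynomial.coeff_X_pow, if_pos rfl] at h1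
    exact (Fintype.card_congr (Equiv.subtypeUnivEquiv hall).symm).trans h1
  obtain ⟨hu⟩ := (Fintype.card_eq_one_iff_nonempty_unique.1 hcard)
  exact ⟨polyObjIso f _ ≪≫ biproductUniqueIso _ ≪≫ eqToIso (by rw [hall])⟩

end Abstract

section Geo

open Groth.Agent.Lib.T2H9.ASBun Groth.Agent.Lib.T2H5.Twist Groth.Agent.Lib.T2H9.TensorInv

variable {X : Scheme.{u}}

/-- if no positive tensor power of the invertible module `L` is trivial, the tensor powers are pairwise
non-isomorphic. -/
theorem tensorPow_injective_of_not_torsion (L : X.Modules) (hL : PicF.IsInvertible L)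
    (h : ∀ m : ℕ, 0 < m → ¬ Nonempty (CohB1.tensorPow L m ≅ Coh.structureModule X)) (i j : ℕ)
    (e : Nonempty (CohB1.tensorPow L i ≅ CohB1.tensorPow L j)) : i = j := by
  have key : ∀ i j : ℕ, i < j → Nonempty (CohB1.tensorPow L i ≅ CohB1.tensorPow L j) → False := by
    intro i j hij ⟨ψ⟩
    have hM := Groth.Agent.Lib.Helper23.SecTw.isInvertible_tensorPow hL i
    let E := trEquiv (tensorInvIso (CohB1.tensorPow L i) hM) (invTensorIso (CohB1.tensorPow L i) hM)
    obtain ⟨a⟩ := Groth.Agent.Lib.T2H5.AmpleSerre.nonempty_tensorPow_add_iso L (j - i) i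
    have hji : j - i + i = j := by omega
    have φ : E.functor.obj (Coh.structureModule X) ≅ E.functor.obj (CohB1.tensorPow L (j - i)) :=
      (tensorSwapIso _ _ ≪≫ trUnitIso.app (CohB1.tensorPow L i)) ≪≫ ψ ≪≫
        eqToIso (by rw [hji]) ≪≫ a.symm
    exact h (j - i) (by omega) ⟨(E.functor.preimageIso φ).symm⟩
  obtain ⟨ψ⟩ := e
  rcases lt_trichotomy i j with hij | hij | hij
  · exact (key i j hij ⟨ψ⟩).elim
  · exact hij
  · exact (key j i hij ⟨ψ.symm⟩).elim

variable (k : Type u) [Field k] [X.Over (Spec (CommRingCat.of k))]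

/-- **S15339** in library form: an invertible module on a connected proper `k`-scheme is finite in the sense of
Weil iff it is torsion. -/
theorem weilFinite_invertible_iff [IsProper (X ↘ Spec (CommRingCat.of k))] [ConnectedSpace X]
    (L : X.Modules) (hL : PicF.IsInvertible L) :
    (∃ P Q : Polynomial ℕ, P ≠ Q ∧
      Nonempty (polyObj (CohB1.tensorPow L) P ≅ polyObj (CohB1.tensorPow L) Q)) ↔
    ∃ m : ℕ, 0 < m ∧ Nonempty (CohB1.tensorPow L m ≅ Coh.structureModule X) := by
  constructor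
  · rintro ⟨P, Q, hPQ, ⟨φ⟩⟩
    by_contra hcon
    push Not at hcon
    have hcon' : ∀ m : ℕ, 0 < m → ¬ Nonempty (CohB1.tensorPow L m ≅ Coh.structureModule X) :=
      fun m hm hne => (hcon m hm).false hne.some
    have hloc : ∀ i, IsLocalRing (End (CohB1.tensorPow L i)) := fun i => by
      have hM := Groth.Agent.Lib.Helper23.SecTw.isInvertible_tensorPow hL i
      have hc : Coh.IsCoh (CohB1.tensorPow L i) :=
        Groth.Agent.Lib.T2H6.RankAdd.isCoh_of_isFinLocFreeOfRank _ 1
          (Groth.Agent.Lib.Helper23.SecTw.isFinLocFreeOfRank_one_of_isInvertible _ hM)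
      haveI : Module.Finite k (End (CohB1.tensorPow L i)) :=
        Groth.Agent.Lib.T2H9.HomFinite.finite_hom k _ _ hc hc
      exact isLocalRing_end k (indec_invertible _ hM)
    exact hPQ (eq_of_polyObj_iso (CohB1.tensorPow L) hloc
      (tensorPow_injective_of_not_torsion L hL hcon') P Q φ)
  · rintro ⟨m, hm, ⟨ψ⟩⟩
    refine ⟨Polynomial.X ^ m, 1, ?_, ?_⟩
    · intro h
      have := congrArg Polynomial.natDegree h
      rw [Polynomial.natDegree_X_pow, Polynomial.natDegree_one] at this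
      omega
    · obtain ⟨a⟩ := nonempty_polyObj_X_pow_iso (CohB1.tensorPow L) m
      obtain ⟨b⟩ := nonempty_polyObj_X_pow_iso (CohB1.tensorPow L) 0
      rw [pow_zero] at b
      exact ⟨a ≪≫ ψ ≪≫ b.symm⟩

end Geo

end Groth.Agent.Lib.T2H9.WeilFin
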