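import Mathlib
import Groth.Agent.Lib.T2H9KSCat

set_option autoImplicit false
set_option linter.style.haveILetI false
universe u v

open CategoryTheory CategoryTheory.Limits

namespace Groth.Agent.Lib.T2H9.WeilFin

open Groth.Agent.Lib.T2H9.KS

section Abstract

variable {C : Type u} [Category.{v} C] [Preadditive C] [HasFiniteBiproducts C]

/-- an object with local endomorphism ring which is a retract of a biproduct of such objects is isomorphic to one of
them. -/
theorem exists_iso_of_retract_biproduct {κ : Type} [Fintype κ] (G : κ → C)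
    (hG : ∀ j, IsLocalRing (End (G j))) (B : C) [IsLocalRing (End B)] (i : B ⟶ ⨁ G) (r : ⨁ G ⟶ B)
    (h : i ≫ r = 𝟙 B) : ∃ j, Nonempty (B ≅ G j) := by
  classical
  set α : ∀ j, B ⟶ G j := fun j => i ≫ biproduct.π G j with hα
  set β : ∀ j, G j ⟶ B := fun j => biproduct.ι G j ≫ r with hβ
  have hsum : ∑ j, (show End B from α j ≫ β j) = 1 := by
    have h1 : ∀ j, α j ≫ β j = i ≫ (biproduct.π G j ≫ biproduct.ι G j) ≫ r := by
      intro j
      simp only [hα, hβ, Category.assoc]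
    change ∑ j, (α j ≫ β j) = 𝟙 B
    simp only [h1]
    rw [← Preadditive.comp_sum, ← Preadditive.sum_comp, biproduct.total, Category.id_comp, h]
  obtain ⟨j₀, -, hj₀⟩ := exists_isUnit_of_isUnit_sum Finset.univ
    (fun j => (show End B from α j ≫ β j)) (by rw [hsum]; exact isUnit_one)
  have hiso : IsIso (α j₀ ≫ β j₀) := (isUnit_iff_isIso _).1 hj₀
  refine ⟨j₀, ?_⟩
  set γ := inv (α j₀ ≫ β j₀) with hγ
  have hγ1 : γ ≫ α j₀ ≫ β j₀ = 𝟙 _ := IsIso.inv_hom_id _
  have hγ2 : (α j₀ ≫ β j₀) ≫ γ = 𝟙 _ := IsIso.hom_inv_id _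
  haveI := hG j₀
  have hidem : ((show End (G j₀) from β j₀ ≫ γ ≫ α j₀) * (show End (G j₀) from β j₀ ≫ γ ≫ α j₀)) =
      (show End (G j₀) from β j₀ ≫ γ ≫ α j₀) := by
    change (β j₀ ≫ γ ≫ α j₀) ≫ (β j₀ ≫ γ ≫ α j₀) = β j₀ ≫ γ ≫ α j₀
    simp only [Category.assoc]
    rw [reassoc_of% hγ1]
  rcases idem_of_isLocalRing _ hidem with h0 | h1
  · exfalso
    have h0' : β j₀ ≫ γ ≫ α j₀ = 0 := h0
    have h2 : (α j₀ ≫ β j₀) ≫ γ ≫ (α j₀ ≫ β j₀) = 0 := by
      have := congrArg (fun x => α j₀ ≫ x ≫ β j₀) h0'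
      simpa only [Category.assoc, comp_zero, zero_comp] using this
    rw [hγ1, Category.comp_id] at h2
    have h3 : (𝟙 B : B ⟶ B) = 0 := by
      rw [← hγ2, h2, zero_comp]
    have : (1 : End B) = 0 := h3
    exact one_ne_zero this
  · have h1' : β j₀ ≫ γ ≫ α j₀ = 𝟙 _ := h1
    exact ⟨⟨α j₀, β j₀ ≫ γ, by rw [← Category.assoc]; exact hγ2, by rw [Category.assoc]; exact h1'⟩⟩

variable [HasBinaryBiproducts C]

/-- Krull–Schmidt: the number of summands isomorphic to a given object is an invariant. -/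
theorem card_iso_eq_of_iso {ι κ : Type} [Fintype ι] [Fintype κ] (F : ι → C) (G : κ → C)
    (hF : ∀ i, IsLocalRing (End (F i))) (hG : ∀ j, IsLocalRing (End (G j))) (φ : ⨁ F ≅ ⨁ G) (B : C)
    [DecidablePred fun x : ι => Nonempty (F x ≅ B)] [DecidablePred fun y : κ => Nonempty (G y ≅ B)] :
    Fintype.card {x : ι // Nonempty (F x ≅ B)} = Fintype.card {y : κ // Nonempty (G y ≅ B)} := by
  obtain ⟨ε, hε⟩ := uniq F G hF hG φ
  refine Fintype.card_congr (ε.subtypeEquiv fun x => ?_)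
  obtain ⟨a⟩ := hε x
  exact ⟨fun ⟨b⟩ => ⟨a.symm ≪≫ b⟩, fun ⟨b⟩ => ⟨a ≪≫ b⟩⟩

omit [HasBinaryBiproducts C] in
/-- two biproducts of objects from a family `A`, with the same multiplicities, are isomorphic. -/
theorem nonempty_biproduct_iso_of_card_fiber_eq {τ ι κ : Type} [Fintype ι] [Fintype κ] [DecidableEq τ]
    (A : τ → C) (u : ι → τ) (v : κ → τ)
    (h : ∀ t, Fintype.card {x // u x = t} = Fintype.card {y // v y = t}) :
    Nonempty ((⨁ fun x => A (u x)) ≅ ⨁ fun y => A (v y)) := by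
  let ε : ι ≃ κ :=
    (Equiv.sigmaFiberEquiv u).symm.trans
      ((Equiv.sigmaCongrRight fun t => Fintype.equivOfCardEq (h t)).trans (Equiv.sigmaFiberEquiv v))
  have hε : ∀ x, v (ε x) = u x := by
    intro x
    exact ((Equiv.sigmaCongrRight fun t => Fintype.equivOfCardEq (h t))
      ((Equiv.sigmaFiberEquiv u).symm x)).2.2
  exact ⟨biproduct.mapIso (fun x => eqToIso (by rw [Function.comp_apply, hε])) ≪≫
    biproduct.reindex ε (fun y => A (v y))⟩

end Abstract

end Groth.Agent.Lib.T2H9.WeilFin
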