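import Mathlib
import Groth.Agent.Lib.T2H9WeilFin1
import Groth.Agent.Lib.T2H9WeilFin2

set_option autoImplicit false
set_option linter.style.haveILetI false
universe u v

open CategoryTheory CategoryTheory.Limits AlgebraicGeometry

namespace Groth.Agent.Lib.T2H9.WeilFin

open Groth.Agent.Lib.T2H9.KS Groth.Agent.Lib.T2H9.ASBun

section Cov

variable (k : Type u) [Field k] {X : Scheme.{u}} [X.Over (Spec (CommRingCat.of k))]
  [IsProper (X ↘ Spec (CommRingCat.of k))]

include k

theorem isLocallyNoetherian_of_proper : IsLocallyNoetherian X :=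
  LocallyOfFiniteType.isLocallyNoetherian (X ↘ Spec (CommRingCat.of k))

theorem isLocalRing_end_coh {B : X.Modules} (hB : Coh.IsCoh B) (hBi : Indec B) :
    IsLocalRing (End B) := by
  haveI : Module.Finite k (End B) := Groth.Agent.Lib.T2H9.HomFinite.finite_hom k _ _ hB hB
  exact isLocalRing_end k hBi

theorem isCoh_biproduct' {κ : Type} [Fintype κ] (G : κ → X.Modules) (hG : ∀ j, Coh.IsCoh (G j)) :
    Coh.IsCoh (⨁ G) := by
  haveI := isLocallyNoetherian_of_proper k (X := X)
  have h1 := Groth.Agent.Lib.T2H5.GenIsoA.isCoh_biproduct (G ∘ (Fintype.equivFin κ).symm)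
    (fun j => hG _)
  exact Groth.Agent.Lib.T2H5.Devissage.isCoh_of_iso
    (biproduct.reindex (Fintype.equivFin κ).symm G) h1

/-- a coherent module is a finite biproduct of indecomposable coherent modules. -/
theorem exists_decomp_coh (M : X.Modules) (hM : Coh.IsCoh M) :
    ∃ (n : ℕ) (H : Fin n → X.Modules), (∀ s, Indec (H s)) ∧ (∀ s, Coh.IsCoh (H s)) ∧
      Nonempty (M ≅ ⨁ H) := by
  haveI := isLocallyNoetherian_of_proper k (X := X)
  haveI : Module.Finite k (End M) := Groth.Agent.Lib.T2H9.HomFinite.finite_hom k _ _ hM hM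
  obtain ⟨n, H, hH, ⟨e⟩⟩ := exists_decomp k M
  refine ⟨n, H, hH, fun s => ?_, ⟨e⟩⟩
  exact isCoh_of_retract (biproduct.ι H s ≫ e.inv) (e.hom ≫ biproduct.π H s) (by simp) hM

/-- every indecomposable retract of `M` is isomorphic to a member of the family `A`. -/
def Cov {τ : Type} (A : τ → X.Modules) (M : X.Modules) : Prop :=
  ∀ B : X.Modules, Indec B → ∀ (i : B ⟶ M) (r : M ⟶ B), i ≫ r = 𝟙 B → ∃ t, Nonempty (B ≅ A t)

variable {τ : Type} {A : τ → X.Modules}

omit k [Field k] [IsProper (X ↘ Spec (CommRingCat.of k))] [X.Over (Spec (CommRingCat.of k))] in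
theorem Cov.retract {M M' : X.Modules} (h : Cov A M) (i : M' ⟶ M) (r : M ⟶ M') (hir : i ≫ r = 𝟙 M') :
    Cov A M' := fun B hB j s hjs =>
  h B hB (j ≫ i) (r ≫ s) (by rw [Category.assoc, reassoc_of% hir, hjs])

omit k [Field k] [IsProper (X ↘ Spec (CommRingCat.of k))] [X.Over (Spec (CommRingCat.of k))] in
theorem Cov.of_iso {M M' : X.Modules} (h : Cov A M) (e : M' ≅ M) : Cov A M' :=
  h.retract e.hom e.inv e.hom_inv_id

/-- a coherent module covered by `A` is a biproduct of members of `A`. -/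
theorem Cov.exists_labels {M : X.Modules} (h : Cov A M) (hM : Coh.IsCoh M) :
    ∃ (n : ℕ) (t : Fin n → τ), Nonempty (M ≅ ⨁ fun s => A (t s)) := by
  obtain ⟨n, H, hH, -, ⟨e⟩⟩ := exists_decomp_coh k M hM
  choose t ht using fun s => h (H s) (hH s) (biproduct.ι H s ≫ e.inv) (e.hom ≫ biproduct.π H s)
    (by simp)
  exact ⟨n, t, ⟨e ≪≫ biproduct.mapIso (fun s => (ht s).some)⟩⟩

/-- a biproduct of indecomposable coherent modules isomorphic to members of `A` is covered by `A`. -/
theorem cov_of_iso_biproduct {κ : Type} [Fintype κ] (G : κ → X.Modules) (hG : ∀ j, Coh.IsCoh (G j))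
    (hGi : ∀ j, Indec (G j)) {M : X.Modules} (e : M ≅ ⨁ G) (hGA : ∀ j, ∃ t, Nonempty (G j ≅ A t)) :
    Cov A M := by
  intro B hB i r hir
  haveI := isLocallyNoetherian_of_proper k (X := X)
  have hMc : Coh.IsCoh M :=
    Groth.Agent.Lib.T2H5.Devissage.isCoh_of_iso e.symm (isCoh_biproduct' k G hG)
  have hBc : Coh.IsCoh B := isCoh_of_retract i r hir hMc
  haveI := isLocalRing_end_coh k hBc hB
  obtain ⟨j, ⟨a⟩⟩ := exists_iso_of_retract_biproduct G (fun j => isLocalRing_end_coh k (hG j) (hGi j))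
    B (i ≫ e.hom) (e.inv ≫ r) (by simp [hir])
  obtain ⟨t, ⟨b⟩⟩ := hGA j
  exact ⟨t, ⟨a ≪≫ b⟩⟩

/-- a finite biproduct of coherent modules covered by `A` is covered by `A`. -/
theorem cov_biproduct {n : ℕ} (M : Fin n → X.Modules) (hM : ∀ j, Coh.IsCoh (M j))
    (h : ∀ j, Cov A (M j)) : Cov A (⨁ M) := by
  choose m H hH hHc he using fun j => exists_decomp_coh k (M j) (hM j)
  let e : ∀ j, M j ≅ ⨁ H j := fun j => (he j).some
  refine cov_of_iso_biproduct k (fun p : (Σ j, Fin (m j)) => H p.1 p.2) (fun p => hHc p.1 p.2)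
    (fun p => hH p.1 p.2)
    (biproduct.mapIso e ≪≫ biproductBiproductIso (fun j => Fin (m j)) (fun j s => H j s)) ?_
  rintro ⟨j, s⟩
  exact h j (H j s) (hH j s) (biproduct.ι (H j) s ≫ (e j).inv) ((e j).hom ≫ biproduct.π (H j) s)
    (by simp)

end Cov

section Count

/-- counting the summands of `P(E)` with a given label. -/
theorem card_polyIdx_sigma (P : Polynomial ℕ) (S : ℕ → Type) [∀ i, Fintype (S i)]
    (pred : ∀ i, S i → Prop) [∀ i, DecidablePred (pred i)] (D : ℕ) (hD : P.natDegree ≤ D) :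
    Fintype.card {x : (Σ p : PolyIdx P, S (p.1 : ℕ)) // pred _ x.2} =
      ∑ i ∈ Finset.range (D + 1), P.coeff i * Fintype.card {s : S i // pred i s} := by
  classical
  let e1 : {x : (Σ p : PolyIdx P, S (p.1 : ℕ)) // pred _ x.2} ≃
      Σ i : Fin (P.natDegree + 1), (Fin (P.coeff (i : ℕ)) × {s : S (i : ℕ) // pred _ s}) :=
    { toFun := fun x => ⟨x.1.1.1, x.1.1.2, x.1.2, x.2⟩
      invFun := fun y => ⟨⟨⟨y.1, y.2.1⟩, y.2.2.1⟩, y.2.2.2⟩
      left_inv := fun x => rfl
      right_inv := fun y => rfl }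
  rw [Fintype.card_congr e1, Fintype.card_sigma]
  simp only [Fintype.card_prod, Fintype.card_fin]
  rw [Fin.sum_univ_eq_sum_range (fun i => P.coeff i * Fintype.card {s : S i // pred i s})
    (P.natDegree + 1)]
  refine Finset.sum_subset (Finset.range_subset_range.2 (by omega)) fun i _ hi => ?_
  rw [Finset.mem_range, not_lt] at hi
  rw [Polynomial.coeff_eq_zero_of_natDegree_lt (by omega), zero_mul]

end Count

section FinType

variable (k : Type u) [Field k] {X : Scheme.{u}} [X.Over (Spec (CommRingCat.of k))]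
  [IsProper (X ↘ Spec (CommRingCat.of k))]

/-- finite in the sense of Weil. -/
def WF (E : X.Modules) : Prop :=
  ∃ P Q : Polynomial ℕ, P ≠ Q ∧
    Nonempty (polyObj (CohB1.tensorPow E) P ≅ polyObj (CohB1.tensorPow E) Q)

/-- finitely many indecomposable modules occur in the tensor powers of `E`. -/
def FinType (E : X.Modules) : Prop :=
  ∃ (τ : Type) (_ : Fintype τ) (A : τ → X.Modules), (∀ t, Indec (A t)) ∧ (∀ t, Coh.IsCoh (A t)) ∧
    ∀ n, Cov A (CohB1.tensorPow E n)

include k

theorem isCoh_tensorPow (E : X.Modules) (hE : Coh.IsCoh E) (n : ℕ) :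
    Coh.IsCoh (CohB1.tensorPow E n) := by
  haveI := isLocallyNoetherian_of_proper k (X := X)
  induction n with
  | zero => exact Groth.Agent.Lib.T2H5.GenIsoF.isCoh_structureModule
  | succ n ih => exact Groth.Agent.Lib.T2H5.FibReg.isCoh_tensor ih hE

/-- Nori's criterion, easy half: finitely many indecomposables in the tensor powers implies Weil-finite. -/
theorem wf_of_finType (E : X.Modules) (hE : Coh.IsCoh E) (h : FinType E) : WF E := by
  classical
  obtain ⟨τ, _, A, -, -, hcov⟩ := h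
  set N : ℕ := Fintype.card τ with hN
  choose n t he using fun i => (hcov i).exists_labels k (isCoh_tensorPow k E hE i)
  have hP : ∀ P : Polynomial ℕ, Nonempty (polyObj (CohB1.tensorPow E) P ≅
      ⨁ fun x : (Σ p : PolyIdx P, Fin (n (p.1 : ℕ))) => A (t _ x.2)) := fun P =>
    ⟨polyObjIso _ P ≪≫ biproduct.mapIso (fun p => (he (p.1 : ℕ)).some) ≪≫
      biproductBiproductIso (fun p : PolyIdx P => Fin (n (p.1 : ℕ))) (fun p s => A (t _ s))⟩
  let m : ℕ → τ → ℕ := fun i x => Fintype.card {s : Fin (n i) // t i s = x}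
  let w : Fin (N + 1) → (τ → ℤ) := fun i x => (m i x : ℤ)
  have hdep : ¬ LinearIndependent ℤ w := fun h => by
    have := h.fintype_card_le_finrank
    rw [Module.finrank_fintype_fun_eq_card, Fintype.card_fin] at this
    omega
  obtain ⟨g, hg, i₀, hi₀⟩ := Fintype.not_linearIndependent_iff.1 hdep
  let P : Polynomial ℕ := Polynomial.ofFn (N + 1) (fun i => (g i).toNat)
  let Q : Polynomial ℕ := Polynomial.ofFn (N + 1) (fun i => (-g i).toNat)
  have hPc : ∀ i : Fin (N + 1), P.coeff i = (g i).toNat := fun i =>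
    Polynomial.ofFn_coeff_eq_val_of_lt _ i.2
  have hQc : ∀ i : Fin (N + 1), Q.coeff i = (-g i).toNat := fun i =>
    Polynomial.ofFn_coeff_eq_val_of_lt _ i.2
  have hPd : P.natDegree ≤ N :=
    Nat.lt_succ_iff.1 (Polynomial.ofFn_natDegree_lt (by omega : 1 ≤ N + 1) (fun i => (g i).toNat))
  have hQd : Q.natDegree ≤ N :=
    Nat.lt_succ_iff.1 (Polynomial.ofFn_natDegree_lt (by omega : 1 ≤ N + 1) (fun i => (-g i).toNat))
  refine ⟨P, Q, ?_, ?_⟩
  · intro hPQ
    have h1 := hPc i₀
    rw [hPQ, hQc i₀] at h1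
    omega
  · obtain ⟨a⟩ := hP P
    obtain ⟨b⟩ := hP Q
    have hcount : ∀ y : τ,
        Fintype.card {x : (Σ p : PolyIdx P, Fin (n (p.1 : ℕ))) // t _ x.2 = y} =
        Fintype.card {x : (Σ p : PolyIdx Q, Fin (n (p.1 : ℕ))) // t _ x.2 = y} := by
      intro y
      rw [card_polyIdx_sigma P (fun i => Fin (n i)) (fun i s => t i s = y) N hPd,
        card_polyIdx_sigma Q (fun i => Fin (n i)) (fun i s => t i s = y) N hQd]
      have h1 := congrFun hg y
      rw [Finset.sum_apply] at h1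
      simp only [Pi.smul_apply, smul_eq_mul, Pi.zero_apply] at h1
      rw [Finset.sum_range, Finset.sum_range]
      have h2 : ∀ i : Fin (N + 1), g i = ((P.coeff i : ℕ) : ℤ) - ((Q.coeff i : ℕ) : ℤ) := by
        intro i
        rw [hPc, hQc]
        omega
      have h3 : (∑ i : Fin (N + 1), ((P.coeff i * m i y : ℕ) : ℤ)) =
          ∑ i : Fin (N + 1), ((Q.coeff i * m i y : ℕ) : ℤ) := by
        rw [← sub_eq_zero, ← Finset.sum_sub_distrib, ← h1]
        refine Finset.sum_congr rfl fun i _ => ?_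
        rw [h2 i]
        push_cast
        ring
      exact_mod_cast h3
    obtain ⟨c⟩ := nonempty_biproduct_iso_of_card_fiber_eq A
      (fun x : (Σ p : PolyIdx P, Fin (n (p.1 : ℕ))) => t _ x.2)
      (fun x : (Σ p : PolyIdx Q, Fin (n (p.1 : ℕ))) => t _ x.2) hcount
    exact ⟨a ≪≫ c ≪≫ b.symm⟩

end FinType

end Groth.Agent.Lib.T2H9.WeilFin
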