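import Mathlib
import Groth.Agent.Lib.T2H9WeilFin3

set_option autoImplicit false
set_option linter.style.haveILetI false
universe u v

open CategoryTheory CategoryTheory.Limits AlgebraicGeometry

namespace Groth.Agent.Lib.T2H9.WeilFin

open Groth.Agent.Lib.T2H9.KS Groth.Agent.Lib.T2H9.ASBun Groth.Agent.Lib.T2H5.Twist

section K4

variable (k : Type u) [Field k] {X : Scheme.{u}} [X.Over (Spec (CommRingCat.of k))]
  [IsProper (X ↘ Spec (CommRingCat.of k))]

include k

/-- tensoring with `E` preserves being covered by `A`, if it does so on the members of `A`. -/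
theorem cov_tensor {τ : Type} {A : τ → X.Modules} (hAc : ∀ t, Coh.IsCoh (A t)) (E : X.Modules)
    (hE : Coh.IsCoh E) (hAE : ∀ t, Cov A (CohB1.tensorMod (A t) E)) {M : X.Modules} (hM : Coh.IsCoh M)
    (h : Cov A M) : Cov A (CohB1.tensorMod M E) := by
  haveI := isLocallyNoetherian_of_proper k (X := X)
  obtain ⟨n, t, ⟨e⟩⟩ := h.exists_labels k hM
  haveI : PreservesBiproduct (fun s => A (t s)) (tr E) := inferInstance
  have e2 : CohB1.tensorMod M E ≅ ⨁ fun s => CohB1.tensorMod (A (t s)) E :=
    (tr E).mapIso e ≪≫ (tr E).mapBiproduct (fun s => A (t s))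
  exact (cov_biproduct k (fun s => CohB1.tensorMod (A (t s)) E)
    (fun s => Groth.Agent.Lib.T2H5.FibReg.isCoh_tensor (hAc _) hE) (fun s => hAE _)).of_iso e2

/-- Nori's criterion, main half: a Weil-finite coherent module has only finitely many indecomposable modules in its
tensor powers. -/
theorem finType_of_wf (E : X.Modules) (hE : Coh.IsCoh E) (h : WF E) : FinType E := by
  classical
  haveI := isLocallyNoetherian_of_proper k (X := X)
  obtain ⟨P, Q, hPQ, ⟨φ⟩⟩ := h
  choose n H hHi hHc he using fun i => exists_decomp_coh k (CohB1.tensorPow E i)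
    (isCoh_tensorPow k E hE i)
  have hloc : ∀ i s, IsLocalRing (End (H i s)) := fun i s => isLocalRing_end_coh k (hHc i s) (hHi i s)
  have hR : ∀ R : Polynomial ℕ, Nonempty (polyObj (CohB1.tensorPow E) R ≅
      ⨁ fun x : (Σ p : PolyIdx R, Fin (n (p.1 : ℕ))) => H _ x.2) := fun R =>
    ⟨polyObjIso _ R ≪≫ biproduct.mapIso (fun p => (he (p.1 : ℕ)).some) ≪≫
      biproductBiproductIso (fun p : PolyIdx R => Fin (n (p.1 : ℕ))) (fun p s => H _ s)⟩
  obtain ⟨a⟩ := hR P
  obtain ⟨b⟩ := hR Q
  set D : ℕ := max P.natDegree Q.natDegree with hD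
  -- the counting identity
  have hcount : ∀ B : X.Modules,
      ∑ i ∈ Finset.range (D + 1), P.coeff i * Fintype.card {s : Fin (n i) // Nonempty (H i s ≅ B)} =
      ∑ i ∈ Finset.range (D + 1), Q.coeff i * Fintype.card {s : Fin (n i) // Nonempty (H i s ≅ B)} := by
    intro B
    rw [← card_polyIdx_sigma P (fun i => Fin (n i)) (fun i s => Nonempty (H i s ≅ B)) D (le_max_left _ _),
      ← card_polyIdx_sigma Q (fun i => Fin (n i)) (fun i s => Nonempty (H i s ≅ B)) D
        (le_max_right _ _)]
    exact card_iso_eq_of_iso _ _ (fun x => hloc _ _) (fun x => hloc _ _) (a.symm ≪≫ φ ≪≫ b) B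
  -- the top index where `P` and `Q` differ
  have hne : ((Finset.range (D + 1)).filter fun i => P.coeff i ≠ Q.coeff i).Nonempty := by
    by_contra hemp
    rw [Finset.not_nonempty_iff_eq_empty, Finset.filter_eq_empty_iff] at hemp
    apply hPQ
    ext i
    by_cases hi : i ∈ Finset.range (D + 1)
    · have := hemp hi
      push Not at this
      exact this
    · rw [Finset.mem_range, not_lt] at hi
      rw [Polynomial.coeff_eq_zero_of_natDegree_lt (lt_of_le_of_lt (le_max_left _ _) hi),
        Polynomial.coeff_eq_zero_of_natDegree_lt (lt_of_le_of_lt (le_max_right _ _) hi)]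
  set d : ℕ := ((Finset.range (D + 1)).filter fun i => P.coeff i ≠ Q.coeff i).max' hne with hd
  have hd1 : d ∈ (Finset.range (D + 1)).filter fun i => P.coeff i ≠ Q.coeff i :=
    Finset.max'_mem _ hne
  rw [Finset.mem_filter, Finset.mem_range] at hd1
  have hd2 : ∀ i, d < i → P.coeff i = Q.coeff i := by
    intro i hi
    by_cases hiD : i < D + 1
    · by_contra hcon
      have : i ≤ d := Finset.le_max' _ i (Finset.mem_filter.2 ⟨Finset.mem_range.2 hiD, hcon⟩)
      omega
    · rw [Polynomial.coeff_eq_zero_of_natDegree_lt (by omega),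
        Polynomial.coeff_eq_zero_of_natDegree_lt (by omega)]
  -- key: an indecomposable summand of `E^{⊗ d}` already occurs in a lower tensor power
  have hkey : ∀ B : X.Modules, (∀ i, i < d → Fintype.card {s : Fin (n i) // Nonempty (H i s ≅ B)} = 0) →
      Fintype.card {s : Fin (n d) // Nonempty (H d s ≅ B)} = 0 := by
    intro B hB
    have h1 := hcount B
    rw [← Finset.add_sum_erase _ _ (Finset.mem_range.2 hd1.1),
      ← Finset.add_sum_erase _ _ (Finset.mem_range.2 hd1.1)] at h1
    have h2 : ∑ i ∈ (Finset.range (D + 1)).erase d,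
        P.coeff i * Fintype.card {s : Fin (n i) // Nonempty (H i s ≅ B)} =
        ∑ i ∈ (Finset.range (D + 1)).erase d,
        Q.coeff i * Fintype.card {s : Fin (n i) // Nonempty (H i s ≅ B)} := by
      refine Finset.sum_congr rfl fun i hi => ?_
      rw [Finset.mem_erase] at hi
      rcases lt_or_gt_of_ne hi.1 with hlt | hgt
      · rw [hB i hlt, mul_zero, mul_zero]
      · rw [hd2 i hgt]
    rw [h2] at h1
    have h3 := Nat.add_right_cancel h1
    by_contra hc
    exact hd1.2 (Nat.eq_of_mul_eq_mul_right (Nat.pos_of_ne_zero hc) h3)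
  -- the finite family
  let A : (Σ i : Fin d, Fin (n (i : ℕ))) → X.Modules := fun x => H _ x.2
  have hbase : ∀ m, m ≤ d → Cov A (CohB1.tensorPow E m) := by
    intro m hm
    refine cov_of_iso_biproduct k (H m) (hHc m) (hHi m) (he m).some fun s => ?_
    rcases Nat.lt_or_ge m d with hlt | hge
    · exact ⟨⟨⟨m, hlt⟩, s⟩, ⟨Iso.refl _⟩⟩
    · have hmd : m = d := le_antisymm hm hge
      subst hmd
      by_contra hcon
      push Not at hcon
      have h0 := hkey (H d s) (fun i hi => by
        rw [Fintype.card_eq_zero_iff]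
        refine ⟨fun ⟨s', ⟨ψ⟩⟩ => ?_⟩
        exact (hcon ⟨⟨i, hi⟩, s'⟩).false ψ.symm)
      rw [Fintype.card_eq_zero_iff] at h0
      exact h0.false ⟨s, ⟨Iso.refl _⟩⟩
  have hAE : ∀ x, Cov A (CohB1.tensorMod (A x) E) := by
    rintro ⟨i, s⟩
    have h1 := hbase ((i : ℕ) + 1) i.2
    let ei := (he (i : ℕ)).some
    have hret : (tr E).map (biproduct.ι (H (i : ℕ)) s ≫ ei.inv) ≫
        (tr E).map (ei.hom ≫ biproduct.π (H (i : ℕ)) s) = 𝟙 ((tr E).obj (H (i : ℕ) s)) := by
      rw [← (tr E).map_comp, show (biproduct.ι (H (i : ℕ)) s ≫ ei.inv) ≫ ei.hom ≫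
        biproduct.π (H (i : ℕ)) s = 𝟙 _ by simp]
      exact (tr E).map_id _
    exact h1.retract ((tr E).map (biproduct.ι (H (i : ℕ)) s ≫ ei.inv))
      ((tr E).map (ei.hom ≫ biproduct.π (H (i : ℕ)) s)) hret
  refine ⟨_, inferInstance, A, fun x => hHi _ _, fun x => hHc _ _, fun m => ?_⟩
  rcases Nat.lt_or_ge m d with hlt | hge
  · exact hbase m hlt.le
  · induction m, hge using Nat.le_induction with
    | base => exact hbase d le_rfl
    | succ m _ ih =>
      exact cov_tensor k (fun x => hHc _ _) E hE hAE (isCoh_tensorPow k E hE m) ih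

end K4

end Groth.Agent.Lib.T2H9.WeilFin
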