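import Mathlib
import Groth.Agent.Lib.T2H9WeilFin4
import Groth.Agent.Lib.T2H5GenIsoD

set_option autoImplicit false
set_option linter.style.haveILetI false
universe u v

open CategoryTheory CategoryTheory.Limits AlgebraicGeometry

namespace Groth.Agent.Lib.T2H9.WeilFin

open Groth.Agent.Lib.T2H9.KS Groth.Agent.Lib.T2H9.ASBun Groth.Agent.Lib.T2H5.Twist
  Groth.Agent.Lib.Helper21.ModTensor3 Groth.Agent.Lib.Helper21.ModTensor5

section Tens

variable {X : Scheme.{u}}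

/-- tensoring on the left with `N`. -/
noncomputable abbrev tl (N : X.Modules) : X.Modules ⥤ X.Modules := tL X.sheaf N

theorem tl_obj (N M : X.Modules) : (tl N).obj M = CohB1.tensorMod N M := rfl

theorem bifunctor_retract {C D E' : Type*} [Category C] [Category D] [Category E'] (B : C ⥤ D ⥤ E')
    {M₁ M : C} {E₁ E : D} (i : M₁ ⟶ M) (r : M ⟶ M₁) (hir : i ≫ r = 𝟙 M₁)
    (j : E₁ ⟶ E) (s : E ⟶ E₁) (hjs : j ≫ s = 𝟙 E₁) :
    ((B.map i).app E₁ ≫ (B.obj M).map j) ≫ ((B.obj M).map s ≫ (B.map r).app E₁) =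
      𝟙 ((B.obj M₁).obj E₁) := by
  rw [Category.assoc, ← CategoryTheory.Functor.map_comp_assoc, hjs, CategoryTheory.Functor.map_id,
    Category.id_comp, ← NatTrans.comp_app, ← CategoryTheory.Functor.map_comp, hir,
    CategoryTheory.Functor.map_id]
  rfl

/-- a tensor product of retracts is a retract of the tensor product. -/
theorem retract_tensor {M₁ M E₁ E : X.Modules} (i : M₁ ⟶ M) (r : M ⟶ M₁) (hir : i ≫ r = 𝟙 M₁)
    (j : E₁ ⟶ E) (s : E ⟶ E₁) (hjs : j ≫ s = 𝟙 E₁) :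
    ∃ (ι : CohB1.tensorMod M₁ E₁ ⟶ CohB1.tensorMod M E)
      (ρ : CohB1.tensorMod M E ⟶ CohB1.tensorMod M₁ E₁), ι ≫ ρ = 𝟙 _ :=
  ⟨_, _, bifunctor_retract (ModSite.tensorBi X.sheaf) i r hir j s hjs⟩

theorem retract_tensorPow {E₁ E : X.Modules} (i : E₁ ⟶ E) (r : E ⟶ E₁) (hir : i ≫ r = 𝟙 E₁) (n : ℕ) :
    ∃ (ι : CohB1.tensorPow E₁ n ⟶ CohB1.tensorPow E n)
      (ρ : CohB1.tensorPow E n ⟶ CohB1.tensorPow E₁ n), ι ≫ ρ = 𝟙 _ := by
  induction n with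
  | zero => exact ⟨𝟙 _, 𝟙 _, Category.id_comp _⟩
  | succ n ih =>
    obtain ⟨ι, ρ, h⟩ := ih
    exact retract_tensor ι ρ h i r hir

/-- `(a ⊗ b) ⊗ c ≅ (a ⊗ c) ⊗ b`. -/
noncomputable def rightSwapIso (a b c : X.Modules) :
    CohB1.tensorMod (CohB1.tensorMod a b) c ≅ CohB1.tensorMod (CohB1.tensorMod a c) b :=
  (trComp b c).app a ≪≫ (tl a).mapIso (tensorSwapIso b c) ≪≫ ((trComp c b).app a).symm

/-- `(a ⊗ b) ⊗ (c ⊗ d) ≅ (a ⊗ c) ⊗ (b ⊗ d)`. -/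
noncomputable def interchangeIso (a b c d : X.Modules) :
    CohB1.tensorMod (CohB1.tensorMod a b) (CohB1.tensorMod c d) ≅
      CohB1.tensorMod (CohB1.tensorMod a c) (CohB1.tensorMod b d) :=
  ((trComp c d).app (CohB1.tensorMod a b)).symm ≪≫ (tr d).mapIso (rightSwapIso a b c) ≪≫
    (trComp b d).app (CohB1.tensorMod a c)

theorem nonempty_tensorPow_tensor_iso (E₁ E₂ : X.Modules) (n : ℕ) :
    Nonempty (CohB1.tensorPow (CohB1.tensorMod E₁ E₂) n ≅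
      CohB1.tensorMod (CohB1.tensorPow E₁ n) (CohB1.tensorPow E₂ n)) := by
  induction n with
  | zero => exact ⟨(trUnitIso.app (Coh.structureModule X)).symm⟩
  | succ n ih =>
    obtain ⟨e⟩ := ih
    exact ⟨(tr (CohB1.tensorMod E₁ E₂)).mapIso e ≪≫ interchangeIso _ _ _ _⟩

end Tens

section K5

variable (k : Type u) [Field k] {X : Scheme.{u}} [X.Over (Spec (CommRingCat.of k))]
  [IsProper (X ↘ Spec (CommRingCat.of k))]

omit [IsProper (X ↘ Spec (CommRingCat.of k))] in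
theorem finType_of_retract {E₁ E : X.Modules} (i : E₁ ⟶ E) (r : E ⟶ E₁) (hir : i ≫ r = 𝟙 E₁)
    (h : FinType E) : FinType E₁ := by
  obtain ⟨τ, hτ, A, hAi, hAc, hcov⟩ := h
  refine ⟨τ, hτ, A, hAi, hAc, fun n => ?_⟩
  obtain ⟨ι, ρ, hιρ⟩ := retract_tensorPow i r hir n
  exact (hcov n).retract ι ρ hιρ

include k

theorem cov_biproduct' {τ : Type} {A : τ → X.Modules} {κ : Type} [Fintype κ] (M : κ → X.Modules)
    (hM : ∀ j, Coh.IsCoh (M j)) (h : ∀ j, Cov A (M j)) : Cov A (⨁ M) :=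
  (cov_biproduct k (M ∘ (Fintype.equivFin κ).symm) (fun _ => hM _) (fun _ => h _)).of_iso
    (biproduct.reindex (Fintype.equivFin κ).symm M).symm

/-- finitely many indecomposables cover all tensor products of modules covered by two finite families. -/
theorem exists_cov_tensor {τ σ : Type} (A : τ → X.Modules) (B : σ → X.Modules)
    [Fintype τ] [Fintype σ] (hA : ∀ t, Coh.IsCoh (A t)) (hB : ∀ s, Coh.IsCoh (B s)) :
    ∃ (ρ : Type) (_ : Fintype ρ) (C : ρ → X.Modules), (∀ c, Indec (C c)) ∧ (∀ c, Coh.IsCoh (C c)) ∧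
      ∀ M₁ M₂ : X.Modules, Coh.IsCoh M₁ → Coh.IsCoh M₂ → Cov A M₁ → Cov B M₂ →
        Cov C (CohB1.tensorMod M₁ M₂) := by
  classical
  haveI := isLocallyNoetherian_of_proper k (X := X)
  choose n H hHi hHc he using fun p : τ × σ => exists_decomp_coh k (CohB1.tensorMod (A p.1) (B p.2))
    (Groth.Agent.Lib.T2H5.FibReg.isCoh_tensor (hA p.1) (hB p.2))
  let C : (Σ p : τ × σ, Fin (n p)) → X.Modules := fun x => H x.1 x.2
  have hbase : ∀ t s, Cov C (CohB1.tensorMod (A t) (B s)) := fun t s =>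
    cov_of_iso_biproduct k (H (t, s)) (hHc _) (hHi _) (he (t, s)).some
      (fun j => ⟨⟨(t, s), j⟩, ⟨Iso.refl _⟩⟩)
  refine ⟨_, inferInstance, C, fun x => hHi _ _, fun x => hHc _ _, ?_⟩
  intro M₁ M₂ hM₁ hM₂ h₁ h₂
  obtain ⟨n₁, t, ⟨e₁⟩⟩ := h₁.exists_labels k hM₁
  obtain ⟨n₂, s, ⟨e₂⟩⟩ := h₂.exists_labels k hM₂
  have step1 : ∀ t', Cov C (CohB1.tensorMod (A t') M₂) := by
    intro t'
    haveI : PreservesBiproduct (fun b => B (s b)) (tl (A t')) := inferInstance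
    have e : CohB1.tensorMod (A t') M₂ ≅ ⨁ fun b => CohB1.tensorMod (A t') (B (s b)) :=
      (tl (A t')).mapIso e₂ ≪≫ (tl (A t')).mapBiproduct (fun b => B (s b))
    exact (cov_biproduct k (fun b => CohB1.tensorMod (A t') (B (s b)))
      (fun b => Groth.Agent.Lib.T2H5.FibReg.isCoh_tensor (hA _) (hB _)) (fun b => hbase _ _)).of_iso e
  haveI : PreservesBiproduct (fun a => A (t a)) (tr M₂) := inferInstance
  have e : CohB1.tensorMod M₁ M₂ ≅ ⨁ fun a => CohB1.tensorMod (A (t a)) M₂ :=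
    (tr M₂).mapIso e₁ ≪≫ (tr M₂).mapBiproduct (fun a => A (t a))
  exact (cov_biproduct k (fun a => CohB1.tensorMod (A (t a)) M₂)
    (fun a => Groth.Agent.Lib.T2H5.FibReg.isCoh_tensor (hA _) hM₂) (fun a => step1 _)).of_iso e

end K5

section Mixed

/-- a binary biproduct of two biproducts is a biproduct over the sum of the index types. -/
noncomputable def biprodBiproductIso {C : Type*} [Category C] [Preadditive C] [HasFiniteBiproducts C]
    [HasBinaryBiproducts C] {κ κ' : Type} [Fintype κ] [Fintype κ'] (h : κ ⊕ κ' → C) :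
    ((⨁ fun j => h (Sum.inl j)) ⊞ (⨁ fun j => h (Sum.inr j)) : C) ≅ ⨁ h where
  hom := biprod.desc (biproduct.desc fun j => biproduct.ι h (Sum.inl j))
    (biproduct.desc fun j => biproduct.ι h (Sum.inr j))
  inv := biproduct.desc (fun x => match x with
    | .inl j => biproduct.ι (fun j => h (Sum.inl j)) j ≫ biprod.inl
    | .inr j => biproduct.ι (fun j => h (Sum.inr j)) j ≫ biprod.inr)
  hom_inv_id := by
    ext <;> simp
  inv_hom_id := by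
    refine biproduct.hom_ext' _ _ fun x => ?_
    cases x <;> simp

variable {X : Scheme.{u}}

/-- `M` is a finite biproduct of modules of the form `E₁^{⊗ a} ⊗ E₂^{⊗ b}`. -/
def Mixed (E₁ E₂ M : X.Modules) : Prop :=
  ∃ (κ : Type) (_ : Fintype κ) (a b : κ → ℕ),
    Nonempty (M ≅ ⨁ fun j => CohB1.tensorMod (CohB1.tensorPow E₁ (a j)) (CohB1.tensorPow E₂ (b j)))

variable {E₁ E₂ : X.Modules}

theorem Mixed.of_iso {M M' : X.Modules} (h : Mixed E₁ E₂ M) (e : M' ≅ M) : Mixed E₁ E₂ M' := by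
  obtain ⟨κ, hκ, a, b, ⟨φ⟩⟩ := h
  exact ⟨κ, hκ, a, b, ⟨e ≪≫ φ⟩⟩

theorem mixed_unit : Mixed E₁ E₂ (Coh.structureModule X) :=
  ⟨Unit, inferInstance, fun _ => 0, fun _ => 0,
    ⟨(trUnitIso.app (Coh.structureModule X)).symm ≪≫
      (biproductUniqueIso (fun _ : Unit => CohB1.tensorMod (CohB1.tensorPow E₁ 0)
        (CohB1.tensorPow E₂ 0))).symm⟩⟩

theorem Mixed.biprod {M M' : X.Modules} (h : Mixed E₁ E₂ M) (h' : Mixed E₁ E₂ M') :
    Mixed E₁ E₂ (M ⊞ M') := by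
  obtain ⟨κ, hκ, a, b, ⟨φ⟩⟩ := h
  obtain ⟨κ', hκ', a', b', ⟨φ'⟩⟩ := h'
  refine ⟨κ ⊕ κ', inferInstance, Sum.elim a a', Sum.elim b b', ⟨biprod.mapIso φ φ' ≪≫ ?_⟩⟩
  exact biprodBiproductIso (fun j : κ ⊕ κ' => CohB1.tensorMod (CohB1.tensorPow E₁ (Sum.elim a a' j))
    (CohB1.tensorPow E₂ (Sum.elim b b' j)))

theorem Mixed.tensor_left {M : X.Modules} (h : Mixed E₁ E₂ M) : Mixed E₁ E₂ (CohB1.tensorMod M E₁) := by
  obtain ⟨κ, hκ, a, b, ⟨φ⟩⟩ := h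
  haveI : PreservesBiproduct (fun j => CohB1.tensorMod (CohB1.tensorPow E₁ (a j))
    (CohB1.tensorPow E₂ (b j))) (tr E₁) := inferInstance
  refine ⟨κ, hκ, fun j => a j + 1, b, ⟨(tr E₁).mapIso φ ≪≫ (tr E₁).mapBiproduct _ ≪≫
    biproduct.mapIso (fun j => rightSwapIso _ _ _)⟩⟩

theorem Mixed.tensor_right {M : X.Modules} (h : Mixed E₁ E₂ M) : Mixed E₁ E₂ (CohB1.tensorMod M E₂) := by
  obtain ⟨κ, hκ, a, b, ⟨φ⟩⟩ := h
  haveI : PreservesBiproduct (fun j => CohB1.tensorMod (CohB1.tensorPow E₁ (a j))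
    (CohB1.tensorPow E₂ (b j))) (tr E₂) := inferInstance
  refine ⟨κ, hκ, a, fun j => b j + 1, ⟨(tr E₂).mapIso φ ≪≫ (tr E₂).mapBiproduct _ ≪≫
    biproduct.mapIso (fun j => (trComp (CohB1.tensorPow E₂ (b j)) E₂).app (CohB1.tensorPow E₁ (a j)))⟩⟩

theorem Mixed.tensor_biprod {M : X.Modules} (h : Mixed E₁ E₂ M) :
    Mixed E₁ E₂ (CohB1.tensorMod M (E₁ ⊞ E₂)) := by
  haveI : PreservesBinaryBiproduct E₁ E₂ (tl M) :=
    preservesBinaryBiproduct_of_preservesBiproduct (tl M) E₁ E₂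
  exact (h.tensor_left.biprod h.tensor_right).of_iso ((tl M).mapBiprod E₁ E₂)

theorem mixed_tensorPow (E₁ E₂ : X.Modules) (n : ℕ) : Mixed E₁ E₂ (CohB1.tensorPow (E₁ ⊞ E₂) n) := by
  induction n with
  | zero => exact mixed_unit
  | succ n ih => exact ih.tensor_biprod

end Mixed

section Final

variable (k : Type u) [Field k] {X : Scheme.{u}} [X.Over (Spec (CommRingCat.of k))]
  [IsProper (X ↘ Spec (CommRingCat.of k))]

include k

theorem Mixed.cov {E₁ E₂ M : X.Modules} {ρ : Type} {C : ρ → X.Modules} (hE₁ : Coh.IsCoh E₁)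
    (hE₂ : Coh.IsCoh E₂)
    (hC : ∀ a b, Cov C (CohB1.tensorMod (CohB1.tensorPow E₁ a) (CohB1.tensorPow E₂ b)))
    (h : Mixed E₁ E₂ M) : Cov C M := by
  haveI := isLocallyNoetherian_of_proper k (X := X)
  obtain ⟨κ, hκ, a, b, ⟨φ⟩⟩ := h
  exact (cov_biproduct' k _ (fun j => Groth.Agent.Lib.T2H5.FibReg.isCoh_tensor
    (isCoh_tensorPow k E₁ hE₁ _) (isCoh_tensorPow k E₂ hE₂ _)) (fun j => hC _ _)).of_iso φ

/-- Nori: direct sums and tensor products of modules of finite type are of finite type. -/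
theorem finType_biprod_and_tensor (E₁ E₂ : X.Modules) (hE₁ : Coh.IsCoh E₁) (hE₂ : Coh.IsCoh E₂)
    (h₁ : FinType E₁) (h₂ : FinType E₂) :
    FinType (E₁ ⊞ E₂) ∧ FinType (CohB1.tensorMod E₁ E₂) := by
  obtain ⟨τ, hτ, A, -, hAc, hA⟩ := h₁
  obtain ⟨σ, hσ, B, -, hBc, hB⟩ := h₂
  obtain ⟨ρ, hρ, C, hCi, hCc, hC⟩ := exists_cov_tensor k A B hAc hBc
  have hC' : ∀ a b, Cov C (CohB1.tensorMod (CohB1.tensorPow E₁ a) (CohB1.tensorPow E₂ b)) :=
    fun a b => hC _ _ (isCoh_tensorPow k E₁ hE₁ a) (isCoh_tensorPow k E₂ hE₂ b) (hA a) (hB b)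
  refine ⟨⟨ρ, hρ, C, hCi, hCc, fun n => ?_⟩, ⟨ρ, hρ, C, hCi, hCc, fun n => ?_⟩⟩
  · exact (mixed_tensorPow E₁ E₂ n).cov k hE₁ hE₂ hC'
  · exact (hC' n n).of_iso (nonempty_tensorPow_tensor_iso E₁ E₂ n).some

theorem wf_of_wf_biprod (E₁ E₂ : X.Modules) (hE₁ : Coh.IsCoh E₁) (hE₂ : Coh.IsCoh E₂)
    (h : WF (E₁ ⊞ E₂)) : WF E₁ := by
  haveI := isLocallyNoetherian_of_proper k (X := X)
  exact wf_of_finType k E₁ hE₁ (finType_of_retract biprod.inl biprod.fst biprod.inl_fst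
    (finType_of_wf k _ (Groth.Agent.Lib.T2H5.GenIsoD.isCoh_biprod E₁ E₂ hE₁ hE₂) h))

theorem wf_biprod_and_tensor (E₁ E₂ : X.Modules) (hE₁ : Coh.IsCoh E₁) (hE₂ : Coh.IsCoh E₂)
    (h₁ : WF E₁) (h₂ : WF E₂) : WF (E₁ ⊞ E₂) ∧ WF (CohB1.tensorMod E₁ E₂) := by
  haveI := isLocallyNoetherian_of_proper k (X := X)
  obtain ⟨ha, hb⟩ := finType_biprod_and_tensor k E₁ E₂ hE₁ hE₂ (finType_of_wf k E₁ hE₁ h₁)
    (finType_of_wf k E₂ hE₂ h₂)
  exact ⟨wf_of_finType k _ (Groth.Agent.Lib.T2H5.GenIsoD.isCoh_biprod E₁ E₂ hE₁ hE₂) ha,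
    wf_of_finType k _ (Groth.Agent.Lib.T2H5.FibReg.isCoh_tensor hE₁ hE₂) hb⟩

end Final

end Groth.Agent.Lib.T2H9.WeilFin
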