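import Mathlib
import Groth.Agent.Lib.T2H9WeilFin5
import Groth.Agent.Lib.T2H5ProjFLF4
import Groth.Agent.Lib.T2H6EtCovC
import Groth.Agent.Lib.T2H6HurwE
import Groth.Agent.Lib.T2H9ASBunG2

set_option autoImplicit false
set_option linter.style.haveILetI false
universe u v

open CategoryTheory CategoryTheory.Limits AlgebraicGeometry

namespace Groth.Agent.Lib.T2H9.WeilFin

open Groth.Agent.Lib.T2H9.KS Groth.Agent.Lib.T2H9.ASBun Groth.Agent.Lib.T2H5.Twist
  Groth.Agent.Lib.Helper21.ModTensor3 Groth.Agent.Lib.Helper21.ModTensor5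

section Trace

/-- in characteristic zero, the structure sheaf is a direct summand of `f_* O_Y` for `f` finite étale surjective
(the normalised trace). -/
theorem exists_retract_pushforward_structureModule (k : Type u) [Field k] [CharZero k] {X Y : Scheme.{u}}
    [X.Over (Spec (CommRingCat.of k))] [IsIntegral X] (f : Y ⟶ X) [IsFinite f] [Etale f]
    [Surjective f] :
    ∃ (i : Coh.structureModule X ⟶ (Scheme.Modules.pushforward f).obj (Coh.structureModule Y))
      (ρ : (Scheme.Modules.pushforward f).obj (Coh.structureModule Y) ⟶ Coh.structureModule X),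
      i ≫ ρ = 𝟙 _ := by
  haveI : Nonempty Y := by
    obtain ⟨y, -⟩ := f.surjective (Classical.arbitrary X)
    exact ⟨y⟩
  haveI : (Coh.structureModule Y).IsQuasicoherent :=
    (Groth.Agent.Lib.T2H5.GenIsoF.isCoh_structureModule (Z := Y)).1
  haveI : ((Scheme.Modules.pushforward f).obj (Coh.structureModule Y)).IsQuasicoherent :=
    Groth.Agent.Lib.Helper23.QCohLocal.isQuasicoherent_pushforward f _
  have hE0 : FlatMod.IsFinLocFree ((Scheme.Modules.pushforward f).obj (Coh.structureModule Y)) :=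
    Groth.Agent.Helper18FinFlat.pushforward_isFinLocFree f
      ⟨inferInstance, inferInstance, inferInstance⟩
  obtain ⟨d, hEd⟩ : ∃ d : ℕ, FlatMod.IsFinLocFreeOfRank d
      ((Scheme.Modules.pushforward f).obj (Coh.structureModule Y)) :=
    ⟨_, Groth.Agent.Lib.T2H6.CurveVB.exists_rank _ hE0⟩
  have hAd : FlatMod.IsFinLocFreeOfRank d (RelSpec.QCAlg.directImage f).toModule :=
    Groth.Agent.Lib.Helper26.ModRank.isFinLocFreeOfRank_of_iso
      (Groth.Agent.Lib.T2H6.EtCov.pushIso f).symm hEd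
  have hd : 0 < d := Groth.Agent.Lib.T2H6.Hurw.rank_pos f d hEd
  obtain ⟨τ, hτ, -⟩ := Groth.Agent.Helper18Trace.main_S19694 (RelSpec.QCAlg.directImage f)
    (Groth.Agent.Lib.T2H6.EtCov.isFinLocFree_directImage f)
  have h1 := Groth.Agent.Helper18Trace.main_S19695 (RelSpec.QCAlg.directImage f) d hAd τ hτ
  refine ⟨FinCov.strMod (RelSpec.QCAlg.directImage f) ≫ (Groth.Agent.Lib.T2H6.EtCov.pushIso f).hom,
    (Groth.Agent.Lib.T2H6.EtCov.pushIso f).inv ≫ ((d : k)⁻¹ • τ), ?_⟩
  rw [Category.assoc, Iso.hom_inv_id_assoc, Linear.comp_smul, h1, ← Nat.cast_smul_eq_nsmul k,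
    smul_smul, inv_mul_cancel₀ (Nat.cast_ne_zero.2 hd.ne'), one_smul]

end Trace

section Push

theorem retract_of_isos {C : Type*} [Category C] {A A' B B' : C} (ι₀ : A ⟶ B) (π₀ : B ⟶ A)
    (h : ι₀ ≫ π₀ = 𝟙 A) (c : A' ≅ A) (e : B ≅ B') :
    ∃ (ι : A' ⟶ B') (π : B' ⟶ A'), ι ≫ π = 𝟙 A' :=
  ⟨c.hom ≫ ι₀ ≫ e.hom, e.inv ≫ π₀ ≫ c.inv, by
    simp only [Category.assoc, Iso.hom_inv_id_assoc]
    rw [reassoc_of% h, Iso.hom_inv_id]⟩

variable {X Y : Scheme.{u}} (f : Y ⟶ X)

/-- if `O_X` is a direct summand of `f_* O_Y`, every finite locally free `M` is a direct summand of `f_* f^* M`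
(projection formula). -/
theorem exists_retract_pushforward_pullback
    (i : Coh.structureModule X ⟶ (Scheme.Modules.pushforward f).obj (Coh.structureModule Y))
    (ρ : (Scheme.Modules.pushforward f).obj (Coh.structureModule Y) ⟶ Coh.structureModule X)
    (hiρ : i ≫ ρ = 𝟙 _) (M : X.Modules) (hM : FlatMod.IsFinLocFree M) :
    ∃ (ι : M ⟶ (Scheme.Modules.pushforward f).obj ((Scheme.Modules.pullback f).obj M))
      (π : (Scheme.Modules.pushforward f).obj ((Scheme.Modules.pullback f).obj M) ⟶ M),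
      ι ≫ π = 𝟙 M := by
  obtain ⟨ι₀, π₀, h₀⟩ := retract_tensor (𝟙 M) (𝟙 M) (Category.id_comp _) i ρ hiρ
  haveI := Groth.Agent.Lib.T2H5.ProjFLF.isIso_alpha_of_isFinLocFree f M hM (Coh.structureModule Y)
  have a := asIso (Groth.Agent.Lib.T2H5.ProjFLF.alpha f M (Coh.structureModule Y))
  have e : CohB1.tensorMod M ((Scheme.Modules.pushforward f).obj (Coh.structureModule Y)) ≅
      (Scheme.Modules.pushforward f).obj ((Scheme.Modules.pullback f).obj M) :=
    a ≪≫ (Scheme.Modules.pushforward f).mapIso (trUnitIso.app ((Scheme.Modules.pullback f).obj M))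
  have c : M ≅ CohB1.tensorMod M (Coh.structureModule X) := (trUnitIso.app M).symm
  exact retract_of_isos ι₀ π₀ h₀ c e

end Push

section Triv

variable {Y : Scheme.{u}}

/-- trivial modules: isomorphic to a finite free module. -/
def IsTriv (N : Y.Modules) : Prop := ∃ m : ℕ, Nonempty (N ≅ FlatMod.freeMod Y m)

theorem IsTriv.of_iso {N N' : Y.Modules} (h : IsTriv N) (e : N' ≅ N) : IsTriv N' := by
  obtain ⟨m, ⟨φ⟩⟩ := h
  exact ⟨m, ⟨e ≪≫ φ⟩⟩

theorem isTriv_unit : IsTriv (Coh.structureModule Y) :=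
  ⟨1, ⟨(biproductUniqueIso (fun _ : Fin 1 => Coh.structureModule Y)).symm ≪≫
    biproduct.isoCoproduct _⟩⟩

theorem IsTriv.tensor {N N' : Y.Modules} (h : IsTriv N) (h' : IsTriv N') :
    IsTriv (CohB1.tensorMod N N') := by
  obtain ⟨m, ⟨φ⟩⟩ := h
  obtain ⟨m', ⟨φ'⟩⟩ := h'
  exact ⟨m * m', ⟨PicGrp.tensorModIso φ φ' ≪≫
    copowTensorCopowIso (Coh.structureModule Y) (Coh.structureModule Y) m m' ≪≫
    Sigma.mapIso (fun _ => trUnitIso.app (Coh.structureModule Y))⟩⟩

theorem IsTriv.tensorPow {N : Y.Modules} (h : IsTriv N) (n : ℕ) : IsTriv (CohB1.tensorPow N n) := by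
  induction n with
  | zero => exact isTriv_unit
  | succ n ih => exact ih.tensor h

/-- the direct image of a free module is a power of the direct image of the structure sheaf. -/
noncomputable def pushforwardFreeIso {X : Scheme.{u}} (f : Y ⟶ X) (m : ℕ) :
    (Scheme.Modules.pushforward f).obj (FlatMod.freeMod Y m) ≅
      ⨁ fun _ : Fin m => (Scheme.Modules.pushforward f).obj (Coh.structureModule Y) :=
  (Scheme.Modules.pushforward f).mapIso
      (biproduct.isoCoproduct (fun _ : Fin m => Coh.structureModule Y)).symm ≪≫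
    (Scheme.Modules.pushforward f).mapBiproduct (fun _ : Fin m => Coh.structureModule Y)

end Triv

section Main

variable (k : Type u) [Field k] [CharZero k] {X Y : Scheme.{u}} [X.Over (Spec (CommRingCat.of k))]
  [IsProper (X ↘ Spec (CommRingCat.of k))] [IsIntegral X] (f : Y ⟶ X) [IsFinite f] [Etale f]
  [Surjective f]

include k

/-- a finite locally free module trivialised by a finite étale cover (characteristic zero) has only finitely
many indecomposable modules in its tensor powers. -/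
theorem finType_of_isTriv_pullback (E : X.Modules) (hE : FlatMod.IsFinLocFree E)
    (htriv : IsTriv ((Scheme.Modules.pullback f).obj E)) : FinType E := by
  haveI := isLocallyNoetherian_of_proper k (X := X)
  obtain ⟨i, ρ, hiρ⟩ := exists_retract_pushforward_structureModule k f
  have hAc : Coh.IsCoh ((Scheme.Modules.pushforward f).obj (Coh.structureModule Y)) :=
    Groth.Agent.Lib.T2H4.HZshLF.isCoh_of_isFinLocFree _
      (Groth.Agent.Helper18FinFlat.pushforward_isFinLocFree f
        ⟨inferInstance, inferInstance, inferInstance⟩)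
  obtain ⟨n, H, hHi, hHc, ⟨eA⟩⟩ := exists_decomp_coh k _ hAc
  have hcovA : Cov H ((Scheme.Modules.pushforward f).obj (Coh.structureModule Y)) :=
    cov_of_iso_biproduct k H hHc hHi eA (fun j => ⟨j, ⟨Iso.refl _⟩⟩)
  refine ⟨Fin n, inferInstance, H, hHi, hHc, fun j => ?_⟩
  obtain ⟨ι, π, hιπ⟩ := exists_retract_pushforward_pullback f i ρ hiρ (CohB1.tensorPow E j)
    (isFinLocFree_tensorPow E hE j)
  obtain ⟨m, ⟨φ⟩⟩ := (htriv.tensorPow j).of_iso (nonempty_pullback_tensorPow_iso f E j).some
  have hcov : Cov H ((Scheme.Modules.pushforward f).obj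
      ((Scheme.Modules.pullback f).obj (CohB1.tensorPow E j))) :=
    (cov_biproduct k (fun _ : Fin m => (Scheme.Modules.pushforward f).obj (Coh.structureModule Y))
      (fun _ => hAc) (fun _ => hcovA)).of_iso
      ((Scheme.Modules.pushforward f).mapIso φ ≪≫ pushforwardFreeIso f m)
  exact hcov.retract ι π hιπ

theorem wf_of_isTriv_pullback (E : X.Modules) (hE : FlatMod.IsFinLocFree E)
    (htriv : IsTriv ((Scheme.Modules.pullback f).obj E)) : WF E :=
  wf_of_finType k E (Groth.Agent.Lib.T2H4.HZshLF.isCoh_of_isFinLocFree E hE)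
    (finType_of_isTriv_pullback k f E hE htriv)

end Main

end Groth.Agent.Lib.T2H9.WeilFin
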