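import Mathlib
import Groth.Prelude
import Groth.Agent.Lib.T2H9WeilFin5
import Groth.Agent.Lib.T2H9VBLePotier
import Groth.Agent.Lib.T2H9VBNormC
import Groth.Agent.Lib.T2H6CurveSS2
import Groth.Agent.Lib.T2H9ASBunG2
import Groth.Agent.Lib.T2H5ProjFLF5
import Groth.Agent.Lib.T2H9TensorRank

set_option autoImplicit false
set_option linter.style.haveILetI false
set_option linter.unusedSectionVars false
set_option linter.unusedVariables false
universe u

open CategoryTheory CategoryTheory.Limits AlgebraicGeometry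

namespace Groth.Agent.Lib.T2H9.WeilFin

open Groth.Agent.Lib.T2H5.Twist Groth.Agent.Lib.T2H9.TensorInv Groth.Agent.Lib.T2H6.CurveSerre
  Groth.Agent.Lib.T2H6.HHLin Groth.Agent.Lib.T2H9.VBSlopeLE Groth.Agent.Lib.T2H9.KS
  Groth.Agent.Lib.T2H9.ASBun

section Slope

variable (k : Type u) [Field k] {X : Scheme.{u}} [X.Over (Spec (CommRingCat.of k))]
  [IsProper (X ↘ Spec (CommRingCat.of k))] [IsIntegral X]

/-- the slopes of the subbundles of a vector bundle on a curve are bounded above. -/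
theorem exists_slopeLE [IsAlgClosed k] (hdim : topologicalKrullDim X = 1) (G : X.Modules) (s : ℕ)
    (hG : FlatMod.IsFinLocFreeOfRank s G) : ∃ a : ℤ, SlopeLE k G a 1 := by
  haveI : IsNoetherian X := Groth.Agent.Lib.T2H6.CurveSatur.isNoetherian_of_proper k
  have hGc := Groth.Agent.Lib.T2H6.RankAdd.isCoh_of_isFinLocFreeOfRank G s hG
  obtain ⟨L, hL, hdL⟩ := Groth.Agent.Lib.T2H9.VBNorm.exists_invertible_deg k hdim (X := X) 1
  obtain ⟨n₀, hn₀⟩ := exists_vanishing k hdim L hL (by rw [hdL]; exact one_pos) G hGc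
  have hvan := hn₀ n₀ le_rfl
  set N := CohB1.tensorPow L n₀ with hNdef
  have hN : PicF.IsInvertible N := Groth.Agent.Lib.Helper23.SecTw.isInvertible_tensorPow hL n₀
  have hN1 := Groth.Agent.Lib.Helper23.SecTw.isFinLocFreeOfRank_one_of_isInvertible N hN
  have hdN : Curv2.deg k X N 1 = n₀ := by
    rw [hNdef, deg_tensorPow k hdim L hL, hdL, mul_one]
  have hNc := Groth.Agent.Lib.T2H6.CurveDeg.isCoh_of_isInvertible N hN
  set c : ℤ := (n₀ : ℤ) + Curv2.euler k X (Coh.structureModule X) with hc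
  refine ⟨max (Curv2.deg k X G s + s * |c|) 0, ?_⟩
  intro F r' i hi hr' hF
  haveI := hi
  have hFc := Groth.Agent.Lib.T2H6.RankAdd.isCoh_of_isFinLocFreeOfRank F r' hF
  have hQc : Coh.IsCoh (cokernel i) := Groth.Agent.Lib.T2H5.GenIsoB.isCoh_cokernel i hFc hGc
  have hrs : r' ≤ s := Groth.Agent.Lib.T2H6.CurveSub.rank_le_of_mono i r' s hF hG
  have hS := Groth.Agent.Lib.T2H6.CurveSub.sc_shortExact i
  have hS' := shortExact_map_tr hN _ hS
  have c1 : Coh.IsCoh (CohB1.tensorMod F N) := Groth.Agent.Lib.T2H6.TensorDeg.isCoh_tensor F N hFc hNc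
  have c2 : Coh.IsCoh (CohB1.tensorMod G N) := Groth.Agent.Lib.T2H6.TensorDeg.isCoh_tensor G N hGc hNc
  have c3 : Coh.IsCoh (CohB1.tensorMod (cokernel i) N) :=
    Groth.Agent.Lib.T2H6.TensorDeg.isCoh_tensor _ N hQc hNc
  haveI := c1.1
  haveI := c3.1
  have h2 := Groth.Agent.Lib.T2H6.CurveVanish.subsingleton_HH_of_two_le k hdim (CohB1.tensorMod F N) 2 le_rfl
  have hsurj := surjective_g k _ hS' 1 h2
  have hQ1 : Subsingleton (Coh.HH X (CohB1.tensorMod (cokernel i) N) 1) := by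
    refine ⟨fun x y => ?_⟩
    obtain ⟨x', rfl⟩ := hsurj x
    obtain ⟨y', rfl⟩ := hsurj y
    rw [@Subsingleton.elim _ hvan x' y']
  have e1 := Groth.Agent.Lib.T2H6.EulerField.euler_additive k X _ hS' c1 c2 c3
  change Curv2.euler k X (CohB1.tensorMod G N) = Curv2.euler k X (CohB1.tensorMod F N) +
    Curv2.euler k X (CohB1.tensorMod (cokernel i) N) at e1
  have e2 := Groth.Agent.Lib.T2H6.CurveRR.euler_eq_sub k hdim (CohB1.tensorMod (cokernel i) N)
  rw [Module.finrank_zero_of_subsingleton (M := Coh.HH X (CohB1.tensorMod (cokernel i) N) 1)] at e2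
  have e3 : (0 : ℤ) ≤ Curv2.euler k X (CohB1.tensorMod (cokernel i) N) := by
    rw [e2]; simp
  have d1 := Groth.Agent.Lib.T2H6.TensorDegGen.deg_tensor k hdim.le r' 1 F N hF hN1
  have d2 := Groth.Agent.Lib.T2H6.TensorDegGen.deg_tensor k hdim.le s 1 G N hG hN1
  rw [hdN] at d1 d2
  unfold Curv2.deg at d1 d2
  have hrs' : (r' : ℤ) ≤ s := by exact_mod_cast hrs
  have hr0 : (0 : ℤ) < r' := by exact_mod_cast hr'
  have hkey : Curv2.deg k X F r' ≤ Curv2.deg k X G s + ((s : ℤ) - r') * c := by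
    unfold Curv2.deg
    push_cast at d1 d2 ⊢
    rw [hc]
    nlinarith
  have h4 : ((s : ℤ) - r') * c ≤ s * |c| := by
    have h5 : ((s : ℤ) - r') * c ≤ ((s : ℤ) - r') * |c| :=
      mul_le_mul_of_nonneg_left (le_abs_self c) (by linarith)
    have h6 : ((s : ℤ) - r') * |c| ≤ s * |c| :=
      mul_le_mul_of_nonneg_right (by linarith) (abs_nonneg c)
    linarith
  have h7 : Curv2.deg k X F r' ≤ max (Curv2.deg k X G s + s * |c|) 0 :=
    le_trans (by linarith) (le_max_left _ _)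
  have h8 : (0 : ℤ) ≤ max (Curv2.deg k X G s + s * |c|) 0 := le_max_right _ _
  push_cast
  nlinarith

/-- the slope bound passes to extensions. -/
theorem slopeLE_ext (hdim : topologicalKrullDim X = 1)
    (hreg : ∀ x : X, IsRegularLocalRing (X.presheaf.stalk x))
    (T : ShortComplex X.Modules) (hT : T.ShortExact) (r₂ : ℕ)
    (h₃ : FlatMod.IsFinLocFreeOfRank r₂ T.X₃) {a : ℤ}
    (s₁ : SlopeLE k T.X₁ a 1) (s₃ : SlopeLE k T.X₃ a 1) : SlopeLE k T.X₂ a 1 := by
  intro F r' i hi hr' hF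
  haveI := hi
  haveI := hT.mono_f
  obtain ⟨rK, rI, hK, hI, hrk, hdeg, hmI, -⟩ :=
    Groth.Agent.Lib.T2H6.CurveSS2.sub_ext_data k hdim hreg i T.g r' r₂ hF h₃
  -- the kernel part lies in `T.X₁`
  have hcond : (kernel.ι (i ≫ T.g) ≫ i) ≫ T.g = 0 := by
    rw [Category.assoc, kernel.condition]
  let l : kernel (i ≫ T.g) ⟶ T.X₁ := hT.fIsKernel.lift (KernelFork.ofι _ hcond)
  have hl : l ≫ T.f = kernel.ι (i ≫ T.g) ≫ i := hT.fIsKernel.fac (KernelFork.ofι _ hcond)
    WalkingParallelPair.zero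
  haveI : Mono (l ≫ T.f) := by rw [hl]; exact mono_comp _ _
  haveI : Mono l := mono_of_mono l T.f
  have hdK : Curv2.deg k X (kernel (i ≫ T.g)) rK ≤ a * rK := by
    rcases Nat.eq_zero_or_pos rK with h0 | hpos
    · subst h0
      rw [Groth.Agent.Lib.T2H6.CurveSS2.deg_eq_zero_of_rank_zero k _ hK]
      simp
    · have := s₁ _ rK l inferInstance hpos hK
      simpa using this
  have hdI : Curv2.deg k X (Abelian.image (i ≫ T.g)) rI ≤ a * rI := by
    rcases Nat.eq_zero_or_pos rI with h0 | hpos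
    · subst h0
      rw [Groth.Agent.Lib.T2H6.CurveSS2.deg_eq_zero_of_rank_zero k _ hI]
      simp
    · have := s₃ _ rI (Abelian.image.ι (i ≫ T.g)) hmI hpos hI
      simpa using this
  rw [hdeg, hrk]
  push_cast
  linarith

end Slope

section VB

variable (k : Type u) [Field k] {X : Scheme.{u}} [X.Over (Spec (CommRingCat.of k))]
  [IsProper (X ↘ Spec (CommRingCat.of k))] [IsIntegral X]

omit [X.Over (Spec (CommRingCat.of k))] [IsProper (X ↘ Spec (CommRingCat.of k))] [IsIntegral X] in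
theorem isFinLocFreeOfRank_zero_of_isZero (M : X.Modules) (h : IsZero M) :
    FlatMod.IsFinLocFreeOfRank 0 M := by
  intro x
  refine ⟨⊤, trivial, ⟨IsZero.iso ?_ ?_⟩⟩
  · exact (Scheme.Modules.restrictFunctor (⊤ : X.Opens).ι).map_isZero h
  · rw [IsZero.iff_id_eq_zero]
    exact Sigma.hom_ext _ _ fun j => j.elim0

/-- a vector bundle of rank `s` and degree `d` whose subbundles have slope at most `a`. -/
def VB (M : X.Modules) (s : ℕ) (d a : ℤ) : Prop :=
  FlatMod.IsFinLocFreeOfRank s M ∧ Curv2.deg k X M s = d ∧ SlopeLE k M a 1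

variable {k}

theorem VB.mono {M : X.Modules} {s : ℕ} {d a a' : ℤ} (h : VB k M s d a) (haa : a ≤ a') :
    VB k M s d a' :=
  ⟨h.1, h.2.1, fun F r' i hi hr' hF => by
    have h1 := h.2.2 F r' i hi hr' hF
    have hr0 : (0 : ℤ) < r' := by exact_mod_cast hr'
    nlinarith⟩

theorem VB.of_iso {M M' : X.Modules} {s : ℕ} {d a : ℤ} (e : M' ≅ M) (h : VB k M s d a) :
    VB k M' s d a := by
  have hr := Groth.Agent.Lib.Helper26.ModRank.isFinLocFreeOfRank_of_iso e.symm h.1
  refine ⟨hr, ?_, ?_⟩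
  · rw [← h.2.1]
    unfold Curv2.deg
    rw [Groth.Agent.Lib.T2H6.HiggsCurve.euler_eq_of_iso k e
      (Groth.Agent.Lib.T2H6.RankAdd.isCoh_of_isFinLocFreeOfRank M' s hr)]
  · haveI : Mono e.hom := inferInstance
    exact slopeLE_of_mono k e.hom h.2.2

theorem VB.ext (hdim : topologicalKrullDim X = 1)
    (hreg : ∀ x : X, IsRegularLocalRing (X.presheaf.stalk x))
    (T : ShortComplex X.Modules) (hT : T.ShortExact) {s₁ s₃ : ℕ} {d₁ d₃ a : ℤ}
    (h₁ : VB k T.X₁ s₁ d₁ a) (h₃ : VB k T.X₃ s₃ d₃ a) : VB k T.X₂ (s₁ + s₃) (d₁ + d₃) a := by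
  haveI : IsLocallyNoetherian X := isLocallyNoetherian_of_proper k
  have hr := Groth.Agent.Lib.T2H6.CurveExt2.isFinLocFreeOfRank_of_shortExact T hT s₁ s₃ h₁.1 h₃.1
  refine ⟨hr, ?_, slopeLE_ext k hdim hreg T hT s₃ h₃.1 h₁.2.2 h₃.2.2⟩
  rw [Groth.Agent.Lib.T2H6.RankAdd.deg_additive k T hT s₁ (s₁ + s₃) s₃ h₁.1 hr h₃.1, h₁.2.1, h₃.2.1]

theorem VB.biprod (hdim : topologicalKrullDim X = 1)
    (hreg : ∀ x : X, IsRegularLocalRing (X.presheaf.stalk x))
    {M M' : X.Modules} {s s' : ℕ} {d d' a : ℤ}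
    (h : VB k M s d a) (h' : VB k M' s' d' a) : VB k (M ⊞ M') (s + s') (d + d') a :=
  VB.ext hdim hreg (ShortComplex.mk (biprod.inl : M ⟶ M ⊞ M') biprod.snd (by simp))
    (ShortComplex.Splitting.ofHasBinaryBiproduct M M').shortExact h h'

theorem vb_of_isZero {M : X.Modules} (h : IsZero M) (a : ℤ) : VB k M 0 0 a := by
  have hr := isFinLocFreeOfRank_zero_of_isZero M h
  refine ⟨hr, Groth.Agent.Lib.T2H6.CurveSS2.deg_eq_zero_of_rank_zero k M hr, ?_⟩
  intro F r' i hi hr' hF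
  haveI := hi
  have := Groth.Agent.Lib.T2H6.CurveSub.rank_le_of_mono i r' 0 hF hr
  omega

theorem VB.biproduct (hdim : topologicalKrullDim X = 1)
    (hreg : ∀ x : X, IsRegularLocalRing (X.presheaf.stalk x)) {a : ℤ} :
    ∀ (n : ℕ) (M : Fin n → X.Modules) (s : Fin n → ℕ) (d : Fin n → ℤ),
      (∀ j, VB k (M j) (s j) (d j) a) → VB k (⨁ M) (∑ j, s j) (∑ j, d j) a := by
  intro n
  induction n with
  | zero =>
    intro M s d _
    simp only [Finset.univ_eq_empty, Finset.sum_empty]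
    refine vb_of_isZero ?_ a
    rw [IsZero.iff_id_eq_zero]
    exact biproduct.hom_ext _ _ fun j => j.elim0
  | succ n ih =>
    intro M s d h
    have h1 := ih (fun j => M (Fin.castSucc j)) (fun j => s (Fin.castSucc j))
      (fun j => d (Fin.castSucc j)) (fun j => h _)
    have h2 : VB k (⨁ fun j : Fin 1 => M (Fin.natAdd n j)) (s (Fin.last n)) (d (Fin.last n)) a :=
      (h (Fin.last n)).of_iso (biproductUniqueIso (fun j : Fin 1 => M (Fin.natAdd n j)))
    have h3 := h1.biprod hdim hreg h2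
    rw [Fin.sum_univ_castSucc, Fin.sum_univ_castSucc]
    refine h3.of_iso ?_
    exact (biproduct.reindex finSumFinEquiv M).symm ≪≫
      (biprodBiproductIso (fun x : Fin n ⊕ Fin 1 => M (finSumFinEquiv x))).symm

end VB

section Pow

variable (k : Type u) [Field k] {X : Scheme.{u}} [X.Over (Spec (CommRingCat.of k))]
  [IsProper (X ↘ Spec (CommRingCat.of k))] [IsIntegral X]

omit [X.Over (Spec (CommRingCat.of k))] [IsProper (X ↘ Spec (CommRingCat.of k))] [IsIntegral X] in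
theorem isFinLocFree_of_rank {M : X.Modules} {s : ℕ} (h : FlatMod.IsFinLocFreeOfRank s M) :
    FlatMod.IsFinLocFree M := fun x => by
  obtain ⟨U, hx, h'⟩ := h x
  exact ⟨U, s, hx, h'⟩

include k in
theorem isFinLocFreeOfRank_tensorPow (E : X.Modules) (r : ℕ) (hE : FlatMod.IsFinLocFreeOfRank r E) :
    ∀ n : ℕ, FlatMod.IsFinLocFreeOfRank (r ^ n) (CohB1.tensorPow E n)
  | 0 => by
    have h := Groth.Agent.Lib.Helper23.SecTw.isFinLocFreeOfRank_one_of_isInvertible _
      (Groth.Agent.Lib.Helper23.TensorUnit.isInvertible_structureModule X)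
    exact h
  | n + 1 => by
    haveI : IsNoetherian X := Groth.Agent.Lib.T2H6.CurveSatur.isNoetherian_of_proper k
    have h := Groth.Agent.Lib.T2H9.TensorRank.isFinLocFreeOfRank_tensor _ E (r ^ n) r
      (isFinLocFreeOfRank_tensorPow E r hE n) hE
    rw [pow_succ]
    exact h

/-- `r · deg E^{⊗ n} = n · r^n · deg E`. -/
theorem deg_tensorPow_vb (hdim : topologicalKrullDim X = 1) (E : X.Modules) (r : ℕ)
    (hE : FlatMod.IsFinLocFreeOfRank r E) :
    ∀ n : ℕ, (r : ℤ) * Curv2.deg k X (CohB1.tensorPow E n) (r ^ n) =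
      n * (r : ℤ) ^ n * Curv2.deg k X E r
  | 0 => by
    have h : Curv2.deg k X (CohB1.tensorPow E 0) (r ^ 0) = 0 := by
      change Curv2.deg k X (Coh.structureModule X) 1 = 0
      exact Groth.Agent.Lib.T2H6.CurveDeg.deg_structureModule k
    rw [h]
    simp
  | n + 1 => by
    have ih := deg_tensorPow_vb hdim E r hE n
    have h1 := Groth.Agent.Lib.T2H6.TensorDegGen.deg_tensor k hdim.le (r ^ n) r
      (CohB1.tensorPow E n) E (isFinLocFreeOfRank_tensorPow k E r hE n) hE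
    have h2 : Curv2.deg k X (CohB1.tensorPow E (n + 1)) (r ^ (n + 1)) =
        Curv2.deg k X (CohB1.tensorMod (CohB1.tensorPow E n) E) (r ^ n * r) := by
      rw [pow_succ]
      rfl
    rw [h2, h1]
    push_cast
    rw [pow_succ]
    linear_combination (r : ℤ) * ih

omit [X.Over (Spec (CommRingCat.of k))] [IsProper (X ↘ Spec (CommRingCat.of k))] [IsIntegral X] in
/-- tensor powers of a monomorphism of vector bundles are monomorphisms. -/
theorem exists_mono_tensorPow {F E : X.Modules} (i : F ⟶ E) [Mono i] (hF : FlatMod.IsFinLocFree F)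
    (hE : FlatMod.IsFinLocFree E) :
    ∀ n : ℕ, ∃ ι : CohB1.tensorPow F n ⟶ CohB1.tensorPow E n, Mono ι
  | 0 => ⟨𝟙 (Coh.structureModule X), (inferInstance : Mono (𝟙 (Coh.structureModule X)))⟩
  | n + 1 => by
    obtain ⟨ι, hι⟩ := exists_mono_tensorPow i hF hE n
    haveI := hι
    haveI := Groth.Agent.Lib.T2H6.TensorDeg.preservesFiniteLimits_tr_of_isFinLocFree F hF
    haveI : (tr F).PreservesMonomorphisms :=
      CategoryTheory.preservesMonomorphisms_of_preservesLimitsOfShape _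
    haveI : PreservesFiniteLimits (tl (CohB1.tensorPow E n)) :=
      Groth.Agent.Lib.T2H5.ProjFLF.preservesFiniteLimits_tensorBi_obj (CohB1.tensorPow E n)
        (isFinLocFree_tensorPow E hE n)
    haveI : (tl (CohB1.tensorPow E n)).PreservesMonomorphisms :=
      CategoryTheory.preservesMonomorphisms_of_preservesLimitsOfShape _
    have h1 : Mono ((tr F).map ι) := Functor.map_mono (tr F) ι
    have h2 : Mono ((tl (CohB1.tensorPow E n)).map i) := Functor.map_mono _ i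
    exact ⟨(tr F).map ι ≫ (tl (CohB1.tensorPow E n)).map i, @mono_comp _ _ _ _ _ _ h1 _ h2⟩

end Pow

section Main

variable (k : Type u) [Field k] [IsAlgClosed k] {X : Scheme.{u}} [X.Over (Spec (CommRingCat.of k))]
  [IsProper (X ↘ Spec (CommRingCat.of k))] [IsIntegral X]

/-- uniform slope and degree bounds for the tensor powers of a bundle of finite type. -/
theorem exists_bounds_tensorPow (hdim : topologicalKrullDim X = 1)
    (hreg : ∀ x : X, IsRegularLocalRing (X.presheaf.stalk x)) (E : X.Modules) (r : ℕ)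
    (hE : FlatMod.IsFinLocFreeOfRank r E) (h : FinType E) :
    ∃ b c : ℤ, 0 ≤ c ∧ ∀ n : ℕ, SlopeLE k (CohB1.tensorPow E n) b 1 ∧
      |Curv2.deg k X (CohB1.tensorPow E n) (r ^ n)| ≤ (r : ℤ) ^ n * c := by
  classical
  haveI : IsLocallyNoetherian X := isLocallyNoetherian_of_proper k
  have hEc := Groth.Agent.Lib.T2H6.RankAdd.isCoh_of_isFinLocFreeOfRank E r hE
  have hElf := isFinLocFree_of_rank hE
  obtain ⟨τ, hτ, A, hAi, hAc, hcov⟩ := h
  choose N t e using fun n => (hcov n).exists_labels k (isCoh_tensorPow k E hEc n)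
  have hused : ∀ n (j : Fin (N n)), ∃ (ρ : ℕ) (d a : ℤ), 1 ≤ ρ ∧ VB k (A (t n j)) ρ d a := by
    intro n j
    have hlf : FlatMod.IsFinLocFree (A (t n j)) :=
      isFinLocFree_of_retract (biproduct.ι (fun j => A (t n j)) j ≫ (e n).some.inv)
        ((e n).some.hom ≫ biproduct.π (fun j => A (t n j)) j) (by simp)
        (isFinLocFree_tensorPow E hElf n)
    haveI := (hAc (t n j)).1
    have hρ := Groth.Agent.Lib.T2H6.CurveVB.exists_rank (A (t n j)) hlf
    obtain ⟨a, ha⟩ := exists_slopeLE k hdim (A (t n j)) _ hρ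
    refine ⟨_, _, a, ?_, hρ, rfl, ha⟩
    rw [Nat.one_le_iff_ne_zero]
    intro h0
    rw [h0] at hρ
    exact (hAi (t n j)).1 (Groth.Agent.Lib.T2H6.CurveVB.isZero_of_rank_zero _ hρ)
  have hdata : ∀ t' : τ, ∃ (ρ : ℕ) (d a : ℤ), (∃ n j, t n j = t') → (1 ≤ ρ ∧ VB k (A t') ρ d a) := by
    intro t'
    by_cases hu : ∃ n j, t n j = t'
    · obtain ⟨n, j, rfl⟩ := hu
      obtain ⟨ρ, d, a, h1, h2⟩ := hused n j
      exact ⟨ρ, d, a, fun _ => ⟨h1, h2⟩⟩
    · exact ⟨0, 0, 0, fun h => absurd h hu⟩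
  choose ρ d a hρda using hdata
  refine ⟨∑ t', |a t'|, ∑ t', |d t'|, Finset.sum_nonneg fun _ _ => abs_nonneg _, fun n => ?_⟩
  have hle : ∀ t' : τ, a t' ≤ ∑ t'', |a t''| := fun t' =>
    le_trans (le_abs_self _) (Finset.single_le_sum (f := fun t'' => |a t''|)
      (fun _ _ => abs_nonneg _) (Finset.mem_univ t'))
  have hdle : ∀ t' : τ, |d t'| ≤ ∑ t'', |d t''| := fun t' =>
    Finset.single_le_sum (f := fun t'' => |d t''|) (fun _ _ => abs_nonneg _) (Finset.mem_univ t')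
  have hj : ∀ j : Fin (N n), 1 ≤ ρ (t n j) ∧ VB k (A (t n j)) (ρ (t n j)) (d (t n j)) (a (t n j)) :=
    fun j => hρda (t n j) ⟨n, j, rfl⟩
  have hVB := VB.biproduct (k := k) hdim hreg (N n) (fun j => A (t n j)) (fun j => ρ (t n j))
    (fun j => d (t n j)) (fun j => (hj j).2.mono (hle _))
  have hVB' := hVB.of_iso (e n).some
  have hrn := isFinLocFreeOfRank_tensorPow k E r hE n
  have hrank : ∑ j, ρ (t n j) = r ^ n :=
    le_antisymm
      (Groth.Agent.Lib.T2H6.CurveSub.rank_le_of_mono (𝟙 (CohB1.tensorPow E n)) _ _ hVB'.1 hrn)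
      (Groth.Agent.Lib.T2H6.CurveSub.rank_le_of_mono (𝟙 (CohB1.tensorPow E n)) _ _ hrn hVB'.1)
  have hN : N n ≤ r ^ n := by
    rw [← hrank]
    calc N n = ∑ _j : Fin (N n), 1 := by simp
      _ ≤ ∑ j, ρ (t n j) := Finset.sum_le_sum fun j _ => (hj j).1
  refine ⟨hVB'.2.2, ?_⟩
  have hdeg := hVB'.2.1
  rw [hrank] at hdeg
  rw [hdeg]
  calc |∑ j, d (t n j)| ≤ ∑ j, |d (t n j)| := Finset.abs_sum_le_sum_abs _ _
    _ ≤ ∑ _j : Fin (N n), ∑ t'', |d t''| := Finset.sum_le_sum fun j _ => hdle _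
    _ = (N n : ℤ) * ∑ t'', |d t''| := by simp
    _ ≤ (r : ℤ) ^ n * ∑ t'', |d t''| := by
      refine mul_le_mul_of_nonneg_right ?_ (Finset.sum_nonneg fun _ _ => abs_nonneg _)
      exact_mod_cast hN

/-- **Nori.** a Weil-finite vector bundle on a smooth proper curve has degree zero and is semistable. -/
theorem deg_eq_zero_and_slope_le_of_wf (hdim : topologicalKrullDim X = 1)
    (hreg : ∀ x : X, IsRegularLocalRing (X.presheaf.stalk x)) (E : X.Modules) (r : ℕ) (hr : 0 < r)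
    (hE : FlatMod.IsFinLocFreeOfRank r E) (h : WF E) :
    Curv2.deg k X E r = 0 ∧
      ∀ (F : X.Modules) (r' : ℕ) (i : F ⟶ E), Mono i → 0 < r' → FlatMod.IsFinLocFreeOfRank r' F →
        Curv2.deg k X F r' * (r : ℤ) ≤ Curv2.deg k X E r * (r' : ℤ) := by
  have hEc := Groth.Agent.Lib.T2H6.RankAdd.isCoh_of_isFinLocFreeOfRank E r hE
  obtain ⟨b, c, hc, hb⟩ := exists_bounds_tensorPow k hdim hreg E r hE (finType_of_wf k E hEc h)
  have hr0 : (0 : ℤ) < r := by exact_mod_cast hr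
  have hd0 : Curv2.deg k X E r = 0 := by
    by_contra hne
    have hpos : (1 : ℤ) ≤ |Curv2.deg k X E r| := Int.one_le_abs hne
    obtain ⟨n, hn⟩ : ∃ n : ℕ, (r : ℤ) * c < n := ⟨((r : ℤ) * c).toNat + 1, by
      push_cast
      have := Int.self_le_toNat ((r : ℤ) * c)
      linarith⟩
    have h1 := deg_tensorPow_vb k hdim E r hE n
    have h2 := (hb n).2
    have hrn : (0 : ℤ) < (r : ℤ) ^ n := pow_pos hr0 n
    have h3 : (n : ℤ) * (r : ℤ) ^ n * |Curv2.deg k X E r| =
        (r : ℤ) * |Curv2.deg k X (CohB1.tensorPow E n) (r ^ n)| := by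
      have := congrArg abs h1
      rw [abs_mul, abs_mul, abs_mul, abs_of_pos hr0, abs_of_pos hrn,
        abs_of_nonneg (Int.natCast_nonneg n)] at this
      exact this.symm
    have h4 : (n : ℤ) * (r : ℤ) ^ n * |Curv2.deg k X E r| ≤ (r : ℤ) * ((r : ℤ) ^ n * c) := by
      rw [h3]
      exact mul_le_mul_of_nonneg_left h2 hr0.le
    have h5 : (n : ℤ) * |Curv2.deg k X E r| ≤ (r : ℤ) * c := by
      have : (r : ℤ) ^ n * ((n : ℤ) * |Curv2.deg k X E r|) ≤ (r : ℤ) ^ n * ((r : ℤ) * c) := by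
        linarith
      exact le_of_mul_le_mul_left this hrn
    have h6 : (n : ℤ) ≤ (n : ℤ) * |Curv2.deg k X E r| := by
      have : (0 : ℤ) ≤ n := Int.natCast_nonneg n
      nlinarith
    linarith
  refine ⟨hd0, fun F r' i hi hr' hF => ?_⟩
  haveI := hi
  rw [hd0, zero_mul]
  by_contra hcon
  rw [not_le] at hcon
  have hr'0 : (0 : ℤ) < r' := by exact_mod_cast hr'
  have hδ : (1 : ℤ) ≤ Curv2.deg k X F r' := by
    by_contra hlt
    rw [not_le] at hlt
    have : Curv2.deg k X F r' ≤ 0 := by omega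
    nlinarith
  obtain ⟨n, hn⟩ : ∃ n : ℕ, b * (r' : ℤ) < n := ⟨(b * (r' : ℤ)).toNat + 1, by
    push_cast
    have := Int.self_le_toNat (b * (r' : ℤ))
    linarith⟩
  obtain ⟨ι, hι⟩ := exists_mono_tensorPow i (isFinLocFree_of_rank hF) (isFinLocFree_of_rank hE) n
  have hs := (hb n).1 _ (r' ^ n) ι hι (pow_pos hr' n) (isFinLocFreeOfRank_tensorPow k F r' hF n)
  have hdn := deg_tensorPow_vb k hdim F r' hF n
  have hrn : (0 : ℤ) < (r' : ℤ) ^ n := pow_pos hr'0 n
  push_cast at hs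
  have h1 : (n : ℤ) * (r' : ℤ) ^ n * Curv2.deg k X F r' ≤ (r' : ℤ) * (b * (r' : ℤ) ^ n) := by
    rw [← hdn]
    have := mul_le_mul_of_nonneg_left hs hr'0.le
    linarith
  have h2 : (n : ℤ) * Curv2.deg k X F r' ≤ b * (r' : ℤ) := by
    have : (r' : ℤ) ^ n * ((n : ℤ) * Curv2.deg k X F r') ≤ (r' : ℤ) ^ n * (b * (r' : ℤ)) := by
      linarith
    exact le_of_mul_le_mul_left this hrn
  have h3 : (n : ℤ) ≤ (n : ℤ) * Curv2.deg k X F r' := by
    have : (0 : ℤ) ≤ n := Int.natCast_nonneg n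
    nlinarith
  linarith

end Main

end Groth.Agent.Lib.T2H9.WeilFin
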