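import Mathlib
import Groth.Prelude
import Groth.Agent.Lib.T2H9WeilFin7
import Groth.Agent.Lib.T2H6CurveSatur

set_option autoImplicit false
set_option linter.style.haveILetI false
set_option linter.unusedSectionVars false
set_option linter.unusedVariables false
universe u

open CategoryTheory CategoryTheory.Limits AlgebraicGeometry

namespace Groth.Agent.Lib.T2H9.WeilFin

open Groth.Agent.Lib.T2H5.Twist Groth.Agent.Lib.T2H9.TensorInv Groth.Agent.Lib.T2H6.CurveSerre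
  Groth.Agent.Lib.T2H6.HHLin Groth.Agent.Lib.T2H9.VBSlopeLE Groth.Agent.Lib.T2H9.KS
  Groth.Agent.Lib.T2H9.ASBun

section EssFin

variable (k : Type u) [Field k] [IsAlgClosed k] {X : Scheme.{u}} [X.Over (Spec (CommRingCat.of k))]
  [IsProper (X ↘ Spec (CommRingCat.of k))] [IsIntegral X]

/-- a Weil-finite bundle (any rank) has degree zero and all its subbundles have degree `≤ 0`. -/
theorem deg_eq_zero_and_slopeLE_of_wf (hdim : topologicalKrullDim X = 1)
    (hreg : ∀ x : X, IsRegularLocalRing (X.presheaf.stalk x)) (E : X.Modules) (r : ℕ)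
    (hE : FlatMod.IsFinLocFreeOfRank r E) (h : WF E) :
    Curv2.deg k X E r = 0 ∧ SlopeLE k E 0 1 := by
  rcases Nat.eq_zero_or_pos r with h0 | hr
  · subst h0
    refine ⟨Groth.Agent.Lib.T2H6.CurveSS2.deg_eq_zero_of_rank_zero k E hE, ?_⟩
    intro F r' i hi hr' hF
    haveI := hi
    have := Groth.Agent.Lib.T2H6.CurveSub.rank_le_of_mono i r' 0 hF hE
    omega
  · obtain ⟨h1, h2⟩ := deg_eq_zero_and_slope_le_of_wf k hdim hreg E r hr hE h
    refine ⟨h1, fun F r' i hi hr' hF => ?_⟩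
    have h3 := h2 F r' i hi hr' hF
    rw [h1, zero_mul] at h3
    have hr0 : (0 : ℤ) < r := by exact_mod_cast hr
    have : Curv2.deg k X F r' ≤ 0 := by
      by_contra hcon
      rw [not_le] at hcon
      nlinarith
    simpa using this

omit [IsAlgClosed k] [IsProper (X ↘ Spec (CommRingCat.of k))] [IsIntegral X] in
theorem semistable_of_slopeLE_zero {F : X.Modules} {s : ℕ} (hd : Curv2.deg k X F s = 0)
    (h : SlopeLE k F 0 1) : ModFun.IsSlopeSemistable k X F s := by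
  intro F' r' i hi hr' hF'
  have h1 := h F' r' i hi hr' hF'
  rw [hd, zero_mul]
  have hs : (0 : ℤ) ≤ s := Int.natCast_nonneg s
  simp only [Nat.cast_one, mul_one, zero_mul] at h1
  exact mul_nonpos_of_nonpos_of_nonneg h1 hs

omit [IsAlgClosed k] [X.Over (Spec (CommRingCat.of k))] [IsProper (X ↘ Spec (CommRingCat.of k))]
  [IsIntegral X] in
/-- a tensor product of monomorphisms of vector bundles is a monomorphism. -/
theorem exists_mono_tensor {F G F' G' : X.Modules} (i : F ⟶ G) (j : F' ⟶ G') [Mono i] [Mono j]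
    (hF' : FlatMod.IsFinLocFree F') (hG : FlatMod.IsFinLocFree G) :
    ∃ ι : CohB1.tensorMod F F' ⟶ CohB1.tensorMod G G', Mono ι := by
  haveI := Groth.Agent.Lib.T2H6.TensorDeg.preservesFiniteLimits_tr_of_isFinLocFree F' hF'
  haveI : (tr F').PreservesMonomorphisms :=
    CategoryTheory.preservesMonomorphisms_of_preservesLimitsOfShape _
  haveI : PreservesFiniteLimits (tl G) :=
    Groth.Agent.Lib.T2H5.ProjFLF.preservesFiniteLimits_tensorBi_obj G hG
  haveI : (tl G).PreservesMonomorphisms :=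
    CategoryTheory.preservesMonomorphisms_of_preservesLimitsOfShape _
  have h1 : Mono ((tr F').map i) := Functor.map_mono (tr F') i
  have h2 : Mono ((tl G).map j) := Functor.map_mono _ j
  exact ⟨(tr F').map i ≫ (tl G).map j, @mono_comp _ _ _ _ _ _ h1 _ h2⟩

omit [IsAlgClosed k] [X.Over (Spec (CommRingCat.of k))] [IsProper (X ↘ Spec (CommRingCat.of k))]
  [IsIntegral X] in
/-- a tensor product of epimorphisms is an epimorphism. -/
theorem exists_epi_tensor {F E F' E' : X.Modules} (p : F ⟶ E) (q : F' ⟶ E') [Epi p] [Epi q] :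
    ∃ π : CohB1.tensorMod F F' ⟶ CohB1.tensorMod E E', Epi π := by
  haveI := preservesFiniteColimits_tr (X := X) F'
  haveI : (tr F').PreservesEpimorphisms :=
    CategoryTheory.preservesEpimorphisms_of_preservesColimitsOfShape _
  haveI : PreservesFiniteColimits (tl E) :=
    Groth.Agent.Lib.T2H5.ProjFLF.preservesFiniteColimits_tensorBi_obj E
  haveI : (tl E).PreservesEpimorphisms :=
    CategoryTheory.preservesEpimorphisms_of_preservesColimitsOfShape _
  have h1 : Epi ((tr F').map p) := Functor.map_epi (tr F') p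
  have h2 : Epi ((tl E).map q) := Functor.map_epi _ q
  exact ⟨(tr F').map p ≫ (tl E).map q, @epi_comp _ _ _ _ _ _ h1 _ h2⟩

/-- a degree-zero subbundle of a bundle all of whose subbundles have degree `≤ 0` is saturated. -/
theorem isFinLocFree_cokernel_of_deg_zero (hdim : topologicalKrullDim X = 1)
    (hreg : ∀ x : X, IsRegularLocalRing (X.presheaf.stalk x)) {F G : X.Modules} (i : F ⟶ G) [Mono i]
    (n s : ℕ) (hF : FlatMod.IsFinLocFreeOfRank n F) (hG : FlatMod.IsFinLocFreeOfRank s G)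
    (hd : Curv2.deg k X F n = 0) (hss : SlopeLE k G 0 1) : FlatMod.IsFinLocFree (cokernel i) := by
  obtain ⟨I', i', j, hi', hji, hns, hI', hQ, hle, hiso⟩ :=
    Groth.Agent.Lib.T2H6.CurveSatur.exists_saturation k hdim hreg i n s hF hG
  have hI'0 : Curv2.deg k X I' n ≤ 0 := by
    rcases Nat.eq_zero_or_pos n with h0 | hpos
    · subst h0
      rw [Groth.Agent.Lib.T2H6.CurveSS2.deg_eq_zero_of_rank_zero k I' hI']
    · have := hss I' n i' hi' hpos hI'
      simpa using this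
  haveI : IsIso j := hiso (by rw [hd] at hle ⊢; omega)
  have e : cokernel i ≅ cokernel i' := by
    have h1 : cokernel (j ≫ i') ≅ cokernel i' := cokernelEpiComp j i'
    have h2 : cokernel i ≅ cokernel (j ≫ i') := cokernelIsoOfEq hji.symm
    exact h2 ≪≫ h1
  exact Groth.Agent.Lib.Helper26.ModLocFree.isFinLocFree_of_iso e.symm (isFinLocFree_of_rank hQ)

omit [IsAlgClosed k] in
/-- the kernel of an epimorphism of vector bundles on a regular curve: rank and degree. -/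
theorem kernel_data (hdim : topologicalKrullDim X = 1)
    (hreg : ∀ x : X, IsRegularLocalRing (X.presheaf.stalk x)) {F E : X.Modules} (p : F ⟶ E) [Epi p]
    (n m : ℕ) (hF : FlatMod.IsFinLocFreeOfRank n F) (hE : FlatMod.IsFinLocFreeOfRank m E) :
    ∃ u : ℕ, FlatMod.IsFinLocFreeOfRank u (kernel p) ∧ n = u + m ∧
      Curv2.deg k X F n = Curv2.deg k X (kernel p) u + Curv2.deg k X E m := by
  haveI : IsLocallyNoetherian X := isLocallyNoetherian_of_proper k
  have hFc := Groth.Agent.Lib.T2H6.RankAdd.isCoh_of_isFinLocFreeOfRank F n hF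
  have hEc := Groth.Agent.Lib.T2H6.RankAdd.isCoh_of_isFinLocFreeOfRank E m hE
  haveI := (Groth.Agent.Lib.T2H5.GenIsoB.isCoh_kernel p hFc hEc).1
  obtain ⟨u, -, hK⟩ := Groth.Agent.Lib.T2H6.CurveVB.isFinLocFreeOfRank_of_mono hdim.le hreg
    (kernel.ι p) n hF
  have hT : (ShortComplex.mk (kernel.ι p) p (kernel.condition p)).ShortExact :=
    { exact := ShortComplex.exact_of_f_is_kernel _ (kernelIsKernel p)
      mono_f := inferInstanceAs (Mono (kernel.ι p))
      epi_g := inferInstanceAs (Epi p) }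
  exact ⟨u, hK, Groth.Agent.Lib.T2H6.RankAdd.rank_add _ hT u n m hK hF hE (genericPoint X),
    Groth.Agent.Lib.T2H6.RankAdd.deg_additive k _ hT u n m hK hF hE⟩

omit [IsAlgClosed k] in
/-- quotients by degree-zero subbundles inherit the bound `deg ≤ 0` on subbundles. -/
theorem slopeLE_quot (hdim : topologicalKrullDim X = 1)
    (hreg : ∀ x : X, IsRegularLocalRing (X.presheaf.stalk x))
    (T : ShortComplex X.Modules) (hT : T.ShortExact) (r₁ r r₂ : ℕ)
    (h₁ : FlatMod.IsFinLocFreeOfRank r₁ T.X₁) (h₂ : FlatMod.IsFinLocFreeOfRank r T.X₂)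
    (h₃ : FlatMod.IsFinLocFreeOfRank r₂ T.X₃) (hd : Curv2.deg k X T.X₁ r₁ = 0)
    (hss : SlopeLE k T.X₂ 0 1) : SlopeLE k T.X₃ 0 1 := by
  intro F' r' i hi hr' hF'
  haveI := hi
  obtain ⟨P, ι, hι, hP, hdP⟩ :=
    Groth.Agent.Lib.T2H6.CurveSS2.preimage_data k hdim hreg T hT r₁ r r₂ h₁ h₂ h₃ i r' hF'
  have := hss P (r₁ + r') ι hι (by omega) hP
  rw [hdP, hd] at this
  simpa using this

/-- essentially finite bundles, as spelled out in S19482. -/
def EssFin (E : X.Modules) (r : ℕ) : Prop :=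
  Curv2.deg k X E r = 0 ∧ ModFun.IsSlopeSemistable k X E r ∧
    ∃ (s : ℕ) (G : X.Modules) (s₁ : ℕ) (F₁ : X.Modules) (s₂ : ℕ) (F₂ : X.Modules) (i₁ : F₁ ⟶ G)
      (i₂ : F₂ ⟶ F₁),
      FlatMod.IsFinLocFreeOfRank s G ∧ WF G ∧
      FlatMod.IsFinLocFreeOfRank s₁ F₁ ∧ FlatMod.IsFinLocFreeOfRank s₂ F₂ ∧ Mono i₁ ∧ Mono i₂ ∧
      FlatMod.IsFinLocFree (cokernel i₁) ∧ FlatMod.IsFinLocFree (cokernel i₂) ∧
      Curv2.deg k X F₁ s₁ = 0 ∧ ModFun.IsSlopeSemistable k X F₁ s₁ ∧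
      Curv2.deg k X F₂ s₂ = 0 ∧ ModFun.IsSlopeSemistable k X F₂ s₂ ∧
      Nonempty (E ≅ cokernel i₂)

/-- **the tensor product of essentially finite bundles is essentially finite.** -/
theorem essFin_tensor (hdim : topologicalKrullDim X = 1)
    (hreg : ∀ x : X, IsRegularLocalRing (X.presheaf.stalk x)) (r₁ r₂ : ℕ) (E₁ E₂ : X.Modules)
    (hE₁ : FlatMod.IsFinLocFreeOfRank r₁ E₁) (hE₂ : FlatMod.IsFinLocFreeOfRank r₂ E₂)
    (h₁ : EssFin k E₁ r₁) (h₂ : EssFin k E₂ r₂) :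
    FlatMod.IsFinLocFreeOfRank (r₁ * r₂) (CohB1.tensorMod E₁ E₂) ∧
      EssFin k (CohB1.tensorMod E₁ E₂) (r₁ * r₂) := by
  haveI : IsNoetherian X := Groth.Agent.Lib.T2H6.CurveSatur.isNoetherian_of_proper k
  obtain ⟨hd₁, -, s, G, s₁, F₁, s₂, F₂, i₁, i₂, hG, hWF, hF₁, hF₂, hi₁, hi₂, -, -, hdF₁, -, -, -,
    ⟨e⟩⟩ := h₁
  obtain ⟨hd₂, -, t, G', t₁, F₁', t₂, F₂', i₁', i₂', hG', hWF', hF₁', hF₂', hi₁', hi₂', -, -, hdF₁',
    -, -, -, ⟨e'⟩⟩ := h₂
  haveI := hi₁
  haveI := hi₁'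
  have hE := Groth.Agent.Lib.T2H9.TensorRank.isFinLocFreeOfRank_tensor E₁ E₂ r₁ r₂ hE₁ hE₂
  have hdE : Curv2.deg k X (CohB1.tensorMod E₁ E₂) (r₁ * r₂) = 0 := by
    rw [Groth.Agent.Lib.T2H6.TensorDegGen.deg_tensor k hdim.le r₁ r₂ E₁ E₂ hE₁ hE₂, hd₁, hd₂]
    simp
  -- the ambient Weil-finite bundle
  have hGG := Groth.Agent.Lib.T2H9.TensorRank.isFinLocFreeOfRank_tensor G G' s t hG hG'
  have hWFGG : WF (CohB1.tensorMod G G') :=
    (wf_biprod_and_tensor k G G' (Groth.Agent.Lib.T2H6.RankAdd.isCoh_of_isFinLocFreeOfRank G s hG)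
      (Groth.Agent.Lib.T2H6.RankAdd.isCoh_of_isFinLocFreeOfRank G' t hG') hWF hWF').2
  obtain ⟨hdGG, hssGG⟩ := deg_eq_zero_and_slopeLE_of_wf k hdim hreg _ _ hGG hWFGG
  -- the first subbundle
  have hFF := Groth.Agent.Lib.T2H9.TensorRank.isFinLocFreeOfRank_tensor F₁ F₁' s₁ t₁ hF₁ hF₁'
  have hdFF : Curv2.deg k X (CohB1.tensorMod F₁ F₁') (s₁ * t₁) = 0 := by
    rw [Groth.Agent.Lib.T2H6.TensorDegGen.deg_tensor k hdim.le s₁ t₁ F₁ F₁' hF₁ hF₁', hdF₁, hdF₁']
    simp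
  obtain ⟨ι₁, hι₁⟩ := exists_mono_tensor i₁ i₁' (isFinLocFree_of_rank hF₁') (isFinLocFree_of_rank hG)
  haveI := hι₁
  have hssFF : SlopeLE k (CohB1.tensorMod F₁ F₁') 0 1 := slopeLE_of_mono k ι₁ hssGG
  have hcok₁ := isFinLocFree_cokernel_of_deg_zero k hdim hreg ι₁ _ _ hFF hGG hdFF hssGG
  -- the epimorphism onto `E₁ ⊗ E₂`
  haveI : Epi (cokernel.π i₂ ≫ e.inv) := epi_comp _ _
  haveI : Epi (cokernel.π i₂' ≫ e'.inv) := epi_comp _ _
  obtain ⟨π, hπ⟩ := exists_epi_tensor (cokernel.π i₂ ≫ e.inv) (cokernel.π i₂' ≫ e'.inv)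
  haveI := hπ
  obtain ⟨u, hK, -, hdeg⟩ := kernel_data k hdim hreg π _ _ hFF hE
  have hdK : Curv2.deg k X (kernel π) u = 0 := by
    rw [hdFF, hdE] at hdeg
    linarith
  have hssK : SlopeLE k (kernel π) 0 1 := slopeLE_of_mono k (kernel.ι π) hssFF
  let eC : CohB1.tensorMod E₁ E₂ ≅ cokernel (kernel.ι π) :=
    IsColimit.coconePointUniqueUpToIso (Abelian.epiIsCokernelOfKernel _ (kernelIsKernel π))
      (colimit.isColimit (parallelPair (kernel.ι π) 0))
  have hcok₂ : FlatMod.IsFinLocFree (cokernel (kernel.ι π)) :=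
    Groth.Agent.Lib.Helper26.ModLocFree.isFinLocFree_of_iso eC (isFinLocFree_of_rank hE)
  have hT : (ShortComplex.mk (kernel.ι π) π (kernel.condition π)).ShortExact :=
    { exact := ShortComplex.exact_of_f_is_kernel _ (kernelIsKernel π)
      mono_f := inferInstanceAs (Mono (kernel.ι π))
      epi_g := inferInstanceAs (Epi π) }
  have hssE : SlopeLE k (CohB1.tensorMod E₁ E₂) 0 1 :=
    slopeLE_quot k hdim hreg _ hT u _ _ hK hFF hE hdK hssFF
  exact ⟨hE, hdE, semistable_of_slopeLE_zero k hdE hssE, _, _, _, _, _, _, ι₁, kernel.ι π, hGG,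
    hWFGG, hFF, hK, hι₁, inferInstance, hcok₁, hcok₂, hdFF, semistable_of_slopeLE_zero k hdFF hssFF,
    hdK, semistable_of_slopeLE_zero k hdK hssK, ⟨eC⟩⟩

end EssFin

end Groth.Agent.Lib.T2H9.WeilFin
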