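import Groth.Agent.Lib.T3H3NLConormalAlg
import Groth.Agent.Lib.Helper18OmLS13
import Groth.Agent.Lib.T2H9RegImmBC
import Groth.Agent.Lib.Helper5RegImm2
import Groth.Agent.Lib.Helper2QCoh
import Groth.Prelude.Def_SheafNL

/-!
# `H^{-1}(NL_{Z/X})` of a quasi-compact immersion is the conormal sheaf, chart form (T3 helper3)

* `exists_local_chart`: around a point of an affine chart pair `(U, V)` of an immersion there is
  `f ∈ Γ(X, V)` with `D(f)` inside the coborder range and `i⁻¹ D(f) = D_U(f|_U)`.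
* `chartMap`, `chartMap_spec`, `chartMap_bij`, `chartMap_res`: the comparison map
  `Γ(C_{Z/X}, U) → H¹(L_{Γ(Z,U)/Γ(X,V)})`, `unitSec t ↦ [C (idealSect t)]`.
* `nonempty_h1Sheaf`, `onCharts_subsingleton`.
-/

set_option autoImplicit false
set_option linter.style.haveILetI false
set_option linter.unusedSectionVars false
universe u
open CategoryTheory CategoryTheory.Limits AlgebraicGeometry TopologicalSpace Opposite

namespace Groth.Agent.Lib.T3H3.NLConormal

section geom
variable {Z X : Scheme.{u}} (i : Z ⟶ X) [IsImmersion i]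

theorem exists_local_chart {U : Z.Opens} {V : X.Opens} (hV : IsAffineOpen V)
    (e : U ≤ i ⁻¹ᵁ V) (z : Z) (hz : z ∈ U) :
    ∃ f : Γ(X, V), z ∈ Z.basicOpen (i.appLE V U e f) ∧ X.basicOpen f ≤ i.coborderRange ∧
      i ⁻¹ᵁ (X.basicOpen f) = Z.basicOpen (i.appLE V U e f) := by
  obtain ⟨W, hWo, hW⟩ := i.isEmbedding.isInducing.isOpen_iff.mp U.isOpen
  let W' : X.Opens := ⟨W, hWo⟩
  have hzW : i z ∈ W' := by
    have : z ∈ i ⁻¹' W := by rw [hW]; exact hz
    exact this
  have hzc : i z ∈ i.coborderRange := subset_coborder ⟨z, rfl⟩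
  have hzV : i z ∈ V := e hz
  obtain ⟨f, hf1, hf2⟩ := hV.exists_basicOpen_le (V := W' ⊓ i.coborderRange)
    ⟨i z, hzW, hzc⟩ hzV
  have hpre : i ⁻¹ᵁ (X.basicOpen f) ≤ U := by
    intro y hy
    have h1 : i y ∈ W' := (hf1 hy).1
    have : y ∈ i ⁻¹' W := h1
    rw [hW] at this
    exact this
  have heq : i ⁻¹ᵁ (X.basicOpen f) = Z.basicOpen (i.appLE V U e f) := by
    rw [Scheme.basicOpen_appLE]
    exact (inf_eq_right.mpr hpre).symm
  refine ⟨f, ?_, hf1.trans inf_le_right, heq⟩
  rw [← heq]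
  exact hf2

end geom

section chart
open Groth.Agent.Helper18OmLS Groth.Agent.Helper13PullbackUnit Groth.Agent.Lib.T3H3.NLConormalAlg
variable {Z X : Scheme.{u}} (i : Z ⟶ X) [IsImmersion i] [QuasiCompact i]

/-- `idealSect` as a linear map -/
noncomputable def iotaL (V : X.Opens) : Γ(ClSub.idealMod i.ker, V) →ₗ[Γ(X, V)] Γ(X, V) :=
  { toFun := OmegaSh.idealSect i.ker V
    map_add' := map_add _
    map_smul' := fun b s => by rw [idealSect_smul]; rfl }

theorem iotaL_apply (V : X.Opens) (t : Γ(ClSub.idealMod i.ker, V)) :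
    iotaL i V t = OmegaSh.idealSect i.ker V t := rfl

theorem iotaL_injective (V : X.Opens) : Function.Injective (iotaL i V) :=
  idealSect_injective i.ker V

theorem range_iotaL (V : X.Opens) :
    (LinearMap.range (iotaL i V) : Ideal Γ(X, V)) = RingHom.ker (i.app V).hom := by
  ext x
  constructor
  · rintro ⟨t, rfl⟩
    rw [RingHom.mem_ker]
    exact app_idealSect_eq_zero i V t
  · intro hx
    obtain ⟨s, hs⟩ := exists_idealSect_eq i V x (RingHom.mem_ker.mp hx)
    exact ⟨s, hs⟩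

variable {U : Z.Opens} {V : X.Opens} (hU : IsAffineOpen U) (hV : IsAffineOpen V) (e : U ≤ i ⁻¹ᵁ V)
  [Algebra Γ(X, V) Γ(Z, U)] (halg : algebraMap Γ(X, V) Γ(Z, U) = (i.appLE V U e).hom)

include halg in
theorem iotaL_ker (t : Γ(ClSub.idealMod i.ker, V)) :
    algebraMap Γ(X, V) Γ(Z, U) (iotaL i V t) = 0 := by
  rw [halg, iotaL_apply]
  change (i.appLE V U e) (OmegaSh.idealSect i.ker V t) = 0
  rw [Scheme.Hom.appLE, CommRingCat.comp_apply, app_idealSect_eq_zero, map_zero]

omit [IsImmersion i] [QuasiCompact i] in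
theorem cls_congr {A B : Type u} [CommRing A] [CommRing B] [Algebra A B] {x y : A} (h : x = y)
    (hx : algebraMap A B x = 0) (hy : algebraMap A B y = 0) : cls A B x hx = cls A B y hy := by
  subst h; rfl

/-- the additive map `t ↦ [C (idealSect t)]` -/
noncomputable def ell : Γ(ClSub.idealMod i.ker, V) →+ Algebra.H1Cotangent Γ(X, V) Γ(Z, U) where
  toFun t := cls Γ(X, V) Γ(Z, U) (iotaL i V t) (iotaL_ker i e halg t)
  map_zero' := by
    rw [cls_congr (map_zero (iotaL i V)) _ (map_zero _)]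
    exact clsExt_zero _ _
  map_add' s t := by
    rw [cls_congr (map_add (iotaL i V) s t) _ (by rw [map_add, iotaL_ker i e halg, iotaL_ker i e halg,
      add_zero])]
    exact clsExt_add _ _ _ _ _ _

theorem ell_apply (t : Γ(ClSub.idealMod i.ker, V)) :
    ell i e halg t = cls Γ(X, V) Γ(Z, U) (iotaL i V t) (iotaL_ker i e halg t) := rfl

theorem ell_smul (r : Γ(X, V)) (t : Γ(ClSub.idealMod i.ker, V)) :
    ell i e halg (r • t) = (i.appLE V U e r : Γ(Z, U)) • ell i e halg t := by
  rw [ell_apply, ell_apply, cls_congr (show iotaL i V (r • t) = r * iotaL i V t by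
    rw [map_smul, smul_eq_mul]) _ (by rw [map_mul, iotaL_ker i e halg, mul_zero])]
  rw [cls, clsExt_mul _ r (iotaL i V t) (iotaL_ker i e halg t), halg]

include hU hV in
theorem exists_chartMap :
    ∃! c : Γ((Scheme.Modules.pullback i).obj (ClSub.idealMod i.ker), U) →ₗ[Γ(Z, U)]
        Algebra.H1Cotangent Γ(X, V) Γ(Z, U),
      ∀ t : Γ(ClSub.idealMod i.ker, V),
        c (unitSec i (ClSub.idealMod i.ker) e t) = ell i e halg t :=
  existsUnique_lift i (ClSub.idealMod i.ker) hV hU e _ (ell i e halg) (ell_smul i e halg)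

include hU hV halg in
theorem span_unitSec (m : Γ((Scheme.Modules.pullback i).obj (ClSub.idealMod i.ker), U)) :
    m ∈ Submodule.span Γ(Z, U) (Set.range (unitSec i (ClSub.idealMod i.ker) e)) := by
  obtain ⟨eq, heq⟩ := exists_pullback_equiv i (ClSub.idealMod i.ker) e hV hU halg
  obtain ⟨x, rfl⟩ := eq.surjective m
  induction x using TensorProduct.induction_on with
  | zero => rw [map_zero]; exact Submodule.zero_mem _
  | tmul b t =>
    rw [heq]
    exact Submodule.smul_mem _ _ (Submodule.subset_span ⟨t, rfl⟩)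
  | add x y hx hy =>
    rw [map_add]
    exact Submodule.add_mem _ hx hy

include hU hV halg in
theorem chartMap_local
    (c : Γ((Scheme.Modules.pullback i).obj (ClSub.idealMod i.ker), U) →ₗ[Γ(Z, U)]
        Algebra.H1Cotangent Γ(X, V) Γ(Z, U))
    (hc : ∀ t : Γ(ClSub.idealMod i.ker, V),
        c (unitSec i (ClSub.idealMod i.ker) e t) = ell i e halg t)
    (f : Γ(X, V)) (hfc : X.basicOpen f ≤ i.coborderRange)
    (hpre : i ⁻¹ᵁ (X.basicOpen f) = Z.basicOpen (algebraMap Γ(X, V) Γ(Z, U) f)) :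
    (∀ m, c m = 0 → ∃ N : ℕ, (algebraMap Γ(X, V) Γ(Z, U) f) ^ N • m = 0) ∧
      (∀ h, ∃ N : ℕ, (algebraMap Γ(X, V) Γ(Z, U) f) ^ N • h ∈ LinearMap.range c) := by
  set g : Γ(Z, U) := algebraMap Γ(X, V) Γ(Z, U) f with hg
  have hD : IsAffineOpen (X.basicOpen f) := hV.basicOpen f
  have hD' : IsAffineOpen (Z.basicOpen g) := hU.basicOpen g
  have hle : Z.basicOpen g ≤ i ⁻¹ᵁ (X.basicOpen f) := le_of_eq hpre.symm
  haveI : IsLocalization.Away f Γ(X, X.basicOpen f) := hV.isLocalization_basicOpen f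
  haveI : IsLocalization.Away (algebraMap Γ(X, V) Γ(Z, U) f) Γ(Z, Z.basicOpen g) :=
    hU.isLocalization_basicOpen g
  letI aA'B' : Algebra Γ(X, X.basicOpen f) Γ(Z, Z.basicOpen g) :=
    (i.appLE (X.basicOpen f) (Z.basicOpen g) hle).hom.toAlgebra
  letI aAB' : Algebra Γ(X, V) Γ(Z, Z.basicOpen g) :=
    ((algebraMap Γ(Z, U) Γ(Z, Z.basicOpen g)).comp (algebraMap Γ(X, V) Γ(Z, U))).toAlgebra
  haveI : IsScalarTower Γ(X, V) Γ(Z, U) Γ(Z, Z.basicOpen g) :=
    IsScalarTower.of_algebraMap_eq fun _ => rfl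
  haveI : IsScalarTower Γ(X, V) Γ(X, X.basicOpen f) Γ(Z, Z.basicOpen g) := by
    refine IsScalarTower.of_algebraMap_eq fun a => ?_
    change (Z.presheaf.map (homOfLE (Z.basicOpen_le g)).op).hom (algebraMap Γ(X, V) Γ(Z, U) a) =
      (i.appLE (X.basicOpen f) (Z.basicOpen g) hle).hom
        ((X.presheaf.map (homOfLE (X.basicOpen_le f)).op).hom a)
    rw [halg]
    have h1 : i.appLE V U e ≫ Z.presheaf.map (homOfLE (Z.basicOpen_le g)).op =
        X.presheaf.map (homOfLE (X.basicOpen_le f)).op ≫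
          i.appLE (X.basicOpen f) (Z.basicOpen g) hle := by
      rw [Scheme.Hom.appLE_map, Scheme.Hom.map_appLE]
    exact congr($h1 a)
  haveI hcl : IsClosedImmersion (i ∣_ X.basicOpen f) :=
    Groth.Agent.Lib.Helper5.RegImm.isClosedImmersion_morphismRestrict_of_le_coborderRange i _ hfc
  have hbij : Function.Bijective (Z.presheaf.map (homOfLE hle).op).hom := by
    have : IsIso (Z.presheaf.map (homOfLE hle).op) := by
      have : homOfLE hle = eqToHom hpre.symm := rfl
      rw [this]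
      infer_instance
    exact ConcreteCategory.bijective_of_isIso _
  have happLE : (i.appLE (X.basicOpen f) (Z.basicOpen g) hle).hom =
      (Z.presheaf.map (homOfLE hle).op).hom.comp (i.app (X.basicOpen f)).hom := by
    rw [Scheme.Hom.appLE, CommRingCat.hom_comp]
  have hsurj : Function.Surjective (algebraMap Γ(X, X.basicOpen f) Γ(Z, Z.basicOpen g)) := by
    change Function.Surjective (i.appLE (X.basicOpen f) (Z.basicOpen g) hle).hom
    rw [happLE]
    exact hbij.2.comp (Groth.Agent.Lib.T2H9.RegImmBC.app_surjective_of_restrict i hD)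
  have hker : RingHom.ker (algebraMap Γ(X, X.basicOpen f) Γ(Z, Z.basicOpen g)) =
      Ideal.map (algebraMap Γ(X, V) Γ(X, X.basicOpen f)) (LinearMap.range (iotaL i V)) := by
    rw [range_iotaL]
    have h1 := i.ker.map_ideal_basicOpen ⟨V, hV⟩ f
    rw [Scheme.Hom.ker_apply, Scheme.Hom.ker_apply] at h1
    refine Eq.trans ?_ h1.symm
    change RingHom.ker (i.appLE (X.basicOpen f) (Z.basicOpen g) hle).hom = _
    rw [happLE]
    ext x
    constructor
    · intro h
      rw [RingHom.mem_ker, RingHom.comp_apply] at h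
      change x ∈ RingHom.ker (i.app (X.basicOpen f)).hom
      rw [RingHom.mem_ker]
      apply hbij.1
      rw [h, map_zero]
    · intro h
      change x ∈ RingHom.ker (i.app (X.basicOpen f)).hom at h
      rw [RingHom.mem_ker] at h
      rw [RingHom.mem_ker, RingHom.comp_apply, h, map_zero]
  have hιker := iotaL_ker i e halg
  have hu : ∀ (a : Γ(X, V)) (t : Γ(ClSub.idealMod i.ker, V)),
      unitSec i (ClSub.idealMod i.ker) e (a • t) =
        algebraMap Γ(X, V) Γ(Z, U) a • unitSec i (ClSub.idealMod i.ker) e t := fun a t => by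
    rw [unitSec_smul, halg]
  exact ⟨exists_pow_smul_eq_zero hsurj f (iotaL i V) (iotaL_injective i V) hιker hker
      (unitSec i (ClSub.idealMod i.ker) e) hu (span_unitSec i hU hV e halg) c hc,
    exists_pow_smul_mem_range hsurj f (iotaL i V) hιker hker
      (unitSec i (ClSub.idealMod i.ker) e) c hc⟩

include hU hV halg in
theorem chartMap_bijective
    (c : Γ((Scheme.Modules.pullback i).obj (ClSub.idealMod i.ker), U) →ₗ[Γ(Z, U)]
        Algebra.H1Cotangent Γ(X, V) Γ(Z, U))
    (hc : ∀ t : Γ(ClSub.idealMod i.ker, V),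
        c (unitSec i (ClSub.idealMod i.ker) e t) = ell i e halg t) :
    Function.Bijective c := by
  refine bijective_of_local c fun 𝔮 h𝔮 => ?_
  let q : PrimeSpectrum Γ(Z, U) := ⟨𝔮, h𝔮⟩
  have hzU := Groth.Agent.Lib.Helper2.QCoh.fromSpec_mem hU q
  obtain ⟨f, hzf, hfc, hpre⟩ := exists_local_chart i hV e (hU.fromSpec q) hzU
  have hgf : (i.appLE V U e) f = algebraMap Γ(X, V) Γ(Z, U) f := by rw [halg]
  rw [hgf] at hzf hpre
  refine ⟨algebraMap Γ(X, V) Γ(Z, U) f, ?_, chartMap_local i hU hV e halg c hc f hfc hpre⟩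
  exact (Groth.Agent.Lib.Helper2.QCoh.mem_basicOpen_fromSpec_iff hU q _).mp hzf

end chart

section res
open Groth.Agent.Helper18OmLS Groth.Agent.Helper13PullbackUnit Groth.Agent.Lib.T3H3.NLConormalAlg
variable {Z X : Scheme.{u}} (i : Z ⟶ X) [IsImmersion i] [QuasiCompact i]
  {U U' : Z.Opens} {V V' : X.Opens} (hU : IsAffineOpen U) (hV : IsAffineOpen V)
  (hU' : IsAffineOpen U') (hV' : IsAffineOpen V')
  (e : U ≤ i ⁻¹ᵁ V) (e' : U' ≤ i ⁻¹ᵁ V') (hUU : U' ≤ U) (hVV : V' ≤ V)
  [Algebra Γ(X, V) Γ(Z, U)] (halg : algebraMap Γ(X, V) Γ(Z, U) = (i.appLE V U e).hom)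
  [Algebra Γ(X, V') Γ(Z, U')] (halg' : algebraMap Γ(X, V') Γ(Z, U') = (i.appLE V' U' e').hom)
  [Algebra Γ(X, V) Γ(Z, U')]
  [Algebra Γ(Z, U) Γ(Z, U')]
  (halgS : algebraMap Γ(Z, U) Γ(Z, U') = (Z.presheaf.map (homOfLE hUU).op).hom)
  [Algebra Γ(X, V) Γ(X, V')]
  (halgR : algebraMap Γ(X, V) Γ(X, V') = (X.presheaf.map (homOfLE hVV).op).hom)
  [IsScalarTower Γ(X, V) Γ(X, V') Γ(Z, U')] [IsScalarTower Γ(X, V) Γ(Z, U) Γ(Z, U')]

omit [IsImmersion i] [QuasiCompact i] in
theorem map_cls {R R' S S' : Type u} [CommRing R] [CommRing R'] [CommRing S] [CommRing S']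
    [Algebra R S] [Algebra R' S'] [Algebra R S'] [Algebra S S'] [Algebra R R']
    [IsScalarTower R R' S'] [IsScalarTower R S S'] (x : R) (hx : algebraMap R S x = 0)
    (hx' : algebraMap R' S' (algebraMap R R' x) = 0) :
    Algebra.H1Cotangent.map R R' S S' (cls R S x hx) = cls R' S' (algebraMap R R' x) hx' := by
  unfold Algebra.H1Cotangent.map cls
  rw [map_clsExt]

include hU hV halg halg' halgS halgR in
theorem chartMap_res
    (c : Γ((Scheme.Modules.pullback i).obj (ClSub.idealMod i.ker), U) →ₗ[Γ(Z, U)]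
        Algebra.H1Cotangent Γ(X, V) Γ(Z, U))
    (hc : ∀ t : Γ(ClSub.idealMod i.ker, V),
        c (unitSec i (ClSub.idealMod i.ker) e t) = ell i e halg t)
    (c' : Γ((Scheme.Modules.pullback i).obj (ClSub.idealMod i.ker), U') →ₗ[Γ(Z, U')]
        Algebra.H1Cotangent Γ(X, V') Γ(Z, U'))
    (hc' : ∀ t : Γ(ClSub.idealMod i.ker, V'),
        c' (unitSec i (ClSub.idealMod i.ker) e' t) = ell i e' halg' t)
    (m : Γ((Scheme.Modules.pullback i).obj (ClSub.idealMod i.ker), U)) :
    c' (((Scheme.Modules.pullback i).obj (ClSub.idealMod i.ker)).presheaf.map (homOfLE hUU).op m) =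
      Algebra.H1Cotangent.map Γ(X, V) Γ(X, V') Γ(Z, U) Γ(Z, U') (c m) := by
  refine Submodule.span_induction (p := fun m _ =>
    c' (((Scheme.Modules.pullback i).obj (ClSub.idealMod i.ker)).presheaf.map (homOfLE hUU).op m) =
      Algebra.H1Cotangent.map Γ(X, V) Γ(X, V') Γ(Z, U) Γ(Z, U') (c m)) ?_ ?_ ?_ ?_
    (span_unitSec i hU hV e halg m)
  · rintro _ ⟨t, rfl⟩
    have h1 : ((Scheme.Modules.pullback i).obj (ClSub.idealMod i.ker)).presheaf.map (homOfLE hUU).op
        (unitSec i (ClSub.idealMod i.ker) e t) =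
        unitSec i (ClSub.idealMod i.ker) e'
          ((ClSub.idealMod i.ker).presheaf.map (homOfLE hVV).op t) := by
      rw [unitSec_res i (ClSub.idealMod i.ker) hVV e' t]
      rw [unitSec_apply, unitSec_apply, ← ConcreteCategory.comp_apply, ← Functor.map_comp]
      rfl
    rw [h1, hc', hc, ell_apply, ell_apply]
    rw [map_cls (iotaL i V t) (iotaL_ker i e halg t) (by
      rw [halgR]
      have := idealSect_res i.ker hVV t
      rw [← iotaL_apply, ← iotaL_apply] at this
      rw [← this]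
      exact iotaL_ker i e' halg' _)]
    apply cls_congr
    rw [halgR]
    exact idealSect_res i.ker hVV t
  · rw [map_zero, map_zero, map_zero, map_zero]
  · intro x y _ _ hx hy
    rw [map_add, map_add, map_add, map_add, hx, hy]
  · intro b x _ hx
    rw [Scheme.Modules.map_smul, map_smul, map_smul, map_smul, hx]
    have : (b • (Algebra.H1Cotangent.map Γ(X, V) Γ(X, V') Γ(Z, U) Γ(Z, U') (c x)) :
        Algebra.H1Cotangent Γ(X, V') Γ(Z, U')) =
        algebraMap Γ(Z, U) Γ(Z, U') b •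
          (Algebra.H1Cotangent.map Γ(X, V) Γ(X, V') Γ(Z, U) Γ(Z, U') (c x)) := by
      apply Subtype.ext
      rfl
    rw [this, halgS]

end res

section final
open Groth.Agent.Helper18OmLS Groth.Agent.Helper13PullbackUnit Groth.Agent.Lib.T3H3.NLConormalAlg
variable {Z X : Scheme.{u}} (i : Z ⟶ X) [IsImmersion i] [QuasiCompact i]

/-- the chart comparison map -/
noncomputable def chartMap (U : Z.affineOpens) (V : X.affineOpens)
    (e : (U : Z.Opens) ≤ i ⁻¹ᵁ (V : X.Opens)) :
    letI := (i.appLE (V : X.Opens) (U : Z.Opens) e).hom.toAlgebra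
    Γ((Scheme.Modules.pullback i).obj (ClSub.idealMod i.ker), (U : Z.Opens)) →ₗ[Γ(Z, (U : Z.Opens))]
      Algebra.H1Cotangent Γ(X, (V : X.Opens)) Γ(Z, (U : Z.Opens)) :=
  letI := (i.appLE (V : X.Opens) (U : Z.Opens) e).hom.toAlgebra
  (exists_chartMap i U.2 V.2 e rfl).exists.choose

theorem chartMap_spec (U : Z.affineOpens) (V : X.affineOpens)
    (e : (U : Z.Opens) ≤ i ⁻¹ᵁ (V : X.Opens)) :
    letI := (i.appLE (V : X.Opens) (U : Z.Opens) e).hom.toAlgebra
    ∀ t : Γ(ClSub.idealMod i.ker, (V : X.Opens)),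
      chartMap i U V e (unitSec i (ClSub.idealMod i.ker) e t) = ell i e rfl t :=
  letI := (i.appLE (V : X.Opens) (U : Z.Opens) e).hom.toAlgebra
  (exists_chartMap i U.2 V.2 e rfl).exists.choose_spec

theorem chartMap_bij (U : Z.affineOpens) (V : X.affineOpens)
    (e : (U : Z.Opens) ≤ i ⁻¹ᵁ (V : X.Opens)) : Function.Bijective (chartMap i U V e) :=
  letI := (i.appLE (V : X.Opens) (U : Z.Opens) e).hom.toAlgebra
  chartMap_bijective i U.2 V.2 e rfl (chartMap i U V e) (chartMap_spec i U V e)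

theorem nonempty_h1Sheaf : Nonempty (NLCx.H1Sheaf i (Omega.conormal i)) := by
  refine ⟨{ iso := fun U V e => AddEquiv.ofBijective (chartMap i U V e) (chartMap_bij i U V e)
            map_smul := fun U V e a m => ?_
            map_res := fun {U U' V V'} e e' hU hV m => ?_ }⟩
  · exact map_smul (chartMap i U V e) a m
  · letI a1 := (i.appLE (V : X.Opens) (U : Z.Opens) e).hom.toAlgebra
    letI a2 := (i.appLE (V' : X.Opens) (U' : Z.Opens) e').hom.toAlgebra
    letI a3 := (i.appLE (V : X.Opens) (U' : Z.Opens) (hU.trans e)).hom.toAlgebra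
    letI a4 := (Z.presheaf.map (homOfLE hU).op).hom.toAlgebra
    letI a5 := (X.presheaf.map (homOfLE hV).op).hom.toAlgebra
    haveI t1 : IsScalarTower Γ(X, (V : X.Opens)) Γ(X, (V' : X.Opens)) Γ(Z, (U' : Z.Opens)) :=
      IsScalarTower.of_algebraMap_eq' (by
        change (i.appLE _ _ _).hom = (i.appLE _ _ _).hom.comp (X.presheaf.map _).hom
        rw [← CommRingCat.hom_comp, Scheme.Hom.map_appLE])
    haveI t2 : IsScalarTower Γ(X, (V : X.Opens)) Γ(Z, (U : Z.Opens)) Γ(Z, (U' : Z.Opens)) :=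
      IsScalarTower.of_algebraMap_eq' (by
        change (i.appLE _ _ _).hom = (Z.presheaf.map _).hom.comp (i.appLE _ _ _).hom
        rw [← CommRingCat.hom_comp, Scheme.Hom.appLE_map])
    exact chartMap_res i U.2 V.2 e e' hU hV rfl rfl rfl rfl (chartMap i U V e)
      (chartMap_spec i U V e) (chartMap i U' V' e') (chartMap_spec i U' V' e') m

end final

section omega

theorem onCharts_subsingleton {Z X : Scheme.{u}} (i : Z ⟶ X) [IsImmersion i] :
    NLCx.OnCharts i (fun A B _ _ _ => Subsingleton (Ω[B⁄A])) := by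
  intro U V e
  haveI : IsOpenImmersion (pullback.diagonal i) := inferInstance
  have h1 : AlgebraicGeometry.FormallyUnramified i := inferInstance
  have h2 := HasRingHomProperty.appLE (P := @AlgebraicGeometry.FormallyUnramified) i h1 V U e
  letI := (i.appLE (V : X.Opens) (U : Z.Opens) e).hom.toAlgebra
  have h3 : Algebra.FormallyUnramified Γ(X, (V : X.Opens)) Γ(Z, (U : Z.Opens)) := h2
  exact h3.subsingleton_kaehlerDifferential

end omega

end Groth.Agent.Lib.T3H3.NLConormal
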