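import Mathlib

set_option autoImplicit false
set_option linter.style.haveILetI false
universe u w
open Algebra

namespace Groth.Agent.Lib.T3H3.NLConormalAlg

section ext
variable {R S : Type u} [CommRing R] [CommRing S] [Algebra R S] (P : Extension.{w} R S)

theorem algebraMap_mem_ker (x : R) (hx : algebraMap R S x = 0) :
    algebraMap R P.Ring x ∈ P.ker := by
  rw [Extension.ker, RingHom.mem_ker, ← IsScalarTower.algebraMap_apply]
  exact hx

/-- the class of a constant `x ∈ ker (R → S)` in `H¹` of an extension. -/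
noncomputable def clsExt (x : R) (hx : algebraMap R S x = 0) : P.H1Cotangent :=
  ⟨Extension.Cotangent.mk ⟨algebraMap R P.Ring x, algebraMap_mem_ker P x hx⟩, by
    rw [LinearMap.mem_ker, Extension.cotangentComplex_mk]
    have : (KaehlerDifferential.D R P.Ring) (algebraMap R P.Ring x) = 0 :=
      (KaehlerDifferential.D R P.Ring).map_algebraMap x
    rw [this, TensorProduct.tmul_zero]⟩

theorem clsExt_val (x : R) (hx : algebraMap R S x = 0) :
    (clsExt P x hx).val = Extension.Cotangent.mk ⟨algebraMap R P.Ring x, algebraMap_mem_ker P x hx⟩ :=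
  rfl

variable {P}
variable {R' S' : Type u} [CommRing R'] [CommRing S'] [Algebra R' S'] {P' : Extension.{w} R' S'}
  [Algebra R R'] [Algebra S S'] [Algebra R S'] [IsScalarTower R R' S'] [IsScalarTower R S S']

theorem map_clsExt (f : P.Hom P') (x : R) (hx : algebraMap R S x = 0) :
    Extension.H1Cotangent.map f (clsExt P x hx) = clsExt P' (algebraMap R R' x) (by
      rw [← IsScalarTower.algebraMap_apply, IsScalarTower.algebraMap_apply R S S', hx, map_zero]) := by
  apply Subtype.ext
  rw [Extension.H1Cotangent.map_apply_coe, clsExt_val, clsExt_val, Extension.Cotangent.map_mk]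
  congr 2
  exact f.toRingHom_algebraMap x

end ext

section ext2
variable {R S : Type u} [CommRing R] [CommRing S] [Algebra R S] (P : Extension.{w} R S)

theorem clsExt_zero (h0 : algebraMap R S 0 = 0) : clsExt P 0 h0 = 0 := by
  apply Subtype.ext
  rw [clsExt_val]
  change _ = (0 : P.Cotangent)
  rw [← map_zero (Extension.Cotangent.mk (P := P))]
  congr 1
  apply Subtype.ext
  exact map_zero _

theorem clsExt_add (x y : R) (hx : algebraMap R S x = 0) (hy : algebraMap R S y = 0)
    (hxy : algebraMap R S (x + y) = 0) :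
    clsExt P (x + y) hxy = clsExt P x hx + clsExt P y hy := by
  apply Subtype.ext
  change (clsExt P (x + y) hxy).val = (clsExt P x hx).val + (clsExt P y hy).val
  rw [clsExt_val, clsExt_val, clsExt_val, ← map_add]
  congr 1
  apply Subtype.ext
  exact map_add _ _ _

theorem clsExt_mul (a x : R) (hx : algebraMap R S x = 0) (hax : algebraMap R S (a * x) = 0) :
    clsExt P (a * x) hax = algebraMap R S a • clsExt P x hx := by
  apply Subtype.ext
  change (clsExt P (a * x) hax).val = algebraMap R S a • (clsExt P x hx).val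
  rw [clsExt_val, clsExt_val, IsScalarTower.algebraMap_apply R P.Ring S, algebraMap_smul,
    ← map_smul]
  congr 1
  apply Subtype.ext
  change algebraMap R P.Ring (a * x) = algebraMap R P.Ring a * algebraMap R P.Ring x
  exact map_mul _ _ _

end ext2

section localChart
variable {A B A' B' : Type u} [CommRing A] [CommRing B] [CommRing A'] [CommRing B']
  [Algebra A B] [Algebra A A'] [Algebra A' B'] [Algebra B B'] [Algebra A B']
  [IsScalarTower A A' B'] [IsScalarTower A B B']

variable (A B) in
/-- `H¹(L_{B/A})` with its canonical class map. -/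
noncomputable abbrev cls (x : A) (hx : algebraMap A B x = 0) : Algebra.H1Cotangent A B :=
  clsExt (Generators.self A B).toExtension x hx

variable (hsurj : Function.Surjective (algebraMap A' B'))

variable (A) in
/-- the extension `A' → B'` of `B'` over `A`. -/
noncomputable abbrev extP : Extension.{u} A B' :=
  Extension.ofSurjective (IsScalarTower.toAlgHom A A' B') hsurj

/-- the comparison map `H¹(L_{B/A}) → ker(A' → B') / ker²`. -/
noncomputable def Psi (h : Algebra.H1Cotangent A B) : (extP A hsurj).Cotangent :=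
  (Extension.H1Cotangent.map (extP A hsurj).defaultHom (Algebra.H1Cotangent.map A A B B' h)).val

theorem Psi_add (h₁ h₂ : Algebra.H1Cotangent A B) :
    Psi hsurj (h₁ + h₂) = Psi hsurj h₁ + Psi hsurj h₂ := by
  unfold Psi
  rw [map_add, map_add]
  rfl

theorem Psi_smul (b : B) (h : Algebra.H1Cotangent A B) :
    Psi hsurj (b • h) = algebraMap B B' b • Psi hsurj h := by
  unfold Psi
  rw [map_smul]
  have : (b • (Algebra.H1Cotangent.map A A B B' h) : Algebra.H1Cotangent A B') =
      algebraMap B B' b • (Algebra.H1Cotangent.map A A B B' h) := by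
    apply Subtype.ext
    rfl
  rw [this, map_smul]
  rfl

theorem Psi_cls (x : A) (hx : algebraMap A B x = 0) :
    Psi hsurj (cls A B x hx) = Extension.Cotangent.mk ⟨algebraMap A A' x, by
      have := algebraMap_mem_ker (extP A hsurj) x (by
        rw [IsScalarTower.algebraMap_apply A B B', hx, map_zero])
      exact this⟩ := by
  unfold Psi
  have h1 : Algebra.H1Cotangent.map A A B B' (cls A B x hx) = cls A B' x (by
      rw [IsScalarTower.algebraMap_apply A B B', hx, map_zero]) := by
    unfold Algebra.H1Cotangent.map cls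
    rw [map_clsExt]
    rfl
  rw [h1]
  unfold cls
  rw [map_clsExt]
  rfl

theorem Psi_zero : Psi (A := A) (B := B) hsurj 0 = 0 := by
  unfold Psi
  rw [map_zero, map_zero]
  rfl

theorem Psi_sub (h₁ h₂ : Algebra.H1Cotangent A B) :
    Psi hsurj (h₁ - h₂) = Psi hsurj h₁ - Psi hsurj h₂ := by
  unfold Psi
  rw [map_sub, map_sub]
  rfl

variable (f : A) [IsLocalization.Away f A'] [IsLocalization.Away (algebraMap A B f) B']

include f in
theorem exists_pow_smul_eq_zero_of_Psi_eq_zero (h : Algebra.H1Cotangent A B)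
    (hh : Psi hsurj h = 0) : ∃ N : ℕ, (algebraMap A B f) ^ N • h = 0 := by
  haveI : Algebra.FormallyEtale A A' := Algebra.FormallyEtale.of_isLocalization (Submonoid.powers f)
  haveI : Algebra.FormallySmooth A (extP A hsurj).Ring :=
    inferInstanceAs (Algebra.FormallySmooth A A')
  haveI : Algebra.FormallySmooth A (Generators.self A B').toExtension.Ring := by
    change Algebra.FormallySmooth A (_root_.MvPolynomial B' A)
    infer_instance
  have hinj : Function.Injective (Extension.H1Cotangent.map (extP A hsurj).defaultHom) := by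
    have h1 := Extension.H1Cotangent.equivOfFormallySmooth_toLinearMap (extP A hsurj).defaultHom
    have h2 := (Extension.H1Cotangent.equivOfFormallySmooth (Generators.self A B').toExtension
      (extP A hsurj)).injective
    intro x y hxy
    apply h2
    have := congrArg (fun l => l x) h1
    have h3 : (Extension.H1Cotangent.equivOfFormallySmooth (Generators.self A B').toExtension
      (extP A hsurj)) x = Extension.H1Cotangent.map (extP A hsurj).defaultHom x :=
      Extension.H1Cotangent.equivOfFormallySmooth_apply _ x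
    have h4 : (Extension.H1Cotangent.equivOfFormallySmooth (Generators.self A B').toExtension
      (extP A hsurj)) y = Extension.H1Cotangent.map (extP A hsurj).defaultHom y :=
      Extension.H1Cotangent.equivOfFormallySmooth_apply _ y
    rw [h3, h4, hxy]
  have h0 : Algebra.H1Cotangent.map A A B B' h = 0 := by
    apply hinj
    rw [map_zero]
    apply Subtype.ext
    exact hh
  have := IsLocalizedModule.exists_of_eq (S := Submonoid.powers (algebraMap A B f))
    (f := Algebra.H1Cotangent.map A A B B') (x₁ := h) (x₂ := 0) (by rw [h0, map_zero])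
  obtain ⟨⟨_, N, rfl⟩, hc⟩ := this
  refine ⟨N, ?_⟩
  rw [smul_zero] at hc
  exact hc

include f hsurj in
theorem exists_pow_mul_eq_algebraMap (b : B) :
    ∃ (a : A) (k : ℕ), (algebraMap A B f) ^ k * b = algebraMap A B a := by
  obtain ⟨a', ha'⟩ := hsurj (algebraMap B B' b)
  obtain ⟨n, a, ha⟩ := IsLocalization.Away.surj f a'
  have h1 : algebraMap B B' (b * (algebraMap A B f) ^ n) = algebraMap B B' (algebraMap A B a) := by
    rw [map_mul, ← ha', map_pow, ← IsScalarTower.algebraMap_apply A B B',
      IsScalarTower.algebraMap_apply A A' B', ← map_pow, ← map_mul, ha,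
      ← IsScalarTower.algebraMap_apply A A' B', ← IsScalarTower.algebraMap_apply A B B']
  obtain ⟨⟨_, j, rfl⟩, hj⟩ :=
    (IsLocalization.eq_iff_exists (Submonoid.powers (algebraMap A B f)) B').mp h1
  refine ⟨f ^ j * a, j + n, ?_⟩
  rw [map_mul, map_pow, ← hj, pow_add]
  ring

section lemmaK
variable {T M : Type u} [AddCommGroup T] [Module A T] [AddCommGroup M] [Module B M]
  (ι : T →ₗ[A] A) (hι : Function.Injective ι) (hιker : ∀ t, algebraMap A B (ι t) = 0)
  (hker : RingHom.ker (algebraMap A' B') = Ideal.map (algebraMap A A') (LinearMap.range ι))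
  (u : T →+ M) (hu : ∀ (a : A) (t : T), u (a • t) = algebraMap A B a • u t)
  (hgen : ∀ m : M, m ∈ Submodule.span B (Set.range u))
  (c : M →ₗ[B] Algebra.H1Cotangent A B)
  (hc : ∀ t, c (u t) = cls A B (ι t) (hιker t))

include f hsurj hu hgen in
theorem exists_pow_smul_eq_u (m : M) : ∃ (n : ℕ) (t : T), (algebraMap A B f) ^ n • m = u t := by
  have hpow : ∀ (k : ℕ) (t : T), u (f ^ k • t) = (algebraMap A B f) ^ k • u t := fun k t => by
    rw [hu, map_pow]
  refine Submodule.span_induction (p := fun m _ => ∃ (n : ℕ) (t : T),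
    (algebraMap A B f) ^ n • m = u t) ?_ ?_ ?_ ?_ (hgen m)
  · rintro _ ⟨t, rfl⟩
    exact ⟨0, t, by rw [pow_zero, one_smul]⟩
  · exact ⟨0, 0, by rw [smul_zero, map_zero]⟩
  · rintro x y _ _ ⟨n₁, t₁, h₁⟩ ⟨n₂, t₂, h₂⟩
    refine ⟨n₁ + n₂, f ^ n₂ • t₁ + f ^ n₁ • t₂, ?_⟩
    rw [map_add, hpow, hpow, ← h₁, ← h₂, smul_add, smul_smul, smul_smul, ← pow_add, ← pow_add,
      add_comm n₂ n₁]
  · rintro b x _ ⟨n, t, h⟩
    obtain ⟨a, k, hak⟩ := exists_pow_mul_eq_algebraMap hsurj f b
    refine ⟨k + n, a • t, ?_⟩
    rw [hu, ← hak, ← h, smul_smul, smul_smul]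
    congr 1
    ring

include hι hιker hu in
theorem u_eq_zero_of_mem_sq (t : T) (ht : ι t ∈ (LinearMap.range ι : Ideal A) ^ 2) : u t = 0 := by
  have h1 : (LinearMap.range ι : Ideal A) ^ 2 =
      Submodule.map ι ((LinearMap.range ι : Ideal A) • (⊤ : Submodule A T)) := by
    rw [Submodule.map_smul'', Submodule.map_top, pow_two]
    rfl
  rw [h1] at ht
  obtain ⟨t', ht', he⟩ := ht
  have : t' = t := hι he
  subst this
  refine Submodule.smul_induction_on ht' ?_ ?_
  · rintro r ⟨s, rfl⟩ t'' _
    rw [hu, hιker, zero_smul]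
  · intro x y hx hy
    rw [map_add, hx, hy, add_zero]

include f hsurj hι hker hu hgen hc in
theorem exists_pow_smul_eq_zero (m : M) (hm : c m = 0) :
    ∃ N : ℕ, (algebraMap A B f) ^ N • m = 0 := by
  obtain ⟨n, t, hnt⟩ := exists_pow_smul_eq_u hsurj f u hu hgen m
  have h1 : cls A B (ι t) (hιker t) = 0 := by
    rw [← hc, ← hnt, map_smul, hm, smul_zero]
  have h2 := Psi_cls hsurj (ι t) (hιker t)
  rw [h1, Psi_zero] at h2
  have h3 := (Extension.Cotangent.mk_eq_zero_iff _).mp h2.symm
  have h4 : algebraMap A A' (ι t) ∈ Ideal.map (algebraMap A A') ((LinearMap.range ι : Ideal A) ^ 2) := by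
    rw [Ideal.map_pow, ← hker]
    exact h3
  rw [IsLocalization.algebraMap_mem_map_algebraMap_iff (Submonoid.powers f)] at h4
  obtain ⟨_, ⟨N, rfl⟩, hN⟩ := h4
  have h5 : u (f ^ N • t) = 0 := by
    apply u_eq_zero_of_mem_sq ι hι hιker u hu
    rw [map_smul, smul_eq_mul]
    exact hN
  refine ⟨N + n, ?_⟩
  rw [pow_add, mul_smul, hnt, ← map_pow, ← hu, h5]

include f hsurj hker hc in
theorem exists_pow_smul_mem_range (h : Algebra.H1Cotangent A B) :
    ∃ N : ℕ, (algebraMap A B f) ^ N • h ∈ LinearMap.range c := by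
  obtain ⟨⟨y, hy⟩, hy'⟩ := Extension.Cotangent.mk_surjective (Psi hsurj h)
  have hy2 : ∃ x' : Prod ↥(LinearMap.range ι : Ideal A) ↥(Submonoid.powers f),
      (show A' from y) * algebraMap A A' x'.2 = algebraMap A A' x'.1 :=
    (IsLocalization.mem_map_algebraMap_iff (Submonoid.powers f) A').mp (by rw [← hker]; exact hy)
  obtain ⟨⟨⟨x, ⟨t, rfl⟩⟩, ⟨_, k, rfl⟩⟩, hxk⟩ := hy2
  have e1 : Psi hsurj ((algebraMap A B f) ^ k • h) = Psi hsurj (c (u t)) := by
    rw [Psi_smul, hc, Psi_cls, ← hy']
    have e2 : algebraMap B B' ((algebraMap A B f) ^ k) =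
        algebraMap (extP A hsurj).Ring B' (algebraMap A A' (f ^ k)) := by
      rw [map_pow, ← IsScalarTower.algebraMap_apply A B B',
        IsScalarTower.algebraMap_apply A A' B', ← map_pow, ← map_pow]
      rfl
    rw [e2, algebraMap_smul, ← map_smul]
    congr 1
    apply Subtype.ext
    change (algebraMap A A' (f ^ k) : A') * (show A' from y) = algebraMap A A' (ι t)
    rw [mul_comm]
    exact hxk
  have e3 : Psi hsurj ((algebraMap A B f) ^ k • h - c (u t)) = 0 := by
    rw [Psi_sub, e1, sub_self]
  obtain ⟨N, hN⟩ := exists_pow_smul_eq_zero_of_Psi_eq_zero hsurj f _ e3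
  refine ⟨N + k, (algebraMap A B f) ^ N • u t, ?_⟩
  rw [map_smul, pow_add, mul_smul]
  rw [smul_sub, sub_eq_zero] at hN
  exact hN.symm

end lemmaK

end localChart

section global

theorem bijective_of_local {B : Type u} [CommRing B] {M N : Type u} [AddCommGroup M] [Module B M]
    [AddCommGroup N] [Module B N] (c : M →ₗ[B] N)
    (hloc : ∀ 𝔮 : Ideal B, 𝔮.IsPrime → ∃ g : B, g ∉ 𝔮 ∧
      (∀ m, c m = 0 → ∃ k : ℕ, g ^ k • m = 0) ∧
      (∀ h, ∃ k : ℕ, g ^ k • h ∈ LinearMap.range c)) :
    Function.Bijective c := by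
  constructor
  · rw [injective_iff_map_eq_zero]
    intro m hm
    by_contra hne
    have hI : (Submodule.span B {m}).annihilator ≠ ⊤ := by
      intro h
      apply hne
      have h1 : (1 : B) ∈ (Submodule.span B {m}).annihilator := h ▸ Submodule.mem_top
      rw [Submodule.mem_annihilator_span_singleton] at h1
      rwa [one_smul] at h1
    obtain ⟨𝔮, h𝔮, hle⟩ := Ideal.exists_le_maximal _ hI
    obtain ⟨g, hg, h1, -⟩ := hloc 𝔮 h𝔮.isPrime
    obtain ⟨k, hk⟩ := h1 m hm
    have : g ^ k ∈ 𝔮 := hle ((Submodule.mem_annihilator_span_singleton _ _).mpr hk)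
    exact hg (h𝔮.isPrime.mem_of_pow_mem k this)
  · intro h
    let I : Ideal B :=
      { carrier := {b | b • h ∈ LinearMap.range c}
        add_mem' := fun {a b} ha hb => by
          change (a + b) • h ∈ LinearMap.range c
          rw [add_smul]
          exact Submodule.add_mem _ ha hb
        zero_mem' := by
          change (0 : B) • h ∈ LinearMap.range c
          rw [zero_smul]
          exact Submodule.zero_mem _
        smul_mem' := fun r {b} hb => by
          change (r • b) • h ∈ LinearMap.range c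
          rw [smul_eq_mul, mul_smul]
          exact Submodule.smul_mem _ r hb }
    by_contra hne
    have hI : I ≠ ⊤ := by
      intro hI
      apply hne
      have h1 : (1 : B) ∈ I := hI ▸ Submodule.mem_top
      have h2 : (1 : B) • h ∈ LinearMap.range c := h1
      rwa [one_smul] at h2
    obtain ⟨𝔮, h𝔮, hle⟩ := Ideal.exists_le_maximal _ hI
    obtain ⟨g, hg, -, h2⟩ := hloc 𝔮 h𝔮.isPrime
    obtain ⟨k, hk⟩ := h2 h
    have : g ^ k ∈ 𝔮 := hle hk
    exact hg (h𝔮.isPrime.mem_of_pow_mem k this)

end global

end Groth.Agent.Lib.T3H3.NLConormalAlg
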