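import Mathlib
import Groth.Prelude.Def_Cyc
set_option backward.isDefEq.respectTransparency.types false

/-!
# Centres of valuation rings of the function field, relative version (helper4)

For `q : W ⟶ Y` with `W` integral, `η` the generic point of `W`: a valuation ring `V` of `κ(η)`
containing the image of `κ(q η)` dominates the local ring of a point `x` of the fibre over `q η`
when `q` satisfies the existence part of the valuative criterion, and `x` is unique when `q` is
separated.

Namespace `Groth.Agent.Lib.T3H4.CurveRel`.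
-/

set_option autoImplicit false
set_option linter.style.haveILetI false
universe u

open AlgebraicGeometry CategoryTheory

namespace Groth.Agent.Lib.T3H4.CurveRel

variable {W Y : Scheme.{u}} [IsIntegral W] (q : W ⟶ Y)

theorem specMap_specMap_fromSpecStalk (x : W) (h : genericPoint W ⤳ x) :
    Spec.map (CommRingCat.ofHom (Cyc.specMap x (genericPoint W) h)) ≫ W.fromSpecStalk x =
      W.fromSpecResidueField (genericPoint W) := by
  have h1 : CommRingCat.ofHom (Cyc.specMap x (genericPoint W) h) =
      W.presheaf.stalkSpecializes h ≫ W.residue (genericPoint W) := rfl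
  rw [h1, Spec.map_comp, Category.assoc, Scheme.SpecMap_stalkSpecializes_fromSpecStalk h]
  rfl

set_option backward.isDefEq.respectTransparency false in
/-- **Existence of a centre**, relative version -/
theorem exists_center (hval : ValuativeCriterion.Existence q)
    (V : ValuationSubring (W.residueField (genericPoint W)))
    (hV : ∀ r : Y.residueField (q (genericPoint W)),
      (q.residueFieldMap (genericPoint W)).hom r ∈ V) :
    ∃ x : W, q x = q (genericPoint W) ∧ ∃ ψ : W.presheaf.stalk x →+* V, IsLocalHom ψ ∧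
      ∀ a : W.presheaf.stalk x, ((ψ a : V) : W.residueField (genericPoint W)) =
        Cyc.specMap x (genericPoint W) (genericPoint_specializes x) a := by
  let F := W.residueField (genericPoint W)
  let φ : Y.residueField (q (genericPoint W)) →+* V :=
    (q.residueFieldMap (genericPoint W)).hom.codRestrict V.toSubring hV
  let i₂ : Spec (CommRingCat.of V) ⟶ Y :=
    Spec.map (CommRingCat.ofHom φ) ≫ Y.fromSpecResidueField (q (genericPoint W))
  have hi₂ : W.fromSpecResidueField (genericPoint W) ≫ q =
      Spec.map (CommRingCat.ofHom (algebraMap V F)) ≫ i₂ := by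
    rw [← Scheme.Hom.SpecMap_residueFieldMap_fromSpecResidueField, ← Spec.map_comp_assoc]
    rfl
  let Sq : ValuativeCommSq q :=
    { R := V
      K := F
      i₁ := W.fromSpecResidueField (genericPoint W)
      i₂ := i₂
      commSq := ⟨hi₂⟩ }
  obtain ⟨⟨l, hl1, hl2⟩⟩ := (hval Sq).exists_lift
  change Spec.map (CommRingCat.ofHom (algebraMap V F)) ≫ l =
    W.fromSpecResidueField (genericPoint W) at hl1
  change l ≫ q = i₂ at hl2
  let x : W := l (IsLocalRing.closedPoint V)
  let ψ : W.presheaf.stalk x ⟶ CommRingCat.of V := Scheme.stalkClosedPointTo l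
  have hψl : Spec.map ψ ≫ W.fromSpecStalk x = l := Scheme.Spec_stalkClosedPointTo_fromSpecStalk l
  haveI : IsLocalHom ψ.hom := Scheme.isLocalHom_stalkClosedPointTo' l
  have hcomp : ψ ≫ CommRingCat.ofHom (algebraMap V F) =
      CommRingCat.ofHom (Cyc.specMap x (genericPoint W) (genericPoint_specializes x)) := by
    apply Spec.map_injective
    rw [← cancel_mono (W.fromSpecStalk x), Spec.map_comp, Category.assoc, hψl, hl1,
      specMap_specMap_fromSpecStalk]
  have hqx : q x = q (genericPoint W) := by
    have h1 : (l ≫ q) (IsLocalRing.closedPoint V) = i₂ (IsLocalRing.closedPoint V) := by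
      rw [hl2]
    rw [Scheme.Hom.comp_apply] at h1
    rw [h1]
    change (Spec.map (CommRingCat.ofHom φ) ≫ Y.fromSpecResidueField (q (genericPoint W))) _ = _
    rw [Scheme.Hom.comp_apply]
    exact Scheme.fromSpecResidueField_apply _ _
  exact ⟨x, hqx, ψ.hom, inferInstance, fun a => congr($(hcomp).hom a)⟩

set_option backward.isDefEq.respectTransparency false in
theorem isDominant_specMap {V F : Type u} [CommRing V] [Field F] [Algebra V F]
    (hinj : Function.Injective (algebraMap V F)) :
    IsDominant (Spec.map (CommRingCat.ofHom (algebraMap V F))) := by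
  constructor
  rw [DenseRange]
  intro p
  have hmem : Spec.map (CommRingCat.ofHom (algebraMap V F)) (IsLocalRing.closedPoint F) ∈
      Set.range (Spec.map (CommRingCat.ofHom (algebraMap V F))) := ⟨_, rfl⟩
  apply closure_mono (Set.singleton_subset_iff.mpr hmem)
  rw [← specializes_iff_mem_closure, ← PrimeSpectrum.le_iff_specializes]
  intro a ha
  change algebraMap V F a ∈ IsLocalRing.maximalIdeal F at ha
  rw [IsLocalRing.maximalIdeal_eq_bot, Ideal.mem_bot] at ha
  have : a = 0 := hinj (by rw [ha, map_zero])
  rw [this]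
  exact zero_mem _

set_option backward.isDefEq.respectTransparency false in
/-- two morphisms from the spectrum of a local domain which agree at the closed point and on the
generic point are equal -/
theorem hom_ext_of_closedPoint {V F : Type u} [CommRing V] [IsDomain V] [IsLocalRing V] [Field F]
    [Algebra V F] (hinj : Function.Injective (algebraMap V F)) {Y : Scheme.{u}}
    (m₁ m₂ : Spec (CommRingCat.of V) ⟶ Y)
    (h0 : m₁ (IsLocalRing.closedPoint V) = m₂ (IsLocalRing.closedPoint V))
    (h1 : Spec.map (CommRingCat.ofHom (algebraMap V F)) ≫ m₁ =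
      Spec.map (CommRingCat.ofHom (algebraMap V F)) ≫ m₂) : m₁ = m₂ := by
  obtain ⟨_, ⟨U, hU, rfl⟩, hyU, -⟩ := Y.isBasis_affineOpens.exists_subset_of_mem_open
    (Set.mem_univ (m₁ (IsLocalRing.closedPoint V))) isOpen_univ
  have key : ∀ (U : Y.Opens), IsAffineOpen U → m₁ (IsLocalRing.closedPoint V) ∈ U → m₁ = m₂ := by
    intro U hU hyU
    have hr : ∀ m : Spec (CommRingCat.of V) ⟶ Y, m (IsLocalRing.closedPoint V) ∈ U →
        Set.range m ⊆ Set.range U.ι := by
      intro m hm
      rintro _ ⟨p, rfl⟩
      rw [Scheme.Opens.range_ι]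
      have hsp : p ⤳ IsLocalRing.closedPoint V := IsLocalRing.specializes_closedPoint p
      exact (hsp.map m.continuous).mem_open U.isOpen hm
    have hr₁ := hr m₁ hyU
    have hr₂ := hr m₂ (h0 ▸ hyU)
    haveI : IsAffine U.toScheme := hU
    haveI := isDominant_specMap (V := V) (F := F) hinj
    have h2 : IsOpenImmersion.lift U.ι m₁ hr₁ = IsOpenImmersion.lift U.ι m₂ hr₂ := by
      apply ext_of_isDominant (Spec.map (CommRingCat.ofHom (algebraMap V F)))
      rw [← cancel_mono U.ι, Category.assoc, Category.assoc, IsOpenImmersion.lift_fac,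
        IsOpenImmersion.lift_fac, h1]
    rw [← IsOpenImmersion.lift_fac U.ι m₁ hr₁, ← IsOpenImmersion.lift_fac U.ι m₂ hr₂, h2]
  exact key U hU hyU

set_option backward.isDefEq.respectTransparency false in
/-- **Uniqueness of the centre**, relative version -/
theorem center_unique [IsSeparated q]
    (V : ValuationSubring (W.residueField (genericPoint W))) (x₁ x₂ : W) (hq : q x₁ = q x₂)
    (ψ₁ : W.presheaf.stalk x₁ →+* V) [IsLocalHom ψ₁]
    (h₁ : ∀ a : W.presheaf.stalk x₁, ((ψ₁ a : V) : W.residueField (genericPoint W)) =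
      Cyc.specMap x₁ (genericPoint W) (genericPoint_specializes x₁) a)
    (ψ₂ : W.presheaf.stalk x₂ →+* V) [IsLocalHom ψ₂]
    (h₂ : ∀ a : W.presheaf.stalk x₂, ((ψ₂ a : V) : W.residueField (genericPoint W)) =
      Cyc.specMap x₂ (genericPoint W) (genericPoint_specializes x₂) a) :
    x₁ = x₂ := by
  let F := W.residueField (genericPoint W)
  let ι : CommRingCat.of V ⟶ CommRingCat.of F := CommRingCat.ofHom (algebraMap V F)
  have hinj : Function.Injective (algebraMap V F) := Subtype.val_injective
  have e₁ : CommRingCat.ofHom ψ₁ ≫ ι =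
      CommRingCat.ofHom (Cyc.specMap x₁ (genericPoint W) (genericPoint_specializes x₁)) := by
    ext a
    exact h₁ a
  have e₂ : CommRingCat.ofHom ψ₂ ≫ ι =
      CommRingCat.ofHom (Cyc.specMap x₂ (genericPoint W) (genericPoint_specializes x₂)) := by
    ext a
    exact h₂ a
  let l₁ : Spec (CommRingCat.of V) ⟶ W := Spec.map (CommRingCat.ofHom ψ₁) ≫ W.fromSpecStalk x₁
  let l₂ : Spec (CommRingCat.of V) ⟶ W := Spec.map (CommRingCat.ofHom ψ₂) ≫ W.fromSpecStalk x₂
  have hl₁ : Spec.map ι ≫ l₁ = W.fromSpecResidueField (genericPoint W) := by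
    change Spec.map ι ≫ Spec.map (CommRingCat.ofHom ψ₁) ≫ W.fromSpecStalk x₁ = _
    rw [← Spec.map_comp_assoc, e₁, specMap_specMap_fromSpecStalk]
  have hl₂ : Spec.map ι ≫ l₂ = W.fromSpecResidueField (genericPoint W) := by
    change Spec.map ι ≫ Spec.map (CommRingCat.ofHom ψ₂) ≫ W.fromSpecStalk x₂ = _
    rw [← Spec.map_comp_assoc, e₂, specMap_specMap_fromSpecStalk]
  have hcl₁ : l₁ (IsLocalRing.closedPoint V) = x₁ := by
    change (Spec.map (CommRingCat.ofHom ψ₁) ≫ W.fromSpecStalk x₁) _ = _
    rw [Scheme.Hom.comp_apply]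
    have h2 : Spec.map (CommRingCat.ofHom ψ₁) (IsLocalRing.closedPoint V) =
        IsLocalRing.closedPoint (W.presheaf.stalk x₁) := IsLocalRing.comap_closedPoint ψ₁
    exact (congrArg (W.fromSpecStalk x₁) h2).trans Scheme.fromSpecStalk_closedPoint
  have hcl₂ : l₂ (IsLocalRing.closedPoint V) = x₂ := by
    change (Spec.map (CommRingCat.ofHom ψ₂) ≫ W.fromSpecStalk x₂) _ = _
    rw [Scheme.Hom.comp_apply]
    have h2 : Spec.map (CommRingCat.ofHom ψ₂) (IsLocalRing.closedPoint V) =
        IsLocalRing.closedPoint (W.presheaf.stalk x₂) := IsLocalRing.comap_closedPoint ψ₂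
    exact (congrArg (W.fromSpecStalk x₂) h2).trans Scheme.fromSpecStalk_closedPoint
  have hq' : l₁ ≫ q = l₂ ≫ q := by
    apply hom_ext_of_closedPoint (V := V) (F := F) hinj
    · change q (l₁ (IsLocalRing.closedPoint V)) = q (l₂ (IsLocalRing.closedPoint V))
      rw [hcl₁, hcl₂, hq]
    · change Spec.map ι ≫ l₁ ≫ q = Spec.map ι ≫ l₂ ≫ q
      rw [← Category.assoc, hl₁, ← Category.assoc, hl₂]
  haveI := isDominant_specMap (V := V) (F := F) hinj
  have hl : l₁ = l₂ := by
    apply ext_of_isDominant_of_isSeparated q hq' (Spec.map ι)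
    rw [hl₁, hl₂]
  rw [← hcl₁, hl, hcl₂]

end Groth.Agent.Lib.T3H4.CurveRel
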