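import Mathlib
import Groth.Prelude.Def_Cyc
import Groth.Agent.Lib.T2H4LenMinPrimesB
import Groth.Agent.Lib.Helper20ResFrac
set_option backward.isDefEq.respectTransparency.types false

/-!
# The norm formula for principal divisors: an affine chart (helper4), part A

For `q : W ⟶ Y` with `W` integral, a point `y` of `Y` in the closure of the image `q η` of the
generic point, and an affine open `U ∋ y` of `Y`: the subalgebra `BB` of `κ(η)` over
`A = O_{Y,y}/𝔭_{q η}` generated by `Γ(W, q⁻¹ U)`.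

Namespace `Groth.Agent.Lib.T3H4.NormGeom`.
-/

set_option autoImplicit false
set_option linter.style.haveILetI false
universe u
open CategoryTheory AlgebraicGeometry TopologicalSpace

namespace Groth.Agent.Lib.T3H4.NormGeom

open Groth.Agent.Lib.T2H4.LenMinPrimes

variable {W Y : Scheme.{u}} [IsIntegral W] (q : W ⟶ Y)

/-- the extension of residue fields at the generic point -/
@[reducible] noncomputable def algKL :
    Algebra (Y.residueField (q (genericPoint W))) (W.residueField (genericPoint W)) :=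
  (q.residueFieldMap (genericPoint W)).hom.toAlgebra

variable (y : Y) (hy : q (genericPoint W) ⤳ y)

/-- `κ(η)` as an algebra over `O_{Y,y}/𝔭_{q η}` -/
@[reducible] noncomputable def algAL :
    Algebra (Cyc.LocQuot y (q (genericPoint W)) hy) (W.residueField (genericPoint W)) :=
  ((q.residueFieldMap (genericPoint W)).hom.comp
    (algebraMap (Cyc.LocQuot y (q (genericPoint W)) hy)
      (Y.residueField (q (genericPoint W))))).toAlgebra

attribute [local instance] algKL algAL

instance isScalarTower_AKL : IsScalarTower (Cyc.LocQuot y (q (genericPoint W)) hy)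
    (Y.residueField (q (genericPoint W))) (W.residueField (genericPoint W)) :=
  IsScalarTower.of_algebraMap_eq (fun _ => rfl)

theorem algebraMap_AL_mk (t : Y.presheaf.stalk y) :
    algebraMap (Cyc.LocQuot y (q (genericPoint W)) hy) (W.residueField (genericPoint W))
      (Ideal.Quotient.mk _ t) =
    (q.residueFieldMap (genericPoint W)).hom (Cyc.specMap y (q (genericPoint W)) hy t) := by
  change (q.residueFieldMap (genericPoint W)).hom
    (algebraMap (Cyc.LocQuot y (q (genericPoint W)) hy) (Y.residueField (q (genericPoint W)))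
      (Ideal.Quotient.mk _ t)) = _
  rw [algebraMap_locQuot_mk]

variable (U : Y.Opens) (hyU : y ∈ U)

include hy hyU in
theorem generic_mem : genericPoint W ∈ q ⁻¹ᵁ U := hy.mem_open U.isOpen hyU

/-- evaluation of sections over `q⁻¹ U` at the generic point -/
noncomputable def ιC : Γ(W, q ⁻¹ᵁ U) →+* W.residueField (genericPoint W) :=
  (W.evaluation (q ⁻¹ᵁ U) (genericPoint W) (generic_mem q y hy U hyU)).hom

/-- evaluation of sections over `U`, pulled back, at the generic point -/
noncomputable def ιR : Γ(Y, U) →+* W.residueField (genericPoint W) :=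
  (ιC q y hy U hyU).comp (q.app U).hom

/-- sections over `U` in `O_{Y,y}/𝔭` -/
noncomputable def rho : Γ(Y, U) →+* Cyc.LocQuot y (q (genericPoint W)) hy :=
  (Ideal.Quotient.mk _).comp (Y.presheaf.germ U y hyU).hom

theorem specMap_germ {X : Scheme.{u}} (x ξ : X) (h : ξ ⤳ x) (V : X.Opens) (hx : x ∈ V)
    (c : Γ(X, V)) :
    Cyc.specMap x ξ h ((X.presheaf.germ V x hx).hom c) =
      (X.evaluation V ξ (h.mem_open V.isOpen hx)).hom c := by
  unfold Cyc.specMap
  have e2 : (X.presheaf.stalkSpecializes h).hom ((X.presheaf.germ V x hx).hom c) =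
      (X.presheaf.germ V ξ (h.mem_open V.isOpen hx)).hom c :=
    ConcreteCategory.congr_hom (TopCat.Presheaf.germ_stalkSpecializes X.presheaf hx h) c
  change (X.residue ξ).hom ((X.presheaf.stalkSpecializes h).hom ((X.presheaf.germ V x hx).hom c)) = _
  rw [e2]
  rfl

theorem algebraMap_rho (r : Γ(Y, U)) :
    algebraMap (Cyc.LocQuot y (q (genericPoint W)) hy) (W.residueField (genericPoint W))
      (rho q y hy U hyU r) = ιR q y hy U hyU r := by
  change algebraMap _ _ (Ideal.Quotient.mk _ ((Y.presheaf.germ U y hyU).hom r)) = _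
  rw [algebraMap_AL_mk, specMap_germ]
  exact Scheme.evaluation_naturality_apply q (genericPoint W) (hy.mem_open U.isOpen hyU) r

theorem isUnit_rho (s : Γ(Y, U)) (hs : y ∈ Y.basicOpen s) : IsUnit (rho q y hy U hyU s) := by
  have h1 : IsUnit ((Y.presheaf.germ U y hyU).hom s) := (Y.mem_basicOpen s y hyU).mp hs
  exact h1.map (Ideal.Quotient.mk _)

theorem mem_basicOpen_iff_notMem_primeIdealOf {X : Scheme.{u}} {V : X.Opens} (hV : IsAffineOpen V)
    (x : X) (hx : x ∈ V) (s : Γ(X, V)) :
    x ∈ X.basicOpen s ↔ s ∉ (hV.primeIdealOf ⟨x, hx⟩).asIdeal := by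
  rw [X.mem_basicOpen s x hx, hV.primeIdealOf_eq_map_closedPoint ⟨x, hx⟩]
  change _ ↔ ¬ ((X.presheaf.germ V x hx).hom s ∈ IsLocalRing.maximalIdeal _)
  rw [IsLocalRing.mem_maximalIdeal, mem_nonunits_iff, not_not]

/-- every element of the local ring at a point of an affine open is a quotient of sections -/
theorem exists_germ_div {X : Scheme.{u}} {V : X.Opens} (hV : IsAffineOpen V) (x : X) (hx : x ∈ V)
    (t : X.presheaf.stalk x) :
    ∃ r s : Γ(X, V), x ∈ X.basicOpen s ∧
      t * (X.presheaf.germ V x hx).hom s = (X.presheaf.germ V x hx).hom r := by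
  letI := X.presheaf.algebra_section_stalk ⟨x, hx⟩
  have hloc := hV.isLocalization_stalk ⟨x, hx⟩
  obtain ⟨⟨b, s⟩, h⟩ := IsLocalization.surj (hV.primeIdealOf ⟨x, hx⟩).asIdeal.primeCompl t
  exact ⟨b, s.1, (mem_basicOpen_iff_notMem_primeIdealOf hV x hx s.1).mpr s.2, h⟩

variable (hU : IsAffineOpen U)

include hU in
theorem exists_rho_div (a : Cyc.LocQuot y (q (genericPoint W)) hy) :
    ∃ r s : Γ(Y, U), y ∈ Y.basicOpen s ∧ a * rho q y hy U hyU s = rho q y hy U hyU r := by
  obtain ⟨t, rfl⟩ := Ideal.Quotient.mk_surjective a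
  obtain ⟨r, s, hs, h⟩ := exists_germ_div hU y hyU t
  refine ⟨r, s, hs, ?_⟩
  change Ideal.Quotient.mk _ t * Ideal.Quotient.mk _ ((Y.presheaf.germ U y hyU).hom s) =
    Ideal.Quotient.mk _ ((Y.presheaf.germ U y hyU).hom r)
  rw [← map_mul, h]

/-- the subalgebra of `κ(η)` over `O_{Y,y}/𝔭` generated by the sections over `q⁻¹ U` -/
noncomputable def BB : Subalgebra (Cyc.LocQuot y (q (genericPoint W)) hy)
    (W.residueField (genericPoint W)) where
  carrier := {z | ∃ (c : Γ(W, q ⁻¹ᵁ U)) (s : Γ(Y, U)), y ∈ Y.basicOpen s ∧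
    z * ιR q y hy U hyU s = ιC q y hy U hyU c}
  mul_mem' := by
    rintro z z' ⟨c, s, hs, h⟩ ⟨c', s', hs', h'⟩
    refine ⟨c * c', s * s', ?_, ?_⟩
    · rw [Scheme.basicOpen_mul]
      exact ⟨hs, hs'⟩
    · rw [map_mul, map_mul, ← h, ← h']
      ring
  add_mem' := by
    rintro z z' ⟨c, s, hs, h⟩ ⟨c', s', hs', h'⟩
    refine ⟨c * (q.app U).hom s' + c' * (q.app U).hom s, s * s', ?_, ?_⟩
    · rw [Scheme.basicOpen_mul]
      exact ⟨hs, hs'⟩
    · rw [map_mul, map_add, map_mul, map_mul, ← h, ← h']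
      change _ = z * ιR q y hy U hyU s * ιR q y hy U hyU s' +
        z' * ιR q y hy U hyU s' * ιR q y hy U hyU s
      ring
  algebraMap_mem' := by
    intro a
    obtain ⟨r, s, hs, h⟩ := exists_rho_div q y hy U hyU hU a
    refine ⟨(q.app U).hom r, s, hs, ?_⟩
    rw [← algebraMap_rho, ← map_mul, h, algebraMap_rho]
    rfl

theorem mem_BB (z : W.residueField (genericPoint W)) :
    z ∈ BB q y hy U hyU hU ↔ ∃ (c : Γ(W, q ⁻¹ᵁ U)) (s : Γ(Y, U)), y ∈ Y.basicOpen s ∧
      z * ιR q y hy U hyU s = ιC q y hy U hyU c := Iff.rfl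

theorem ιC_mem_BB (c : Γ(W, q ⁻¹ᵁ U)) : ιC q y hy U hyU c ∈ BB q y hy U hyU hU :=
  ⟨c, 1, by rw [Scheme.basicOpen_one]; trivial, by rw [map_one, mul_one]⟩

theorem ιR_ne_zero (s : Γ(Y, U)) (hs : y ∈ Y.basicOpen s) : ιR q y hy U hyU s ≠ 0 := by
  rw [← algebraMap_rho]
  exact ((isUnit_rho q y hy U hyU s hs).map _).ne_zero

end Groth.Agent.Lib.T3H4.NormGeom
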