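import Mathlib
import Groth.Prelude.Def_Cyc
import Groth.Agent.Lib.T3H4NormGeomA
import Groth.Agent.Lib.T2H4OrdCongr
set_option backward.isDefEq.respectTransparency.types false

/-!
# The norm formula for principal divisors: an affine chart (helper4), part B

Finiteness of `BB`, its fraction field, and the local rings of `W` at the points over `y` as
localizations of `BB`.

Namespace `Groth.Agent.Lib.T3H4.NormGeom`.
-/

set_option autoImplicit false
set_option linter.style.haveILetI false
universe u
open CategoryTheory AlgebraicGeometry TopologicalSpace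

namespace Groth.Agent.Lib.T3H4.NormGeom

open Groth.Agent.Lib.T2H4.LenMinPrimes

variable {W Y : Scheme.{u}} [IsIntegral W] (q : W ⟶ Y)

attribute [local instance] algKL algAL

section chart

variable (y : Y) (hy : q (genericPoint W) ⤳ y) (U : Y.Opens) (hyU : y ∈ U) (hU : IsAffineOpen U)

theorem ιC_app (r : Γ(Y, U)) :
    ιC q y hy U hyU ((q.app U).hom r) = ιR q y hy U hyU r := rfl

/-- `BB` is finite over `A` when `Γ(W, q⁻¹ U)` is finite over `Γ(Y, U)` -/
theorem finite_BB (hfin : (q.app U).hom.Finite) :
    Module.Finite (Cyc.LocQuot y (q (genericPoint W)) hy) (BB q y hy U hyU hU) := by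
  letI := (q.app U).hom.toAlgebra
  have hfin' : Module.Finite Γ(Y, U) Γ(W, q ⁻¹ᵁ U) := hfin
  obtain ⟨S, hS⟩ := hfin'.fg_top
  have hspan : ∀ c : Γ(W, q ⁻¹ᵁ U), ιC q y hy U hyU c ∈
      Submodule.span (Cyc.LocQuot y (q (genericPoint W)) hy)
        ((ιC q y hy U hyU) '' (S : Set Γ(W, q ⁻¹ᵁ U))) := by
    intro c
    have hc : c ∈ Submodule.span Γ(Y, U) (S : Set Γ(W, q ⁻¹ᵁ U)) := by rw [hS]; trivial
    induction hc using Submodule.span_induction with
    | mem x hx => exact Submodule.subset_span ⟨x, hx, rfl⟩
    | zero => rw [map_zero]; exact Submodule.zero_mem _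
    | add x x' _ _ hx hx' => rw [map_add]; exact Submodule.add_mem _ hx hx'
    | smul r x _ hx =>
      have h1 : ιC q y hy U hyU (r • x) = rho q y hy U hyU r • ιC q y hy U hyU x := by
        rw [Algebra.smul_def, Algebra.smul_def, map_mul, algebraMap_rho]
        rfl
      rw [h1]
      exact Submodule.smul_mem _ _ hx
  have hfg : (Subalgebra.toSubmodule (BB q y hy U hyU hU)).FG := by
    classical
    refine ⟨S.image (ιC q y hy U hyU), ?_⟩
    rw [Finset.coe_image]
    apply le_antisymm
    · rw [Submodule.span_le]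
      rintro _ ⟨c, -, rfl⟩
      exact ιC_mem_BB q y hy U hyU hU c
    · intro z hz
      obtain ⟨c, s, hs, h⟩ := (mem_BB q y hy U hyU hU z).mp hz
      have hu := isUnit_rho q y hy U hyU s hs
      have h2 : z = (↑hu.unit⁻¹ : Cyc.LocQuot y (q (genericPoint W)) hy) • ιC q y hy U hyU c := by
        rw [Algebra.smul_def, ← h, ← algebraMap_rho, mul_comm z, ← mul_assoc, ← map_mul]
        have : (↑hu.unit⁻¹ : Cyc.LocQuot y (q (genericPoint W)) hy) * rho q y hy U hyU s = 1 := by
          have := hu.unit.inv_mul
          rwa [IsUnit.unit_spec] at this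
        rw [this, map_one, one_mul]
      rw [h2]
      exact Submodule.smul_mem _ _ (hspan c)
  exact Module.Finite.iff_fg.mpr hfg

/-- `κ(η)` is the fraction field of `BB` -/
theorem exists_div_BB (hW : IsAffineOpen (q ⁻¹ᵁ U)) (z : W.residueField (genericPoint W)) :
    ∃ b s : BB q y hy U hyU hU, z = (b : W.residueField (genericPoint W)) / (s : W.residueField (genericPoint W)) := by
  obtain ⟨b, s, -, h⟩ := Groth.Agent.Lib.Helper20.exists_evaluation_div hW (genericPoint W)
    (generic_mem q y hy U hyU) z
  exact ⟨⟨_, ιC_mem_BB q y hy U hyU hU b⟩, ⟨_, ιC_mem_BB q y hy U hyU hU s⟩, h⟩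

end chart

section point

variable (w : W)

/-- the local ring of `W` at `w`, as a subring of the function field -/
abbrev Ow : Type u := Cyc.LocQuot w (genericPoint W) (genericPoint_specializes w)

theorem algebraMap_Ow_injective :
    Function.Injective (algebraMap (Ow w) (W.residueField (genericPoint W))) :=
  algebraMap_locQuot_injective w (genericPoint W) (genericPoint_specializes w)

theorem isUnit_mk_iff {R : Type u} [CommRing R] [IsLocalRing R] (I : Ideal R) (hI : I ≠ ⊤) (t : R) :
    IsUnit (Ideal.Quotient.mk I t) ↔ IsUnit t := by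
  haveI : Nontrivial (R ⧸ I) := Ideal.Quotient.nontrivial_iff.mpr hI
  haveI := IsLocalHom.of_surjective (Ideal.Quotient.mk I) Ideal.Quotient.mk_surjective
  exact ⟨fun h => IsLocalHom.map_nonunit _ h, fun h => h.map _⟩

theorem ker_specMap_ne_top {X : Scheme.{u}} (x ξ : X) (h : ξ ⤳ x) :
    RingHom.ker (Cyc.specMap x ξ h) ≠ ⊤ := (RingHom.ker_isPrime _).ne_top

variable (V : W.Opens) (hwV : w ∈ V)

/-- the class in `O_w` of a section over an open neighbourhood -/
noncomputable def germO : Γ(W, V) →+* Ow w :=
  (Ideal.Quotient.mk _).comp (W.presheaf.germ V w hwV).hom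

theorem algebraMap_germO (c : Γ(W, V)) :
    algebraMap (Ow w) (W.residueField (genericPoint W)) (germO w V hwV c) =
      (W.evaluation V (genericPoint W)
        ((genericPoint_specializes w).mem_open V.isOpen hwV)).hom c := by
  change algebraMap _ _ (Ideal.Quotient.mk _ ((W.presheaf.germ V w hwV).hom c)) = _
  rw [algebraMap_locQuot_mk, specMap_germ]

theorem isUnit_germO_iff (c : Γ(W, V)) : IsUnit (germO w V hwV c) ↔ w ∈ W.basicOpen c := by
  change IsUnit (Ideal.Quotient.mk _ ((W.presheaf.germ V w hwV).hom c)) ↔ _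
  rw [isUnit_mk_iff _ (ker_specMap_ne_top _ _ _), W.mem_basicOpen c w hwV]

/-- an element of `O_w` mapping to the evaluation of a section is the class of that section -/
theorem eq_germO_of_algebraMap_eq (c : Γ(W, V)) (u : Ow w)
    (hu : algebraMap (Ow w) (W.residueField (genericPoint W)) u =
      (W.evaluation V (genericPoint W)
        ((genericPoint_specializes w).mem_open V.isOpen hwV)).hom c) :
    u = germO w V hwV c :=
  algebraMap_Ow_injective w (by rw [hu, algebraMap_germO])

theorem nonunit_iff (c : Γ(W, V)) :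
    (∀ u : Ow w, algebraMap (Ow w) (W.residueField (genericPoint W)) u =
      (W.evaluation V (genericPoint W)
        ((genericPoint_specializes w).mem_open V.isOpen hwV)).hom c → ¬ IsUnit u) ↔
      w ∉ W.basicOpen c := by
  rw [← isUnit_germO_iff w V hwV c]
  constructor
  · intro h
    exact h _ (algebraMap_germO w V hwV c)
  · intro h u hu
    rwa [eq_germO_of_algebraMap_eq w V hwV c u hu]

/-- every element of `O_w` is a quotient of sections over an affine open neighbourhood -/
theorem exists_germO_div (hV : IsAffineOpen V) (z : Ow w) :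
    ∃ c c' : Γ(W, V), w ∈ W.basicOpen c' ∧ z * germO w V hwV c' = germO w V hwV c := by
  obtain ⟨t, rfl⟩ := Ideal.Quotient.mk_surjective z
  obtain ⟨r, s, hs, h⟩ := exists_germ_div hV w hwV t
  refine ⟨r, s, hs, ?_⟩
  change Ideal.Quotient.mk _ t * Ideal.Quotient.mk _ ((W.presheaf.germ V w hwV).hom s) =
    Ideal.Quotient.mk _ ((W.presheaf.germ V w hwV).hom r)
  rw [← map_mul, h]

end point

end Groth.Agent.Lib.T3H4.NormGeom
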