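import Mathlib
import Groth.Prelude.Def_Cyc
import Groth.Agent.Lib.T3H4NormGeomB
import Groth.Agent.Lib.T3H4NormFormC
set_option backward.isDefEq.respectTransparency.types false

/-!
# The norm formula for principal divisors: an affine chart (helper4), part C

The norm formula over an affine chart on which the morphism is finite.

Namespace `Groth.Agent.Lib.T3H4.NormGeom`.
-/

set_option autoImplicit false
set_option linter.style.haveILetI false
universe u
open CategoryTheory AlgebraicGeometry TopologicalSpace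

namespace Groth.Agent.Lib.T3H4.NormGeom

open Groth.Agent.Lib.T2H4.LenMinPrimes Groth.Agent.Lib.T3H4.NormForm

instance isPrime_ker_specMap {X : Scheme.{u}} (x ξ : X) (h : ξ ⤳ x) :
    (RingHom.ker (Cyc.specMap x ξ h)).IsPrime := RingHom.ker_isPrime _

instance isLocalRing_locQuot {X : Scheme.{u}} (x ξ : X) (h : ξ ⤳ x) :
    IsLocalRing (Cyc.LocQuot x ξ h) :=
  haveI : Nontrivial (Cyc.LocQuot x ξ h) :=
    Ideal.Quotient.nontrivial_iff.mpr (ker_specMap_ne_top x ξ h)
  IsLocalRing.of_surjective' (Ideal.Quotient.mk _) Ideal.Quotient.mk_surjective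

theorem mk_mem_maximalIdeal_iff {X : Scheme.{u}} (x ξ : X) (h : ξ ⤳ x) (t : X.presheaf.stalk x) :
    (Ideal.Quotient.mk (RingHom.ker (Cyc.specMap x ξ h)) t : Cyc.LocQuot x ξ h) ∈
      IsLocalRing.maximalIdeal (Cyc.LocQuot x ξ h) ↔
      t ∈ IsLocalRing.maximalIdeal (X.presheaf.stalk x) := by
  rw [IsLocalRing.mem_maximalIdeal, IsLocalRing.mem_maximalIdeal, mem_nonunits_iff,
    mem_nonunits_iff, isUnit_mk_iff _ (ker_specMap_ne_top x ξ h)]

variable {W Y : Scheme.{u}} [IsIntegral W] (q : W ⟶ Y)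

attribute [local instance] algKL algAL

section pointover

variable (w : W) (hy : q (genericPoint W) ⤳ q w) (U : Y.Opens) (hwU : q w ∈ U)
  (hU : IsAffineOpen U)

theorem ιC_eq (c : Γ(W, q ⁻¹ᵁ U)) :
    ιC q (q w) hy U hwU c = algebraMap (Ow w) (W.residueField (genericPoint W))
      (germO w (q ⁻¹ᵁ U) hwU c) := by
  rw [algebraMap_germO]
  rfl

/-- `BB` is contained in `O_w` for `w` over `y` -/
theorem mem_range_of_mem_BB (b : BB q (q w) hy U hwU hU) :
    (b : W.residueField (genericPoint W)) ∈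
      (algebraMap (Ow w) (W.residueField (genericPoint W))).range := by
  obtain ⟨c, s, hs, h⟩ := (mem_BB q (q w) hy U hwU hU b.1).mp b.2
  have hw' : w ∈ W.basicOpen ((q.app U).hom s) := by
    have : w ∈ q ⁻¹ᵁ Y.basicOpen s := hs
    rwa [Scheme.preimage_basicOpen] at this
  have hu : IsUnit (germO w (q ⁻¹ᵁ U) hwU ((q.app U).hom s)) :=
    (isUnit_germO_iff w (q ⁻¹ᵁ U) hwU _).mpr hw'
  refine ⟨germO w (q ⁻¹ᵁ U) hwU c * ↑hu.unit⁻¹, ?_⟩
  have hne := ιR_ne_zero q (q w) hy U hwU s hs
  apply mul_right_cancel₀ hne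
  rw [h, ← ιC_app, ιC_eq q w hy U hwU, ιC_eq q w hy U hwU, ← map_mul, mul_assoc]
  have : (↑hu.unit⁻¹ : Ow w) * germO w (q ⁻¹ᵁ U) hwU ((q.app U).hom s) = 1 := by
    have := hu.unit.inv_mul
    rwa [IsUnit.unit_spec] at this
  rw [this, mul_one]

/-- `O_w` is contained in the localization of `BB` -/
theorem exists_BB_div (hW : IsAffineOpen (q ⁻¹ᵁ U)) (z : Ow w) :
    ∃ b s : BB q (q w) hy U hwU hU,
      algebraMap (Ow w) (W.residueField (genericPoint W)) z *
        (s : W.residueField (genericPoint W)) = (b : W.residueField (genericPoint W)) ∧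
      ∀ u : Ow w, algebraMap (Ow w) (W.residueField (genericPoint W)) u =
        (s : W.residueField (genericPoint W)) → IsUnit u := by
  obtain ⟨c, c', hc', h⟩ := exists_germO_div w (q ⁻¹ᵁ U) hwU hW z
  refine ⟨⟨_, ιC_mem_BB q (q w) hy U hwU hU c⟩, ⟨_, ιC_mem_BB q (q w) hy U hwU hU c'⟩, ?_, ?_⟩
  · change _ * ιC q (q w) hy U hwU c' = ιC q (q w) hy U hwU c
    rw [ιC_eq q w hy U hwU, ιC_eq q w hy U hwU, ← map_mul, h]
  · intro u hu
    change _ = ιC q (q w) hy U hwU c' at hu
    rw [ιC_eq q w hy U hwU] at hu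
    rw [algebraMap_Ow_injective w hu]
    exact (isUnit_germO_iff w (q ⁻¹ᵁ U) hwU c').mpr hc'

/-- the image in `κ(η)` of an element of `O_{Y,y}/𝔭` comes from `O_w` via the map on local rings -/
theorem algebraMap_AL_eq (t : Y.presheaf.stalk (q w)) :
    algebraMap (Cyc.LocQuot (q w) (q (genericPoint W)) hy) (W.residueField (genericPoint W))
      (Ideal.Quotient.mk _ t) =
    algebraMap (Ow w) (W.residueField (genericPoint W))
      (Ideal.Quotient.mk _ ((q.stalkMap w).hom t)) := by
  rw [algebraMap_AL_mk, algebraMap_locQuot_mk]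
  exact Groth.Agent.Lib.T2H4.OrdCongr.specMap_comm q w (genericPoint W)
    (genericPoint_specializes w) t

/-- `A → O_w` is a local homomorphism -/
theorem not_isUnit_of_mem_maximalIdeal (a : Cyc.LocQuot (q w) (q (genericPoint W)) hy)
    (ha : a ∈ IsLocalRing.maximalIdeal (Cyc.LocQuot (q w) (q (genericPoint W)) hy))
    (u : Ow w)
    (hu : algebraMap (Ow w) (W.residueField (genericPoint W)) u =
      algebraMap (Cyc.LocQuot (q w) (q (genericPoint W)) hy)
        (W.residueField (genericPoint W)) a) : ¬ IsUnit u := by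
  obtain ⟨t, rfl⟩ := Ideal.Quotient.mk_surjective a
  rw [mk_mem_maximalIdeal_iff] at ha
  rw [algebraMap_AL_eq] at hu
  rw [algebraMap_Ow_injective w hu, isUnit_mk_iff _ (ker_specMap_ne_top _ _ _)]
  intro hunit
  have := IsLocalHom.map_nonunit (f := (q.stalkMap w).hom) t hunit
  exact ha this

end pointover

end Groth.Agent.Lib.T3H4.NormGeom
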