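import Mathlib
import Groth.Prelude.Def_Cyc
import Groth.Agent.Lib.T3H4NormGeomC
set_option backward.isDefEq.respectTransparency.types false

/-!
# The norm formula for principal divisors: an affine chart (helper4), part D

Namespace `Groth.Agent.Lib.T3H4.NormGeom`.
-/

set_option autoImplicit false
set_option linter.style.haveILetI false
universe u
open CategoryTheory AlgebraicGeometry TopologicalSpace

namespace Groth.Agent.Lib.T3H4.NormGeom

open Groth.Agent.Lib.T2H4.LenMinPrimes Groth.Agent.Lib.T3H4.NormForm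

variable {W Y : Scheme.{u}} [IsIntegral W] (q : W ⟶ Y)

attribute [local instance] algKL algAL

section maximal

variable (y : Y) (hy : q (genericPoint W) ⤳ y) (U : Y.Opens) (hyU : y ∈ U) (hU : IsAffineOpen U)
  (hW : IsAffineOpen (q ⁻¹ᵁ U))

/-- sections over `q⁻¹ U` as elements of `BB` -/
noncomputable def ιCB : Γ(W, q ⁻¹ᵁ U) →+* BB q y hy U hyU hU :=
  (ιC q y hy U hyU).codRestrict (BB q y hy U hyU hU) (ιC_mem_BB q y hy U hyU hU)

theorem ιCB_app (r : Γ(Y, U)) :
    ιCB q y hy U hyU hU ((q.app U).hom r) =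
      algebraMap (Cyc.LocQuot y (q (genericPoint W)) hy) (BB q y hy U hyU hU)
        (rho q y hy U hyU r) := by
  apply Subtype.ext
  change ιC q y hy U hyU ((q.app U).hom r) = algebraMap _ _ (rho q y hy U hyU r)
  rw [algebraMap_rho]
  rfl

theorem isUnit_ιCB_app (s : Γ(Y, U)) (hs : y ∈ Y.basicOpen s) :
    IsUnit (ιCB q y hy U hyU hU ((q.app U).hom s)) := by
  rw [ιCB_app]
  exact (isUnit_rho q y hy U hyU s hs).map _

include hW in
/-- every maximal ideal of `BB` comes from a point of `W` over `y` -/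
theorem exists_point_of_maximal
    [Algebra.IsIntegral (Cyc.LocQuot y (q (genericPoint W)) hy) (BB q y hy U hyU hU)]
    (m : Ideal (BB q y hy U hyU hU)) (hm : m.IsMaximal) :
    ∃ i : {w : W // q w = y}, ∀ b : BB q y hy U hyU hU, b ∈ m ↔
      ∀ u : Ow i.1, algebraMap (Ow i.1) (W.residueField (genericPoint W)) u =
        (b : W.residueField (genericPoint W)) → ¬ IsUnit u := by
  haveI := hm.isPrime
  -- the point
  obtain ⟨w, hwW, hbasic⟩ : ∃ w : W, w ∈ q ⁻¹ᵁ U ∧
      ∀ c : Γ(W, q ⁻¹ᵁ U), w ∈ W.basicOpen c ↔ ιCB q y hy U hyU hU c ∉ m := by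
    let Q : PrimeSpectrum Γ(W, q ⁻¹ᵁ U) :=
      ⟨Ideal.comap (ιCB q y hy U hyU hU) m, Ideal.comap_isPrime _ _⟩
    refine ⟨hW.fromSpec Q, ?_, fun c => ?_⟩
    · have : hW.fromSpec Q ∈ Set.range hW.fromSpec := ⟨Q, rfl⟩
      rw [hW.range_fromSpec] at this
      exact this
    · have h1 : hW.fromSpec Q ∈ W.basicOpen c ↔ Q ∈ hW.fromSpec ⁻¹ᵁ W.basicOpen c := Iff.rfl
      rw [h1, hW.fromSpec_preimage_basicOpen c]
      exact PrimeSpectrum.mem_basicOpen _ _
  -- the contraction of `m` to `A`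
  have hcm : m.comap (algebraMap (Cyc.LocQuot y (q (genericPoint W)) hy) (BB q y hy U hyU hU)) =
      IsLocalRing.maximalIdeal _ :=
    IsLocalRing.eq_maximalIdeal (Ideal.isMaximal_comap_of_isIntegral_of_isMaximal m)
  -- the point lies over `y`
  have hqw : q w = y := by
    refine Groth.Agent.Lib.Helper20.eq_of_forall_mem_basicOpen_iff hU hyU hwW fun r => ?_
    have h1 : q w ∈ Y.basicOpen r ↔ w ∈ W.basicOpen ((q.app U).hom r) := by
      have : q w ∈ Y.basicOpen r ↔ w ∈ q ⁻¹ᵁ Y.basicOpen r := Iff.rfl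
      rw [this, Scheme.preimage_basicOpen]
    rw [h1, hbasic, ιCB_app, ← Ideal.mem_comap, hcm, IsLocalRing.mem_maximalIdeal,
      mem_nonunits_iff, not_not]
    change _ ↔ IsUnit (Ideal.Quotient.mk _ ((Y.presheaf.germ U y hyU).hom r))
    rw [isUnit_mk_iff _ (ker_specMap_ne_top _ _ _), Y.mem_basicOpen r y hyU]
  refine ⟨⟨w, hqw⟩, fun b => ?_⟩
  obtain ⟨c, s, hs, h⟩ := (mem_BB q y hy U hyU hU b.1).mp b.2
  have hbc : b * ιCB q y hy U hyU hU ((q.app U).hom s) = ιCB q y hy U hyU hU c :=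
    Subtype.ext h
  have hsu := isUnit_ιCB_app q y hy U hyU hU s hs
  have hsm : ιCB q y hy U hyU hU ((q.app U).hom s) ∉ m := fun hmem =>
    hm.ne_top (Ideal.eq_top_of_isUnit_mem _ hmem hsu)
  have hw' : w ∈ W.basicOpen ((q.app U).hom s) := by
    have : w ∈ q ⁻¹ᵁ Y.basicOpen s := by
      change q w ∈ Y.basicOpen s
      rw [hqw]
      exact hs
    rwa [Scheme.preimage_basicOpen] at this
  have hu : IsUnit (germO w (q ⁻¹ᵁ U) hwW ((q.app U).hom s)) :=
    (isUnit_germO_iff w (q ⁻¹ᵁ U) hwW _).mpr hw'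
  have hιC : ∀ c' : Γ(W, q ⁻¹ᵁ U), ιC q y hy U hyU c' =
      algebraMap (Ow w) (W.residueField (genericPoint W)) (germO w (q ⁻¹ᵁ U) hwW c') := by
    intro c'
    rw [algebraMap_germO]
    rfl
  have hmem_iff : b ∈ m ↔ w ∉ W.basicOpen c := by
    rw [hbasic, not_not, ← hbc]
    exact ⟨fun hb => m.mul_mem_right _ hb, fun hb => (hm.isPrime.mem_or_mem hb).resolve_right hsm⟩
  rw [hmem_iff, ← isUnit_germO_iff w (q ⁻¹ᵁ U) hwW c]
  constructor
  · intro hc u hub hunit
    apply hc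
    have h2 : u * germO w (q ⁻¹ᵁ U) hwW ((q.app U).hom s) = germO w (q ⁻¹ᵁ U) hwW c := by
      apply algebraMap_Ow_injective w
      rw [map_mul, hub, ← hιC, ← hιC]
      exact h
    rw [← h2]
    exact hunit.mul hu
  · intro hall hc
    refine hall (germO w (q ⁻¹ᵁ U) hwW c * ↑hu.unit⁻¹) ?_ (hc.mul (Units.isUnit _))
    have hne := ιR_ne_zero q y hy U hyU s hs
    apply mul_right_cancel₀ hne
    rw [h, ← ιC_app, hιC, hιC, ← map_mul, mul_assoc]
    have : (↑hu.unit⁻¹ : Ow w) * germO w (q ⁻¹ᵁ U) hwW ((q.app U).hom s) = 1 := by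
      have := hu.unit.inv_mul
      rwa [IsUnit.unit_spec] at this
    rw [this, mul_one]

include hW in
/-- distinct points over `y` give distinct maximal ideals -/
theorem point_injective (i j : {w : W // q w = y})
    (h : ∀ b : BB q y hy U hyU hU,
      (∀ u : Ow i.1, algebraMap (Ow i.1) (W.residueField (genericPoint W)) u =
        (b : W.residueField (genericPoint W)) → ¬ IsUnit u) ↔
      (∀ u : Ow j.1, algebraMap (Ow j.1) (W.residueField (genericPoint W)) u =
        (b : W.residueField (genericPoint W)) → ¬ IsUnit u)) : i = j := by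
  obtain ⟨w, hw⟩ := i
  obtain ⟨w', hw'⟩ := j
  have hwU : w ∈ q ⁻¹ᵁ U := by change q w ∈ U; rw [hw]; exact hyU
  have hw'U : w' ∈ q ⁻¹ᵁ U := by change q w' ∈ U; rw [hw']; exact hyU
  apply Subtype.ext
  change w = w'
  symm
  refine Groth.Agent.Lib.Helper20.eq_of_forall_mem_basicOpen_iff hW hwU hw'U fun c => ?_
  have h1 := h ⟨_, ιC_mem_BB q y hy U hyU hU c⟩
  have h2 := nonunit_iff w (q ⁻¹ᵁ U) hwU c
  have h3 := nonunit_iff w' (q ⁻¹ᵁ U) hw'U c
  have h4 : w ∉ W.basicOpen c ↔ w' ∉ W.basicOpen c := by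
    rw [← h2, ← h3]
    exact h1
  exact not_iff_not.mp h4

end maximal

end Groth.Agent.Lib.T3H4.NormGeom
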