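import Mathlib
import Groth.Prelude.Def_Cyc
import Groth.Agent.Lib.T3H4NormGeomD
set_option backward.isDefEq.respectTransparency.types false

/-!
# The norm formula for principal divisors: an affine chart (helper4), part E

Namespace `Groth.Agent.Lib.T3H4.NormGeom`.
-/

set_option autoImplicit false
set_option linter.style.haveILetI false
universe u
open CategoryTheory AlgebraicGeometry TopologicalSpace

namespace Groth.Agent.Lib.T3H4.NormGeom

open Groth.Agent.Lib.T2H4.LenMinPrimes Groth.Agent.Lib.T3H4.NormForm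

/-- the residue field as a quotient of `O_x/𝔭` -/
noncomputable def resQ {X : Scheme.{u}} (x ξ : X) (h : ξ ⤳ x) :
    Cyc.LocQuot x ξ h →+* X.residueField x :=
  Ideal.Quotient.lift _ (X.residue x).hom (fun a ha => by
    have h1 : a ∈ IsLocalRing.maximalIdeal (X.presheaf.stalk x) :=
      IsLocalRing.le_maximalIdeal (ker_specMap_ne_top x ξ h) ha
    exact (IsLocalRing.residue_eq_zero_iff a).mpr h1)

theorem resQ_mk {X : Scheme.{u}} (x ξ : X) (h : ξ ⤳ x) (t : X.presheaf.stalk x) :
    resQ x ξ h (Ideal.Quotient.mk _ t) = (X.residue x).hom t := rfl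

theorem resQ_surjective {X : Scheme.{u}} (x ξ : X) (h : ξ ⤳ x) :
    Function.Surjective (resQ x ξ h) := by
  intro z
  obtain ⟨t, rfl⟩ := X.residue_surjective x z
  exact ⟨Ideal.Quotient.mk _ t, rfl⟩

theorem ker_resQ {X : Scheme.{u}} (x ξ : X) (h : ξ ⤳ x) :
    RingHom.ker (resQ x ξ h) = IsLocalRing.maximalIdeal (Cyc.LocQuot x ξ h) := by
  ext a
  obtain ⟨t, rfl⟩ := Ideal.Quotient.mk_surjective a
  rw [RingHom.mem_ker, resQ_mk, mk_mem_maximalIdeal_iff]
  exact IsLocalRing.residue_eq_zero_iff t

variable {W Y : Scheme.{u}} [IsIntegral W] (q : W ⟶ Y)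

attribute [local instance] algKL algAL

/-- the degree of the residue field extension at a maximal ideal of `BB` is the residue degree of
the corresponding point -/
theorem finrank_eq_residueDegree (w : W) (hy : q (genericPoint W) ⤳ q w) (U : Y.Opens)
    (hwU : q w ∈ U) (hU : IsAffineOpen U) (hW : IsAffineOpen (q ⁻¹ᵁ U))
    [Algebra.IsIntegral (Cyc.LocQuot (q w) (q (genericPoint W)) hy) (BB q (q w) hy U hwU hU)] :
    Module.finrank
      (Cyc.LocQuot (q w) (q (genericPoint W)) hy ⧸
        (nI (BB q (q w) hy U hwU hU) (algebraMap (Ow w) (W.residueField (genericPoint W)))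
          (algebraMap_Ow_injective w) (mem_range_of_mem_BB q w hy U hwU hU)).comap
          (algebraMap (Cyc.LocQuot (q w) (q (genericPoint W)) hy) (BB q (q w) hy U hwU hU)))
      (BB q (q w) hy U hwU hU ⧸
        nI (BB q (q w) hy U hwU hU) (algebraMap (Ow w) (W.residueField (genericPoint W)))
          (algebraMap_Ow_injective w) (mem_range_of_mem_BB q w hy U hwU hU)) =
      q.residueDegree w := by
  unfold Scheme.Hom.residueDegree
  letI := (q.residueFieldMap w).hom.toAlgebra
  refine finrank_quot_nI_eq (BB q (q w) hy U hwU hU)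
    (algebraMap (Ow w) (W.residueField (genericPoint W))) (algebraMap_Ow_injective w)
    (mem_range_of_mem_BB q w hy U hwU hU) (exists_BB_div q w hy U hwU hU hW)
    (not_isUnit_of_mem_maximalIdeal q w hy) (Y.residueField (q w)) (W.residueField w)
    (resQ (q w) (q (genericPoint W)) hy) (resQ_surjective _ _ _) (ker_resQ _ _ _)
    (resQ w (genericPoint W) (genericPoint_specializes w)) (resQ_surjective _ _ _) (ker_resQ _ _ _) ?_
  intro a u hu
  obtain ⟨t, rfl⟩ := Ideal.Quotient.mk_surjective a
  rw [algebraMap_AL_eq] at hu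
  rw [algebraMap_Ow_injective w hu, resQ_mk, resQ_mk]
  exact (ConcreteCategory.congr_hom (Scheme.residue_residueFieldMap q w) t).symm

/-- `κ(q η)` is the fraction field of `O_{Y,y}/𝔭_{q η}` -/
theorem isFractionRing_locQuot {X : Scheme.{u}} (x ξ : X) (h : ξ ⤳ x) :
    IsFractionRing (Cyc.LocQuot x ξ h) (X.residueField ξ) := by
  haveI : FaithfulSMul (Cyc.LocQuot x ξ h) (X.residueField ξ) :=
    (faithfulSMul_iff_algebraMap_injective _ _).2 (algebraMap_locQuot_injective x ξ h)
  refine IsFractionRing.of_field _ _ (fun z => ?_)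
  obtain ⟨a, b, -, hz⟩ := exists_frac x ξ h z
  exact ⟨Ideal.Quotient.mk _ a, Ideal.Quotient.mk _ b, by
    rw [algebraMap_locQuot_mk, algebraMap_locQuot_mk]; exact hz⟩

/-- **the norm formula over an affine chart on which the morphism is finite** -/
theorem norm_formula_chart [IsLocallyNoetherian Y] (y : Y) (hy : q (genericPoint W) ⤳ y)
    (U : Y.Opens) (hyU : y ∈ U) (hU : IsAffineOpen U) (hW : IsAffineOpen (q ⁻¹ᵁ U))
    (hfin : (q.app U).hom.Finite)
    (hdim : ringKrullDim (Cyc.LocQuot y (q (genericPoint W)) hy) = 1)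
    (hKL : (q.residueFieldMap (genericPoint W)).hom.Finite)
    (f : W.residueField (genericPoint W)) (hf : f ≠ 0) :
    ∑ᶠ i : {w : W // q w = y}, (q.residueDegree i.1 : ℤ) *
        Cyc.ordAt i.1 (genericPoint W) (genericPoint_specializes i.1) f =
      Cyc.ordAt y (q (genericPoint W)) hy (Cyc.normGen q (genericPoint W) f) := by
  haveI : IsDomain (Cyc.LocQuot y (q (genericPoint W)) hy) := Ideal.Quotient.isDomain _
  haveI : IsFractionRing (Cyc.LocQuot y (q (genericPoint W)) hy)
    (Y.residueField (q (genericPoint W))) := isFractionRing_locQuot y _ hy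
  haveI : FiniteDimensional (Y.residueField (q (genericPoint W)))
    (W.residueField (genericPoint W)) := hKL
  haveI hfinB := finite_BB q y hy U hyU hU hfin
  haveI : Algebra.IsIntegral (Cyc.LocQuot y (q (genericPoint W)) hy) (BB q y hy U hyU hU) :=
    Algebra.IsIntegral.of_finite _ _
  have hwU : ∀ i : {w : W // q w = y}, q i.1 ∈ U := fun i => by rw [i.2]; exact hyU
  have hBO : ∀ (i : {w : W // q w = y}) (b : BB q y hy U hyU hU),
      (b : W.residueField (genericPoint W)) ∈
        (algebraMap (Ow i.1) (W.residueField (genericPoint W))).range := by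
    rintro ⟨w, hw⟩
    subst hw
    exact mem_range_of_mem_BB q w hy U hyU hU
  have key := finsum_ordFrac_eq_ordFrac_norm_of_subalgebra
    (A := Cyc.LocQuot y (q (genericPoint W)) hy) (K := Y.residueField (q (genericPoint W)))
    (L := W.residueField (genericPoint W)) hdim (BB q y hy U hyU hU)
    (exists_div_BB q y hy U hyU hU hW)
    (I := {w : W // q w = y}) (fun i => Ow i.1)
    (fun i => algebraMap_Ow_injective i.1) hBO
    (by
      rintro ⟨w, hw⟩
      subst hw
      exact exists_BB_div q w hy U hyU hU hW)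
    (by
      rintro ⟨w, hw⟩
      subst hw
      exact not_isUnit_of_mem_maximalIdeal q w hy)
    (exists_point_of_maximal q y hy U hyU hU hW)
    (point_injective q y hy U hyU hU hW)
    (fun i => q.residueDegree i.1)
    (by
      rintro ⟨w, hw⟩
      subst hw
      exact (finrank_eq_residueDegree q w hy U hyU hU hW).symm)
    f hf
  exact key

end Groth.Agent.Lib.T3H4.NormGeom
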