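import Mathlib
import Groth.Prelude.Def_Cyc
import Groth.Prelude.Def_W4bk4goldsch23FF
import Groth.Agent.Lib.LeadFG1
import Groth.Agent.Lib.Helper14Japanese
import Groth.Agent.Lib.Helper4Japanese3
import Groth.Agent.Lib.Helper4CurveAlg
import Groth.Agent.Lib.T3H4NormGeomE
set_option backward.isDefEq.respectTransparency.types false

/-!
# Points of the generic fibre: algebra structures over `κ(q η)` (helper4)

For `q : W ⟶ Y` with `W` integral, `η` the generic point of `W`, and a point `x` of `W` in the
fibre over `q η`: the local ring `O_{W,x}` (here: `Cyc.LocQuot x η`) is an algebra over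
`K = κ(q η)`, compatibly with `κ(η)`; it is essentially of finite type when `q` is locally of
finite type.

Namespace `Groth.Agent.Lib.T3H4.CurveRel`.
-/

set_option autoImplicit false
set_option linter.style.haveILetI false
universe u

open AlgebraicGeometry CategoryTheory Groth.Agent.Lib.T2H4.LenMinPrimes
  Groth.Agent.Lib.T3H4.NormGeom

namespace Groth.Agent.Lib.T3H4.CurveRel

variable {W Y : Scheme.{u}} [IsIntegral W] (q : W ⟶ Y)

attribute [local instance] algKL

section point

variable (x : W) (h : q x ⤳ q (genericPoint W))

/-- `O_{Y,q η} ⟶ O_{W,x}` for a point `x` of the fibre over `q η` -/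
noncomputable def τ : Y.presheaf.stalk (q (genericPoint W)) ⟶ W.presheaf.stalk x :=
  Y.presheaf.stalkSpecializes h ≫ q.stalkMap x

theorem τ_stalkSpecializes :
    τ q x h ≫ W.presheaf.stalkSpecializes (genericPoint_specializes x) =
      q.stalkMap (genericPoint W) := by
  unfold τ
  rw [Category.assoc, ← Scheme.Hom.stalkSpecializes_stalkMap, ← Category.assoc,
    TopCat.Presheaf.stalkSpecializes_comp]
  have : Y.presheaf.stalkSpecializes
      ((q.base.hom.map_specializes (genericPoint_specializes x)).trans h) = 𝟙 _ :=
    TopCat.Presheaf.stalkSpecializes_refl _ _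
  rw [this, Category.id_comp]

theorem specMap_τ (b : Y.presheaf.stalk (q (genericPoint W))) :
    Cyc.specMap x (genericPoint W) (genericPoint_specializes x) ((τ q x h).hom b) =
      (q.residueFieldMap (genericPoint W)).hom (Y.residue (q (genericPoint W)) b) := by
  have h1 : (W.presheaf.stalkSpecializes (genericPoint_specializes x)).hom ((τ q x h).hom b) =
      (q.stalkMap (genericPoint W)).hom b := congr($(τ_stalkSpecializes q x h).hom b)
  change (W.residue (genericPoint W)).hom
    ((W.presheaf.stalkSpecializes (genericPoint_specializes x)).hom ((τ q x h).hom b)) = _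
  rw [h1]
  exact (congr($(Scheme.residue_residueFieldMap q (genericPoint W)).hom b)).symm

/-- the structure map `κ(q η) → O_{W,x}` -/
noncomputable def κToLocQuot : Y.residueField (q (genericPoint W)) →+*
    Cyc.LocQuot x (genericPoint W) (genericPoint_specializes x) :=
  Ideal.Quotient.lift (IsLocalRing.maximalIdeal (Y.presheaf.stalk (q (genericPoint W))))
    ((Ideal.Quotient.mk _).comp (τ q x h).hom) (fun b hb => by
      apply algebraMap_locQuot_injective x (genericPoint W) (genericPoint_specializes x)
      rw [map_zero, RingHom.comp_apply, algebraMap_locQuot_mk, specMap_τ]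
      have : Y.residue (q (genericPoint W)) b = 0 := (IsLocalRing.residue_eq_zero_iff b).mpr hb
      rw [this, map_zero])

theorem κToLocQuot_residue (b : Y.presheaf.stalk (q (genericPoint W))) :
    κToLocQuot q x h (Y.residue (q (genericPoint W)) b) =
      Ideal.Quotient.mk _ ((τ q x h).hom b) := rfl

/-- the `κ(q η)`-algebra structure of `O_{W,x}` -/
@[reducible] noncomputable def algKA : Algebra (Y.residueField (q (genericPoint W)))
    (Cyc.LocQuot x (genericPoint W) (genericPoint_specializes x)) :=
  (κToLocQuot q x h).toAlgebra

theorem isScalarTower_KAF :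
    letI := algKA q x h
    IsScalarTower (Y.residueField (q (genericPoint W)))
      (Cyc.LocQuot x (genericPoint W) (genericPoint_specializes x))
      (W.residueField (genericPoint W)) := by
  letI := algKA q x h
  refine IsScalarTower.of_algebraMap_eq fun k => ?_
  obtain ⟨b, rfl⟩ := IsLocalRing.residue_surjective k
  change (q.residueFieldMap (genericPoint W)).hom (Y.residue (q (genericPoint W)) b) =
    algebraMap (Cyc.LocQuot x (genericPoint W) (genericPoint_specializes x))
      (W.residueField (genericPoint W)) (κToLocQuot q x h (Y.residue (q (genericPoint W)) b))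
  rw [κToLocQuot_residue, algebraMap_locQuot_mk, specMap_τ]

theorem essFiniteType_KA [LocallyOfFiniteType q] :
    letI := algKA q x h
    Algebra.EssFiniteType (Y.residueField (q (genericPoint W)))
      (Cyc.LocQuot x (genericPoint W) (genericPoint_specializes x)) := by
  letI := algKA q x h
  have hsurj : Function.Surjective (Y.presheaf.stalkSpecializes h).hom := by
    intro w
    have h'' : q (genericPoint W) ⤳ q x :=
      q.base.hom.map_specializes (genericPoint_specializes x)
    refine ⟨(Y.presheaf.stalkSpecializes h'').hom w, ?_⟩
    have h2 : Y.presheaf.stalkSpecializes h'' ≫ Y.presheaf.stalkSpecializes h = 𝟙 _ := by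
      rw [TopCat.Presheaf.stalkSpecializes_comp]
      exact TopCat.Presheaf.stalkSpecializes_refl _ _
    exact congr($(h2).hom w)
  have h1 : ((κToLocQuot q x h).comp
      (IsLocalRing.residue (Y.presheaf.stalk (q (genericPoint W))))).EssFiniteType := by
    have e : (κToLocQuot q x h).comp
        (IsLocalRing.residue (Y.presheaf.stalk (q (genericPoint W)))) =
        (Ideal.Quotient.mk (RingHom.ker (Cyc.specMap x (genericPoint W)
          (genericPoint_specializes x)))).comp (τ q x h).hom := by
      ext b
      rfl
    rw [e]
    refine RingHom.EssFiniteType.comp ?_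
      (RingHom.FiniteType.of_surjective _ Ideal.Quotient.mk_surjective).essFiniteType
    change ((q.stalkMap x).hom.comp (Y.presheaf.stalkSpecializes h).hom).EssFiniteType
    exact RingHom.EssFiniteType.comp (RingHom.FiniteType.of_surjective _ hsurj).essFiniteType
      (LocallyOfFiniteType.stalkMap q x)
  exact RingHom.EssFiniteType.of_comp
    (IsLocalRing.residue (Y.presheaf.stalk (q (genericPoint W)))) h1

include h in
open Groth.Agent.Lib.Helper4.Japanese in
theorem finite_integralClosure_locQuot [LocallyOfFiniteType q] :
    Module.Finite (Cyc.LocQuot x (genericPoint W) (genericPoint_specializes x))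
      (integralClosure (Cyc.LocQuot x (genericPoint W) (genericPoint_specializes x))
        (W.residueField (genericPoint W))) := by
  letI := algKA q x h
  haveI := essFiniteType_KA q x h
  haveI : IsDomain (Cyc.LocQuot x (genericPoint W) (genericPoint_specializes x)) :=
    Ideal.Quotient.isDomain _
  haveI : IsFractionRing (Cyc.LocQuot x (genericPoint W) (genericPoint_specializes x))
      (W.residueField (genericPoint W)) := isFractionRing_locQuot x _ _
  have hN := Groth.Agent.Lib.Helper14.isN2_of_essFiniteType
    (Y.residueField (q (genericPoint W)))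
    (isUniversallyJapanese_field (Y.residueField (q (genericPoint W))))
    (Cyc.LocQuot x (genericPoint W) (genericPoint_specializes x))
  exact Groth.Agent.Lib.Helper14.IsN2.finite hN (W.residueField (genericPoint W))
    (W.residueField (genericPoint W))

end point

open Groth.Agent.Lib.LeadFG in
/-- `κ(η)` is a function field of one variable over `κ(q η)` when the transcendence degree is one -/
theorem isFF [LocallyOfFiniteType q]
    (htr : Algebra.trdeg (Y.residueField (q (genericPoint W)))
      (W.residueField (genericPoint W)) = 1) :
    IsFF (Y.residueField (q (genericPoint W))) (W.residueField (genericPoint W)) := by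
  have h1 : (q.residueFieldMap (genericPoint W)).hom.EssFiniteType :=
    RingHom.EssFiniteType.residueFieldMap (LocallyOfFiniteType.stalkMap q (genericPoint W))
  haveI : Algebra.EssFiniteType (Y.residueField (q (genericPoint W)))
      (W.residueField (genericPoint W)) := h1
  have hfg : (⊤ : IntermediateField (Y.residueField (q (genericPoint W)))
      (W.residueField (genericPoint W))).FG := IntermediateField.fg_top_iff.mpr ‹_›
  obtain ⟨t, ht⟩ := Groth.Agent.Lib.Helper4.CurveAlg.exists_transcendental htr
  exact ⟨t, ht, Groth.Agent.Lib.Helper4.CurveAlg.finite_adjoin hfg htr t ht⟩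

/-- the residue degree in terms of arbitrary models of the residue fields -/
theorem finrank_eq_residueDegree_of_eq (x : W) (y : Y) (hy : q x = y) (hsp : q x ⤳ y)
    (E : Type u) [Field E] [Algebra (Y.residueField y) E] (β : W.presheaf.stalk x →+* E)
    (hβ : Function.Surjective β)
    (hβker : RingHom.ker β = IsLocalRing.maximalIdeal (W.presheaf.stalk x))
    (hcomm : ∀ b : Y.presheaf.stalk y,
      β ((q.stalkMap x).hom ((Y.presheaf.stalkSpecializes hsp).hom b)) =
        algebraMap (Y.residueField y) E (Y.residue y b)) :
    Module.finrank (Y.residueField y) E = q.residueDegree x := by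
  subst hy
  letI := (q.residueFieldMap x).hom.toAlgebra
  let j' : W.residueField x ≃+* E :=
    (Ideal.quotEquivOfEq hβker.symm).trans (RingHom.quotientKerEquivOfSurjective hβ)
  have hj' : ∀ a : W.presheaf.stalk x, j' (W.residue x a) = β a := fun a => rfl
  refine Algebra.finrank_eq_of_equiv_equiv (RingEquiv.refl _) j'.symm ?_
  ext k
  obtain ⟨b, rfl⟩ := IsLocalRing.residue_surjective k
  change (q.residueFieldMap x).hom (Y.residue (q x) b) =
    j'.symm (algebraMap (Y.residueField (q x)) E (Y.residue (q x) b))
  rw [← hcomm b, ← hj', RingEquiv.symm_apply_apply]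
  have h2 : (Y.presheaf.stalkSpecializes hsp).hom b = b := by
    have : Y.presheaf.stalkSpecializes hsp = 𝟙 _ := TopCat.Presheaf.stalkSpecializes_refl _ _
    rw [this]
    rfl
  rw [h2]
  exact congr($(Scheme.residue_residueFieldMap q x).hom b)

/-- the residue degree of a point of the fibre over `q η` as a degree over `κ(q η)` -/
theorem finrank_eq_residueDegree (x : W) (h : q x ⤳ q (genericPoint W)) :
    letI := algKA q x h
    Module.finrank (Y.residueField (q (genericPoint W)))
      (IsLocalRing.ResidueField (Cyc.LocQuot x (genericPoint W) (genericPoint_specializes x))) =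
      q.residueDegree x := by
  letI := algKA q x h
  have e : q x = q (genericPoint W) :=
    (h.antisymm (q.base.hom.map_specializes (genericPoint_specializes x))).eq
  refine finrank_eq_residueDegree_of_eq q x (q (genericPoint W)) e h
    (IsLocalRing.ResidueField (Cyc.LocQuot x (genericPoint W) (genericPoint_specializes x)))
    ((IsLocalRing.residue _).comp (Ideal.Quotient.mk _))
    (IsLocalRing.residue_surjective.comp Ideal.Quotient.mk_surjective) ?_ (fun b => rfl)
  ext a
  rw [RingHom.mem_ker, RingHom.comp_apply, IsLocalRing.residue_eq_zero_iff,
    mk_mem_maximalIdeal_iff]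

end Groth.Agent.Lib.T3H4.CurveRel
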