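import Mathlib
import Groth.Prelude.Def_Cyc
import Groth.Agent.Lib.T3H4NormGeomE
import Groth.Agent.Lib.T2H4PushPullB
import Groth.Agent.Lib.T2H4PullDivFlatA
import Groth.Agent.Lib.Helper4GenFiniteKA
set_option backward.isDefEq.respectTransparency.types false

/-!
# The norm formula for principal divisors (helper4): globalization

Namespace `Groth.Agent.Lib.T3H4.NormGlob`.
-/

set_option autoImplicit false
set_option linter.style.haveILetI false
universe u
open CategoryTheory CategoryTheory.Limits AlgebraicGeometry TopologicalSpace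

namespace Groth.Agent.Lib.T3H4.NormGlob

open Groth.Agent.Lib.T2H4.LenMinPrimes Groth.Agent.Lib.T3H4.NormGeom
  Groth.Agent.Lib.T2H4.PullDivFlat

/-- finiteness over an open restricts to smaller opens -/
theorem isFinite_morphismRestrict_of_le {X Y : Scheme.{u}} (f : X ⟶ Y) {U V : Y.Opens} (e : U ≤ V)
    (h : IsFinite (f ∣_ V)) : IsFinite (f ∣_ U) := by
  have hbig : IsPullback (f ∣_ U) (X.homOfLE (f.preimage_mono e) ≫ (f ⁻¹ᵁ V).ι)
      (Y.homOfLE e ≫ V.ι) f := by
    rw [Scheme.homOfLE_ι, Scheme.homOfLE_ι]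
    exact isPullback_morphismRestrict f U
  have htop := IsPullback.of_bot hbig (morphismRestrict_homOfLE f U V e)
    (isPullback_morphismRestrict f V)
  exact IsZariskiLocalAtTarget.of_isPullback (P := @IsFinite) htop.flip h

/-- a morphism finite over an affine open is given there by a finite ring map -/
theorem finite_app_of_isFinite_morphismRestrict {W Y : Scheme.{u}} (q : W ⟶ Y) (U : Y.Opens)
    (hU : IsAffineOpen U) [IsFinite (q ∣_ U)] :
    IsAffineOpen (q ⁻¹ᵁ U) ∧ (q.app U).hom.Finite := by
  haveI : IsAffine (U : Scheme) := hU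
  have hWaff : IsAffineOpen (q ⁻¹ᵁ U) := isAffine_of_isAffineHom (q ∣_ U)
  refine ⟨hWaff, ?_⟩
  have h1 : ((q ∣_ U).appTop).hom.Finite := Scheme.Hom.finite_appTop (q ∣_ U)
  have key : ∀ {A B C : CommRingCat.{u}} (a : A ⟶ B) (e : B ⟶ C), IsIso e →
      (a ≫ e).hom.Finite → a.hom.Finite := by
    intro A B C a e he h
    have h3 : a = (a ≫ e) ≫ inv e := by simp
    rw [h3, CommRingCat.hom_comp]
    exact RingHom.Finite.comp (RingHom.Finite.of_surjective _
      (ConcreteCategory.bijective_of_isIso (inv e)).2) h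
  have h2 : (q.app (U.ι ''ᵁ ⊤)).hom.Finite := by
    refine key _ (W.presheaf.map (eqToHom (image_morphismRestrict_preimage q U ⊤)).op) ?_ ?_
    · rw [eqToHom_op, eqToHom_map]
      infer_instance
    · rw [← morphismRestrict_appTop]
      exact h1
  have h4 : ∀ O : Y.Opens, O = U → (q.app O).hom.Finite → (q.app U).hom.Finite := by
    rintro O rfl h
    exact h
  exact h4 _ U.ι_image_top h2

/-- a proper morphism which is quasi-finite at all points over `y` is finite over an affine
neighbourhood of `y` -/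
theorem exists_chart_of_quasiFiniteAt {W Y : Scheme.{u}} (q : W ⟶ Y) [IsProper q] (y : Y)
    (hq : ∀ x : W, q x = y → q.QuasiFiniteAt x) :
    ∃ U : Y.Opens, IsAffineOpen U ∧ y ∈ U ∧ IsAffineOpen (q ⁻¹ᵁ U) ∧ (q.app U).hom.Finite := by
  haveI : DiscreteTopology (q.fiber y) := by
    rw [discreteTopology_iff_isOpen_singleton]
    intro w
    have hx : q (q.fiberι y w) = y := (q.fiberHomeo y w).2
    have hq' := hq _ hx
    generalize hx' : q.fiberι y w = x at hx hq'
    subst hx
    rw [Scheme.Hom.quasiFiniteAt_iff_isOpen_singleton_asFiber] at hq'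
    have hw : w = q.asFiber x := by
      apply (q.fiberι (q x)).isEmbedding.injective
      rw [hx', Scheme.Hom.fiberι_asFiber]
    rw [hw]
    exact hq'
  haveI : Finite (q.fiber y) := finite_of_compact_of_discrete
  have hfinite : (q ⁻¹' {y}).Finite := by
    haveI : Finite ↥(q ⁻¹' {y}) := (q.fiberHomeo y).toEquiv.finite_iff.mp inferInstance
    exact Set.toFinite _
  obtain ⟨V, hyV, hV⟩ := exists_isFinite_morphismRestrict_of_finite_preimage_singleton q y hfinite
  obtain ⟨_, ⟨U, hU', rfl⟩, hyU, hUV⟩ :=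
    Y.isBasis_affineOpens.exists_subset_of_mem_open hyV V.isOpen
  have hU : IsAffineOpen U := hU'
  haveI : IsFinite (q ∣_ U) := isFinite_morphismRestrict_of_le q hUV hV
  obtain ⟨h1, h2⟩ := finite_app_of_isFinite_morphismRestrict q U hU
  exact ⟨U, hU, hyU, h1, h2⟩

section point

variable {W Y : Scheme.{u}} [IsIntegral W] (q : W ⟶ Y)
  (δW : W → ℤ) (δY : Y → ℤ) (hW : Cyc.IsSetup W δW) (hY : Cyc.IsSetup Y δY)
  (hδ : Cyc.DeltaCompat q δW δY)

include hW hδ in
/-- all points over a point `y` one step below the image of the generic point have the dimension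
of `y` -/
theorem delta_eq_of_map_eq (hn : δW (genericPoint W) = δY (q (genericPoint W))) (y : Y)
    (hdim : δY y + 1 = δY (q (genericPoint W))) (x : W) (hx : q x = y) : δW x = δY y := by
  obtain ⟨n, -, hxn⟩ := hδ x
  rw [hx] at hxn
  have hne : genericPoint W ≠ x := by
    intro h
    rw [← h] at hx
    rw [hx] at hdim
    omega
  have hlt := (hW.2.2 _ _ (genericPoint_specializes x) hne).1
  omega

include hW hδ in
theorem quasiFiniteAt_of_map_eq [LocallyOfFiniteType q] (hn : δW (genericPoint W) = δY (q (genericPoint W))) (y : Y)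
    (hdim : δY y + 1 = δY (q (genericPoint W))) (x : W) (hx : q x = y) : q.QuasiFiniteAt x := by
  apply Groth.Agent.Lib.Helper4.GenFiniteKA.quasiFiniteAt_of_forall_fiber_specializes_eq
  intro z z' hz hz' hzz'
  by_contra hne
  have h1 := delta_eq_of_map_eq q δW δY hW hδ hn y hdim z (hz.trans hx)
  have h2 := delta_eq_of_map_eq q δW δY hW hδ hn y hdim z' (hz'.trans hx)
  have hlt := (hW.2.2 _ _ hzz' hne).1
  omega

include hY in
/-- the local ring of the closure of `ξ` at a point one step below has dimension one -/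
theorem ringKrullDim_locQuot_eq_one (y ξ : Y) (h : ξ ⤳ y) (hdim : δY y + 1 = δY ξ) :
    ringKrullDim (Cyc.LocQuot y ξ h) = 1 := by
  apply le_antisymm
  · refine ringKrullDim_quotient_le_one δY hY.2.2 y _ (fun ξ' h' hle => ?_)
    have h1 : primeOf y ξ h ≤ primeOf y ξ' h' := hle
    rw [primeOf_le_iff] at h1
    have := delta_le_of_specializes δY hY.2.2 h1
    omega
  · have hnf : ¬ IsField (Cyc.LocQuot y ξ h) := by
      intro hf
      have hmax : (RingHom.ker (Cyc.specMap y ξ h)).IsMaximal :=
        Ideal.Quotient.maximal_of_isField _ hf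
      have h1 : (primeOf y ξ h).asIdeal = IsLocalRing.maximalIdeal (Y.presheaf.stalk y) :=
        IsLocalRing.eq_maximalIdeal hmax
      rw [primeOf_eq_maximalIdeal_iff] at h1
      rw [h1] at hdim
      omega
    have h1 : 0 ≤ ringKrullDim (Cyc.LocQuot y ξ h) := ringKrullDim_nonneg_of_nontrivial
    by_contra hlt
    push Not at hlt
    have h0 := Groth.Agent.Lib.Helper4.GenFiniteKA.withBot_enat_eq_zero_of_lt_one _ h1 hlt
    haveI : Ring.KrullDimLE 0 (Cyc.LocQuot y ξ h) :=
      ringKrullDimZero_iff_ringKrullDim_eq_zero.mpr h0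
    haveI : IsDomain (Cyc.LocQuot y ξ h) := Ideal.Quotient.isDomain _
    exact hnf Ring.KrullDimLE.isField_of_isDomain

include hW hY hδ in
/-- **the norm formula at a point** -/
theorem norm_formula_point [IsProper q] (hn : δW (genericPoint W) = δY (q (genericPoint W))) (y : Y)
    (hy : q (genericPoint W) ⤳ y) (hdim : δY y + 1 = δY (q (genericPoint W)))
    (f : W.residueField (genericPoint W)) (hf : f ≠ 0) :
    ∑ᶠ i : {w : W // q w = y}, (q.residueDegree i.1 : ℤ) *
        Cyc.ordAt i.1 (genericPoint W) (genericPoint_specializes i.1) f =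
      Cyc.ordAt y (q (genericPoint W)) hy (Cyc.normGen q (genericPoint W) f) := by
  haveI : IsLocallyNoetherian Y := hY.1
  obtain ⟨U, hU, hyU, hWU, hfin⟩ := exists_chart_of_quasiFiniteAt q y
    (quasiFiniteAt_of_map_eq q δW δY hW hδ hn y hdim)
  exact norm_formula_chart q y hy U hyU hU hWU hfin
    (ringKrullDim_locQuot_eq_one δY hY y _ hy hdim)
    (Groth.Agent.Lib.T2H4.PushPull.finite_residueFieldMap_of_delta_eq q δW δY hδ _ hn) f hf

end point

end Groth.Agent.Lib.T3H4.NormGlob
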