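import Mathlib
import Groth.Prelude.Def_Cyc
import Groth.Prelude.Def_W4bk4goldsch23FF
import Groth.Agent.Lib.LeadFG7
import Groth.Agent.Lib.T2H4PushPullB
import Groth.Agent.Lib.T3H4NormGlobA
import Groth.Agent.Lib.T3H4CurveDegB
import Groth.Agent.Lib.T3H4CurveGeoD
import Groth.Agent.Lib.T3H4CurveRelA
import Groth.Agent.Lib.T3H4CurveRelB
set_option backward.isDefEq.respectTransparency.types false

/-!
# Pushforward of a principal divisor along a proper morphism of relative dimension one (helper4)

For `q : W ⟶ Y` proper with `W` integral and `δW(η) = δY(q η) + 1`: the pushforward of the divisor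
of a nonzero rational function on `W` vanishes at `q η`; and for `δW(η) ≠ δY(q η)` it vanishes
everywhere.

Namespace `Groth.Agent.Lib.T3H4.CurveRel`.
-/

set_option autoImplicit false
set_option linter.style.haveILetI false
universe u

open AlgebraicGeometry CategoryTheory FunFld Groth.Agent.Lib.LeadFG
  Groth.Agent.Lib.T2H4.LenMinPrimes Groth.Agent.Lib.T3H4.NormGeom Groth.Agent.Lib.T3H4.CurveDeg
  Groth.Agent.Lib.T3H4.CurveGeo Groth.Agent.Lib.T3H4.NormGlob

namespace Groth.Agent.Lib.T3H4.CurveRel

variable {W Y : Scheme.{u}} [IsIntegral W] (q : W ⟶ Y)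

attribute [local instance] algKL

/-- the local ring of `W` at the generic point, modulo zero, is a field -/
theorem isField_locQuot_genericPoint :
    IsField (Cyc.LocQuot (genericPoint W) (genericPoint W) (genericPoint_specializes _)) := by
  have hinj := algebraMap_locQuot_injective (genericPoint W) (genericPoint W)
    (genericPoint_specializes _)
  have hsurj : Function.Surjective (algebraMap
      (Cyc.LocQuot (genericPoint W) (genericPoint W) (genericPoint_specializes _))
      (W.residueField (genericPoint W))) := by
    intro z
    obtain ⟨a, rfl⟩ := IsLocalRing.residue_surjective z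
    refine ⟨Ideal.Quotient.mk _ a, ?_⟩
    rw [algebraMap_locQuot_mk]
    change (W.residue (genericPoint W)).hom
      ((W.presheaf.stalkSpecializes (genericPoint_specializes (genericPoint W))).hom a) = _
    have : W.presheaf.stalkSpecializes (genericPoint_specializes (genericPoint W)) = 𝟙 _ :=
      TopCat.Presheaf.stalkSpecializes_refl _ _
    rw [this]
    rfl
  exact (RingEquiv.ofBijective _ ⟨hinj, hsurj⟩).toMulEquiv.isField
    (Field.toIsField (W.residueField (genericPoint W)))

section center

variable (P : Place (Y.residueField (q (genericPoint W))) (W.residueField (genericPoint W)))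

/-- a local homomorphism from the local ring at `x` to the valuation ring of a place descends to
`O_{W,x}` modulo the prime of the generic point -/
theorem dominates_of_stalk_localHom (x : W) (ψ : W.presheaf.stalk x →+* P.O) [IsLocalHom ψ]
    (hψ : ∀ a : W.presheaf.stalk x, ((ψ a : P.O) : W.residueField (genericPoint W)) =
      Cyc.specMap x (genericPoint W) (genericPoint_specializes x) a) :
    Dominates (Y.residueField (q (genericPoint W)))
      (Cyc.LocQuot x (genericPoint W) (genericPoint_specializes x)) P := by
  let ψ' : Cyc.LocQuot x (genericPoint W) (genericPoint_specializes x) →+* P.O :=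
    Ideal.Quotient.lift _ ψ (fun a ha => by
      apply Subtype.ext
      rw [hψ a]
      exact RingHom.mem_ker.mp ha)
  haveI : IsLocalHom ψ' := by
    constructor
    intro a ha
    obtain ⟨a, rfl⟩ := Ideal.Quotient.mk_surjective a
    have h1 : IsUnit (ψ a) := ha
    have h2 : IsUnit a := IsLocalHom.map_nonunit a h1
    exact h2.map _
  haveI := isFractionRing_locQuot x (genericPoint W) (genericPoint_specializes x)
  refine dominates_of_localHom P ψ' (fun a => ?_)
  obtain ⟨a, rfl⟩ := Ideal.Quotient.mk_surjective a
  rw [algebraMap_locQuot_mk]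
  exact hψ a

theorem exists_stalk_localHom_of_dominates (x : W)
    (hP : Dominates (Y.residueField (q (genericPoint W)))
      (Cyc.LocQuot x (genericPoint W) (genericPoint_specializes x)) P) :
    ∃ ψ : W.presheaf.stalk x →+* P.O, IsLocalHom ψ ∧
      ∀ a : W.presheaf.stalk x, ((ψ a : P.O) : W.residueField (genericPoint W)) =
        Cyc.specMap x (genericPoint W) (genericPoint_specializes x) a := by
  haveI := isFractionRing_locQuot x (genericPoint W) (genericPoint_specializes x)
  obtain ⟨ψ', hψ', e⟩ := exists_localHom_of_dominates P hP
  haveI := hψ'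
  refine ⟨ψ'.comp (Ideal.Quotient.mk _), ⟨?_⟩, fun a => ?_⟩
  · intro a ha
    have h1 : IsUnit (ψ' (Ideal.Quotient.mk _ a)) := ha
    have h2 := IsLocalHom.map_nonunit _ h1
    exact (isUnit_mk_iff _ (ker_specMap_ne_top _ _ _) a).mp h2
  · rw [RingHom.comp_apply, e, algebraMap_locQuot_mk]

end center

section main

variable [IsProper q] (δW : W → ℤ) (δY : Y → ℤ) (hW : Cyc.IsSetup W δW) (hY : Cyc.IsSetup Y δY)
  (hδ : Cyc.DeltaCompat q δW δY)

include hW hδ in
/-- every place of `κ(η)/κ(q η)` has a centre on `W`, a point of the fibre over `q η` one step below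
the generic point -/
theorem exists_center_of_place (hn1 : δW (genericPoint W) = δY (q (genericPoint W)) + 1)
    (P : Place (Y.residueField (q (genericPoint W))) (W.residueField (genericPoint W))) :
    ∃ x : W, (q x = q (genericPoint W) ∧ δW x + 1 = δW (genericPoint W)) ∧
      Dominates (Y.residueField (q (genericPoint W)))
        (Cyc.LocQuot x (genericPoint W) (genericPoint_specializes x)) P := by
  have hval : ValuativeCriterion.Existence q := by
    have h : UniversallyClosed q := inferInstance
    rw [UniversallyClosed.eq_valuativeCriterion] at h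
    exact h.1
  obtain ⟨x, hqx, ψ, hψ, h⟩ := exists_center q hval P.O (fun r => P.2.1 r)
  haveI := hψ
  have hdom := dominates_of_stalk_localHom q P x ψ h
  refine ⟨x, ⟨hqx, ?_⟩, hdom⟩
  have hne : genericPoint W ≠ x := by
    rintro rfl
    haveI := isFractionRing_locQuot (genericPoint W) (genericPoint W)
      (genericPoint_specializes (genericPoint W))
    exact not_dominates_of_isField _ isField_locQuot_genericPoint P hdom
  have hlt := (hW.2.2 _ _ (genericPoint_specializes x) hne).1
  obtain ⟨n, -, hxn⟩ := hδ x
  rw [hqx] at hxn
  omega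

/-- the centre of a place is unique -/
theorem center_unique_of_place
    (P : Place (Y.residueField (q (genericPoint W))) (W.residueField (genericPoint W)))
    (x₁ x₂ : W) (hq : q x₁ = q x₂)
    (h₁ : Dominates (Y.residueField (q (genericPoint W)))
      (Cyc.LocQuot x₁ (genericPoint W) (genericPoint_specializes x₁)) P)
    (h₂ : Dominates (Y.residueField (q (genericPoint W)))
      (Cyc.LocQuot x₂ (genericPoint W) (genericPoint_specializes x₂)) P) : x₁ = x₂ := by
  obtain ⟨ψ₁, hψ₁, e₁⟩ := exists_stalk_localHom_of_dominates q P x₁ h₁
  obtain ⟨ψ₂, hψ₂, e₂⟩ := exists_stalk_localHom_of_dominates q P x₂ h₂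
  haveI := hψ₁
  haveI := hψ₂
  exact center_unique q P.O x₁ x₂ hq ψ₁ e₁ ψ₂ e₂

include hW hY hδ in
open Classical in
/-- **the pushforward of a principal divisor along a proper morphism of relative dimension one
vanishes at the image of the generic point** -/
theorem fibre_sum_eq_zero_of_succ (hn1 : δW (genericPoint W) = δY (q (genericPoint W)) + 1)
    (f : W.residueField (genericPoint W)) (hf : f ≠ 0) :
    ∑ᶠ x ∈ q ⁻¹' {q (genericPoint W)}, Cyc.divFun δW (genericPoint W) f x *
      ((AlgebraicCycle.mapCoeff q δW δY x : ℕ) : ℤ) = 0 := by
  haveI : IsLocallyNoetherian W := hW.1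
  -- the function field
  have htr : Algebra.trdeg (Y.residueField (q (genericPoint W)))
      (W.residueField (genericPoint W)) = 1 := by
    obtain ⟨n, hn, hxn⟩ := hδ (genericPoint W)
    have : n = 1 := by omega
    rw [this] at hn
    exact hn
  have hFF := isFF q htr
  choose cen hcen_T hcen_dom using exists_center_of_place q δW δY hW hδ hn1
  let T : Set W := {x | q x = q (genericPoint W) ∧ δW x + 1 = δW (genericPoint W)}
  let G : Place (Y.residueField (q (genericPoint W))) (W.residueField (genericPoint W)) → ℤ :=
    fun P => (P.deg : ℤ) * P.ord f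
  have hsuppG : Function.support G ⊆ Function.support fun P : Place
      (Y.residueField (q (genericPoint W))) (W.residueField (genericPoint W)) => P.ord f := by
    intro P hP
    rw [Function.mem_support] at hP ⊢
    intro h0
    apply hP
    change (P.deg : ℤ) * P.ord f = 0
    rw [h0, mul_zero]
  have hsupp : (Function.support G).Finite := (support_ord_finite hFF f).subset hsuppG
  have hfib := Groth.Agent.Lib.T2H4.PushPull.finsum_mem_fiberwise cen Set.univ T
    (fun P _ => hcen_T P) G (hsupp.subset Set.inter_subset_right)
  have htot : ∑ᶠ P ∈ (Set.univ : Set (Place (Y.residueField (q (genericPoint W)))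
      (W.residueField (genericPoint W)))), G P = 0 := by
    rw [finsum_mem_univ]
    have h1 := deg_div hFF f
    unfold FunFld.Divisor.deg at h1
    rw [Finsupp.sum] at h1
    have hsub : Function.support G ⊆
        ((FunFld.div (Y.residueField (q (genericPoint W))) f).support : Set _) := by
      intro P hP
      have h2 := hsuppG hP
      rw [Function.mem_support] at h2
      rw [Finset.mem_coe, Finsupp.mem_support_iff, div_apply hFF f P]
      exact h2
    rw [finsum_eq_sum_of_support_subset G hsub, ← h1]
    refine Finset.sum_congr rfl fun P _ => ?_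
    rw [div_apply hFF f P]
    exact mul_comm _ _
  -- reduce the sum over the fibre to the sum over `T`
  have hT : ∑ᶠ x ∈ q ⁻¹' {q (genericPoint W)}, Cyc.divFun δW (genericPoint W) f x *
      ((AlgebraicCycle.mapCoeff q δW δY x : ℕ) : ℤ) =
      ∑ᶠ x ∈ T, ((q.residueDegree x : ℕ) : ℤ) *
        Cyc.ordAt x (genericPoint W) (genericPoint_specializes x) f := by
    have h1 : ∑ᶠ x ∈ q ⁻¹' {q (genericPoint W)}, Cyc.divFun δW (genericPoint W) f x *
        ((AlgebraicCycle.mapCoeff q δW δY x : ℕ) : ℤ) =
        ∑ᶠ x ∈ T, Cyc.divFun δW (genericPoint W) f x *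
          ((AlgebraicCycle.mapCoeff q δW δY x : ℕ) : ℤ) := by
      refine finsum_mem_inter_support_eq _ _ _ ?_
      ext x
      simp only [Set.mem_inter_iff, Function.mem_support, Set.mem_preimage,
        Set.mem_singleton_iff]
      constructor
      · rintro ⟨hx, hne⟩
        refine ⟨⟨hx, ?_⟩, hne⟩
        by_contra hcon
        apply hne
        have : Cyc.divFun δW (genericPoint W) f x = 0 := by
          unfold Cyc.divFun
          rw [dif_neg (fun h => hcon h.2)]
        rw [this, zero_mul]
      · rintro ⟨hx, hne⟩
        exact ⟨hx.1, hne⟩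
    rw [h1]
    refine finsum_mem_congr rfl fun x hx => ?_
    have hx1 : q x = q (genericPoint W) := hx.1
    have hx2 : δW x + 1 = δW (genericPoint W) := hx.2
    have hd : Cyc.divFun δW (genericPoint W) f x =
        Cyc.ordAt x (genericPoint W) (genericPoint_specializes x) f := by
      unfold Cyc.divFun
      rw [dif_pos ⟨genericPoint_specializes x, hx2⟩]
    have hm : AlgebraicCycle.mapCoeff q δW δY x = q.residueDegree x := by
      unfold AlgebraicCycle.mapCoeff
      rw [if_pos]
      change δW x = δY (q x)
      rw [hx1]
      omega
    rw [hd, hm, mul_comm]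
  rw [hT, ← htot, ← hfib]
  refine finsum_mem_congr rfl fun x hx => ?_
  have hx1 : q x = q (genericPoint W) := hx.1
  have hx2 : δW x + 1 = δW (genericPoint W) := hx.2
  have hsp : q x ⤳ q (genericPoint W) := (Inseparable.of_eq hx1).specializes
  letI := algKA q x hsp
  haveI := isScalarTower_KAF q x hsp
  haveI : IsDomain (Cyc.LocQuot x (genericPoint W) (genericPoint_specializes x)) :=
    Ideal.Quotient.isDomain _
  haveI : IsFractionRing (Cyc.LocQuot x (genericPoint W) (genericPoint_specializes x))
      (W.residueField (genericPoint W)) := isFractionRing_locQuot x _ _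
  haveI : Module.Finite (Cyc.LocQuot x (genericPoint W) (genericPoint_specializes x))
      (BB (Cyc.LocQuot x (genericPoint W) (genericPoint_specializes x))
        (W.residueField (genericPoint W))) := finite_integralClosure_locQuot q x hsp
  have hloc := local_formula (K := Y.residueField (q (genericPoint W)))
    (A := Cyc.LocQuot x (genericPoint W) (genericPoint_specializes x))
    (ringKrullDim_locQuot_eq_one δW hW x (genericPoint W) (genericPoint_specializes x) hx2) f hf
  rw [← finrank_eq_residueDegree q x hsp]
  change _ * CycAlg.ordFrac (Cyc.LocQuot x (genericPoint W) (genericPoint_specializes x))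
    (W.residueField (genericPoint W)) f = _
  rw [← hloc]
  have hset : {a : Place (Y.residueField (q (genericPoint W))) (W.residueField (genericPoint W)) |
      cen a = x ∧ a ∈ Set.univ} = {P | Dominates (Y.residueField (q (genericPoint W)))
        (Cyc.LocQuot x (genericPoint W) (genericPoint_specializes x)) P} := by
    ext P
    constructor
    · rintro ⟨rfl, -⟩
      exact hcen_dom P
    · intro h
      exact ⟨center_unique_of_place q P _ _ ((hcen_T P).1.trans hx1.symm) (hcen_dom P) h, trivial⟩
  rw [hset]
  exact finsum_set_coe_eq_finsum_mem (f := G) {P | Dominates (Y.residueField (q (genericPoint W)))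
    (Cyc.LocQuot x (genericPoint W) (genericPoint_specializes x)) P}

include hW hY hδ in
open Classical in
/-- **the pushforward of a principal divisor along a proper morphism which drops the dimension
vanishes** -/
theorem fibre_sum_eq_zero (hne : δW (genericPoint W) ≠ δY (q (genericPoint W)))
    (f : W.residueField (genericPoint W)) (hf : f ≠ 0) (y : Y) :
    ∑ᶠ x ∈ q ⁻¹' {y}, Cyc.divFun δW (genericPoint W) f x *
      ((AlgebraicCycle.mapCoeff q δW δY x : ℕ) : ℤ) = 0 := by
  by_cases hy : y = q (genericPoint W) ∧ δW (genericPoint W) = δY (q (genericPoint W)) + 1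
  · obtain ⟨rfl, hn1⟩ := hy
    exact fibre_sum_eq_zero_of_succ q δW δY hW hY hδ hn1 f hf
  · refine finsum_mem_eq_zero_of_forall_eq_zero fun x hx => ?_
    have hx' : q x = y := hx
    by_contra hterm
    have h1 : Cyc.divFun δW (genericPoint W) f x ≠ 0 := left_ne_zero_of_mul hterm
    have h2 : ((AlgebraicCycle.mapCoeff q δW δY x : ℕ) : ℤ) ≠ 0 := right_ne_zero_of_mul hterm
    have h3 : δW x + 1 = δW (genericPoint W) := by
      by_contra hcon
      apply h1
      unfold Cyc.divFun
      rw [dif_neg (fun h => hcon h.2)]
    have h4 : δW x = δY (q x) := by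
      by_contra hcon
      apply h2
      unfold AlgebraicCycle.mapCoeff
      rw [if_neg hcon]
      rfl
    obtain ⟨n, -, hn⟩ := hδ (genericPoint W)
    have hsp : q (genericPoint W) ⤳ q x :=
      q.base.hom.map_specializes (genericPoint_specializes x)
    apply hy
    by_cases hyq : q (genericPoint W) = q x
    · refine ⟨hx'.symm.trans hyq.symm, ?_⟩
      rw [← hyq] at h4
      have : n ≠ 0 := by
        rintro rfl
        apply hne
        simpa using hn
      omega
    · exfalso
      have hlt := (hY.2.2 _ _ hsp hyq).1
      omega

end main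

end Groth.Agent.Lib.T3H4.CurveRel
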