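import Mathlib
import Groth.Prelude.Def_Cyc
import Groth.Agent.Lib.T3H4NormGlobA
set_option backward.isDefEq.respectTransparency.types false

/-!
# The norm formula for principal divisors (helper4): `p_* div f = div (Nm f)`

Namespace `Groth.Agent.Lib.T3H4.NormGlob`.
-/

set_option autoImplicit false
set_option linter.style.haveILetI false
universe u
open CategoryTheory CategoryTheory.Limits AlgebraicGeometry TopologicalSpace

namespace Groth.Agent.Lib.T3H4.NormGlob

variable {W Y : Scheme.{u}} [IsIntegral W] (q : W ⟶ Y) [IsProper q]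
  (δW : W → ℤ) (δY : Y → ℤ) (hW : Cyc.IsSetup W δW) (hY : Cyc.IsSetup Y δY)
  (hδ : Cyc.DeltaCompat q δW δY)

include hW hY hδ in
open Classical in
/-- the pushforward of the principal divisor of `f` at a point `y`, as a sum over the fibre -/
theorem finsum_fibre_divFun (hn : δW (genericPoint W) = δY (q (genericPoint W)))
    (f : W.residueField (genericPoint W)) (hf : f ≠ 0) (y : Y) :
    ∑ᶠ x ∈ q ⁻¹' {y}, Cyc.divFun δW (genericPoint W) f x *
        ((AlgebraicCycle.mapCoeff q δW δY x : ℕ) : ℤ) =
      Cyc.divFun δY (q (genericPoint W)) (Cyc.normGen q (genericPoint W) f) y := by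
  by_cases h : q (genericPoint W) ⤳ y ∧ δY y + 1 = δY (q (genericPoint W))
  · have hR : Cyc.divFun δY (q (genericPoint W)) (Cyc.normGen q (genericPoint W) f) y =
        Cyc.ordAt y (q (genericPoint W)) h.1 (Cyc.normGen q (genericPoint W) f) := by
      unfold Cyc.divFun
      rw [dif_pos h]
    rw [hR, ← norm_formula_point q δW δY hW hY hδ hn y h.1 h.2 f hf]
    have hterm : ∀ x ∈ q ⁻¹' {y}, Cyc.divFun δW (genericPoint W) f x *
        ((AlgebraicCycle.mapCoeff q δW δY x : ℕ) : ℤ) =
        (q.residueDegree x : ℤ) *
          Cyc.ordAt x (genericPoint W) (genericPoint_specializes x) f := by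
      intro x hx
      have hx' : q x = y := hx
      have hd := delta_eq_of_map_eq q δW δY hW hδ hn y h.2 x hx'
      have hc : genericPoint W ⤳ x ∧ δW x + 1 = δW (genericPoint W) :=
        ⟨genericPoint_specializes x, by omega⟩
      have h1 : Cyc.divFun δW (genericPoint W) f x =
          Cyc.ordAt x (genericPoint W) (genericPoint_specializes x) f := by
        unfold Cyc.divFun
        rw [dif_pos hc]
      have h2 : AlgebraicCycle.mapCoeff q δW δY x = q.residueDegree x := by
        unfold AlgebraicCycle.mapCoeff
        rw [if_pos]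
        change δW x = δY (q x)
        rw [hx', hd]
      rw [h1, h2, mul_comm]
    rw [finsum_mem_congr rfl hterm]
    exact (finsum_subtype_eq_finsum_cond (f := fun x => (q.residueDegree x : ℤ) *
        Cyc.ordAt x (genericPoint W) (genericPoint_specializes x) f)
      (fun x => q x = y)).symm
  · have hR : Cyc.divFun δY (q (genericPoint W)) (Cyc.normGen q (genericPoint W) f) y = 0 := by
      unfold Cyc.divFun
      rw [dif_neg h]
    rw [hR]
    refine finsum_mem_eq_zero_of_forall_eq_zero fun x hx => ?_
    have hx' : q x = y := hx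
    by_contra hne
    apply h
    have h1 : Cyc.divFun δW (genericPoint W) f x ≠ 0 := left_ne_zero_of_mul hne
    have h2 : ((AlgebraicCycle.mapCoeff q δW δY x : ℕ) : ℤ) ≠ 0 := right_ne_zero_of_mul hne
    have hc : genericPoint W ⤳ x ∧ δW x + 1 = δW (genericPoint W) := by
      by_contra hc
      apply h1
      unfold Cyc.divFun
      rw [dif_neg hc]
    have hm : δW x = δY (q x) := by
      by_contra hm
      apply h2
      unfold AlgebraicCycle.mapCoeff
      rw [if_neg hm]
      rfl
    rw [hx'] at hm
    refine ⟨?_, by omega⟩
    rw [← hx']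
    exact hc.1.map q.continuous

include hW hY hδ in
/-- **`p_* div f = div (Nm f)`** for a proper morphism from an integral scheme whose generic point
has the dimension of its image -/
theorem map_divFun_eq (hn : δW (genericPoint W) = δY (q (genericPoint W)))
    (f : W.residueField (genericPoint W)) (hf : f ≠ 0) (α : AlgebraicCycle W ℤ)
    (hα : ⇑α = Cyc.divFun δW (genericPoint W) f) :
    ⇑(AlgebraicCycle.map q δW δY α) =
      Cyc.divFun δY (q (genericPoint W)) (Cyc.normGen q (genericPoint W) f) := by
  classical
  funext y
  rw [← finsum_fibre_divFun q δW δY hW hY hδ hn f hf y, ← hα]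
  rfl

end Groth.Agent.Lib.T3H4.NormGlob
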