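import Mathlib
import Groth.Prelude.Def_Cyc
import Groth.Agent.Lib.Helper10RedInd
import Groth.Agent.Lib.T2H4OrdPreimm
import Groth.Agent.Lib.T2H4ClosedImmCyc
import Groth.Agent.Lib.T2H4ZeroSecPush
import Groth.Agent.Lib.T2H4GysinFlatB
import Groth.Agent.Lib.T3H4NormGlobB
import Groth.Agent.Lib.T3H4CurveRelC
set_option backward.isDefEq.respectTransparency.types false

/-!
# Proper pushforward and rational equivalence, part A (helper4)

The integral closed subscheme with a given generic point; transport of residue degrees, norms and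
principal divisors along a closed immersion.

Namespace `Groth.Agent.Lib.T3H4.PushRat`.
-/

set_option autoImplicit false
set_option linter.style.haveILetI false
universe u
open CategoryTheory CategoryTheory.Limits AlgebraicGeometry TopologicalSpace

namespace Groth.Agent.Lib.T3H4.PushRat

open Groth.Agent.Lib.T2H4.OrdPreimm Groth.Agent.Lib.T2H4.ClosedImmCyc

section Integral

variable {X : Scheme.{u}}

/-- every point is the image of the generic point of an integral closed subscheme -/
theorem exists_integral_closedImmersion (ξ : X) :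
    ∃ (W : Scheme.{u}) (_ : IsIntegral W) (j : W ⟶ X) (_ : IsClosedImmersion j),
      j (genericPoint W) = ξ := by
  let Z : Closeds X := ⟨closure {ξ}, isClosed_closure⟩
  let W : Scheme.{u} := (Scheme.IdealSheafData.vanishingIdeal Z).subscheme
  let j : W ⟶ X := (Scheme.IdealSheafData.vanishingIdeal Z).subschemeι
  haveI : IsReduced W := Groth.Agent.Lib.Helper10.RedInd.isReduced_subscheme_vanishingIdeal Z
  have hrange : Set.range j = closure {ξ} := by
    rw [Scheme.IdealSheafData.range_subschemeι, Scheme.IdealSheafData.coe_support_vanishingIdeal]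
    rfl
  have hξ : ξ ∈ Set.range j := by
    rw [hrange]
    exact subset_closure rfl
  obtain ⟨w₀, hw₀⟩ := hξ
  have hgen : IsGenericPoint w₀ (Set.univ : Set W) := by
    change closure {w₀} = Set.univ
    rw [j.isEmbedding.isInducing.closure_eq_preimage_closure_image, Set.image_singleton, hw₀,
      ← hrange]
    exact Set.preimage_range _
  haveI : IrreducibleSpace W := (irreducibleSpace_def W).2 hgen.isIrreducible
  haveI : IsIntegral W := isIntegral_of_irreducibleSpace_of_isReduced W
  refine ⟨W, inferInstance, j, inferInstance, ?_⟩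
  have : genericPoint W = w₀ := (genericPoint_spec W).eq hgen
  rw [this, hw₀]

end Integral

section Transport

variable {W X Y : Scheme.{u}} (j : W ⟶ X) [IsClosedImmersion j] (p : X ⟶ Y)

/-- `IsSetup` passes to closed subschemes -/
theorem isSetup_closedImmersion (δ : X → ℤ) (hX : Cyc.IsSetup X δ) :
    Cyc.IsSetup W (fun w => δ (j w)) := by
  haveI : IsLocallyNoetherian X := hX.1
  refine ⟨isLocallyNoetherian j, fun w => ?_, isDimFun_comp j δ hX.2.2⟩
  exact Groth.Agent.Lib.T2H4.ZeroSecPush.isUniversallyCatenary_of_surjective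
    (j.stalkMap w).hom (j.stalkMap_surjective w) (hX.2.1 (j w))

/-- the residue field of `W` at `w` and that of `X` at `j w`, as algebras over the residue field
of `Y` -/
theorem exists_resEquiv (w : W) :
    letI a1 : Algebra (Y.residueField (p (j w))) (X.residueField (j w)) :=
      (p.residueFieldMap (j w)).hom.toAlgebra
    letI a2 : Algebra (Y.residueField (p (j w))) (W.residueField w) :=
      ((j ≫ p).residueFieldMap w).hom.toAlgebra
    ∃ e : X.residueField (j w) ≃ₐ[Y.residueField (p (j w))] W.residueField w,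
      ∀ g, e g = (j.residueFieldMap w).hom g := by
  letI a1 : Algebra (Y.residueField (p (j w))) (X.residueField (j w)) :=
    (p.residueFieldMap (j w)).hom.toAlgebra
  letI a2 : Algebra (Y.residueField (p (j w))) (W.residueField w) :=
    ((j ≫ p).residueFieldMap w).hom.toAlgebra
  refine ⟨AlgEquiv.ofRingEquiv (f := RingEquiv.ofBijective _ (residueFieldMap_bijective j w))
    (fun c => ?_), fun g => rfl⟩
  change (j.residueFieldMap w).hom ((p.residueFieldMap (j w)).hom c) =
    ((j ≫ p).residueFieldMap w).hom c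
  rw [Scheme.residueFieldMap_comp]
  rfl

/-- residue degree of a composite with a closed immersion -/
theorem residueDegree_comp (w : W) : (j ≫ p).residueDegree w = p.residueDegree (j w) := by
  unfold Scheme.Hom.residueDegree
  letI a1 : Algebra (Y.residueField (p (j w))) (X.residueField (j w)) :=
    (p.residueFieldMap (j w)).hom.toAlgebra
  letI a2 : Algebra (Y.residueField (p (j w))) (W.residueField w) :=
    ((j ≫ p).residueFieldMap w).hom.toAlgebra
  obtain ⟨e, -⟩ := exists_resEquiv j p w
  exact e.toLinearEquiv.finrank_eq.symm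

open Classical in
/-- the coefficient of the pushforward, for a composite with a closed immersion -/
theorem mapCoeff_comp (δ : X → ℤ) (δY : Y → ℤ) (w : W) :
    AlgebraicCycle.mapCoeff (j ≫ p) (fun w => δ (j w)) δY w =
      AlgebraicCycle.mapCoeff p δ δY (j w) := by
  unfold AlgebraicCycle.mapCoeff
  rw [residueDegree_comp]
  rfl

/-- the norm, for a composite with a closed immersion -/
theorem normGen_comp (w : W) (g : X.residueField (j w)) :
    Cyc.normGen (j ≫ p) w ((j.residueFieldMap w).hom g) = Cyc.normGen p (j w) g := by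
  unfold Cyc.normGen
  letI a1 : Algebra (Y.residueField (p (j w))) (X.residueField (j w)) :=
    (p.residueFieldMap (j w)).hom.toAlgebra
  letI a2 : Algebra (Y.residueField (p (j w))) (W.residueField w) :=
    ((j ≫ p).residueFieldMap w).hom.toAlgebra
  obtain ⟨e, he⟩ := exists_resEquiv j p w
  rw [← he]
  exact Algebra.norm_eq_of_algEquiv e g

open Classical in
/-- the fibre sum of a principal divisor on a closed subscheme -/
theorem finsum_fibre_comp (δ : X → ℤ) (δY : Y → ℤ) (w₀ : W) (g : X.residueField (j w₀)) (y : Y) :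
    ∑ᶠ x ∈ p ⁻¹' {y}, Cyc.divFun δ (j w₀) g x * ((AlgebraicCycle.mapCoeff p δ δY x : ℕ) : ℤ) =
      ∑ᶠ w ∈ (j ≫ p) ⁻¹' {y}, Cyc.divFun (fun w => δ (j w)) w₀ ((j.residueFieldMap w₀).hom g) w *
        ((AlgebraicCycle.mapCoeff (j ≫ p) (fun w => δ (j w)) δY w : ℕ) : ℤ) := by
  have h1 : ∀ w, Cyc.divFun (fun w => δ (j w)) w₀ ((j.residueFieldMap w₀).hom g) w *
        ((AlgebraicCycle.mapCoeff (j ≫ p) (fun w => δ (j w)) δY w : ℕ) : ℤ) =
      Cyc.divFun δ (j w₀) g (j w) * ((AlgebraicCycle.mapCoeff p δ δY (j w) : ℕ) : ℤ) := by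
    intro w
    rw [divFun_preimmersion, mapCoeff_comp]
  simp_rw [h1]
  rw [← finsum_mem_image (f := fun x => Cyc.divFun δ (j w₀) g x *
    ((AlgebraicCycle.mapCoeff p δ δY x : ℕ) : ℤ)) (g := j) (s := (j ≫ p) ⁻¹' {y})
    (fun a _ b _ hab => injective j hab)]
  refine finsum_mem_inter_support_eq _ _ _ ?_
  ext x
  constructor
  · rintro ⟨hx, hsupp⟩
    refine ⟨?_, hsupp⟩
    have hx' : p x = y := hx
    have hr : x ∈ Set.range j := by
      by_contra hcon
      apply hsupp
      change Cyc.divFun δ (j w₀) g x * _ = 0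
      rw [divFun_eq_zero_of_notMem_range j (isClosed_range j) δ w₀ g x hcon, zero_mul]
    obtain ⟨w, rfl⟩ := hr
    exact ⟨w, hx', rfl⟩
  · rintro ⟨⟨w, hw, rfl⟩, hsupp⟩
    exact ⟨hw, hsupp⟩

end Transport

section Point

variable {X Y : Scheme.{u}} (p : X ⟶ Y) [IsProper p] (δX : X → ℤ) (δY : Y → ℤ)
  (hX : Cyc.IsSetup X δX) (hY : Cyc.IsSetup Y δY) (hδ : Cyc.DeltaCompat p δX δY)

omit [IsProper p] in
/-- norms of nonzero elements are nonzero -/
theorem normGen_ne_zero (x : X) (g : X.residueField x) (hg : g ≠ 0) : Cyc.normGen p x g ≠ 0 := by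
  unfold Cyc.normGen
  letI := (p.residueFieldMap x).hom.toAlgebra
  by_cases hfin : Module.Finite (Y.residueField (p x)) (X.residueField x)
  · exact Algebra.norm_ne_zero_iff.2 hg
  · rw [Algebra.norm_eq_one_of_not_module_finite hfin]
    exact one_ne_zero

include hX hY hδ in
open Classical in
/-- **the pushforward of a principal divisor on the closure of an arbitrary point**: it is the
principal divisor of the norm when the dimension is preserved, and zero otherwise -/
theorem fibre_sum_point (ξ : X) (f : X.residueField ξ) (hf : f ≠ 0) (y : Y) :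
    ∑ᶠ x ∈ p ⁻¹' {y}, Cyc.divFun δX ξ f x * ((AlgebraicCycle.mapCoeff p δX δY x : ℕ) : ℤ) =
      if δX ξ = δY (p ξ) then Cyc.divFun δY (p ξ) (Cyc.normGen p ξ f) y else 0 := by
  obtain ⟨W, _, j, _, rfl⟩ := exists_integral_closedImmersion ξ
  rw [finsum_fibre_comp j p δX δY (genericPoint W) f y]
  have hW := isSetup_closedImmersion j δX hX
  have hδ' := Groth.Agent.Lib.T2H4.GysinFlat.deltaCompat_comp_closedImmersion p j δY δX hδ
  have hf' : (j.residueFieldMap (genericPoint W)).hom f ≠ 0 := (map_ne_zero _).2 hf
  split_ifs with hn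
  · rw [Groth.Agent.Lib.T3H4.NormGlob.finsum_fibre_divFun (j ≫ p) _ δY hW hY hδ' hn _ hf' y,
      normGen_comp]
    rfl
  · exact Groth.Agent.Lib.T3H4.CurveRel.fibre_sum_eq_zero (j ≫ p) _ δY hW hY hδ' hn _ hf' y

end Point

end Groth.Agent.Lib.T3H4.PushRat
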