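import Mathlib
import Groth.Prelude.Def_C1
import Groth.Prelude.Def_Cyc
import Groth.Prelude.Def_Bivar
import Groth.Agent.Lib.T2H4BCClosedImm
import Groth.Agent.Lib.T2H4PushPullA
import Groth.Agent.Lib.T2H4PullComp
import Groth.Agent.Lib.T2H4GysinFlatB
import Groth.Agent.Lib.Helper4DimFormulaAN
import Groth.Agent.Lib.T3H4PushRatA
set_option backward.isDefEq.respectTransparency.types false

/-!
# Base change of a proper morphism along a closed immersion: coefficients and fibres (helper4)

Namespace `Groth.Agent.Lib.T3H4.GysinPush`.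
-/

set_option autoImplicit false
set_option linter.style.haveILetI false
universe u
open CategoryTheory CategoryTheory.Limits AlgebraicGeometry TopologicalSpace

namespace Groth.Agent.Lib.T3H4.GysinPush

open Groth.Agent.Lib.T2H4.BCClosedImm Groth.Agent.Lib.T2H4.OrdPreimm
  Groth.Agent.Lib.Helper4.DimFormula Groth.Agent.Lib.T2H4.PullComp Groth.Agent.Lib.T3H4.PushRat

section Right

variable {D' D X : Scheme.{u}} (g : D' ⟶ D) (i : D ⟶ X) [IsClosedImmersion i]

/-- composing with a closed immersion on the right does not change residue degrees -/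
theorem residueDegree_comp_right (z : D') : (g ≫ i).residueDegree z = g.residueDegree z := by
  have h := Groth.Agent.Lib.T2H4.PushPull.finrank_eq_of_bijective_base
    (i.residueFieldMap (g z)).hom (g.residueFieldMap z).hom (residueFieldMap_bijective i (g z))
  have e : ((g ≫ i).residueFieldMap z).hom =
      (g.residueFieldMap z).hom.comp (i.residueFieldMap (g z)).hom := by
    rw [Scheme.residueFieldMap_comp]
    rfl
  unfold Scheme.Hom.residueDegree
  rw [e]
  exact h.symm

end Right

section BC

variable {X X' D : Scheme.{u}} (f : X' ⟶ X) (i : D ⟶ X) [IsClosedImmersion i]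

/-- residue degrees of the base change of `f` along a closed immersion -/
theorem residueDegree_snd (z : ↥(pullback f i)) :
    (pullback.snd f i).residueDegree z = f.residueDegree (pullback.fst f i z) := by
  rw [← residueDegree_comp_right (pullback.snd f i) i z, ← residueDegree_comp (pullback.fst f i) f z]
  congr 1
  exact pullback.condition.symm

open Classical in
/-- the coefficients of the pushforward along the base change of `f` along a closed immersion -/
theorem mapCoeff_snd (δ : X → ℤ) (δ' : X' → ℤ) (z : ↥(pullback f i)) :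
    AlgebraicCycle.mapCoeff (pullback.snd f i) (fun z => δ' (pullback.fst f i z))
        (fun d => δ (i d)) z =
      AlgebraicCycle.mapCoeff f δ' δ (pullback.fst f i z) := by
  unfold AlgebraicCycle.mapCoeff
  rw [residueDegree_snd]
  have h : i (pullback.snd f i z) = f (pullback.fst f i z) := (apply_eq f i z).symm
  change (if δ' (pullback.fst f i z) = δ (i (pullback.snd f i z)) then _ else _) = _
  rw [h]

/-- sums over the fibres of the base change -/
theorem finsum_fibre_snd (F : X' → ℤ) (d : D) :
    ∑ᶠ z ∈ (pullback.snd f i) ⁻¹' {d}, F (pullback.fst f i z) = ∑ᶠ x' ∈ f ⁻¹' {i d}, F x' := by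
  rw [← finsum_mem_image (f := F) (g := fun z => pullback.fst f i z)
    (fun a _ b _ hab => (pullback.fst f i).isEmbedding.injective hab)]
  refine finsum_mem_congr ?_ (fun _ _ => rfl)
  ext x'
  constructor
  · rintro ⟨z, hz, rfl⟩
    have hz' : pullback.snd f i z = d := hz
    change f (pullback.fst f i z) = i d
    rw [apply_eq, hz']
  · intro hx'
    have hx'' : f x' = i d := hx'
    obtain ⟨z, hz1, hz2⟩ := Scheme.Pullback.exists_preimage_pullback x' d hx''
    exact ⟨z, hz2, hz1⟩

/-- the induced dimension functions on the base change along a closed immersion -/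
theorem deltaCompat_snd [LocallyOfFiniteType f] (δ : X → ℤ) (δ' : X' → ℤ)
    (hδ : Cyc.DeltaCompat f δ' δ) :
    Cyc.DeltaCompat (pullback.snd f i) (fun z => δ' (pullback.fst f i z)) (fun d => δ (i d)) := by
  intro z
  refine ⟨ptTrdeg (pullback.snd f i) z, trdeg_eq_ptTrdeg (pullback.snd f i) z, ?_⟩
  have h1 : Cyc.DeltaCompat (pullback.fst f i ≫ f) (fun z => δ' (pullback.fst f i z)) δ :=
    Groth.Agent.Lib.T2H4.GysinFlat.deltaCompat_comp_closedImmersion f (pullback.fst f i) δ δ' hδ
  rw [pullback.condition] at h1
  have h2 := delta_eq_add_ptTrdeg (pullback.snd f i ≫ i) _ δ h1 z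
  have h3 := ptTrdeg_comp (pullback.snd f i) i z
  have h4 : ptTrdeg i (pullback.snd f i z) = 0 := by
    have h5 : Cyc.DeltaCompat (i ≫ 𝟙 X) (fun d => δ (i d)) δ :=
      Groth.Agent.Lib.T2H4.GysinFlat.deltaCompat_comp_closedImmersion (𝟙 X) i δ δ
        (Bivar.deltaCompat_id δ)
    rw [Category.comp_id] at h5
    have h6 := delta_eq_add_ptTrdeg i _ δ h5 (pullback.snd f i z)
    have h7 : δ (i (pullback.snd f i z)) = δ (i (pullback.snd f i z)) +
        (ptTrdeg i (pullback.snd f i z) : ℤ) := h6
    omega
  have h8 : δ' (pullback.fst f i z) = δ (i (pullback.snd f i z)) +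
      (ptTrdeg (pullback.snd f i ≫ i) z : ℤ) := h2
  rw [h3, h4] at h8
  change δ' (pullback.fst f i z) = δ (i (pullback.snd f i z)) + _
  rw [h8]
  simp

end BC

end Groth.Agent.Lib.T3H4.GysinPush
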