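import Mathlib
import Groth.Prelude.Def_Cyc
import Groth.Agent.Lib.T2H4DivFin
import Groth.Agent.Lib.T3H4PushRatA
set_option backward.isDefEq.respectTransparency.types false

/-!
# Proper pushforward preserves rational equivalence (helper4)

Namespace `Groth.Agent.Lib.T3H4.PushRat`.
-/

set_option autoImplicit false
set_option linter.style.haveILetI false
universe u
open CategoryTheory CategoryTheory.Limits AlgebraicGeometry TopologicalSpace

namespace Groth.Agent.Lib.T3H4.PushRat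

section Abstract

/-- exchanging a sum over a set with a sum over a family which is finite along the set -/
theorem finsum_swap {α β : Type*} (s : Set α) (D : β → α → ℤ) (c : α → ℤ) (I₀ : Finset β)
    (hD : ∀ i x, x ∈ s → D i x ≠ 0 → i ∈ I₀)
    (hfin : ∀ i ∈ I₀, {x | x ∈ s ∧ D i x ≠ 0}.Finite) :
    ∑ᶠ x ∈ s, (∑ᶠ i, D i x) * c x = ∑ᶠ i, ∑ᶠ x ∈ s, D i x * c x := by
  classical
  have hK : (⋃ i ∈ (I₀ : Set β), {x | x ∈ s ∧ D i x ≠ 0}).Finite :=
    Set.Finite.biUnion I₀.finite_toSet hfin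
  set K₀ := hK.toFinset with hK₀
  have hK₀s : (K₀ : Set α) ⊆ s := by
    intro x hx
    rw [hK₀, hK.coe_toFinset] at hx
    obtain ⟨i, -, hx, -⟩ := Set.mem_iUnion₂.1 hx
    exact hx
  have hmem : ∀ i x, x ∈ s → D i x ≠ 0 → x ∈ K₀ := by
    intro i x hx hne
    rw [hK₀, Set.Finite.mem_toFinset]
    exact Set.mem_iUnion₂.2 ⟨i, hD i x hx hne, hx, hne⟩
  have h1 : ∀ x ∈ s, ∑ᶠ i, D i x = ∑ i ∈ I₀, D i x := fun x hx =>
    finsum_eq_sum_of_support_subset _ (fun i hi => hD i x hx hi)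
  have hL : ∑ᶠ x ∈ s, (∑ᶠ i, D i x) * c x = ∑ x ∈ K₀, (∑ i ∈ I₀, D i x) * c x := by
    rw [finsum_mem_eq_sum_of_subset _ ?_ hK₀s]
    · exact Finset.sum_congr rfl (fun x hx => by rw [h1 x (hK₀s hx)])
    · rintro x ⟨hx, hsupp⟩
      by_contra hcon
      apply hsupp
      have h0 : ∀ i, D i x = 0 := fun i => by
        by_contra h
        exact hcon (hmem i x hx h)
      simp [h0]
  have h2 : ∀ i, ∑ᶠ x ∈ s, D i x * c x = ∑ x ∈ K₀, D i x * c x := by
    intro i
    refine finsum_mem_eq_sum_of_subset _ ?_ hK₀s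
    rintro x ⟨hx, hsupp⟩
    exact hmem i x hx (left_ne_zero_of_mul hsupp)
  have hR : ∑ᶠ i, ∑ᶠ x ∈ s, D i x * c x = ∑ i ∈ I₀, ∑ x ∈ K₀, D i x * c x := by
    rw [finsum_eq_sum_of_support_subset _ ?_]
    · exact Finset.sum_congr rfl (fun i _ => h2 i)
    · intro i hi
      rw [Function.mem_support, h2 i] at hi
      obtain ⟨x, hx, hne⟩ := Finset.exists_ne_zero_of_sum_ne_zero hi
      exact hD i x (hK₀s hx) (left_ne_zero_of_mul hne)
  rw [hL, hR, Finset.sum_comm]
  exact Finset.sum_congr rfl (fun x _ => Finset.sum_mul ..)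

end Abstract

section Fin

variable {X : Scheme.{u}}

/-- a principal divisor has finite support on a compact set -/
theorem finite_divFun_support_of_isCompact [IsLocallyNoetherian X] (δ : X → ℤ)
    (hδ : Cyc.IsDimFun X δ) (ξ : X) (f : X.residueField ξ) (hf : f ≠ 0) (K : Set X)
    (hK : IsCompact K) : {x | x ∈ K ∧ Cyc.divFun δ ξ f x ≠ 0}.Finite := by
  have hex : ∀ x : X, ∃ V : X.Opens, IsAffineOpen V ∧ x ∈ V := by
    intro x
    have hx : x ∈ (⊤ : X.Opens) := trivial
    obtain ⟨V, hV, hxV, -⟩ := (Opens.isBasis_iff_nbhd.1 X.isBasis_affineOpens) hx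
    exact ⟨V, hV, hxV⟩
  choose V hV hxV using hex
  obtain ⟨t, -, ht⟩ := hK.elim_nhds_subcover (fun x => (V x : Set X))
    (fun x _ => (V x).isOpen.mem_nhds (hxV x))
  have hfin : (⋃ x ∈ (t : Set X), {x' | x' ∈ V x ∧ Cyc.divFun δ ξ f x' ≠ 0}).Finite := by
    refine Set.Finite.biUnion t.finite_toSet fun x _ => ?_
    haveI : IsNoetherianRing Γ(X, V x) := IsLocallyNoetherian.component_noetherian ⟨V x, hV x⟩
    exact Groth.Agent.Lib.T2H4.DivFin.finite_divFun_support δ hδ (hV x) ξ f hf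
  refine hfin.subset ?_
  rintro x ⟨hxK, hne⟩
  obtain ⟨x₀, hx₀, hxV₀⟩ := Set.mem_iUnion₂.1 (ht hxK)
  exact Set.mem_iUnion₂.2 ⟨x₀, hx₀, hxV₀, hne⟩

end Fin

section Main

variable {X Y : Scheme.{u}} (p : X ⟶ Y) [IsProper p] (δX : X → ℤ) (δY : Y → ℤ)
  (hX : Cyc.IsSetup X δX) (hY : Cyc.IsSetup Y δY) (hδ : Cyc.DeltaCompat p δX δY)

open Classical in
theorem map_apply (α : AlgebraicCycle X ℤ) (y : Y) :
    AlgebraicCycle.map p δX δY α y =
      ∑ᶠ x ∈ p ⁻¹' {y}, α x * ((AlgebraicCycle.mapCoeff p δX δY x : ℕ) : ℤ) := rfl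

open Classical in
theorem finite_fibre_support (α : AlgebraicCycle X ℤ) (y : Y) :
    (p ⁻¹' {y} ∩ Function.support
      (fun x => α x * ((AlgebraicCycle.mapCoeff p δX δY x : ℕ) : ℤ))).Finite := by
  refine ((α.locallyFiniteSupport).finite_inter_support_of_isCompact
    (p.isCompact_preimage_singleton y)).subset ?_
  rintro x ⟨hx, hs⟩
  exact ⟨hx, left_ne_zero_of_mul hs⟩

open Classical in
/-- proper pushforward of cycles is additive -/
theorem map_sub (α β : AlgebraicCycle X ℤ) :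
    AlgebraicCycle.map p δX δY (α - β) =
      AlgebraicCycle.map p δX δY α - AlgebraicCycle.map p δX δY β := by
  ext y
  have e : (AlgebraicCycle.map p δX δY α - AlgebraicCycle.map p δX δY β) y =
      AlgebraicCycle.map p δX δY α y - AlgebraicCycle.map p δX δY β y := rfl
  rw [e, eq_sub_iff_add_eq, map_apply, map_apply, map_apply,
    ← finsum_mem_add_distrib' (finite_fibre_support p δX δY (α - β) y)
      (finite_fibre_support p δX δY β y)]
  refine finsum_mem_congr rfl (fun x _ => ?_)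
  have : (α - β) x = α x - β x := rfl
  rw [this]
  ring

include hX hY hδ in
open Classical in
/-- **proper pushforward preserves rational equivalence to zero** -/
theorem ratEquivZero_map (k : ℤ) (γ : AlgebraicCycle X ℤ) (h : Cyc.RatEquivZero δX k γ) :
    Cyc.RatEquivZero δY k (AlgebraicCycle.map p δX δY γ) := by
  obtain ⟨ι, ξ, f, hξ, hf, hlf, hγ⟩ := h
  haveI : IsLocallyNoetherian X := hX.1
  have hLF : LocallyFinite (fun i => closure {ξ i}) := by
    intro x
    obtain ⟨U, hU, hxU, hfin⟩ := hlf x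
    exact ⟨U, hU.mem_nhds hxU, hfin⟩
  refine ⟨{i : ι // δY (p (ξ i)) = k + 1}, fun i => p (ξ i.1),
    fun i => Cyc.normGen p (ξ i.1) (f i.1), fun i => i.2,
    fun i => normGen_ne_zero p _ _ (hf i.1), ?_, ?_⟩
  · intro y
    obtain ⟨V, hV, hyV⟩ : ∃ V : Y.Opens, IsAffineOpen V ∧ y ∈ V := by
      have hy : y ∈ (⊤ : Y.Opens) := trivial
      obtain ⟨V, hV, hyV, -⟩ := (Opens.isBasis_iff_nbhd.1 Y.isBasis_affineOpens) hy
      exact ⟨V, hV, hyV⟩
    have hc : IsCompact ((p ⁻¹ᵁ V : X.Opens) : Set X) := p.isCompact_preimage hV.isCompact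
    have hfin := hLF.finite_nonempty_inter_compact hc
    refine ⟨V, V.isOpen, hyV, (hfin.preimage (Subtype.val_injective.injOn)).subset ?_⟩
    rintro i ⟨z, hz1, hz2⟩
    have hmem : p (ξ i.1) ∈ V :=
      (specializes_iff_mem_closure.2 hz1).mem_open V.isOpen hz2
    exact ⟨ξ i.1, subset_closure rfl, hmem⟩
  · intro y
    rw [map_apply]
    simp_rw [hγ]
    have hKc : IsCompact (p ⁻¹' {y}) := p.isCompact_preimage_singleton y
    have hI := hLF.finite_nonempty_inter_compact hKc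
    rw [finsum_swap (p ⁻¹' {y}) (fun i x => Cyc.divFun δX (ξ i) (f i) x)
      (fun x => ((AlgebraicCycle.mapCoeff p δX δY x : ℕ) : ℤ)) hI.toFinset ?_ ?_]
    · have h1 : ∀ i, ∑ᶠ x ∈ p ⁻¹' {y}, Cyc.divFun δX (ξ i) (f i) x *
          ((AlgebraicCycle.mapCoeff p δX δY x : ℕ) : ℤ) =
          Set.indicator {i | δY (p (ξ i)) = k + 1}
            (fun i => Cyc.divFun δY (p (ξ i)) (Cyc.normGen p (ξ i) (f i)) y) i := by
        intro i
        rw [fibre_sum_point p δX δY hX hY hδ (ξ i) (f i) (hf i) y, hξ i]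
        by_cases hi : δY (p (ξ i)) = k + 1
        · rw [if_pos hi.symm, Set.indicator_of_mem (by exact hi)]
        · rw [if_neg (fun h => hi h.symm), Set.indicator_of_notMem (by exact hi)]
      simp_rw [h1]
      rw [← finsum_mem_def]
      exact (finsum_set_coe_eq_finsum_mem (f := fun i =>
        Cyc.divFun δY (p (ξ i)) (Cyc.normGen p (ξ i) (f i)) y) {i | δY (p (ξ i)) = k + 1}).symm
    · intro i x hx hne
      rw [Set.Finite.mem_toFinset]
      refine ⟨x, ?_, hx⟩
      have hsp : ξ i ⤳ x := by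
        by_contra hcon
        apply hne
        unfold Cyc.divFun
        rw [dif_neg (fun h => hcon h.1)]
      exact specializes_iff_mem_closure.1 hsp
    · intro i _
      exact finite_divFun_support_of_isCompact δX hX.2.2 (ξ i) (f i) (hf i) _ hKc

end Main

end Groth.Agent.Lib.T3H4.PushRat
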