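import Mathlib
import Groth.Prelude.Def_C1
import Groth.Prelude.Def_Cyc
import Groth.Prelude.Def_Bivar
import Groth.Agent.Lib.T2H4C1CapRat
import Groth.Agent.Lib.T2H4ZeroSecCap
import Groth.Agent.Lib.T2H4ClosedImmCyc
import Groth.Agent.Lib.T3H4PushRatB
set_option backward.isDefEq.respectTransparency.types false

/-!
# Divisors of rational sections of invertible modules: finiteness, change of sections (helper4)

Namespace `Groth.Agent.Lib.T3H4.PushC1`.
-/

set_option autoImplicit false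
set_option linter.style.haveILetI false
universe u
open CategoryTheory CategoryTheory.Limits AlgebraicGeometry TopologicalSpace

namespace Groth.Agent.Lib.T3H4.PushC1

open Groth.Agent.Lib.T2H4.SecOrdGen Groth.Agent.Lib.T2H4.C1CapRat Groth.Agent.Lib.T3H4.PushRat

section General

variable {X : Scheme.{u}} (M : X.Modules) (hM : PicF.IsInvertible M) (δ : X → ℤ)

include hM in
/-- locally, the divisor of a rational section is a principal divisor -/
theorem exists_nbhd_secDivFun_eq_divFun (ξ : X) (s : Cyc.secFibre M ξ) (hs : s ≠ 0) (x₀ : X) :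
    ∃ V : X.Opens, x₀ ∈ V ∧ ∃ f : X.residueField ξ, f ≠ 0 ∧
      ∀ x ∈ V, Cyc.secDivFun δ M ξ s x = Cyc.divFun δ ξ f x := by
  obtain ⟨W, t, hxW, ht⟩ := Groth.Agent.Lib.Helper20.InvGen.exists_local_generator M hM x₀
  refine ⟨W, hxW, ?_⟩
  by_cases hξ : ξ ∈ W
  · have hb := ht ξ hξ
    obtain ⟨φ, rfl⟩ := exists_eq_mk_smul M _ hb s
    have hφ : X.residue ξ φ ≠ 0 := fun h0 => hs ((mk_smul_eq_zero_iff M _ hb φ).2 h0)
    refine ⟨X.residue ξ φ, hφ, fun x hx => ?_⟩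
    unfold Cyc.secDivFun Cyc.divFun
    split_ifs with h
    · have hsp : sp M h.1 (M.presheaf.germ W x hx t) = M.presheaf.germ W ξ hξ t :=
        TopCat.Presheaf.germ_stalkSpecializes_apply M.presheaf hx h.1 t
      rw [← hsp]
      refine secOrdAt_eq M h.1 _ (ht x hx) ?_ φ
      rw [hsp]
      exact hb
    · rfl
  · refine ⟨1, one_ne_zero, fun x hx => ?_⟩
    have hns : ¬ ξ ⤳ x := fun h => hξ (h.mem_open W.isOpen hx)
    unfold Cyc.secDivFun Cyc.divFun
    rw [dif_neg (fun h => hns h.1), dif_neg (fun h => hns h.1)]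

include hM in
/-- the divisor of a rational section has finite support on a compact set -/
theorem finite_secDivFun_support_of_isCompact [IsLocallyNoetherian X] (hδ : Cyc.IsDimFun X δ)
    (ξ : X) (s : Cyc.secFibre M ξ) (hs : s ≠ 0) (K : Set X) (hK : IsCompact K) :
    {x | x ∈ K ∧ Cyc.secDivFun δ M ξ s x ≠ 0}.Finite := by
  choose V hxV f hf hVf using exists_nbhd_secDivFun_eq_divFun M hM δ ξ s hs
  obtain ⟨t, -, ht⟩ := hK.elim_nhds_subcover (fun x => (V x : Set X))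
    (fun x _ => (V x).isOpen.mem_nhds (hxV x))
  have hfin : (⋃ x ∈ (t : Set X), {x' | x' ∈ K ∧ Cyc.divFun δ ξ (f x) x' ≠ 0}).Finite :=
    Set.Finite.biUnion t.finite_toSet fun x _ =>
      finite_divFun_support_of_isCompact δ hδ ξ (f x) (hf x) K hK
  refine hfin.subset ?_
  rintro x ⟨hxK, hne⟩
  obtain ⟨x₀, hx₀, hxV₀⟩ := Set.mem_iUnion₂.1 (ht hxK)
  refine Set.mem_iUnion₂.2 ⟨x₀, hx₀, hxK, ?_⟩
  rw [← hVf x₀ x hxV₀]
  exact hne

omit hM in
theorem finite_support_divFun (α : AlgebraicCycle X ℤ) (r : (ξ : X) → X.residueField ξ) (x : X) :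
    (Function.support fun ξ => α ξ * Cyc.divFun δ ξ (r ξ) x).Finite := by
  refine (Bivar.finite_support_specializes α x).subset ?_
  intro ξ hξ
  rw [Function.mem_support] at hξ
  refine ⟨?_, left_ne_zero_of_mul hξ⟩
  have h2 := right_ne_zero_of_mul hξ
  by_contra hc
  apply h2
  simp [Cyc.divFun, hc]

include hM in
/-- **change of rational sections**: the cycle `c_1(M) ∩ α` computed with other sections exists and
is rationally equivalent to the given one -/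
theorem exists_c1Cap_cycle [IsLocallyNoetherian X] (hδ : Cyc.IsDimFun X δ) (k : ℤ)
    (α : AlgebraicCycle X ℤ) (hα : α ∈ Cyc.Zk X δ (k + 1))
    (u u₀ : (ξ : X) → Cyc.secFibre M ξ) (hu : ∀ ξ, u ξ ≠ 0) (hu₀ : ∀ ξ, u₀ ξ ≠ 0)
    (γ : AlgebraicCycle X ℤ) (hγ : ⇑γ = Cyc.c1CapFun δ M ⇑α u) :
    ∃ γ₀ : AlgebraicCycle X ℤ, ⇑γ₀ = Cyc.c1CapFun δ M ⇑α u₀ ∧ Cyc.RatEquiv δ k γ γ₀ := by
  choose r hr0 hr using fun ξ => exists_secDivFun_sub M hM δ ξ (u ξ) (u₀ ξ) (hu ξ) (hu₀ ξ)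
  have hloc : ∀ x : X, ∃ U : Set X, IsOpen U ∧ x ∈ U ∧
      {i : {ξ : X // α ξ ≠ 0} | (closure {i.1} ∩ U).Nonempty}.Finite := by
    intro x
    obtain ⟨t, ht, hfin⟩ := α.supportLocallyFiniteWithinDomain' x (Set.mem_univ x)
    obtain ⟨U, hUt, hUo, hxU⟩ := mem_nhds_iff.1 ht
    refine ⟨U, hUo, hxU, ?_⟩
    refine (Set.Finite.preimage (Subtype.val_injective.injOn) hfin).subset ?_
    rintro i ⟨w, hw, hwU⟩
    have hsp : i.1 ⤳ w := specializes_iff_mem_closure.2 hw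
    exact ⟨hUt (hsp.mem_open hUo hwU), i.2⟩
  obtain ⟨ρ, hρ⟩ := Groth.Agent.Lib.T2H4.ClosedImmCyc.exists_cycle_of_family δ hδ
    (fun i : {ξ : X // α ξ ≠ 0} => i.1) (fun i => r i.1 ^ α i.1)
    (fun i => zpow_ne_zero _ (hr0 i.1)) hloc
  have hρ' : ∀ x, ρ x = ∑ᶠ ξ, α ξ * Cyc.divFun δ ξ (r ξ) x := by
    intro x
    rw [hρ x]
    have h1 : ∀ i : {ξ : X // α ξ ≠ 0}, Cyc.divFun δ i.1 ((r i.1) ^ (α i.1)) x =
        (fun ξ => α ξ * Cyc.divFun δ ξ (r ξ) x) i.1 := by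
      intro i
      rw [divFun_zpow δ i.1 (r i.1) (hr0 i.1)]
    rw [finsum_congr h1, finsum_subtype_eq_finsum_cond
      (f := fun ξ => α ξ * Cyc.divFun δ ξ (r ξ) x) (fun ξ => α ξ ≠ 0)]
    refine finsum_congr fun ξ => ?_
    by_cases h : α ξ ≠ 0
    · rw [finsum_eq_if, if_pos h]
    · rw [finsum_eq_if, if_neg h]
      push Not at h
      rw [h, zero_mul]
  have hγ₀ : ⇑(γ - ρ) = Cyc.c1CapFun δ M ⇑α u₀ := by
    funext x
    have e : (γ - ρ) x = γ x - ρ x := rfl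
    rw [e, hγ, hρ']
    unfold Cyc.c1CapFun
    rw [← finsum_sub_distrib (finite_support δ M α u x) (finite_support_divFun δ α r x)]
    refine finsum_congr fun ξ => ?_
    rw [← mul_sub, ← hr ξ x]
    ring
  exact ⟨γ - ρ, hγ₀, ratEquiv_of_sections δ M hM k α hα u u₀ hu hu₀ γ (γ - ρ) hγ hγ₀⟩

end General

end Groth.Agent.Lib.T3H4.PushC1
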