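import Mathlib
import Groth.Prelude.Def_C1
import Groth.Prelude.Def_Cyc
import Groth.Prelude.Def_Bivar
import Groth.Agent.Lib.T2H4GysinSelf
import Groth.Agent.Lib.T2H4PushPullB
import Groth.Agent.Lib.Helper23PB
import Groth.Agent.Lib.T3H4PushC1A
set_option backward.isDefEq.respectTransparency.types false

/-!
# Proper pushforward and `c_1(L) ∩ -`: the projection formula (helper4)

Namespace `Groth.Agent.Lib.T3H4.PushC1`.
-/

set_option autoImplicit false
set_option linter.style.haveILetI false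
universe u
open CategoryTheory CategoryTheory.Limits AlgebraicGeometry TopologicalSpace

namespace Groth.Agent.Lib.T3H4.PushC1

open Groth.Agent.Lib.T2H4.SecOrdGen Groth.Agent.Lib.T2H4.C1CapRat Groth.Agent.Lib.T3H4.PushRat
  Groth.Agent.Lib.T2H4.PullStalk Groth.Agent.Lib.T2H4.GysinSelf

section Sec

variable {X Y : Scheme.{u}} (p : X ⟶ Y) (L : Y.Modules) (hL : PicF.IsInvertible L)

include hL in
/-- the order of a pulled back rational section -/
theorem secOrdAt_pullStalk_eq {ξ x : X} (h : ξ ⤳ x) (a : L.presheaf.stalk (p x))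
    (ha : Function.Bijective (fun c : Y.presheaf.stalk (p x) => c • a))
    (haξ : Function.Bijective
      (fun c : Y.presheaf.stalk (p ξ) => c • sp L (h.map p.continuous) a))
    (φ : Y.presheaf.stalk (p ξ)) :
    Cyc.secOrdAt ((Scheme.Modules.pullback p).obj L) ξ x h
        (Submodule.Quotient.mk ((pullStalk p L ξ).hom (φ • sp L (h.map p.continuous) a))) =
      Cyc.ordAt x ξ h ((p.residueFieldMap ξ).hom (Y.residue (p ξ) φ)) := by
  rw [pullStalk_smul, pullStalk_sp p L h]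
  have ha' := bijective_smul_pullStalk p L hL x a ha
  have haξ' := bijective_smul_pullStalk p L hL ξ _ haξ
  rw [pullStalk_sp p L h] at haξ'
  rw [secOrdAt_eq _ h _ ha' haξ', residue_stalkMap]

include hL in
/-- on the fibre over `y`, the divisor of a pulled back rational section is the principal divisor of
the pulled back ratio with respect to a generator at `y` -/
theorem secDivFun_pullStalk_eq (δX : X → ℤ) (ξ : X) (l : L.presheaf.stalk (p ξ)) (y : Y)
    (hsp : p ξ ⤳ y) (a : L.presheaf.stalk y)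
    (ha : Function.Bijective (fun c : Y.presheaf.stalk y => c • a))
    (haξ : Function.Bijective (fun c : Y.presheaf.stalk (p ξ) => c • sp L hsp a))
    (φ : Y.presheaf.stalk (p ξ)) (hφ : φ • sp L hsp a = l) (x : X) (hx : p x = y) :
    Cyc.secDivFun δX ((Scheme.Modules.pullback p).obj L) ξ
        (Submodule.Quotient.mk ((pullStalk p L ξ).hom l)) x =
      Cyc.divFun δX ξ ((p.residueFieldMap ξ).hom (Y.residue (p ξ) φ)) x := by
  subst hx
  unfold Cyc.secDivFun Cyc.divFun
  split_ifs with h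
  · rw [← hφ]
    exact secOrdAt_pullStalk_eq p L hL h.1 a ha haξ φ
  · rfl

/-- the norm of an element of the base field -/
theorem normGen_residueFieldMap (ξ : X) (g : Y.residueField (p ξ)) :
    Cyc.normGen p ξ ((p.residueFieldMap ξ).hom g) = g ^ (p.residueDegree ξ) := by
  unfold Cyc.normGen Scheme.Hom.residueDegree
  letI := (p.residueFieldMap ξ).hom.toAlgebra
  exact Algebra.norm_algebraMap g

end Sec

section Fibre

variable {X Y : Scheme.{u}} (p : X ⟶ Y) [IsProper p] (δX : X → ℤ) (δY : Y → ℤ)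
  (hX : Cyc.IsSetup X δX) (hY : Cyc.IsSetup Y δY) (hδ : Cyc.DeltaCompat p δX δY)
  (L : Y.Modules) (hL : PicF.IsInvertible L)

include hX hY hδ hL in
open Classical in
/-- **pushforward of the divisor of a pulled back rational section** -/
theorem fibre_sum_secDivFun (ξ : X) (l : L.presheaf.stalk (p ξ))
    (hl : (Submodule.Quotient.mk l : Cyc.secFibre L (p ξ)) ≠ 0) (y : Y) :
    ∑ᶠ x ∈ p ⁻¹' {y}, Cyc.secDivFun δX ((Scheme.Modules.pullback p).obj L) ξ
        (Submodule.Quotient.mk ((pullStalk p L ξ).hom l)) x *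
          ((AlgebraicCycle.mapCoeff p δX δY x : ℕ) : ℤ) =
      ((AlgebraicCycle.mapCoeff p δX δY ξ : ℕ) : ℤ) *
        Cyc.secDivFun δY L (p ξ) (Submodule.Quotient.mk l) y := by
  by_cases hsp : p ξ ⤳ y
  swap
  · have hR : Cyc.secDivFun δY L (p ξ) (Submodule.Quotient.mk l) y = 0 := by
      unfold Cyc.secDivFun
      rw [dif_neg (fun h => hsp h.1)]
    rw [hR, mul_zero]
    refine finsum_mem_eq_zero_of_forall_eq_zero fun x hx => ?_
    have hx' : p x = y := hx
    have : Cyc.secDivFun δX ((Scheme.Modules.pullback p).obj L) ξ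
        (Submodule.Quotient.mk ((pullStalk p L ξ).hom l)) x = 0 := by
      unfold Cyc.secDivFun
      rw [dif_neg]
      rintro ⟨h, -⟩
      apply hsp
      rw [← hx']
      exact h.map p.continuous
    rw [this, zero_mul]
  obtain ⟨a, ha, haξ⟩ := Groth.Agent.Lib.T2H4.ZeroSecCap.exists_gen_forall L hL y
  obtain ⟨φ, hφ⟩ := (haξ (p ξ) hsp).2 l
  have hφ' : φ • sp L hsp a = l := hφ
  have hg₀ : Y.residue (p ξ) φ ≠ 0 := by
    intro h0
    apply hl
    rw [← hφ']
    exact (mk_smul_eq_zero_iff L _ (haξ (p ξ) hsp) φ).2 h0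
  have hg : (p.residueFieldMap ξ).hom (Y.residue (p ξ) φ) ≠ 0 := (map_ne_zero _).2 hg₀
  have h1 : ∀ x ∈ p ⁻¹' {y}, Cyc.secDivFun δX ((Scheme.Modules.pullback p).obj L) ξ
        (Submodule.Quotient.mk ((pullStalk p L ξ).hom l)) x *
          ((AlgebraicCycle.mapCoeff p δX δY x : ℕ) : ℤ) =
      Cyc.divFun δX ξ ((p.residueFieldMap ξ).hom (Y.residue (p ξ) φ)) x *
          ((AlgebraicCycle.mapCoeff p δX δY x : ℕ) : ℤ) := by
    intro x hx
    rw [secDivFun_pullStalk_eq p L hL δX ξ l y hsp a ha (haξ (p ξ) hsp) φ hφ' x hx]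
  rw [finsum_mem_congr rfl h1, fibre_sum_point p δX δY hX hY hδ ξ _ hg y]
  have hT : Cyc.secDivFun δY L (p ξ) (Submodule.Quotient.mk l) y =
      Cyc.divFun δY (p ξ) (Y.residue (p ξ) φ) y := by
    unfold Cyc.secDivFun Cyc.divFun
    split_ifs with h
    · rw [← hφ']
      exact secOrdAt_eq L h.1 a ha (haξ (p ξ) h.1) φ
    · rfl
  rw [hT]
  unfold AlgebraicCycle.mapCoeff
  by_cases hn : δX ξ = δY (p ξ)
  · rw [if_pos hn, if_pos hn, normGen_residueFieldMap, ← zpow_natCast,
      divFun_zpow δY (p ξ) _ hg₀]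
  · rw [if_neg hn, if_neg hn]
    simp

end Fibre

section Main

variable {X Y : Scheme.{u}} (p : X ⟶ Y) [IsProper p] (δX : X → ℤ) (δY : Y → ℤ)
  (hX : Cyc.IsSetup X δX) (hY : Cyc.IsSetup Y δY) (hδ : Cyc.DeltaCompat p δX δY)
  (L : Y.Modules) (hL : PicF.IsInvertible L)

omit [IsProper p] in
/-- the points of the support of a cycle whose closure meets a compact set -/
theorem finite_support_meets_compact (α : AlgebraicCycle X ℤ) (K : Set X) (hK : IsCompact K) :
    {ξ : X | α ξ ≠ 0 ∧ (closure {ξ} ∩ K).Nonempty}.Finite := by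
  have hLF : LocallyFinite (fun i : {ξ : X // α ξ ≠ 0} => closure {i.1}) := by
    intro x
    obtain ⟨t, ht, hfin⟩ := α.supportLocallyFiniteWithinDomain' x (Set.mem_univ x)
    obtain ⟨U, hUt, hUo, hxU⟩ := mem_nhds_iff.1 ht
    refine ⟨U, hUo.mem_nhds hxU, ?_⟩
    refine (Set.Finite.preimage (Subtype.val_injective.injOn) hfin).subset ?_
    rintro i ⟨w, hw, hwU⟩
    have hsp : i.1 ⤳ w := specializes_iff_mem_closure.2 hw
    exact ⟨hUt (hsp.mem_open hUo hwU), i.2⟩
  refine ((hLF.finite_nonempty_inter_compact hK).image Subtype.val).subset ?_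
  rintro ξ ⟨h1, h2⟩
  exact ⟨⟨ξ, h1⟩, h2, rfl⟩

include hX hY hδ hL in
open Classical in
/-- **the projection formula on the level of cycles**, for the pulled back rational sections -/
theorem map_c1Cap_pull (α : AlgebraicCycle X ℤ) (l : (η : Y) → L.presheaf.stalk η)
    (hl : ∀ η, (Submodule.Quotient.mk (l η) : Cyc.secFibre L η) ≠ 0)
    (γ₀ : AlgebraicCycle X ℤ)
    (hγ₀ : ⇑γ₀ = Cyc.c1CapFun δX ((Scheme.Modules.pullback p).obj L) ⇑α
      (fun ξ => Submodule.Quotient.mk ((pullStalk p L ξ).hom (l (p ξ))))) (y : Y) :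
    AlgebraicCycle.map p δX δY γ₀ y =
      Cyc.c1CapFun δY L ⇑(AlgebraicCycle.map p δX δY α)
        (fun η => Submodule.Quotient.mk (l η)) y := by
  haveI : IsLocallyNoetherian X := hX.1
  have hM : PicF.IsInvertible ((Scheme.Modules.pullback p).obj L) :=
    Groth.Agent.Lib.Helper23.PB.isInvertible_pullback p L hL
  have hKc : IsCompact (p ⁻¹' {y}) := p.isCompact_preimage_singleton y
  have hI := finite_support_meets_compact α _ hKc
  have hne : ∀ ξ : X, (Submodule.Quotient.mk ((pullStalk p L ξ).hom (l (p ξ))) :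
      Cyc.secFibre ((Scheme.Modules.pullback p).obj L) ξ) ≠ 0 :=
    fun ξ => mk_pullStalk_ne_zero p L hL ξ (l (p ξ)) (hl (p ξ))
  have hD : ∀ (ξ x : X), x ∈ p ⁻¹' {y} →
      α ξ * Cyc.secDivFun δX ((Scheme.Modules.pullback p).obj L) ξ
        (Submodule.Quotient.mk ((pullStalk p L ξ).hom (l (p ξ)))) x ≠ 0 → ξ ∈ hI.toFinset := by
    intro ξ x hx hne0
    rw [Set.Finite.mem_toFinset]
    refine ⟨left_ne_zero_of_mul hne0, x, ?_, hx⟩
    have h2 := right_ne_zero_of_mul hne0
    have hsp : ξ ⤳ x := by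
      by_contra hcon
      apply h2
      unfold Cyc.secDivFun
      rw [dif_neg (fun h => hcon h.1)]
    exact specializes_iff_mem_closure.1 hsp
  rw [map_apply]
  have e1 : ∀ x, γ₀ x = ∑ᶠ ξ, α ξ * Cyc.secDivFun δX ((Scheme.Modules.pullback p).obj L) ξ
        (Submodule.Quotient.mk ((pullStalk p L ξ).hom (l (p ξ)))) x := fun x => by
    rw [hγ₀]
    rfl
  simp_rw [e1]
  rw [finsum_swap (p ⁻¹' {y}) (fun ξ x => α ξ *
    Cyc.secDivFun δX ((Scheme.Modules.pullback p).obj L) ξ
      (Submodule.Quotient.mk ((pullStalk p L ξ).hom (l (p ξ)))) x)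
    (fun x => ((AlgebraicCycle.mapCoeff p δX δY x : ℕ) : ℤ)) hI.toFinset hD ?_]
  swap
  · intro ξ _
    refine (finite_secDivFun_support_of_isCompact _ hM δX hX.2.2 ξ _ (hne ξ) _ hKc).subset ?_
    rintro x ⟨hx, hne0⟩
    exact ⟨hx, right_ne_zero_of_mul hne0⟩
  have hrow : ∀ ξ, ∑ᶠ x ∈ p ⁻¹' {y}, α ξ *
      Cyc.secDivFun δX ((Scheme.Modules.pullback p).obj L) ξ
        (Submodule.Quotient.mk ((pullStalk p L ξ).hom (l (p ξ)))) x *
        ((AlgebraicCycle.mapCoeff p δX δY x : ℕ) : ℤ) =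
      α ξ * (((AlgebraicCycle.mapCoeff p δX δY ξ : ℕ) : ℤ) *
        Cyc.secDivFun δY L (p ξ) (Submodule.Quotient.mk (l (p ξ))) y) := by
    intro ξ
    simp_rw [mul_assoc]
    rw [← mul_finsum_mem, fibre_sum_secDivFun p δX δY hX hY hδ L hL ξ (l (p ξ)) (hl (p ξ)) y]
  have hfinF : (Set.univ ∩ Function.support (fun ξ => α ξ *
      (((AlgebraicCycle.mapCoeff p δX δY ξ : ℕ) : ℤ) *
        Cyc.secDivFun δY L (p ξ) (Submodule.Quotient.mk (l (p ξ))) y))).Finite := by
    refine hI.subset ?_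
    rintro ξ ⟨-, hξ⟩
    rw [Function.mem_support, ← hrow ξ] at hξ
    obtain ⟨x, hx, hne0⟩ := exists_ne_zero_of_finsum_mem_ne_zero hξ
    have := hD ξ x hx (left_ne_zero_of_mul hne0)
    rwa [Set.Finite.mem_toFinset] at this
  simp_rw [hrow]
  unfold Cyc.c1CapFun
  have hcol : ∀ η, (AlgebraicCycle.map p δX δY α) η *
      Cyc.secDivFun δY L η (Submodule.Quotient.mk (l η)) y =
      ∑ᶠ ξ ∈ {ξ | p ξ = η ∧ ξ ∈ Set.univ}, α ξ *
        (((AlgebraicCycle.mapCoeff p δX δY ξ : ℕ) : ℤ) *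
          Cyc.secDivFun δY L (p ξ) (Submodule.Quotient.mk (l (p ξ))) y) := by
    intro η
    rw [map_apply, finsum_mem_mul]
    refine finsum_mem_congr ?_ ?_
    · ext ξ
      simp
    · rintro ξ ⟨hξ, -⟩
      subst hξ
      ring
  simp_rw [hcol]
  have := Groth.Agent.Lib.T2H4.PushPull.finsum_mem_fiberwise (fun ξ : X => p ξ) Set.univ Set.univ
    (Set.mapsTo_univ _ _) _ hfinF
  rw [finsum_mem_univ, finsum_mem_univ] at this
  exact this.symm

end Main

end Groth.Agent.Lib.T3H4.PushC1
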