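import Mathlib
import Groth.Prelude.Def_C1
import Groth.Prelude.Def_Cyc
import Groth.Prelude.Def_Bivar
import Groth.Agent.Lib.T3H4PushC1B
import Groth.Agent.Lib.T3H4GysinPushA
import Groth.Agent.Lib.T2H4GysinPullB
import Groth.Agent.Lib.T2H4MV
set_option backward.isDefEq.respectTransparency.types false

/-!
# Gysin maps commute with proper pushforward (helper4)

Namespace `Groth.Agent.Lib.T3H4.GysinPush`.
-/

set_option autoImplicit false
set_option linter.style.haveILetI false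
universe u
open CategoryTheory CategoryTheory.Limits AlgebraicGeometry TopologicalSpace

namespace Groth.Agent.Lib.T3H4.GysinPush

open Groth.Agent.Lib.T2H4.SecOrdGen Groth.Agent.Lib.T2H4.C1CapRat Groth.Agent.Lib.T3H4.PushRat
  Groth.Agent.Lib.T2H4.PullStalk Groth.Agent.Lib.T2H4.GysinSelf Groth.Agent.Lib.T3H4.PushC1
  Groth.Agent.Lib.T2H4.BCClosedImm

section Fun

variable {X Y : Scheme.{u}} (p : X ⟶ Y) [IsProper p] (δX : X → ℤ) (δY : Y → ℤ)
  (hX : Cyc.IsSetup X δX) (hY : Cyc.IsSetup Y δY) (hδ : Cyc.DeltaCompat p δX δY)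
  (L : Y.Modules) (hL : PicF.IsInvertible L)

include hX hY hδ hL in
open Classical in
/-- **the projection formula on the level of coefficient functions**, for the pulled back rational
sections -/
theorem fibre_sum_c1Cap_pull (α : AlgebraicCycle X ℤ) (l : (η : Y) → L.presheaf.stalk η)
    (hl : ∀ η, (Submodule.Quotient.mk (l η) : Cyc.secFibre L η) ≠ 0) (y : Y) :
    ∑ᶠ x ∈ p ⁻¹' {y}, Cyc.c1CapFun δX ((Scheme.Modules.pullback p).obj L) ⇑α
        (fun ξ => Submodule.Quotient.mk ((pullStalk p L ξ).hom (l (p ξ)))) x *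
          ((AlgebraicCycle.mapCoeff p δX δY x : ℕ) : ℤ) =
      Cyc.c1CapFun δY L ⇑(AlgebraicCycle.map p δX δY α)
        (fun η => Submodule.Quotient.mk (l η)) y := by
  haveI : IsLocallyNoetherian X := hX.1
  have hM : PicF.IsInvertible ((Scheme.Modules.pullback p).obj L) :=
    Groth.Agent.Lib.Helper23.PB.isInvertible_pullback p L hL
  have hKc : IsCompact (p ⁻¹' {y}) := p.isCompact_preimage_singleton y
  have hI := finite_support_meets_compact α _ hKc
  have hne : ∀ ξ : X, (Submodule.Quotient.mk ((pullStalk p L ξ).hom (l (p ξ))) :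
      Cyc.secFibre ((Scheme.Modules.pullback p).obj L) ξ) ≠ 0 :=
    fun ξ => mk_pullStalk_ne_zero p L hL ξ (l (p ξ)) (hl (p ξ))
  have hD : ∀ (ξ x : X), x ∈ p ⁻¹' {y} →
      α ξ * Cyc.secDivFun δX ((Scheme.Modules.pullback p).obj L) ξ
        (Submodule.Quotient.mk ((pullStalk p L ξ).hom (l (p ξ)))) x ≠ 0 → ξ ∈ hI.toFinset := by
    intro ξ x hx hne0
    rw [Set.Finite.mem_toFinset]
    refine ⟨left_ne_zero_of_mul hne0, x, ?_, hx⟩
    have h2 := right_ne_zero_of_mul hne0
    have hsp : ξ ⤳ x := by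
      by_contra hcon
      apply h2
      unfold Cyc.secDivFun
      rw [dif_neg (fun h => hcon h.1)]
    exact specializes_iff_mem_closure.1 hsp
  have e1 : ∀ x, Cyc.c1CapFun δX ((Scheme.Modules.pullback p).obj L) ⇑α
        (fun ξ => Submodule.Quotient.mk ((pullStalk p L ξ).hom (l (p ξ)))) x =
      ∑ᶠ ξ, α ξ * Cyc.secDivFun δX ((Scheme.Modules.pullback p).obj L) ξ
        (Submodule.Quotient.mk ((pullStalk p L ξ).hom (l (p ξ)))) x := fun x => rfl
  simp_rw [e1]
  rw [finsum_swap (p ⁻¹' {y}) (fun ξ x => α ξ *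
    Cyc.secDivFun δX ((Scheme.Modules.pullback p).obj L) ξ
      (Submodule.Quotient.mk ((pullStalk p L ξ).hom (l (p ξ)))) x)
    (fun x => ((AlgebraicCycle.mapCoeff p δX δY x : ℕ) : ℤ)) hI.toFinset hD ?_]
  swap
  · intro ξ _
    refine (finite_secDivFun_support_of_isCompact _ hM δX hX.2.2 ξ _ (hne ξ) _ hKc).subset ?_
    rintro x ⟨hx, hne0⟩
    exact ⟨hx, right_ne_zero_of_mul hne0⟩
  have hrow : ∀ ξ, ∑ᶠ x ∈ p ⁻¹' {y}, α ξ *
      Cyc.secDivFun δX ((Scheme.Modules.pullback p).obj L) ξ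
        (Submodule.Quotient.mk ((pullStalk p L ξ).hom (l (p ξ)))) x *
        ((AlgebraicCycle.mapCoeff p δX δY x : ℕ) : ℤ) =
      α ξ * (((AlgebraicCycle.mapCoeff p δX δY ξ : ℕ) : ℤ) *
        Cyc.secDivFun δY L (p ξ) (Submodule.Quotient.mk (l (p ξ))) y) := by
    intro ξ
    simp_rw [mul_assoc]
    rw [← mul_finsum_mem, fibre_sum_secDivFun p δX δY hX hY hδ L hL ξ (l (p ξ)) (hl (p ξ)) y]
  have hfinF : (Set.univ ∩ Function.support (fun ξ => α ξ *
      (((AlgebraicCycle.mapCoeff p δX δY ξ : ℕ) : ℤ) *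
        Cyc.secDivFun δY L (p ξ) (Submodule.Quotient.mk (l (p ξ))) y))).Finite := by
    refine hI.subset ?_
    rintro ξ ⟨-, hξ⟩
    rw [Function.mem_support, ← hrow ξ] at hξ
    obtain ⟨x, hx, hne0⟩ := exists_ne_zero_of_finsum_mem_ne_zero hξ
    have := hD ξ x hx (left_ne_zero_of_mul hne0)
    rwa [Set.Finite.mem_toFinset] at this
  simp_rw [hrow]
  unfold Cyc.c1CapFun
  have hcol : ∀ η, (AlgebraicCycle.map p δX δY α) η *
      Cyc.secDivFun δY L η (Submodule.Quotient.mk (l η)) y =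
      ∑ᶠ ξ ∈ {ξ | p ξ = η ∧ ξ ∈ Set.univ}, α ξ *
        (((AlgebraicCycle.mapCoeff p δX δY ξ : ℕ) : ℤ) *
          Cyc.secDivFun δY L (p ξ) (Submodule.Quotient.mk (l (p ξ))) y) := by
    intro η
    rw [map_apply, finsum_mem_mul]
    refine finsum_mem_congr ?_ ?_
    · ext ξ
      simp
    · rintro ξ ⟨hξ, -⟩
      subst hξ
      ring
  simp_rw [hcol]
  have := Groth.Agent.Lib.T2H4.PushPull.finsum_mem_fiberwise (fun ξ : X => p ξ) Set.univ Set.univ
    (Set.mapsTo_univ _ _) _ hfinF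
  rw [finsum_mem_univ, finsum_mem_univ] at this
  exact this.symm


end Fun

section Main

variable {X X' D : Scheme.{u}} (f : X' ⟶ X) [IsProper f] (i : D ⟶ X) [IsClosedImmersion i]
  (δ : X → ℤ) (δ' : X' → ℤ) (hX : Cyc.IsSetup X δ) (hX' : Cyc.IsSetup X' δ')
  (hδ : Cyc.DeltaCompat f δ' δ) (L : X.Modules) (hL : PicF.IsInvertible L)
  (s : L.presheaf.obj (Opposite.op ⊤)) (hD : Cyc.IsZeroSchemeOf i L s)
  (s' : ((Scheme.Modules.pullback f).obj L).presheaf.obj (Opposite.op ⊤))
  (hD' : Cyc.IsZeroSchemeOf (pullback.fst f i) ((Scheme.Modules.pullback f).obj L) s')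

omit [IsProper f] [IsClosedImmersion i] in
theorem gysinChoice_ne_zero {Z : Scheme.{u}} (N : Z.Modules) (t : N.presheaf.obj (Opposite.op ⊤))
    (w : (ξ : Z) → Cyc.secFibre N ξ) (hw : ∀ ξ, w ξ ≠ 0) (ξ : Z) : Cyc.gysinChoice N t w ξ ≠ 0 := by
  unfold Cyc.gysinChoice
  split_ifs with h
  · exact h
  · exact hw ξ

include hX hX' hδ hL hD hD' in
open Classical in
/-- **Gysin maps commute with proper pushforward** -/
theorem main (k : ℤ) (α' : AlgebraicCycle X' ℤ) (hα' : α' ∈ Cyc.Zk X' δ' (k + 1))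
    (w : (ξ : X) → Cyc.secFibre L ξ) (hw : ∀ ξ, w ξ ≠ 0)
    (w' : (ξ : X') → Cyc.secFibre ((Scheme.Modules.pullback f).obj L) ξ) (hw' : ∀ ξ, w' ξ ≠ 0)
    (γ : AlgebraicCycle D ℤ)
    (hγ : ∀ d, γ d = Cyc.c1CapFun δ L ⇑(AlgebraicCycle.map f δ' δ α') (Cyc.gysinChoice L s w) (i d))
    (γ' : AlgebraicCycle (pullback f i) ℤ)
    (hγ' : ∀ z, γ' z = Cyc.c1CapFun δ' ((Scheme.Modules.pullback f).obj L) ⇑α'
      (Cyc.gysinChoice ((Scheme.Modules.pullback f).obj L) s' w') (pullback.fst f i z)) :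
    Cyc.RatEquiv (fun d => δ (i d)) k γ
      (AlgebraicCycle.map (pullback.snd f i) (fun z => δ' (pullback.fst f i z))
        (fun d => δ (i d)) γ') := by
  haveI : IsLocallyNoetherian X' := hX'.1
  have hM : PicF.IsInvertible ((Scheme.Modules.pullback f).obj L) :=
    Groth.Agent.Lib.Helper23.PB.isInvertible_pullback f L hL
  have hDs : Cyc.IsSetup D (fun d => δ (i d)) := isSetup_closedImmersion i δ hX
  have hDs' : Cyc.IsSetup (pullback f i) (fun z => δ' (pullback.fst f i z)) :=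
    isSetup_closedImmersion (pullback.fst f i) δ' hX'
  haveI : IsLocallyNoetherian (pullback f i) := hDs'.1
  have hδg := deltaCompat_snd f i δ δ' hδ
  -- the sections
  have hch : ∀ η, Cyc.gysinChoice L s w η ≠ 0 := gysinChoice_ne_zero L s w hw
  have hch' : ∀ ξ', Cyc.gysinChoice ((Scheme.Modules.pullback f).obj L) s' w' ξ' ≠ 0 :=
    gysinChoice_ne_zero _ s' w' hw'
  have hlift : ∀ η : X, ∃ l : L.presheaf.stalk η,
      (Submodule.Quotient.mk l : Cyc.secFibre L η) = Cyc.gysinChoice L s w η ∧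
      ((Submodule.Quotient.mk ((L.presheaf.germ ⊤ η trivial) s) : Cyc.secFibre L η) ≠ 0 →
        l = (L.presheaf.germ ⊤ η trivial) s) := by
    intro η
    by_cases h : (Submodule.Quotient.mk ((L.presheaf.germ ⊤ η trivial) s) : Cyc.secFibre L η) ≠ 0
    · refine ⟨(L.presheaf.germ ⊤ η trivial) s, ?_, fun _ => rfl⟩
      unfold Cyc.gysinChoice
      rw [if_pos h]
    · obtain ⟨l, hl⟩ := Submodule.Quotient.mk_surjective _ (Cyc.gysinChoice L s w η)
      exact ⟨l, hl, fun h' => absurd h' h⟩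
  choose l hl hlA using hlift
  have hlne : ∀ η, (Submodule.Quotient.mk (l η) : Cyc.secFibre L η) ≠ 0 := fun η => by
    rw [hl]
    exact hch η
  have hu₀ : ∀ ξ' : X', (Submodule.Quotient.mk ((pullStalk f L ξ').hom (l (f ξ'))) :
      Cyc.secFibre ((Scheme.Modules.pullback f).obj L) ξ') ≠ 0 :=
    fun ξ' => mk_pullStalk_ne_zero f L hL ξ' (l (f ξ')) (hlne (f ξ'))
  -- the ratios
  choose r hr0 hr using fun ξ' : X' => exists_secDivFun_sub ((Scheme.Modules.pullback f).obj L) hM δ'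
    ξ' (Cyc.gysinChoice ((Scheme.Modules.pullback f).obj L) s' w' ξ')
    (Submodule.Quotient.mk ((pullStalk f L ξ').hom (l (f ξ')))) (hch' ξ') (hu₀ ξ')
  -- type A: the ratio has trivial divisor along `D'`
  have hA : ∀ ξ' : X', ξ' ∉ Set.range (pullback.fst f i) → ∀ z : ↥(pullback f i),
      Cyc.divFun δ' ξ' (r ξ') (pullback.fst f i z) = 0 := by
    intro ξ' hξ' z
    have h1 : (Submodule.Quotient.mk
        ((((Scheme.Modules.pullback f).obj L).presheaf.germ ⊤ ξ' trivial) s') :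
        Cyc.secFibre ((Scheme.Modules.pullback f).obj L) ξ') ≠ 0 := by
      intro h0
      apply hξ'
      rw [hD'.1]
      exact h0
    have h2 : (Submodule.Quotient.mk ((L.presheaf.germ ⊤ (f ξ') trivial) s) :
        Cyc.secFibre L (f ξ')) ≠ 0 := by
      intro h0
      apply hξ'
      have hmem : f ξ' ∈ Set.range i := by
        rw [hD.1]
        exact h0
      obtain ⟨d, hd⟩ := hmem
      obtain ⟨z', hz', -⟩ := Scheme.Pullback.exists_preimage_pullback ξ' d hd.symm
      exact ⟨z', hz'⟩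
    rw [← hr ξ' (pullback.fst f i z), hlA (f ξ') h2]
    have hc : Cyc.gysinChoice ((Scheme.Modules.pullback f).obj L) s' w' ξ' =
        Submodule.Quotient.mk
          ((((Scheme.Modules.pullback f).obj L).presheaf.germ ⊤ ξ' trivial) s') := by
      unfold Cyc.gysinChoice
      rw [if_pos h1]
    rw [hc]
    unfold Cyc.secDivFun
    split_ifs with h
    · rw [Groth.Agent.Lib.T2H4.GysinPull.secOrdAt_germ_eq f i L s s' hL hD hD' z ξ' h.1 h1, sub_self]
    · rw [sub_self]
  -- the restricted cycle and the correction cycle on `D'`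
  let αD : AlgebraicCycle (pullback f i) ℤ := Groth.Agent.Lib.T2H4.ClosedImmCyc.ofLe
    (pullback.fst f i) α' (fun z => α' (pullback.fst f i z)) (fun _ h => h)
  have hαD : ∀ z, αD z = α' (pullback.fst f i z) := fun _ => rfl
  have hαDk : αD ∈ Cyc.Zk (pullback f i) (fun z => δ' (pullback.fst f i z)) (k + 1) := by
    intro z hz
    rw [hαD]
    exact hα' _ hz
  have hloc : ∀ z : ↥(pullback f i), ∃ U : Set ↥(pullback f i), IsOpen U ∧ z ∈ U ∧
      {a : {ζ : ↥(pullback f i) // αD ζ ≠ 0} | (closure {a.1} ∩ U).Nonempty}.Finite := by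
    intro z
    obtain ⟨t, ht, hfin⟩ := αD.supportLocallyFiniteWithinDomain' z (Set.mem_univ z)
    obtain ⟨U, hUt, hUo, hxU⟩ := mem_nhds_iff.1 ht
    refine ⟨U, hUo, hxU, ?_⟩
    refine (Set.Finite.preimage (Subtype.val_injective.injOn) hfin).subset ?_
    rintro a ⟨w₀, hw₀, hwU⟩
    have hsp : a.1 ⤳ w₀ := specializes_iff_mem_closure.2 hw₀
    exact ⟨hUt (hsp.mem_open hUo hwU), a.2⟩
  have hres0 : ∀ ζ : ↥(pullback f i),
      ((pullback.fst f i).residueFieldMap ζ).hom (r (pullback.fst f i ζ)) ≠ 0 :=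
    fun ζ => (map_ne_zero _).2 (hr0 _)
  obtain ⟨E', hE'⟩ := Groth.Agent.Lib.T2H4.ClosedImmCyc.exists_cycle_of_family
    (fun z => δ' (pullback.fst f i z)) hDs'.2.2
    (fun a : {ζ : ↥(pullback f i) // αD ζ ≠ 0} => a.1)
    (fun a => (((pullback.fst f i).residueFieldMap a.1).hom (r (pullback.fst f i a.1))) ^ αD a.1)
    (fun a => zpow_ne_zero _ (hres0 a.1)) hloc
  have hE'2 : ∀ z, E' z = ∑ᶠ ζ, αD ζ * Cyc.divFun (fun z => δ' (pullback.fst f i z)) ζ
      (((pullback.fst f i).residueFieldMap ζ).hom (r (pullback.fst f i ζ))) z := by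
    intro z
    rw [hE' z]
    have h1 : ∀ a : {ζ : ↥(pullback f i) // αD ζ ≠ 0},
        Cyc.divFun (fun z => δ' (pullback.fst f i z)) a.1
          ((((pullback.fst f i).residueFieldMap a.1).hom (r (pullback.fst f i a.1))) ^ αD a.1) z =
        (fun ζ => αD ζ * Cyc.divFun (fun z => δ' (pullback.fst f i z)) ζ
          (((pullback.fst f i).residueFieldMap ζ).hom (r (pullback.fst f i ζ))) z) a.1 := by
      intro a
      rw [divFun_zpow _ a.1 _ (hres0 a.1)]
    rw [finsum_congr h1, finsum_subtype_eq_finsum_cond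
      (f := fun ζ => αD ζ * Cyc.divFun (fun z => δ' (pullback.fst f i z)) ζ
          (((pullback.fst f i).residueFieldMap ζ).hom (r (pullback.fst f i ζ))) z)
      (fun ζ => αD ζ ≠ 0)]
    refine finsum_congr fun ζ => ?_
    by_cases h : αD ζ ≠ 0
    · rw [finsum_eq_if, if_pos h]
    · rw [finsum_eq_if, if_neg h]
      push Not at h
      rw [h, zero_mul]
  have hE'rat : Cyc.RatEquivZero (fun z => δ' (pullback.fst f i z)) k E' :=
    ratEquivZero_of_forall _ k αD hαDk
      (fun ζ z => Cyc.divFun (fun z => δ' (pullback.fst f i z)) ζ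
        (((pullback.fst f i).residueFieldMap ζ).hom (r (pullback.fst f i ζ))) z)
      (fun ζ => ⟨_, hres0 ζ, fun _ => rfl⟩) E' hE'2
  -- `E'` in terms of the divisors on `X'`
  have hE'3 : ∀ z, E' z = ∑ᶠ ξ', α' ξ' * Cyc.divFun δ' ξ' (r ξ') (pullback.fst f i z) := by
    intro z
    rw [hE'2 z]
    rw [finsum_comp_of_injective (fun ζ : ↥(pullback f i) => pullback.fst f i ζ)
      (pullback.fst f i).isEmbedding.injective
      (fun ξ' => α' ξ' * Cyc.divFun δ' ξ' (r ξ') (pullback.fst f i z))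
      (fun ξ' hξ' => by
        change α' ξ' * Cyc.divFun δ' ξ' (r ξ') (pullback.fst f i z) = 0
        rw [hA ξ' hξ' z, mul_zero])]
    refine finsum_congr fun ζ => ?_
    rw [hαD, Groth.Agent.Lib.T2H4.OrdPreimm.divFun_preimmersion]
  -- the modified cycle on `D'`
  have hγ₀ : ∀ z, (γ' - E') z = Cyc.c1CapFun δ' ((Scheme.Modules.pullback f).obj L) ⇑α'
      (fun ξ' => Submodule.Quotient.mk ((pullStalk f L ξ').hom (l (f ξ')))) (pullback.fst f i z) := by
    intro z
    have e : (γ' - E') z = γ' z - E' z := rfl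
    rw [e, hγ' z, hE'3 z]
    unfold Cyc.c1CapFun
    rw [← finsum_sub_distrib (finite_support δ' _ α' _ _) (finite_support_divFun δ' α' r _)]
    refine finsum_congr fun ξ' => ?_
    rw [← mul_sub, ← hr ξ' (pullback.fst f i z)]
    ring
  -- the pushforward of the modified cycle is `γ`
  have hpush : AlgebraicCycle.map (pullback.snd f i) (fun z => δ' (pullback.fst f i z))
      (fun d => δ (i d)) (γ' - E') = γ := by
    ext d
    rw [map_apply]
    have h1 : ∀ z, (γ' - E') z * ((AlgebraicCycle.mapCoeff (pullback.snd f i)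
          (fun z => δ' (pullback.fst f i z)) (fun d => δ (i d)) z : ℕ) : ℤ) =
        (fun x' => Cyc.c1CapFun δ' ((Scheme.Modules.pullback f).obj L) ⇑α'
          (fun ξ' => Submodule.Quotient.mk ((pullStalk f L ξ').hom (l (f ξ')))) x' *
          ((AlgebraicCycle.mapCoeff f δ' δ x' : ℕ) : ℤ)) (pullback.fst f i z) := by
      intro z
      rw [hγ₀ z, mapCoeff_snd]
    simp_rw [h1]
    rw [finsum_fibre_snd f i (fun x' => Cyc.c1CapFun δ' ((Scheme.Modules.pullback f).obj L) ⇑α'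
          (fun ξ' => Submodule.Quotient.mk ((pullStalk f L ξ').hom (l (f ξ')))) x' *
          ((AlgebraicCycle.mapCoeff f δ' δ x' : ℕ) : ℤ)) d, fibre_sum_c1Cap_pull f δ' δ hX' hX hδ L hL α' l hlne (i d), hγ d]
    have hv : (fun η => (Submodule.Quotient.mk (l η) : Cyc.secFibre L η)) =
        Cyc.gysinChoice L s w := funext hl
    rw [hv]
  -- conclusion
  have hrat := ratEquivZero_map (pullback.snd f i) (fun z => δ' (pullback.fst f i z))
    (fun d => δ (i d)) hDs' hDs hδg k E' hE'rat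
  unfold Cyc.RatEquiv
  have hfin : γ - AlgebraicCycle.map (pullback.snd f i) (fun z => δ' (pullback.fst f i z))
      (fun d => δ (i d)) γ' = - AlgebraicCycle.map (pullback.snd f i)
        (fun z => δ' (pullback.fst f i z)) (fun d => δ (i d)) E' := by
    have h2 := map_sub (pullback.snd f i) (fun z => δ' (pullback.fst f i z)) (fun d => δ (i d)) γ' E'
    rw [hpush] at h2
    rw [h2]
    abel
  rw [hfin]
  exact Groth.Agent.Lib.T2H4.MV.ratEquivZero_neg _ k _ hrat

end Main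

end Groth.Agent.Lib.T3H4.GysinPush
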