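import Mathlib
import Groth.Prelude.Def_Cyc
import Groth.Agent.Lib.T2H4StalkLen
import Groth.Agent.Lib.T2H4LenMinPrimesD
import Groth.Agent.Lib.T2H4SecOrdGen
set_option backward.isDefEq.respectTransparency.types false

/-!
# Stalks of quasi-coherent modules at generizations are localizations (helper4)

Namespace `Groth.Agent.Lib.T3H4.GysinSheaf`.
-/

set_option autoImplicit false
set_option linter.style.haveILetI false
universe u
open CategoryTheory CategoryTheory.Limits AlgebraicGeometry TopologicalSpace

namespace Groth.Agent.Lib.T3H4.GysinSheaf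

open Groth.Agent.Lib.T2H4.SecOrdGen Groth.Agent.Lib.T2H4.LenMinPrimes
  Groth.Agent.Lib.Helper2.FlatOver Groth.Agent.Lib.T2H4.StalkLen

section Loc

variable {X : Scheme.{u}} (F : X.Modules) {x ξ : X} (h : ξ ⤳ x)

/-- the stalk at a generization as a module over the local ring at `x` -/
@[reducible] noncomputable def modSp : Module (X.presheaf.stalk x) (F.presheaf.stalk ξ) :=
  Module.compHom _ (X.presheaf.stalkSpecializes h).hom

/-- the specialization map as a linear map -/
noncomputable def spₗ :
    letI := modSp F h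
    F.presheaf.stalk x →ₗ[X.presheaf.stalk x] F.presheaf.stalk ξ :=
  letI := modSp F h
  { toFun := sp F h
    map_add' := map_add _
    map_smul' := fun c m => sp_smul F h c m }

theorem spₗ_apply (m : F.presheaf.stalk x) :
    letI := modSp F h
    spₗ F h m = sp F h m := rfl

theorem isUnit_spO_of_notMem (s : X.presheaf.stalk x) (hs : s ∉ (primeOf x ξ h).asIdeal) :
    IsUnit (spO h s) := by
  have hs' : ¬ (X.presheaf.stalkSpecializes h).hom s ∈
      IsLocalRing.maximalIdeal (X.presheaf.stalk ξ) := fun hc =>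
    hs ((mem_primeOf_iff' x ξ h s).2 hc)
  exact IsLocalRing.notMem_maximalIdeal.1 hs'

theorem mem_maximalIdeal_of_mem (s : X.presheaf.stalk x) (hs : s ∈ (primeOf x ξ h).asIdeal) :
    spO h s ∈ IsLocalRing.maximalIdeal (X.presheaf.stalk ξ) :=
  (mem_primeOf_iff' x ξ h s).1 hs

/-- **the stalk at a generization is the localization of the stalk** (quasi-coherent modules) -/
theorem isLocalizedModule_sp [F.IsQuasicoherent] :
    letI := modSp F h
    IsLocalizedModule (primeOf x ξ h).asIdeal.primeCompl (spₗ F h) := by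
  letI := modSp F h
  refine ⟨?_, ?_, ?_⟩
  · rintro ⟨s, hs⟩
    have hu : IsUnit (spO h s) := isUnit_spO_of_notMem h s hs
    obtain ⟨u, hu⟩ := hu
    rw [Module.End.isUnit_iff]
    constructor
    · intro a b hab
      have hab' : spO h s • a = spO h s • b := hab
      rw [← hu] at hab'
      have := congrArg (fun z => (u⁻¹ : (X.presheaf.stalk ξ)ˣ) • z) hab'
      simp only [Units.smul_def] at this
      rw [← mul_smul, ← mul_smul, ← Units.val_mul, inv_mul_cancel, Units.val_one, one_smul,
        one_smul] at this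
      exact this
    · intro b
      refine ⟨(u⁻¹ : (X.presheaf.stalk ξ)ˣ) • b, ?_⟩
      change spO h s • ((u⁻¹ : (X.presheaf.stalk ξ)ˣ) • b) = b
      rw [← hu]
      exact smul_inv_smul u b
  · intro y
    obtain ⟨_, ⟨V, hV, rfl⟩, hxV, -⟩ :=
      X.isBasis_affineOpens.exists_subset_of_mem_open (Set.mem_univ x) isOpen_univ
    have hξV : ξ ∈ V := h.mem_open V.isOpen hxV
    have hV' : IsAffineOpen V := hV
    obtain ⟨n, t, ht, hnt⟩ : ∃ (n : Γ(F, V)) (t : Γ(X, V)),
        t ∉ (hV'.primeIdealOf ⟨ξ, hξV⟩).asIdeal ∧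
          X.presheaf.germ V ξ hξV t • y = F.presheaf.germ V ξ hξV n := by
      letI := moduleStalkSections F V ξ hξV
      haveI := isLocalizedModule_germ hV' F ξ hξV
      obtain ⟨⟨n, t⟩, hnt⟩ := IsLocalizedModule.surj (hV'.primeIdealOf ⟨ξ, hξV⟩).asIdeal.primeCompl
        (germₗ F V ξ hξV) y
      exact ⟨n, t.1, t.2, hnt⟩
    have e2 : spO h (X.presheaf.germ V x hxV t) = X.presheaf.germ V ξ hξV t :=
      ConcreteCategory.congr_hom (TopCat.Presheaf.germ_stalkSpecializes X.presheaf hxV h) t
    have htu : IsUnit (X.presheaf.germ V ξ hξV t) := by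
      by_contra hc
      exact ht ((Groth.Agent.Lib.T2H4.DivFin.mem_primeIdealOf_iff hV' ξ hξV t).2 hc)
    have hs : X.presheaf.germ V x hxV t ∈ (primeOf x ξ h).asIdeal.primeCompl := by
      intro hmem
      have : spO h (X.presheaf.germ V x hxV t) ∈
          IsLocalRing.maximalIdeal (X.presheaf.stalk ξ) := mem_maximalIdeal_of_mem h _ hmem
      rw [e2] at this
      exact (IsLocalRing.mem_maximalIdeal _).1 this htu
    refine ⟨⟨F.presheaf.germ V x hxV n, ⟨X.presheaf.germ V x hxV t, hs⟩⟩, ?_⟩
    change spO h (X.presheaf.germ V x hxV t) • y = sp F h (F.presheaf.germ V x hxV n)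
    rw [e2, hnt]
    exact (TopCat.Presheaf.germ_stalkSpecializes_apply F.presheaf hxV h n).symm
  · intro m₁ m₂ hm
    have h0 : (F.presheaf.stalkSpecializes h).hom (m₁ - m₂) = 0 := by
      have hm' : (F.presheaf.stalkSpecializes h).hom m₁ = (F.presheaf.stalkSpecializes h).hom m₂ :=
        hm
      rw [map_sub, hm', sub_self]
    obtain ⟨r, hr, hrm⟩ := exists_smul_eq_zero_of_stalkSpecializes_eq_zero F h (m₁ - m₂) h0
    have hrs : r ∈ (primeOf x ξ h).asIdeal.primeCompl := by
      intro hmem
      exact (IsLocalRing.mem_maximalIdeal _).1 (mem_maximalIdeal_of_mem h _ hmem) hr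
    refine ⟨⟨r, hrs⟩, ?_⟩
    change r • m₁ = r • m₂
    rw [← sub_eq_zero, ← smul_sub]
    exact hrm

/-- the length of the localization of a stalk at the prime of a generization -/
theorem length_localizedModule_stalk [F.IsQuasicoherent] :
    Module.length (Localization.AtPrime (primeOf x ξ h).asIdeal)
        (LocalizedModule (primeOf x ξ h).asIdeal.primeCompl (F.presheaf.stalk x)) =
      Module.length (X.presheaf.stalk ξ) (F.presheaf.stalk ξ) := by
  letI algS := (X.presheaf.stalkSpecializes h).hom.toAlgebra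
  letI := modSp F h
  haveI : IsScalarTower (X.presheaf.stalk x) (X.presheaf.stalk ξ) (F.presheaf.stalk ξ) :=
    IsScalarTower.of_algebraMap_smul (fun r m => rfl)
  haveI := isLocalization_stalk x ξ h
  haveI := isLocalizedModule_sp F h
  exact length_eq_of_isLocalizedModule (primeOf x ξ h).asIdeal.primeCompl
    (Localization.AtPrime (primeOf x ξ h).asIdeal) (X.presheaf.stalk ξ)
    (LocalizedModule.mkLinearMap (primeOf x ξ h).asIdeal.primeCompl (F.presheaf.stalk x))
    (spₗ F h)

end Loc

end Groth.Agent.Lib.T3H4.GysinSheaf
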