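import Mathlib
import Groth.Prelude.Def_Cyc
import Groth.Prelude.Def_C1
import Groth.Prelude.Def_Coh
import Groth.Agent.Lib.T3H4GysinSheafA
import Groth.Agent.Lib.T2H4ZeroSecCap
import Groth.Agent.Lib.T2H4GysinFlatC
import Groth.Agent.Lib.T2H4PullSheafFun
import Groth.Agent.Lib.T2H3ReflexiveHom
set_option backward.isDefEq.respectTransparency.types false

/-!
# The Gysin pullback of the cycle of a coherent module (helper4)

`i^*[F]_{k+1} = [i^*F]_k` for the zero scheme `i : D → X` of a section `s` of an invertible module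
which is injective on `F`.

Namespace `Groth.Agent.Lib.T3H4.GysinSheaf`.
-/

set_option autoImplicit false
set_option linter.style.haveILetI false
universe u
open CategoryTheory CategoryTheory.Limits AlgebraicGeometry TopologicalSpace TensorProduct Pointwise

namespace Groth.Agent.Lib.T3H4.GysinSheaf

open Groth.Agent.Lib.T2H4.SecOrdGen Groth.Agent.Lib.T2H4.LenMinPrimes
  Groth.Agent.Lib.T2H4.ZeroSecCap

section Alg

/-- the length of the base change of a module along a surjection with principal kernel -/
theorem length_tensor_eq {R S : Type u} [CommRing R] [CommRing S] [Algebra R S]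
    (hsurj : Function.Surjective (algebraMap R S)) (f : R)
    (hker : RingHom.ker (algebraMap R S) = Ideal.span {f})
    (M : Type u) [AddCommGroup M] [Module R M] :
    Module.length S (S ⊗[R] M) = Module.length R (M ⧸ f • (⊤ : Submodule R M)) := by
  rw [← Module.length_eq_of_surjective (S := R) (R := S) (M := S ⊗[R] M) hsurj]
  have hsurj' : Function.Surjective (Algebra.ofId R S) := hsurj
  let e1 : (R ⧸ RingHom.ker (Algebra.ofId R S)) ≃ₐ[R] S :=
    Ideal.quotientKerAlgEquivOfSurjective hsurj'
  have hI : RingHom.ker (Algebra.ofId R S) • (⊤ : Submodule R M) = f • (⊤ : Submodule R M) := by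
    have : RingHom.ker (Algebra.ofId R S) = Ideal.span {f} := by
      rw [← hker]
      ext r
      rw [RingHom.mem_ker, RingHom.mem_ker]
      rfl
    rw [this, Submodule.ideal_span_singleton_smul]
  exact ((TensorProduct.congr e1.symm.toLinearEquiv (LinearEquiv.refl R M)) ≪≫ₗ
    (TensorProduct.quotTensorEquivQuotSMul M (RingHom.ker (Algebra.ofId R S))) ≪≫ₗ
    (Submodule.quotEquivOfEq _ _ hI)).length_eq

end Alg

section Supp

variable {X : Scheme.{u}} (F : X.Modules)

theorem mem_support_iff_nontrivial [F.IsQuasicoherent] {x ξ : X} (h : ξ ⤳ x) :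
    primeOf x ξ h ∈ Module.support (X.presheaf.stalk x) (F.presheaf.stalk x) ↔
      Nontrivial (F.presheaf.stalk ξ) := by
  letI := modSp F h
  haveI := isLocalizedModule_sp F h
  rw [Module.mem_support_iff]
  exact (IsLocalizedModule.iso (primeOf x ξ h).asIdeal.primeCompl
    (spₗ F h)).toEquiv.nontrivial_congr

/-- the support of the stalk of a quasi-coherent module whose support has `δ ≤ k + 1`, at a point
with `δ = k`, has dimension at most one -/
theorem supportDim_le_one [F.IsQuasicoherent] (δ : X → ℤ) (hδ : Cyc.IsDimFun X δ) (k : ℤ)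
    (hdim : ∀ x : X, Nontrivial (F.presheaf.stalk x) → δ x ≤ k + 1) (x : X) (hx : δ x = k) :
    Module.supportDim (X.presheaf.stalk x) (F.presheaf.stalk x) ≤ 1 := by
  unfold Module.supportDim
  rw [Order.krullDim_le_one_iff]
  rintro ⟨q, hq⟩
  have hsp : X.fromSpecStalk x q ⤳ x := fromSpecStalk_specializes x q
  have hqe : primeOf x (X.fromSpecStalk x q) hsp = q := primeOf_fromSpecStalk x q
  have hnt : Nontrivial (F.presheaf.stalk (X.fromSpecStalk x q)) := by
    rw [← mem_support_iff_nontrivial F hsp, hqe]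
    exact hq
  have h1 := hdim _ hnt
  by_cases hξx : X.fromSpecStalk x q = x
  · right
    rintro ⟨q', hq'⟩ -
    have hm : q.asIdeal = IsLocalRing.maximalIdeal (X.presheaf.stalk x) := by
      rw [← hqe]
      exact (primeOf_eq_maximalIdeal_iff x _ hsp).2 hξx
    change q'.asIdeal ≤ q.asIdeal
    rw [hm]
    exact IsLocalRing.le_maximalIdeal q'.2.ne_top
  · left
    rintro ⟨q', hq'⟩ hle
    have hle' : q' ≤ q := hle
    have hsp' : X.fromSpecStalk x q' ⤳ x := fromSpecStalk_specializes x q'
    have hqe' : primeOf x (X.fromSpecStalk x q') hsp' = q' := primeOf_fromSpecStalk x q'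
    have hnt' : Nontrivial (F.presheaf.stalk (X.fromSpecStalk x q')) := by
      rw [← mem_support_iff_nontrivial F hsp', hqe']
      exact hq'
    have h1' := hdim _ hnt'
    have hξξ' : X.fromSpecStalk x q' ⤳ X.fromSpecStalk x q :=
      ((PrimeSpectrum.le_iff_specializes q' q).1 hle').map (X.fromSpecStalk x).continuous
    have h2 := (hδ _ x hsp hξx).1
    have heq : X.fromSpecStalk x q' = X.fromSpecStalk x q := by
      by_contra hne
      have := (hδ _ _ hξξ' hne).1
      omega
    have hq'q : q' = q := fromSpecStalk_injective x heq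
    change q ≤ q'
    rw [hq'q]

end Supp

section Main

variable {X D : Scheme.{u}}

/-- the length of the stalk of the pullback of a module to the zero scheme of a section -/
theorem length_stalk_pullback_zeroScheme (L : X.Modules)
    (s : L.presheaf.obj (Opposite.op ⊤)) (i : D ⟶ X) [IsClosedImmersion i]
    (hD : Cyc.IsZeroSchemeOf i L s) (F : X.Modules) (d : D) (a : L.presheaf.stalk (i d))
    (ha : Function.Bijective (fun c : X.presheaf.stalk (i d) => c • a))
    (f : X.presheaf.stalk (i d)) (hf : (L.presheaf.germ ⊤ (i d) trivial) s = f • a) :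
    Module.length (D.presheaf.stalk d) (((Scheme.Modules.pullback i).obj F).presheaf.stalk d) =
      Module.length (X.presheaf.stalk (i d))
        (F.presheaf.stalk (i d) ⧸ f • (⊤ : Submodule (X.presheaf.stalk (i d))
          (F.presheaf.stalk (i d)))) := by
  letI : Algebra (X.presheaf.stalk (i d)) (D.presheaf.stalk d) := (i.stalkMap d).hom.toAlgebra
  rw [(Groth.Agent.Lib.T2H4.PullSheafFun.stalkEquiv i F d).length_eq]
  refine length_tensor_eq (i.stalkMap_surjective d) f ?_ _
  obtain ⟨t, f_d, hspan, hgerm, hker⟩ := hD.2 d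
  change RingHom.ker (i.stalkMap d).hom = _
  rw [hker]
  exact Groth.Agent.Lib.T2H4.GysinFlat.span_eq_of_generators t a hspan ha f_d f
    (by rw [← hgerm, hf])

/-- **`i^*[F]_{k+1} = [i^*F]_k`**, coefficientwise -/
theorem c1CapFun_sheafFun_eq (δ : X → ℤ) (hX : Cyc.IsSetup X δ) (L : X.Modules)
    (hL : PicF.IsInvertible L) (s : L.presheaf.obj (Opposite.op ⊤)) (i : D ⟶ X)
    [IsClosedImmersion i] (hD : Cyc.IsZeroSchemeOf i L s) (k : ℤ) (F : X.Modules)
    (hF : Coh.IsCoh F) (hdim : ∀ x : X, Nontrivial (F.presheaf.stalk x) → δ x ≤ k + 1)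
    (hreg : ∀ (x : X) (t : L.presheaf.stalk x) (f : X.presheaf.stalk x),
      Submodule.span (X.presheaf.stalk x) {t} = ⊤ → (L.presheaf.germ ⊤ x trivial) s = f • t →
        Function.Injective (fun m : F.presheaf.stalk x => f • m))
    (w : (ξ : X) → Cyc.secFibre L ξ) (d : D) :
    Cyc.c1CapFun δ L (Cyc.sheafFun δ (k + 1) F) (Cyc.gysinChoice L s w) (i d) =
      Cyc.sheafFun (fun d => δ (i d)) k ((Scheme.Modules.pullback i).obj F) d := by
  haveI : IsLocallyNoetherian X := hX.1
  haveI : F.IsQuasicoherent := hF.1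
  have hδ := hX.2.2
  unfold Cyc.c1CapFun
  by_cases hxk : δ (i d) = k
  · haveI hfinM : Module.Finite (X.presheaf.stalk (i d)) (F.presheaf.stalk (i d)) :=
      Groth.Agent.Lib.T2H3.ReflexiveHom.finite_stalk_of_isCoh F hF (i d)
    have h1 : Module.supportDim (X.presheaf.stalk (i d)) (F.presheaf.stalk (i d)) ≤ 1 :=
      supportDim_le_one F δ hδ k hdim (i d) hxk
    obtain ⟨a, ha, haξ⟩ := exists_gen_forall L hL (i d)
    obtain ⟨f, hf⟩ := ha.2 ((L.presheaf.germ ⊤ (i d) trivial) s)
    have hf' : (L.presheaf.germ ⊤ (i d) trivial) s = f • a := hf.symm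
    have hfreg : IsSMulRegular (F.presheaf.stalk (i d)) f :=
      hreg (i d) a f (Groth.Agent.Lib.T2H4.SecOrdAdd.span_eq_top_of_bijective_smul a ha) hf'
    have hR : Cyc.sheafFun (fun d => δ (i d)) k ((Scheme.Modules.pullback i).obj F) d =
        ((Module.length (X.presheaf.stalk (i d)) (F.presheaf.stalk (i d) ⧸
          f • (⊤ : Submodule (X.presheaf.stalk (i d)) (F.presheaf.stalk (i d))))).toNat : ℤ) := by
      unfold Cyc.sheafFun
      rw [if_pos hxk, length_stalk_pullback_zeroScheme L s i hD F d a ha f hf']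
    rw [hR, (length_quot_smul_eq_finsum_specializes (i d) _ h1 f hfreg).2]
    refine finsum_congr (fun ξ => ?_)
    by_cases hc : ξ ⤳ i d ∧ ξ ≠ i d
    · rw [dif_pos hc, length_localizedModule_stalk F hc.1]
      by_cases hnt : Nontrivial (F.presheaf.stalk ξ)
      · have hξ : δ ξ = k + 1 := by
          have h2 := (hδ ξ (i d) hc.1 hc.2).1
          have h3 := hdim ξ hnt
          omega
        have hcond : ξ ⤳ i d ∧ δ (i d) + 1 = δ ξ := ⟨hc.1, by omega⟩
        unfold Cyc.secDivFun Cyc.sheafFun
        rw [if_pos hξ, dif_pos hcond]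
        congr 1
        have hsupp : primeOf (i d) ξ hc.1 ∈
            Module.support (X.presheaf.stalk (i d)) (F.presheaf.stalk (i d)) :=
          (mem_support_iff_nontrivial F hc.1).2 hnt
        have hne : (primeOf (i d) ξ hc.1).asIdeal ≠
            IsLocalRing.maximalIdeal (X.presheaf.stalk (i d)) :=
          fun hm => hc.2 ((primeOf_eq_maximalIdeal_iff (i d) ξ hc.1).1 hm)
        have hfq : f ∉ (primeOf (i d) ξ hc.1).asIdeal :=
          notMem_of_isSMulRegular _ h1 f hfreg _ hsupp hne
        have hgerm : (L.presheaf.germ ⊤ ξ trivial) s = spO hc.1 f • sp L hc.1 a := by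
          rw [← sp_smul, ← hf']
          exact (Groth.Agent.Lib.T2H4.HomShGlobal.stalkSpecializes_germ L hc.1
            (show i d ∈ (⊤ : X.Opens) from trivial) s).symm
        have hres : X.residue ξ (spO hc.1 f) ≠ 0 := by
          intro h0
          exact hfq ((mem_primeOf_iff (i d) ξ hc.1 f).2 h0)
        have hmk : (Submodule.Quotient.mk ((L.presheaf.germ ⊤ ξ trivial) s) :
            Cyc.secFibre L ξ) ≠ 0 := by
          rw [hgerm, Ne, mk_smul_eq_zero_iff L _ (haξ ξ hc.1)]
          exact hres
        have hgc : Cyc.gysinChoice L s w ξ =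
            Submodule.Quotient.mk ((L.presheaf.germ ⊤ ξ trivial) s) := by
          unfold Cyc.gysinChoice
          rw [if_pos hmk]
        rw [hgc, hgerm, secOrdAt_eq L hc.1 a ha (haξ ξ hc.1)]
        rfl
      · rw [not_nontrivial_iff_subsingleton] at hnt
        have h0 : Module.length (X.presheaf.stalk ξ) (F.presheaf.stalk ξ) = 0 :=
          Module.length_eq_zero
        unfold Cyc.sheafFun
        rw [h0]
        simp
    · rw [dif_neg hc]
      unfold Cyc.secDivFun
      by_cases hsp : ξ ⤳ i d
      · have hξy : ξ = i d := by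
          by_contra hne
          exact hc ⟨hsp, hne⟩
        have hns : ¬ (ξ ⤳ i d ∧ δ (i d) + 1 = δ ξ) := by
          rintro ⟨_, h2⟩
          rw [hξy] at h2
          omega
        rw [dif_neg hns, mul_zero]
      · have hns : ¬ (ξ ⤳ i d ∧ δ (i d) + 1 = δ ξ) := fun h => hsp h.1
        rw [dif_neg hns, mul_zero]
  · have hR : Cyc.sheafFun (fun d => δ (i d)) k ((Scheme.Modules.pullback i).obj F) d = 0 := by
      unfold Cyc.sheafFun
      rw [if_neg hxk]
    rw [hR]
    apply finsum_eq_zero_of_forall_eq_zero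
    intro ξ
    unfold Cyc.secDivFun Cyc.sheafFun
    by_cases hξ : δ ξ = k + 1
    · have hns : ¬ (ξ ⤳ i d ∧ δ (i d) + 1 = δ ξ) := by
        rintro ⟨_, h2⟩
        omega
      rw [dif_neg hns, mul_zero]
    · rw [if_neg hξ, zero_mul]

end Main

end Groth.Agent.Lib.T3H4.GysinSheaf
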