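import Mathlib

/-!
# Laurent polynomials over a field: units, ring homs (helper4)
-/

set_option autoImplicit false

namespace Groth.Agent.Lib.T3H4.PLine

open LaurentPolynomial
open scoped Polynomial

variable {L : Type*} [Field L]

/-- units of `L[T;T⁻¹]` are `c T^e` -/
theorem exists_eq_C_mul_T_of_isUnit (u : L[T;T⁻¹]) (hu : IsUnit u) :
    ∃ (c : L) (e : ℤ), c ≠ 0 ∧ u = C c * T e := by
  obtain ⟨v, huv⟩ := hu.exists_right_inv
  obtain ⟨n, u', hu'⟩ := exists_T_pow u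
  obtain ⟨m, v', hv'⟩ := exists_T_pow v
  have h1 : u' * v' = Polynomial.X ^ (n + m) := by
    apply Polynomial.toLaurent_injective
    rw [map_mul, hu', hv', Polynomial.toLaurent_X_pow]
    calc u * T n * (v * T m) = (u * v) * (T n * T m) := by ring
      _ = T ((n + m : ℕ) : ℤ) := by rw [huv, one_mul, ← T_add]; push_cast; rfl
  have h2 : u' ∣ Polynomial.X ^ (n + m) := ⟨v', h1.symm⟩
  obtain ⟨i, _, hassoc⟩ := (dvd_prime_pow Polynomial.prime_X _).mp h2
  obtain ⟨w, hw⟩ := hassoc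
  obtain ⟨c, hc, hwc⟩ := Polynomial.isUnit_iff.mp w.isUnit
  have hc0 : c ≠ 0 := hc.ne_zero
  refine ⟨c⁻¹, (i : ℤ) - n, inv_ne_zero hc0, ?_⟩
  have h3 : u' = Polynomial.X ^ i * Polynomial.C c⁻¹ := by
    rw [← hw, ← hwc, mul_assoc, ← Polynomial.C_mul, mul_inv_cancel₀ hc0, Polynomial.C_1, mul_one]
  have h4 : u * T n = T i * C c⁻¹ := by
    rw [← hu', h3, map_mul, Polynomial.toLaurent_X_pow, Polynomial.toLaurent_C]
  calc u = u * T n * T (-n) := by rw [mul_T_assoc, add_neg_cancel, T_zero, mul_one]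
    _ = C c⁻¹ * T ((i : ℤ) - n) := by rw [h4, T_sub]; ring

theorem C_mul_T_injective {c c' : L} {e e' : ℤ} (hc : c ≠ 0)
    (h : (C c * T e : L[T;T⁻¹]) = C c' * T e') : c = c' ∧ e = e' := by
  have hc' : c' ≠ 0 := by
    rintro rfl
    rw [map_zero, zero_mul] at h
    have := (isUnit_T (R := L) e).mul_left_eq_zero.mp h
    exact hc (by simpa using congrArg (fun f : L[T;T⁻¹] => f.coeff 0) this)
  have he : e = e' := by
    have h1 := degree_C_mul_T e c hc
    have h2 := degree_C_mul_T e' c' hc'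
    rw [h, h2] at h1
    exact (WithBot.coe_injective h1).symm
  subst he
  refine ⟨?_, rfl⟩
  have := (isUnit_T (R := L) e).mul_left_injective h
  simpa using congrArg (fun f : L[T;T⁻¹] => f.coeff 0) this

/-- ring homs out of `L[T;T⁻¹]` are determined by their values on constants and `T 1` -/
theorem laurent_ringHom_ext {S : Type*} [CommRing S] (f g : L[T;T⁻¹] →+* S)
    (hC : ∀ a, f (C a) = g (C a)) (hT : f (T 1) = g (T 1)) : f = g := by
  apply IsLocalization.ringHom_ext (Submonoid.powers (Polynomial.X : L[X]))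
  apply Polynomial.ringHom_ext
  · intro a
    simp only [RingHom.comp_apply, algebraMap_eq_toLaurent, Polynomial.toLaurent_C]
    exact hC a
  · simp only [RingHom.comp_apply, algebraMap_eq_toLaurent, Polynomial.toLaurent_X]
    exact hT

/-- `T 1` as a unit -/
noncomputable def unitT : (L[T;T⁻¹])ˣ :=
  ⟨T 1, T (-1), by rw [← T_add]; exact T_zero, by rw [← T_add]; exact T_zero⟩

variable (L) in
/-- constants as units -/
noncomputable def unitC : Lˣ →* (L[T;T⁻¹])ˣ := Units.map (C : L →+* L[T;T⁻¹]).toMonoidHom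

@[simp] theorem unitT_val : ((unitT : (L[T;T⁻¹])ˣ) : L[T;T⁻¹]) = T 1 := rfl

@[simp] theorem unitC_val (c : Lˣ) : ((unitC L c : (L[T;T⁻¹])ˣ) : L[T;T⁻¹]) = C (c : L) := rfl

theorem unitT_zpow_val (e : ℤ) : (((unitT : (L[T;T⁻¹])ˣ) ^ e : (L[T;T⁻¹])ˣ) : L[T;T⁻¹]) = T e := by
  induction e using Int.induction_on with
  | zero => simp [T_zero]
  | succ n ih =>
    rw [zpow_add_one, Units.val_mul, ih, unitT_val, ← T_add]
  | pred n ih =>
    rw [zpow_sub_one, Units.val_mul, ih]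
    change T (-(n : ℤ)) * T (-1) = _
    rw [← T_add]; rfl

theorem exists_unit_eq (u : (L[T;T⁻¹])ˣ) : ∃ (c : Lˣ) (e : ℤ), u = unitC L c * unitT ^ e := by
  obtain ⟨c, e, hc, h⟩ := exists_eq_C_mul_T_of_isUnit (u : L[T;T⁻¹]) u.isUnit
  refine ⟨Units.mk0 c hc, e, ?_⟩
  ext1
  rw [Units.val_mul, unitT_zpow_val, unitC_val, Units.val_mk0, h]

theorem unit_eq_iff {c c' : Lˣ} {e e' : ℤ}
    (h : unitC L c * (unitT : (L[T;T⁻¹])ˣ) ^ e = unitC L c' * unitT ^ e') : c = c' ∧ e = e' := by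
  have h1 := congrArg (fun u : (L[T;T⁻¹])ˣ => (u : L[T;T⁻¹])) h
  simp only [Units.val_mul, unitT_zpow_val, unitC_val] at h1
  obtain ⟨h2, h3⟩ := C_mul_T_injective c.ne_zero h1
  exact ⟨Units.ext h2, h3⟩

end Groth.Agent.Lib.T3H4.PLine
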