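import Mathlib
import Groth.Agent.Lib.T3H4PLineLaurent

/-!
# The coordinate ring of `P^1` minus a quadratic point embeds in `L[T;T⁻¹]` (helper4)
-/

set_option autoImplicit false

attribute [local instance] MvPolynomial.gradedAlgebra

namespace Groth.Agent.Lib.T3H4.PLine

open LaurentPolynomial

/-- homogeneous scaling of ring homs out of a polynomial ring -/
theorem hom_scale {K : Type*} [CommRing K] {ι : Type*} {A : Type*} [CommRing A]
    (Φ₁ Φ₂ : MvPolynomial ι K →+* A) (s : A)
    (hC : ∀ k, Φ₁ (MvPolynomial.C k) = Φ₂ (MvPolynomial.C k))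
    (hX : ∀ i, Φ₁ (MvPolynomial.X i) = s * Φ₂ (MvPolynomial.X i))
    {f : MvPolynomial ι K} {n : ℕ} (hf : f.IsHomogeneous n) : Φ₁ f = s ^ n * Φ₂ f := by
  classical
  conv_lhs => rw [f.as_sum]
  conv_rhs => rw [f.as_sum]
  rw [map_sum, map_sum, Finset.mul_sum]
  refine Finset.sum_congr rfl (fun d hd => ?_)
  have hdn : d.degree = n := by
    have := hf (MvPolynomial.mem_support_iff.mp hd)
    rw [Finsupp.degree_eq_weight_one]
    exact this
  rw [MvPolynomial.monomial_eq, map_mul, map_mul, hC, map_finsuppProd, map_finsuppProd]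
  have : (d.prod fun a b => Φ₁ (MvPolynomial.X a ^ b)) =
      s ^ n * d.prod fun a b => Φ₂ (MvPolynomial.X a ^ b) := by
    rw [← hdn]
    simp only [map_pow, hX, mul_pow]
    rw [Finsupp.prod_mul]
    congr 1
    rw [Finsupp.prod, Finset.prod_pow_eq_pow_sum]
    rfl
  rw [this]
  ring


/-- the data of a split quadratic form over a quadratic extension -/
structure QData (K L : Type*) [Field K] [Field L] [Algebra K L] where
  a : K
  b : K
  c : K
  θ : L
  θ' : L
  ha : a ≠ 0
  hθ : θ ≠ θ'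
  hb : algebraMap K L b = - algebraMap K L a * (θ + θ')
  hc : algebraMap K L c = algebraMap K L a * θ * θ'
  σ : L →ₐ[K] L
  hσ : σ θ = θ'
  hσ' : σ θ' = θ
  hspan : ∀ z : L, ∃ k₁ k₂ : K, z = algebraMap K L k₁ + algebraMap K L k₂ * θ

variable {K L : Type*} [Field K] [Field L] [Algebra K L] (D : QData K L)

namespace QData

/-- the quadratic form -/
noncomputable def q : MvPolynomial (Fin 2) K :=
  MvPolynomial.C D.a * MvPolynomial.X 0 ^ 2 + MvPolynomial.C D.b * MvPolynomial.X 0 * MvPolynomial.X 1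
    + MvPolynomial.C D.c * MvPolynomial.X 1 ^ 2

theorem q_mem : D.q ∈ MvPolynomial.homogeneousSubmodule (Fin 2) K 2 := by
  rw [MvPolynomial.mem_homogeneousSubmodule]
  unfold q
  refine ((MvPolynomial.isHomogeneous_C_mul_X_pow _ _ _).add ?_).add
    (MvPolynomial.isHomogeneous_C_mul_X_pow _ _ _)
  have h1 : (MvPolynomial.C D.b * MvPolynomial.X 0 : MvPolynomial (Fin 2) K).IsHomogeneous 1 :=
    MvPolynomial.isHomogeneous_C_mul_X _ _
  exact h1.mul (MvPolynomial.isHomogeneous_X K 1)

/-- `δ = θ' - θ` -/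
def δ : L := D.θ' - D.θ

theorem δ_ne : D.δ ≠ 0 := sub_ne_zero.mpr (Ne.symm D.hθ)

theorem σδ : D.σ D.δ = - D.δ := by
  unfold δ
  rw [map_sub, D.hσ, D.hσ']
  ring

/-- image of `x` -/
noncomputable def xT : L[T;T⁻¹] := C D.θ' * T 1 - C D.θ

/-- image of `y` -/
noncomputable def yT (_D : QData K L) : L[T;T⁻¹] := T 1 - 1

/-- the evaluation map -/
noncomputable def Ψ : MvPolynomial (Fin 2) K →ₐ[K] L[T;T⁻¹] := MvPolynomial.aeval ![D.xT, D.yT]

@[simp] theorem Ψ_X0 : D.Ψ (MvPolynomial.X 0) = D.xT := by simp [Ψ]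

@[simp] theorem Ψ_X1 : D.Ψ (MvPolynomial.X 1) = D.yT := by simp [Ψ]

theorem Ψ_C (k : K) : D.Ψ (MvPolynomial.C k) = C (algebraMap K L k) := by
  rw [Ψ, MvPolynomial.aeval_C, LaurentPolynomial.algebraMap_apply]

theorem Ψ_q : D.Ψ D.q = C (algebraMap K L D.a * D.δ ^ 2) * T 1 := by
  unfold q
  simp only [map_add, map_mul, map_pow, Ψ_X0, Ψ_X1, Ψ_C, D.hb, D.hc, map_neg]
  unfold xT yT δ
  simp only [map_sub, map_pow, map_mul]
  ring

theorem isUnit_Ψ_q : IsUnit (D.Ψ D.q) := by
  rw [Ψ_q]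
  refine IsUnit.mul ?_ (isUnit_T 1)
  refine IsUnit.map (C : L →+* L[T;T⁻¹]) ?_
  exact isUnit_iff_ne_zero.mpr
    (mul_ne_zero ((map_ne_zero_iff _ (algebraMap K L).injective).mpr D.ha) (pow_ne_zero 2 D.δ_ne))


end QData

/-- the coordinate ring of the complement of `q = 0` in the projective line -/
abbrev Rq (q : MvPolynomial (Fin 2) K) :=
  HomogeneousLocalization.Away (MvPolynomial.homogeneousSubmodule (Fin 2) K) q

/-- the `K`-algebra structure on the coordinate ring (extending Mathlib's scalar action) -/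
@[reducible] noncomputable def algKR (q : MvPolynomial (Fin 2) K) : Algebra K (Rq q) :=
  { (inferInstance : SMul K (Rq q)) with
    algebraMap :=
      { toFun := fun k => k • (1 : Rq q)
        map_one' := by
          apply HomogeneousLocalization.val_injective
          simp
        map_mul' := fun k k' => by
          apply HomogeneousLocalization.val_injective
          simp only [HomogeneousLocalization.val_mul, HomogeneousLocalization.val_smul,
            HomogeneousLocalization.val_one]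
          rw [mul_smul, smul_mul_assoc, one_mul]
        map_zero' := by
          apply HomogeneousLocalization.val_injective
          simp
        map_add' := fun k k' => by
          apply HomogeneousLocalization.val_injective
          simp [add_smul, HomogeneousLocalization.val_add] }
    commutes' := fun k z => mul_comm _ _
    smul_def' := fun k z => by
      apply HomogeneousLocalization.val_injective
      simp [HomogeneousLocalization.val_mul] }

attribute [local instance] algKR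

example (q : MvPolynomial (Fin 2) K) :
    (algKR q).toSMul = (inferInstance : SMul K (Rq q)) := by with_reducible_and_instances rfl

theorem algebraMap_Rq (q : MvPolynomial (Fin 2) K) (k : K) :
    algebraMap K (Rq q) k = k • (1 : Rq q) := rfl

namespace QData

/-- the map out of the localization -/
noncomputable def ψ : Localization.Away D.q →+* L[T;T⁻¹] :=
  IsLocalization.Away.lift D.q (g := (D.Ψ : MvPolynomial (Fin 2) K →+* L[T;T⁻¹])) D.isUnit_Ψ_q

theorem ψ_algebraMap (p : MvPolynomial (Fin 2) K) :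
    D.ψ (algebraMap (MvPolynomial (Fin 2) K) (Localization.Away D.q) p) = D.Ψ p :=
  IsLocalization.Away.lift_eq D.q D.isUnit_Ψ_q p

/-- the embedding as a ring hom -/
noncomputable def ιR : Rq D.q →+* L[T;T⁻¹] :=
  D.ψ.comp (algebraMap (Rq D.q) (Localization.Away D.q))

theorem ιR_apply (z : Rq D.q) : D.ιR z = D.ψ z.val := rfl

theorem ιR_mk_mul (n : ℕ) (x : MvPolynomial (Fin 2) K)
    (hx : x ∈ MvPolynomial.homogeneousSubmodule (Fin 2) K (n • 2)) :
    D.ιR (HomogeneousLocalization.Away.mk _ D.q_mem n x hx) * (D.Ψ D.q) ^ n = D.Ψ x := by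
  rw [ιR_apply, HomogeneousLocalization.Away.val_mk, ← ψ_algebraMap, ← ψ_algebraMap, ← map_pow,
    ← map_mul, Localization.mk_eq_mk']
  congr 1
  rw [← map_pow]
  exact IsLocalization.mk'_spec _ x ⟨D.q ^ n, _⟩

theorem ιR_smul (k : K) (z : Rq D.q) : D.ιR (k • z) = k • D.ιR z := by
  rw [ιR_apply, ιR_apply, HomogeneousLocalization.val_smul, Algebra.smul_def, Algebra.smul_def,
    map_mul, IsScalarTower.algebraMap_apply K (MvPolynomial (Fin 2) K) (Localization.Away D.q),
    ψ_algebraMap, MvPolynomial.algebraMap_eq, Ψ_C, LaurentPolynomial.algebraMap_apply]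

/-- the embedding as an algebra hom -/
noncomputable def ι : Rq D.q →ₐ[K] L[T;T⁻¹] :=
  AlgHom.mk' D.ιR D.ιR_smul

theorem ι_apply (z : Rq D.q) : D.ι z = D.ιR z := rfl


/-- the semilinear involution `T ↦ T⁻¹` -/
noncomputable def τ : L[T;T⁻¹] →+* L[T;T⁻¹] :=
  LaurentPolynomial.eval₂ ((C : L →+* L[T;T⁻¹]).comp (D.σ : L →+* L)) (unitT⁻¹)

theorem τ_C (z : L) : D.τ (C z) = C (D.σ z) := by
  rw [τ, eval₂_C]; rfl

theorem τ_T (n : ℤ) : D.τ (T n) = T (-n) := by
  rw [τ, eval₂_T, inv_zpow', unitT_zpow_val]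

theorem T_neg_one_mul : (T (-1) : L[T;T⁻¹]) * T 1 = 1 := by rw [← T_add]; exact T_zero

theorem τ_Ψ {p : MvPolynomial (Fin 2) K} {m : ℕ} (hp : p.IsHomogeneous m) :
    D.τ (D.Ψ p) = (-T (-1)) ^ m * D.Ψ p := by
  refine hom_scale (D.τ.comp (D.Ψ : MvPolynomial (Fin 2) K →+* L[T;T⁻¹]))
    (D.Ψ : MvPolynomial (Fin 2) K →+* L[T;T⁻¹]) (-T (-1)) ?_ ?_ hp
  · intro k
    simp only [RingHom.comp_apply, RingHom.coe_coe, Ψ_C, τ_C, AlgHom.commutes]
  · intro i
    fin_cases i
    · simp only [RingHom.comp_apply, RingHom.coe_coe, Fin.zero_eta, Ψ_X0]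
      unfold xT
      rw [map_sub, map_mul, τ_C, τ_C, τ_T, D.hσ, D.hσ']
      linear_combination (C D.θ' : L[T;T⁻¹]) * (T_neg_one_mul (L := L))
    · simp only [RingHom.comp_apply, RingHom.coe_coe, Fin.mk_one, Ψ_X1]
      unfold yT
      rw [map_sub, map_one, τ_T]
      linear_combination (T_neg_one_mul (L := L))

theorem isUnit_neg_T (_D : QData K L) : IsUnit (-T (-1) : L[T;T⁻¹]) := (isUnit_T (-1)).neg

theorem mem_homog_iff {p : MvPolynomial (Fin 2) K} {m : ℕ} :
    p ∈ MvPolynomial.homogeneousSubmodule (Fin 2) K m ↔ p.IsHomogeneous m :=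
  MvPolynomial.mem_homogeneousSubmodule _ _

/-- `ι` lands in the `τ`-invariants -/
theorem τ_ι (z : Rq D.q) : D.τ (D.ι z) = D.ι z := by
  obtain ⟨n, x, hx, rfl⟩ := HomogeneousLocalization.Away.mk_surjective _ D.q_mem z
  have h1 := D.ιR_mk_mul n x hx
  have h2 := congrArg D.τ h1
  rw [map_mul, map_pow, D.τ_Ψ (mem_homog_iff.mp hx), D.τ_Ψ (mem_homog_iff.mp D.q_mem), ← h1] at h2
  rw [ι_apply]
  have hu : IsUnit (((-T (-1) : L[T;T⁻¹]) ^ 2 * D.Ψ D.q) ^ n) :=
    ((D.isUnit_neg_T.pow 2).mul D.isUnit_Ψ_q).pow n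
  apply hu.mul_left_injective
  beta_reduce
  rw [h2, smul_eq_mul, mul_pow, ← pow_mul]
  ring


section inj

/-- the fraction field of `L[x,y]` -/
abbrev FF (L : Type*) [Field L] := FractionRing (MvPolynomial (Fin 2) L)

/-- `K[x,y] → Frac L[x,y]` -/
noncomputable def jF : MvPolynomial (Fin 2) K →+* FF L :=
  (algebraMap (MvPolynomial (Fin 2) L) (FF L)).comp (MvPolynomial.map (algebraMap K L))

theorem jF_injective : Function.Injective (jF (K := K) (L := L)) :=
  (IsFractionRing.injective (MvPolynomial (Fin 2) L) (FF L)).comp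
    (MvPolynomial.map_injective _ (algebraMap K L).injective)

/-- constants in the fraction field -/
noncomputable def cF : L →+* FF L :=
  (algebraMap (MvPolynomial (Fin 2) L) (FF L)).comp MvPolynomial.C

theorem jF_C (k : K) : jF (L := L) (MvPolynomial.C k) = cF (algebraMap K L k) := by
  simp [jF, cF]

theorem linF_ne (t : L) :
    (jF (K := K) (L := L) (MvPolynomial.X 0) - cF t * jF (K := K) (MvPolynomial.X 1)) ≠ 0 := by
  have h : (MvPolynomial.X 0 - MvPolynomial.C t * MvPolynomial.X 1 : MvPolynomial (Fin 2) L) ≠ 0 := by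
    intro h0
    have := congrArg (MvPolynomial.coeff (Finsupp.single 0 1)) h0
    rw [MvPolynomial.coeff_sub, MvPolynomial.coeff_C_mul, MvPolynomial.coeff_X', MvPolynomial.coeff_X',
      if_pos rfl, if_neg] at this
    · simp at this
    · intro h1
      have := DFunLike.congr_fun h1 (0 : Fin 2)
      simp at this
  have h2 : (jF (K := K) (L := L) (MvPolynomial.X 0) - cF t * jF (K := K) (MvPolynomial.X 1)) =
      algebraMap (MvPolynomial (Fin 2) L) (FF L)
        (MvPolynomial.X 0 - MvPolynomial.C t * MvPolynomial.X 1) := by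
    simp [jF, cF]
  rw [h2]
  exact (map_ne_zero_iff _ (IsFractionRing.injective (MvPolynomial (Fin 2) L) (FF L))).mpr h

end inj

/-- `ℓ = x - θ y` in the fraction field -/
noncomputable def lF : FF L := jF (K := K) (MvPolynomial.X 0) - cF D.θ * jF (K := K) (MvPolynomial.X 1)

/-- `ℓ' = x - θ' y` in the fraction field -/
noncomputable def lF' : FF L := jF (K := K) (MvPolynomial.X 0) - cF D.θ' * jF (K := K) (MvPolynomial.X 1)

theorem lF_ne : D.lF ≠ 0 := linF_ne D.θ
theorem lF'_ne : D.lF' ≠ 0 := linF_ne D.θ'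

/-- the map `T ↦ ℓ/ℓ'` -/
noncomputable def Ω : L[T;T⁻¹] →+* FF L :=
  LaurentPolynomial.eval₂ cF (Units.mk0 (D.lF / D.lF') (div_ne_zero D.lF_ne D.lF'_ne))

theorem Ω_C (z : L) : D.Ω (C z) = cF z := by rw [Ω, eval₂_C]

theorem Ω_T1 : D.Ω (T 1) = D.lF / D.lF' := by
  rw [Ω, eval₂_T, zpow_one, Units.val_mk0]

theorem Ω_Ψ {p : MvPolynomial (Fin 2) K} {m : ℕ} (hp : p.IsHomogeneous m) :
    D.Ω (D.Ψ p) = (cF D.δ / D.lF') ^ m * jF p := by
  refine hom_scale (D.Ω.comp (D.Ψ : MvPolynomial (Fin 2) K →+* L[T;T⁻¹]))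
    (jF (K := K) (L := L)) (cF D.δ / D.lF') ?_ ?_ hp
  · intro k
    simp only [RingHom.comp_apply, RingHom.coe_coe, Ψ_C, Ω_C, jF_C]
  · intro i
    have hl := D.lF'_ne
    fin_cases i
    · simp only [RingHom.comp_apply, RingHom.coe_coe, Fin.zero_eta, Ψ_X0]
      unfold xT
      rw [map_sub, map_mul, Ω_C, Ω_C, Ω_T1]
      field_simp
      unfold lF lF' δ
      rw [map_sub]
      ring
    · simp only [RingHom.comp_apply, RingHom.coe_coe, Fin.mk_one, Ψ_X1]
      unfold yT
      rw [map_sub, map_one, Ω_T1]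
      field_simp
      unfold lF lF' δ
      rw [map_sub]
      ring

theorem Ψ_eq_zero {p : MvPolynomial (Fin 2) K} {m : ℕ} (hp : p.IsHomogeneous m)
    (h : D.Ψ p = 0) : p = 0 := by
  have h1 := D.Ω_Ψ hp
  rw [h, map_zero] at h1
  have h2 : (cF D.δ / D.lF') ^ m ≠ 0 :=
    pow_ne_zero _ (div_ne_zero ((map_ne_zero_iff _ cF.injective).mpr D.δ_ne) D.lF'_ne)
  have h3 : jF (L := L) p = 0 := by
    rcases mul_eq_zero.mp h1.symm with h | h
    · exact absurd h h2
    · exact h
  exact jF_injective (by rw [h3, map_zero])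

theorem ι_injective : Function.Injective D.ι := by
  rw [injective_iff_map_eq_zero]
  intro z hz
  obtain ⟨n, x, hx, rfl⟩ := HomogeneousLocalization.Away.mk_surjective _ D.q_mem z
  have h1 := D.ιR_mk_mul n x hx
  rw [← ι_apply, hz, zero_mul] at h1
  have hx0 : x = 0 := D.Ψ_eq_zero (mem_homog_iff.mp hx) h1.symm
  subst hx0
  apply HomogeneousLocalization.val_injective
  rw [HomogeneousLocalization.Away.val_mk, Localization.mk_zero, HomogeneousLocalization.val_zero]

end QData

end Groth.Agent.Lib.T3H4.PLine
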