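import Mathlib
import Groth.Agent.Lib.T3H4PLineIota

/-!
# Splitting an irreducible binary quadratic form over a quadratic extension (helper4)
-/

set_option autoImplicit false

attribute [local instance] MvPolynomial.gradedAlgebra

namespace Groth.Agent.Lib.T3H4.PLine

open MvPolynomial

universe u

section form

variable {K : Type u} [Field K]

/-- the three monomials of degree two -/
noncomputable def d0 : Fin 2 →₀ ℕ := Finsupp.single 0 2
noncomputable def d1 : Fin 2 →₀ ℕ := Finsupp.single 0 1 + Finsupp.single 1 1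
noncomputable def d2 : Fin 2 →₀ ℕ := Finsupp.single 1 2

theorem d01 : d0 ≠ d1 := by
  intro h
  have := DFunLike.congr_fun h 0
  simp [d0, d1] at this

theorem d02 : d0 ≠ d2 := by
  intro h
  have := DFunLike.congr_fun h 0
  simp [d0, d2] at this

theorem d12 : d1 ≠ d2 := by
  intro h
  have := DFunLike.congr_fun h 0
  simp [d1, d2] at this

theorem eq_d_of_degree (d : Fin 2 →₀ ℕ) (h : d.degree = 2) : d = d0 ∨ d = d1 ∨ d = d2 := by
  rw [Finsupp.degree_eq_sum, Fin.sum_univ_two] at h
  have h0 : d 0 ≤ 2 := by omega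
  interval_cases h00 : d 0
  · right; right
    ext i; fin_cases i
    · simp [d2, h00]
    · simp [d2]; omega
  · right; left
    ext i; fin_cases i
    · simp [d1, h00]
    · simp [d1]; omega
  · left
    ext i; fin_cases i
    · simp [d0, h00]
    · simp [d0]; omega

theorem form_eq (q : MvPolynomial (Fin 2) K) (hq : q.IsHomogeneous 2) :
    q = C (q.coeff d0) * X 0 ^ 2 + C (q.coeff d1) * X 0 * X 1 + C (q.coeff d2) * X 1 ^ 2 := by
  have e0 : (C (q.coeff d0) * X 0 ^ 2 : MvPolynomial (Fin 2) K) = monomial d0 (q.coeff d0) := by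
    rw [d0, C_mul_X_pow_eq_monomial]
  have e2 : (C (q.coeff d2) * X 1 ^ 2 : MvPolynomial (Fin 2) K) = monomial d2 (q.coeff d2) := by
    rw [d2, C_mul_X_pow_eq_monomial]
  have e1 : (C (q.coeff d1) * X 0 * X 1 : MvPolynomial (Fin 2) K) = monomial d1 (q.coeff d1) := by
    rw [d1, C_mul_X_eq_monomial, X, monomial_mul, mul_one]
  rw [e0, e1, e2]
  ext d
  simp only [coeff_add, coeff_monomial]
  by_cases h0 : d0 = d
  · subst h0
    rw [if_pos rfl, if_neg (Ne.symm d01), if_neg (Ne.symm d02), add_zero, add_zero]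
  by_cases h1 : d1 = d
  · subst h1
    rw [if_neg d01, if_pos rfl, if_neg (Ne.symm d12), zero_add, add_zero]
  by_cases h2 : d2 = d
  · subst h2
    rw [if_neg d02, if_neg d12, if_pos rfl, zero_add, zero_add]
  rw [if_neg h0, if_neg h1, if_neg h2, add_zero, add_zero]
  by_contra hne
  have := hq hne
  have hdeg : d.degree = 2 := by
    rw [Finsupp.degree_eq_weight_one]
    exact this
  rcases eq_d_of_degree d hdeg with h | h | h
  · exact h0 h.symm
  · exact h1 h.symm
  · exact h2 h.symm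

theorem not_isUnit_of_eval {p : MvPolynomial (Fin 2) K} (v : Fin 2 → K) (h : eval v p = 0) :
    ¬ IsUnit p := by
  intro hu
  have := hu.map (eval v)
  rw [h] at this
  exact not_isUnit_zero this

theorem a_ne_zero (a b c : K)
    (hirr : Irreducible (C a * X 0 ^ 2 + C b * X 0 * X 1 + C c * X 1 ^ 2 : MvPolynomial (Fin 2) K)) :
    a ≠ 0 := by
  rintro rfl
  have h : (C 0 * X 0 ^ 2 + C b * X 0 * X 1 + C c * X 1 ^ 2 : MvPolynomial (Fin 2) K) =
      X 1 * (C b * X 0 + C c * X 1) := by
    rw [map_zero]; ring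
  rw [h] at hirr
  rcases hirr.isUnit_or_isUnit rfl with hu | hu
  · exact not_isUnit_of_eval ![1, 0] (by simp) hu
  · exact not_isUnit_of_eval ![c, -b] (by simp; ring) hu

theorem no_root (a b c : K)
    (hirr : Irreducible (C a * X 0 ^ 2 + C b * X 0 * X 1 + C c * X 1 ^ 2 : MvPolynomial (Fin 2) K))
    (r : K) : a * r ^ 2 + b * r + c ≠ 0 := by
  intro hr
  have hc : c = -(a * r ^ 2 + b * r) := by linear_combination hr
  have h : (C a * X 0 ^ 2 + C b * X 0 * X 1 + C c * X 1 ^ 2 : MvPolynomial (Fin 2) K) =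
      (X 0 - C r * X 1) * (C a * X 0 + C (b + a * r) * X 1) := by
    rw [hc]
    simp only [map_neg, map_add, map_mul, map_pow]
    ring
  rw [h] at hirr
  rcases hirr.isUnit_or_isUnit rfl with hu | hu
  · exact not_isUnit_of_eval ![r, 1] (by simp) hu
  · exact not_isUnit_of_eval ![b + a * r, -a] (by simp; ring) hu

end form


section ext

variable {K : Type u} [Field K]

/-- the dehomogenized quadratic polynomial -/
noncomputable def pK (a b c : K) : Polynomial K :=
  Polynomial.C a * Polynomial.X ^ 2 + Polynomial.C b * Polynomial.X + Polynomial.C c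

theorem pK_natDegree {a b c : K} (ha : a ≠ 0) : (pK a b c).natDegree = 2 :=
  Polynomial.natDegree_quadratic ha

theorem pK_irreducible {a b c : K} (ha : a ≠ 0) (hr : ∀ r : K, a * r ^ 2 + b * r + c ≠ 0) :
    Irreducible (pK a b c) := by
  apply Polynomial.irreducible_of_degree_le_three_of_not_isRoot
  · rw [pK_natDegree ha]; simp
  · intro x hx
    apply hr x
    simpa [pK, Polynomial.IsRoot] using hx

theorem eval₂_pK {S : Type*} [CommRing S] (a b c : K) (f : K →+* S) (x : S) :
    (pK a b c).eval₂ f x = f a * x ^ 2 + f b * x + f c := by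
  unfold pK
  rw [Polynomial.eval₂_add, Polynomial.eval₂_add, Polynomial.eval₂_mul, Polynomial.eval₂_mul,
    Polynomial.eval₂_pow, Polynomial.eval₂_X, Polynomial.eval₂_C, Polynomial.eval₂_C,
    Polynomial.eval₂_C]

theorem exists_QData_of (a b c : K) (ha : a ≠ 0) (hr : ∀ r : K, a * r ^ 2 + b * r + c ≠ 0)
    (hdisc : b ^ 2 - 4 * a * c ≠ 0) :
    ∃ (L : Type u) (_ : Field L) (_ : Algebra K L) (D : QData K L),
      D.a = a ∧ D.b = b ∧ D.c = c := by
  haveI : Fact (Irreducible (pK a b c)) := ⟨pK_irreducible ha hr⟩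
  have hp0 : pK a b c ≠ 0 := by
    intro h
    have := pK_natDegree (b := b) (c := c) ha
    rw [h, Polynomial.natDegree_zero] at this
    exact absurd this (by norm_num)
  obtain ⟨θ, hθdef⟩ : ∃ t : AdjoinRoot (pK a b c), t = AdjoinRoot.root (pK a b c) := ⟨_, rfl⟩
  obtain ⟨a', ha'⟩ : ∃ t : AdjoinRoot (pK a b c), t = algebraMap K _ a := ⟨_, rfl⟩
  obtain ⟨b', hb'⟩ : ∃ t : AdjoinRoot (pK a b c), t = algebraMap K _ b := ⟨_, rfl⟩
  obtain ⟨c', hc'⟩ : ∃ t : AdjoinRoot (pK a b c), t = algebraMap K _ c := ⟨_, rfl⟩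
  have ha0 : a' ≠ 0 := by
    rw [ha']
    exact (map_ne_zero_iff _ (algebraMap K (AdjoinRoot (pK a b c))).injective).mpr ha
  have hroot : a' * θ ^ 2 + b' * θ + c' = 0 := by
    have := AdjoinRoot.eval₂_root (pK a b c)
    rw [eval₂_pK, ← AdjoinRoot.algebraMap_eq] at this
    rw [ha', hb', hc', hθdef]
    exact this
  obtain ⟨θ', hθ'def⟩ : ∃ t : AdjoinRoot (pK a b c), t = -b' / a' - θ := ⟨_, rfl⟩
  have h2 : a' * θ' = -b' - a' * θ := by rw [hθ'def]; field_simp
  have hsum : a' * (θ + θ') = -b' := by linear_combination h2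
  have hroot' : a' * θ' ^ 2 + b' * θ' + c' = 0 := by
    linear_combination (θ') * h2 + hroot - θ * h2
  have hdisc' : b' ^ 2 - 4 * a' * c' ≠ 0 := by
    have : b' ^ 2 - 4 * a' * c' = algebraMap K (AdjoinRoot (pK a b c)) (b ^ 2 - 4 * a * c) := by
      simp only [map_sub, map_mul, map_pow, map_ofNat, ha', hb', hc']
    rw [this]
    exact (map_ne_zero_iff _ (algebraMap K (AdjoinRoot (pK a b c))).injective).mpr hdisc
  have hθ : θ ≠ θ' := by
    intro h
    apply hdisc'
    have he : 2 * a' * θ + b' = 0 := by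
      have := hsum
      rw [← h] at this
      linear_combination this
    linear_combination (2 * a' * θ + b') * he - 4 * a' * hroot
  let σ : AdjoinRoot (pK a b c) →ₐ[K] AdjoinRoot (pK a b c) :=
    AdjoinRoot.liftAlgHom (pK a b c) (Algebra.ofId K _) θ' (by
      rw [eval₂_pK]
      change algebraMap K _ a * θ' ^ 2 + algebraMap K _ b * θ' + algebraMap K _ c = 0
      rw [← ha', ← hb', ← hc']
      exact hroot')
  have hσθ : σ θ = θ' := by rw [hθdef]; exact AdjoinRoot.liftAlgHom_root _ _ _ _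
  have hσθ' : σ θ' = θ := by
    rw [hθ'def, map_sub, map_div₀, map_neg, hσθ, ha', hb', AlgHom.commutes, AlgHom.commutes,
      ← ha', ← hb', hθ'def]
    ring
  have hspan : ∀ z : AdjoinRoot (pK a b c), ∃ k₁ k₂ : K,
      z = algebraMap K _ k₁ + algebraMap K _ k₂ * θ := by
    intro z
    obtain ⟨f, hf, hz⟩ := (AdjoinRoot.powerBasis hp0).exists_eq_aeval z
    rw [AdjoinRoot.powerBasis_dim, pK_natDegree ha] at hf
    rw [AdjoinRoot.powerBasis_gen] at hz
    obtain ⟨k₂, k₁, rfl⟩ := Polynomial.exists_eq_X_add_C_of_natDegree_le_one (Nat.lt_succ_iff.mp hf)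
    refine ⟨k₁, k₂, ?_⟩
    rw [hz, hθdef]
    simp only [map_add, map_mul, Polynomial.aeval_C, Polynomial.aeval_X]
    ring
  refine ⟨AdjoinRoot (pK a b c), inferInstance, inferInstance,
    { a := a, b := b, c := c, θ := θ, θ' := θ', ha := ha, hθ := hθ, hb := ?_, hc := ?_, σ := σ,
      hσ := hσθ, hσ' := hσθ', hspan := hspan }, rfl, rfl, rfl⟩
  · rw [← ha', ← hb']
    linear_combination hsum
  · rw [← ha', ← hc']
    linear_combination hroot - θ * h2

theorem exists_QData (q : MvPolynomial (Fin 2) K) (hq : q.IsHomogeneous 2) (hirr : Irreducible q)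
    (hdisc : (q.coeff (Finsupp.single 0 1 + Finsupp.single 1 1)) ^ 2 -
      4 * q.coeff (Finsupp.single 0 2) * q.coeff (Finsupp.single 1 2) ≠ 0) :
    ∃ (L : Type u) (_ : Field L) (_ : Algebra K L) (D : QData K L), D.q = q := by
  have hform := form_eq q hq
  have hirr' := hirr
  rw [hform] at hirr'
  obtain ⟨L, _, _, D, h1, h2, h3⟩ := exists_QData_of (q.coeff d0) (q.coeff d1) (q.coeff d2)
    (a_ne_zero _ _ _ hirr') (no_root _ _ _ hirr') hdisc
  refine ⟨L, inferInstance, inferInstance, D, ?_⟩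
  rw [QData.q, h1, h2, h3]
  exact hform.symm

end ext

end Groth.Agent.Lib.T3H4.PLine
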