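import Mathlib
import Groth.Agent.Lib.T3H4PLineIota

/-!
# `L ⊗_K R ≃ L[T;T⁻¹]` and extension of automorphisms (helper4)
-/

set_option autoImplicit false

attribute [local instance] MvPolynomial.gradedAlgebra

namespace Groth.Agent.Lib.T3H4.PLine

open LaurentPolynomial TensorProduct

attribute [local instance] algKR

variable {K L : Type*} [Field K] [Field L] [Algebra K L] (D : QData K L)

namespace QData

/-- a fraction `p / q` with `p` a quadratic form -/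
noncomputable def fr (p : MvPolynomial (Fin 2) K) (hp : p.IsHomogeneous 2) : Rq D.q :=
  HomogeneousLocalization.Away.mk _ D.q_mem 1 p (by rw [mem_homog_iff]; simpa using hp)

theorem ι_fr (p : MvPolynomial (Fin 2) K) (hp : p.IsHomogeneous 2) :
    D.ι (D.fr p hp) * D.Ψ D.q = D.Ψ p := by
  have := D.ιR_mk_mul 1 p (by rw [mem_homog_iff]; simpa using hp)
  rw [pow_one] at this
  exact this

theorem hom_X0sq : (MvPolynomial.X 0 ^ 2 : MvPolynomial (Fin 2) K).IsHomogeneous 2 :=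
  MvPolynomial.isHomogeneous_X_pow _ _

theorem hom_X1sq : (MvPolynomial.X 1 ^ 2 : MvPolynomial (Fin 2) K).IsHomogeneous 2 :=
  MvPolynomial.isHomogeneous_X_pow _ _

theorem hom_X0X1 : (MvPolynomial.X 0 * MvPolynomial.X 1 : MvPolynomial (Fin 2) K).IsHomogeneous 2 :=
  (MvPolynomial.isHomogeneous_X K 0).mul (MvPolynomial.isHomogeneous_X K 1)

/-- `u = x²/q` -/
noncomputable def u : Rq D.q := D.fr _ hom_X0sq
/-- `v = xy/q` -/
noncomputable def v : Rq D.q := D.fr _ hom_X0X1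
/-- `w = y²/q` -/
noncomputable def w : Rq D.q := D.fr _ hom_X1sq

theorem ι_u : D.ι D.u * D.Ψ D.q = D.xT ^ 2 := by
  rw [u, ι_fr, map_pow, Ψ_X0]

theorem ι_v : D.ι D.v * D.Ψ D.q = D.xT * D.yT := by
  rw [v, ι_fr, map_mul, Ψ_X0, Ψ_X1]

theorem ι_w : D.ι D.w * D.Ψ D.q = D.yT ^ 2 := by
  rw [w, ι_fr, map_pow, Ψ_X1]

theorem T_eq (t : L) :
    C (algebraMap K L D.a) * (D.ι D.u - C (2 * t) * D.ι D.v + C (t ^ 2) * D.ι D.w) * D.Ψ D.q =
      C (algebraMap K L D.a) * (D.xT - C t * D.yT) ^ 2 := by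
  calc C (algebraMap K L D.a) * (D.ι D.u - C (2 * t) * D.ι D.v + C (t ^ 2) * D.ι D.w) * D.Ψ D.q
      = C (algebraMap K L D.a) * (D.ι D.u * D.Ψ D.q - C (2 * t) * (D.ι D.v * D.Ψ D.q)
          + C (t ^ 2) * (D.ι D.w * D.Ψ D.q)) := by ring
    _ = C (algebraMap K L D.a) * (D.xT - C t * D.yT) ^ 2 := by
      rw [ι_u, ι_v, ι_w, map_mul, map_pow, map_ofNat]
      ring

theorem T_one_eq : (T 1 : L[T;T⁻¹]) =
    C (algebraMap K L D.a) * (D.ι D.u - C (2 * D.θ) * D.ι D.v + C (D.θ ^ 2) * D.ι D.w) := by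
  apply D.isUnit_Ψ_q.mul_left_injective
  beta_reduce
  rw [T_eq, Ψ_q]
  unfold xT yT δ
  simp only [map_mul, map_pow, map_sub]
  ring

theorem T_neg_one_eq : (T (-1) : L[T;T⁻¹]) =
    C (algebraMap K L D.a) * (D.ι D.u - C (2 * D.θ') * D.ι D.v + C (D.θ' ^ 2) * D.ι D.w) := by
  apply D.isUnit_Ψ_q.mul_left_injective
  beta_reduce
  rw [T_eq, Ψ_q]
  unfold xT yT δ
  simp only [map_mul, map_pow, map_sub]
  linear_combination (C (algebraMap K L D.a) * (C D.θ' - C D.θ) ^ 2 : L[T;T⁻¹]) * (T_neg_one_mul (L := L))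

/-- the comparison map `L ⊗_K R → L[T;T⁻¹]` -/
noncomputable def f : L ⊗[K] Rq D.q →ₐ[L] L[T;T⁻¹] :=
  Algebra.TensorProduct.lift (Algebra.ofId L L[T;T⁻¹]) D.ι (fun _ _ => Commute.all _ _)

theorem f_tmul (l : L) (r : Rq D.q) : D.f (l ⊗ₜ r) = C l * D.ι r := by
  rw [f, Algebra.TensorProduct.lift_tmul, Algebra.ofId_apply, C_eq_algebraMap]

theorem f_surjective : Function.Surjective D.f := by
  rw [← AlgHom.range_eq_top]
  have hι : ∀ r, D.ι r ∈ D.f.range := fun r => ⟨1 ⊗ₜ r, by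
    change D.f (1 ⊗ₜ r) = _
    rw [f_tmul, map_one, one_mul]⟩
  have hC : ∀ l : L, (C l : L[T;T⁻¹]) ∈ D.f.range := fun l => by
    rw [C_eq_algebraMap]; exact Subalgebra.algebraMap_mem _ l
  have h1 : (T 1 : L[T;T⁻¹]) ∈ D.f.range := by
    rw [T_one_eq D]
    exact mul_mem (hC _) (add_mem (sub_mem (hι _) (mul_mem (hC _) (hι _))) (mul_mem (hC _) (hι _)))
  have h2 : (T (-1) : L[T;T⁻¹]) ∈ D.f.range := by
    rw [T_neg_one_eq D]
    exact mul_mem (hC _) (add_mem (sub_mem (hι _) (mul_mem (hC _) (hι _))) (mul_mem (hC _) (hι _)))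
  have hT : ∀ n : ℤ, (T n : L[T;T⁻¹]) ∈ D.f.range := by
    intro n
    obtain ⟨m, rfl | rfl⟩ := n.eq_nat_or_neg
    · have := pow_mem h1 m
      rwa [T_pow, mul_one] at this
    · have := pow_mem h2 m
      rwa [T_pow, mul_neg, mul_one] at this
  rw [eq_top_iff]
  intro p hp0
  clear hp0
  induction p using LaurentPolynomial.induction_on' with
  | add p q hp hq => exact add_mem hp hq
  | C_mul_T n a => exact mul_mem (hC a) (hT n)

theorem exists_tmul_eq (z : L ⊗[K] Rq D.q) :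
    ∃ r₁ r₂ : Rq D.q, z = (1 : L) ⊗ₜ r₁ + D.θ ⊗ₜ r₂ := by
  induction z using TensorProduct.induction_on with
  | zero => exact ⟨0, 0, by simp⟩
  | tmul l r =>
    obtain ⟨k₁, k₂, rfl⟩ := D.hspan l
    refine ⟨k₁ • r, k₂ • r, ?_⟩
    rw [add_tmul, Algebra.algebraMap_eq_smul_one, ← smul_eq_mul, algebraMap_smul,
      smul_tmul, smul_tmul]
  | add x y hx hy =>
    obtain ⟨a₁, a₂, rfl⟩ := hx
    obtain ⟨b₁, b₂, rfl⟩ := hy
    refine ⟨a₁ + b₁, a₂ + b₂, ?_⟩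
    rw [tmul_add, tmul_add]
    abel

theorem f_injective : Function.Injective D.f := by
  rw [injective_iff_map_eq_zero]
  intro z hz
  obtain ⟨r₁, r₂, rfl⟩ := D.exists_tmul_eq z
  rw [map_add, f_tmul, f_tmul, map_one, one_mul] at hz
  have hz' := congrArg D.τ hz
  rw [map_add, map_mul, τ_ι, τ_ι, τ_C, D.hσ, map_zero] at hz'
  have h2 : C (D.θ - D.θ') * D.ι r₂ = 0 := by
    rw [map_sub]; linear_combination hz - hz'
  have hu : IsUnit (C (D.θ - D.θ') : L[T;T⁻¹]) :=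
    IsUnit.map (C : L →+* L[T;T⁻¹]) (isUnit_iff_ne_zero.mpr (sub_ne_zero.mpr D.hθ))
  have h3 : D.ι r₂ = 0 := hu.mul_right_eq_zero.mp h2
  have h4 : r₂ = 0 := D.ι_injective (by rw [h3, map_zero])
  rw [h3, mul_zero, add_zero] at hz
  have h5 : r₁ = 0 := D.ι_injective (by rw [hz, map_zero])
  rw [h4, h5, tmul_zero, tmul_zero, add_zero]

/-- the comparison isomorphism -/
noncomputable def E : L ⊗[K] Rq D.q ≃ₐ[L] L[T;T⁻¹] :=
  AlgEquiv.ofBijective D.f ⟨D.f_injective, D.f_surjective⟩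

theorem E_tmul (l : L) (r : Rq D.q) : D.E (l ⊗ₜ r) = C l * D.ι r := D.f_tmul l r


/-- extension of a `K`-algebra endomorphism of `R` to an `L`-algebra endomorphism of `L[T;T⁻¹]` -/
noncomputable def Φ (φ : Rq D.q →ₐ[K] Rq D.q) : L[T;T⁻¹] →ₐ[L] L[T;T⁻¹] :=
  (D.E : L ⊗[K] Rq D.q →ₐ[L] L[T;T⁻¹]).comp
    ((Algebra.TensorProduct.map (AlgHom.id L L) φ).comp
      (D.E.symm : L[T;T⁻¹] →ₐ[L] L ⊗[K] Rq D.q))

theorem Φ_E (φ : Rq D.q →ₐ[K] Rq D.q) (z : L ⊗[K] Rq D.q) :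
    D.Φ φ (D.E z) = D.E (Algebra.TensorProduct.map (AlgHom.id L L) φ z) := by
  simp [Φ]

theorem Φ_mul_ι (φ : Rq D.q →ₐ[K] Rq D.q) (l : L) (r : Rq D.q) :
    D.Φ φ (C l * D.ι r) = C l * D.ι (φ r) := by
  rw [← E_tmul, Φ_E, Algebra.TensorProduct.map_tmul, E_tmul]
  rfl

theorem Φ_ι (φ : Rq D.q →ₐ[K] Rq D.q) (r : Rq D.q) : D.Φ φ (D.ι r) = D.ι (φ r) := by
  have := D.Φ_mul_ι φ 1 r
  rwa [map_one, one_mul, one_mul] at this

theorem Φ_comp_apply (φ ψ : Rq D.q →ₐ[K] Rq D.q) (z : L[T;T⁻¹]) :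
    D.Φ (φ.comp ψ) z = D.Φ φ (D.Φ ψ z) := by
  obtain ⟨w, rfl⟩ := D.E.surjective z
  rw [Φ_E, Φ_E, Φ_E]
  congr 1
  induction w using TensorProduct.induction_on with
  | zero => simp
  | tmul l r => simp
  | add x y hx hy => rw [map_add, map_add, map_add, hx, hy]

theorem Φ_id_apply (z : L[T;T⁻¹]) : D.Φ (AlgHom.id K (Rq D.q)) z = z := by
  obtain ⟨w, rfl⟩ := D.E.surjective z
  rw [Φ_E]
  congr 1
  induction w using TensorProduct.induction_on with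
  | zero => simp
  | tmul l r => simp
  | add x y hx hy => rw [map_add, hx, hy]

theorem Φ_τ (φ : Rq D.q →ₐ[K] Rq D.q) (z : L[T;T⁻¹]) : D.Φ φ (D.τ z) = D.τ (D.Φ φ z) := by
  obtain ⟨w, rfl⟩ := D.E.surjective z
  induction w using TensorProduct.induction_on with
  | zero => simp
  | tmul l r =>
    rw [E_tmul, map_mul, τ_C, τ_ι, Φ_mul_ι, Φ_mul_ι, map_mul, τ_C, τ_ι]
  | add x y hx hy => rw [map_add, map_add, map_add, map_add, map_add, hx, hy]

theorem Φ_C (φ : Rq D.q →ₐ[K] Rq D.q) (l : L) : D.Φ φ (C l) = C l := by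
  rw [C_eq_algebraMap, AlgHom.commutes]

/-- `Φ φ` is determined by its value on `T 1` -/
theorem Φ_ext (φ ψ : Rq D.q →ₐ[K] Rq D.q) (h : D.Φ φ (T 1) = D.Φ ψ (T 1)) : φ = ψ := by
  have h1 : (D.Φ φ : L[T;T⁻¹] →+* L[T;T⁻¹]) = (D.Φ ψ : L[T;T⁻¹] →+* L[T;T⁻¹]) :=
    laurent_ringHom_ext _ _ (fun a => by simp only [RingHom.coe_coe, Φ_C]) h
  refine AlgHom.ext (fun r => ?_)
  apply D.ι_injective
  rw [← Φ_ι, ← Φ_ι]
  exact RingHom.congr_fun h1 (D.ι r)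

end QData

end Groth.Agent.Lib.T3H4.PLine
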