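import Mathlib
import Groth.Agent.Lib.T3H4PLineExt

/-!
# Finite groups of automorphisms of `P^1` minus a quadratic point (helper4)
-/

set_option autoImplicit false

attribute [local instance] MvPolynomial.gradedAlgebra

namespace Groth.Agent.Lib.T3H4.PLine

open LaurentPolynomial TensorProduct

attribute [local instance] algKR

variable {K L : Type*} [Field K] [Field L] [Algebra K L] (D : QData K L)

namespace QData

theorem Φ_T_neg_one (φ : Rq D.q →ₐ[K] Rq D.q) {c : L} {e : ℤ} (hc : c ≠ 0)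
    (h : D.Φ φ (T 1) = C c * T e) : D.Φ φ (T (-1)) = C c⁻¹ * T (-e) := by
  have h1 : D.Φ φ (T (-1)) * D.Φ φ (T 1) = 1 := by
    rw [← map_mul, T_neg_one_mul, map_one]
  have h2 : (C c⁻¹ * T (-e) : L[T;T⁻¹]) * (C c * T e) = 1 := by
    calc (C c⁻¹ * T (-e) : L[T;T⁻¹]) * (C c * T e) = C (c⁻¹ * c) * (T (-e) * T e) := by
          rw [map_mul]; ring
      _ = 1 := by rw [inv_mul_cancel₀ hc, ← T_add, neg_add_cancel, T_zero, map_one, one_mul]
  have hu : IsUnit (D.Φ φ (T 1)) := (isUnit_T 1).map (D.Φ φ)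
  apply hu.mul_left_injective
  beta_reduce
  rw [h1, h, h2]

theorem Φ_T (φ : Rq D.q →ₐ[K] Rq D.q) {c : L} {e : ℤ} (hc : c ≠ 0)
    (h : D.Φ φ (T 1) = C c * T e) (n : ℤ) : D.Φ φ (T n) = C (c ^ n) * T (e * n) := by
  induction n using Int.induction_on with
  | zero => simp [T_zero]
  | succ n ih =>
    rw [T_add, map_mul, ih, h, zpow_add_one₀ hc, mul_add, mul_one, T_add, map_mul]
    ring
  | pred n ih =>
    rw [sub_eq_add_neg, T_add, map_mul, ih, D.Φ_T_neg_one φ hc h, ← sub_eq_add_neg,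
      zpow_sub_one₀ hc, mul_sub, mul_one, sub_eq_add_neg, T_add, map_mul]
    ring

/-- composition law -/
theorem Φ_comp_T (φ ψ : Rq D.q →ₐ[K] Rq D.q) {c c' : L} {e e' : ℤ} (hc : c ≠ 0)
    (h : D.Φ φ (T 1) = C c * T e) (h' : D.Φ ψ (T 1) = C c' * T e') :
    D.Φ (φ.comp ψ) (T 1) = C (c' * c ^ e') * T (e * e') := by
  rw [Φ_comp_apply, h', map_mul, Φ_C, D.Φ_T φ hc h, map_mul]
  ring

theorem T_one_eq_C : (T 1 : L[T;T⁻¹]) = C 1 * T 1 := by rw [map_one, one_mul]

/-- shape of the extension of an invertible endomorphism -/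
theorem shape (φ ψ : Rq D.q →ₐ[K] Rq D.q) (hφψ : φ.comp ψ = AlgHom.id K _) :
    ∃ (c : L) (e : ℤ), c ≠ 0 ∧ D.Φ φ (T 1) = C c * T e ∧ (e = 1 ∨ e = -1) ∧ D.σ c * c = 1 := by
  obtain ⟨c, e, hc, h⟩ := exists_eq_C_mul_T_of_isUnit _ ((isUnit_T 1).map (D.Φ φ))
  obtain ⟨c', e', hc', h'⟩ := exists_eq_C_mul_T_of_isUnit _ ((isUnit_T 1).map (D.Φ ψ))
  refine ⟨c, e, hc, h, ?_, ?_⟩
  · have h1 := D.Φ_comp_T φ ψ hc h h'
    rw [hφψ, Φ_id_apply] at h1
    nth_rewrite 1 [T_one_eq_C] at h1
    obtain ⟨_, h2⟩ := C_mul_T_injective one_ne_zero h1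
    exact Int.eq_one_or_neg_one_of_mul_eq_one h2.symm
  · have h1 := D.Φ_τ φ (T 1)
    rw [τ_T, D.Φ_T_neg_one φ hc h, h, map_mul, τ_C, τ_T] at h1
    obtain ⟨h2, _⟩ := C_mul_T_injective (inv_ne_zero hc) h1
    rw [← h2, inv_mul_cancel₀ hc]


end QData

/-- the algebra hom attached to a `K`-linear ring automorphism -/
noncomputable def φof (q : MvPolynomial (Fin 2) K) (g : Rq q ≃+* Rq q)
    (hg : ∀ (k : K) (z : Rq q), g (k • z) = k • g z) : Rq q →ₐ[K] Rq q :=
  AlgHom.mk' (g : Rq q →+* Rq q) hg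

@[simp] theorem φof_apply (q : MvPolynomial (Fin 2) K) (g : Rq q ≃+* Rq q)
    (hg : ∀ (k : K) (z : Rq q), g (k • z) = k • g z) (z : Rq q) : φof q g hg z = g z := rfl

/-- roots of unity in `L` are fixed by `σ` -/
theorem σ_fixed_of_pow_eq_one (hK : ∀ n : ℕ, 0 < n → (Polynomial.X ^ n - 1 : Polynomial K).Splits)
    (c : L) (n : ℕ) (hn : 0 < n) (hc : c ^ n = 1) : D.σ c = c := by
  have h0 : (Polynomial.X ^ n - 1 : Polynomial K) ≠ 0 := Polynomial.X_pow_sub_C_ne_zero hn 1
  have hroot : ((Polynomial.X ^ n - 1 : Polynomial K).map (algebraMap K L)).IsRoot c := by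
    simp [Polynomial.IsRoot, hc]
  obtain ⟨k, rfl⟩ := (hK n hn).mem_range_of_isRoot h0 hroot
  exact D.σ.commutes k

theorem main (hK : ∀ n : ℕ, 0 < n → (Polynomial.X ^ n - 1 : Polynomial K).Splits)
    (G : Subgroup (Rq D.q ≃+* Rq D.q)) [Finite G]
    (hG : ∀ g ∈ G, ∀ (k : K) (z : Rq D.q), g (k • z) = k • g z) :
    (∀ g ∈ G, g ^ 2 = 1) ∧ Nat.card G ≤ 4 := by
  classical
  -- the algebra hom of an element of G
  let F : G → (Rq D.q →ₐ[K] Rq D.q) := fun g => φof D.q g.1 (hG g.1 g.2)
  have hF_mul : ∀ g h : G, F (g * h) = (F g).comp (F h) := fun g h => rfl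
  have hF_one : F 1 = AlgHom.id K _ := rfl
  have hF_inj : ∀ g h : G, F g = F h → g = h := by
    intro g h hgh
    apply Subtype.ext
    apply RingEquiv.ext
    intro z
    exact AlgHom.congr_fun hgh z
  -- shape
  have hshape : ∀ g : G, ∃ (c : L) (e : ℤ), c ≠ 0 ∧ D.Φ (F g) (T 1) = C c * T e ∧
      (e = 1 ∨ e = -1) ∧ D.σ c * c = 1 := by
    intro g
    refine D.shape (F g) (F g⁻¹) ?_
    rw [← hF_mul, mul_inv_cancel, hF_one]
  choose cc ee hcc hΦ hee hσc using hshape
  -- powers
  have hpow : ∀ g : G, ee g = 1 → ∀ k : ℕ, D.Φ (F (g ^ k)) (T 1) = C (cc g ^ k) * T 1 := by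
    intro g hg k
    induction k with
    | zero => rw [pow_zero, hF_one, D.Φ_id_apply, pow_zero, map_one, one_mul]
    | succ k ih =>
      rw [pow_succ, hF_mul]
      have hck : cc g ^ k ≠ 0 := pow_ne_zero _ (hcc g)
      have h2 := hΦ g
      rw [hg] at h2
      rw [D.Φ_comp_T _ _ hck ih h2, zpow_one, mul_one, pow_succ']
  -- e = 1 ⇒ c^2 = 1
  have hsq : ∀ g : G, ee g = 1 → cc g * cc g = 1 := by
    intro g hg
    obtain ⟨n, hn, hgn⟩ := (isOfFinOrder_of_finite g).exists_pow_eq_one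
    have h1 := hpow g hg n
    rw [hgn, hF_one, D.Φ_id_apply] at h1
    nth_rewrite 1 [QData.T_one_eq_C] at h1
    obtain ⟨h2, _⟩ := C_mul_T_injective one_ne_zero h1
    have h3 := σ_fixed_of_pow_eq_one D hK (cc g) n hn h2.symm
    have h4 := hσc g
    rwa [h3] at h4
  -- composition
  have hcomp : ∀ g h : G, cc (g * h) = cc h * cc g ^ ee h ∧ ee (g * h) = ee g * ee h := by
    intro g h
    have h1 := D.Φ_comp_T (F g) (F h) (hcc g) (hΦ g) (hΦ h)
    rw [← hF_mul, hΦ (g * h)] at h1
    exact C_mul_T_injective (hcc _) h1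
  -- injectivity of the invariants
  have hinj : ∀ g h : G, cc g = cc h → ee g = ee h → g = h := by
    intro g h h1 h2
    apply hF_inj
    apply D.Φ_ext
    rw [hΦ g, hΦ h, h1, h2]
  constructor
  · intro g hg
    have hgg : (⟨g, hg⟩ : G) * ⟨g, hg⟩ = 1 := by
      apply hinj
      · obtain ⟨h1, h2⟩ := hcomp ⟨g, hg⟩ ⟨g, hg⟩
        have h3 : cc (1 : G) = 1 ∧ ee (1 : G) = 1 := by
          have := hΦ (1 : G)
          rw [hF_one, D.Φ_id_apply] at this
          nth_rewrite 1 [QData.T_one_eq_C] at this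
          obtain ⟨h4, h5⟩ := C_mul_T_injective one_ne_zero this
          exact ⟨h4.symm, h5.symm⟩
        rw [h1, h3.1]
        rcases hee ⟨g, hg⟩ with h | h
        · rw [h, zpow_one]; exact hsq _ h
        · rw [h, zpow_neg_one]; exact mul_inv_cancel₀ (hcc _)
      · obtain ⟨h1, h2⟩ := hcomp ⟨g, hg⟩ ⟨g, hg⟩
        have h3 : ee (1 : G) = 1 := by
          have := hΦ (1 : G)
          rw [hF_one, D.Φ_id_apply] at this
          nth_rewrite 1 [QData.T_one_eq_C] at this
          exact (C_mul_T_injective one_ne_zero this).2.symm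
        rw [h2, h3]
        rcases hee ⟨g, hg⟩ with h | h <;> rw [h] <;> norm_num
    have := congrArg Subtype.val hgg
    rw [pow_two]
    exact this
  · -- counting
    have hpm : ∀ g : G, ee g = 1 → cc g = 1 ∨ cc g = -1 := fun g hg =>
      mul_self_eq_one_iff.mp (hsq g hg)
    by_cases hex : ∃ g₀ : G, ee g₀ = -1
    · obtain ⟨g₀, hg₀⟩ := hex
      let S : Finset (L × ℤ) := {(1, 1), (-1, 1), (cc g₀, -1), (-cc g₀, -1)}
      have hmem : ∀ g : G, (cc g, ee g) ∈ S := by
        intro g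
        rcases hee g with h | h
        · rcases hpm g h with h' | h'
          · rw [h, h']; simp [S]
          · rw [h, h']; simp [S]
        · obtain ⟨h1, h2⟩ := hcomp g₀ g
          have h3 : ee (g₀ * g) = 1 := by rw [h2, hg₀, h]; norm_num
          rw [h, zpow_neg_one] at h1
          rcases hpm _ h3 with h' | h'
          · have : cc g = cc g₀ := by
              rw [h'] at h1
              field_simp [hcc g₀] at h1
              exact h1.symm
            rw [h, this]; simp [S]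
          · have : cc g = - cc g₀ := by
              rw [h'] at h1
              field_simp [hcc g₀] at h1
              linear_combination -h1
            rw [h, this]; simp [S]
      let μ : G → S := fun g => ⟨(cc g, ee g), hmem g⟩
      have hμ : Function.Injective μ := by
        intro g h hgh
        have := congrArg Subtype.val hgh
        simp only [μ, Prod.mk.injEq] at this
        exact hinj g h this.1 this.2
      calc Nat.card G ≤ Nat.card S := Nat.card_le_card_of_injective μ hμ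
        _ = S.card := by rw [Nat.card_eq_fintype_card, Fintype.card_coe]
        _ ≤ 4 := Finset.card_le_four
    · push Not at hex
      have hall : ∀ g : G, ee g = 1 := fun g => (hee g).resolve_right (hex g)
      let S : Finset (L × ℤ) := {(1, 1), (-1, 1)}
      have hmem : ∀ g : G, (cc g, ee g) ∈ S := by
        intro g
        rcases hpm g (hall g) with h' | h'
        · rw [hall g, h']; simp [S]
        · rw [hall g, h']; simp [S]
      let μ : G → S := fun g => ⟨(cc g, ee g), hmem g⟩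
      have hμ : Function.Injective μ := by
        intro g h hgh
        have := congrArg Subtype.val hgh
        simp only [μ, Prod.mk.injEq] at this
        exact hinj g h this.1 this.2
      calc Nat.card G ≤ Nat.card S := Nat.card_le_card_of_injective μ hμ
        _ = S.card := by rw [Nat.card_eq_fintype_card, Fintype.card_coe]
        _ ≤ 2 := Finset.card_le_two
        _ ≤ 4 := by norm_num

end Groth.Agent.Lib.T3H4.PLine
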