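import Mathlib
import Groth.Prelude.Def_Cyc
import Groth.Prelude.Def_Coh
import Groth.Prelude.Def_CohB1
import Groth.Agent.S0020
set_option backward.isDefEq.respectTransparency.types false

/-!
# The support of a coherent module of dimension at most `k` near a fibre over a point of
dimension `k` (helper4)

Namespace `Groth.Agent.Lib.T3H4.PushSheaf`.
-/

set_option autoImplicit false
set_option linter.style.haveILetI false
universe u
open CategoryTheory CategoryTheory.Limits AlgebraicGeometry TopologicalSpace Opposite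

namespace Groth.Agent.Lib.T3H4.PushSheaf

section Top

/-- in a quasi-sober space, a closed set meets a Noetherian open subspace in a set all of whose
points are specializations of finitely many of its points -/
theorem exists_finite_generic {X : Type*} [TopologicalSpace X] [QuasiSober X] (Ω : Set X)
    (hΩ : IsOpen Ω) [NoetherianSpace Ω] (Z : Set X) (hZ : IsClosed Z) :
    ∃ G : Set X, G.Finite ∧ G ⊆ Z ∩ Ω ∧ ∀ x ∈ Z ∩ Ω, ∃ g ∈ G, g ⤳ x := by
  have hs : IsClosed ((Subtype.val : Ω → X) ⁻¹' Z) := hZ.preimage continuous_subtype_val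
  obtain ⟨S, hSf, hScl, hSirr, hSU⟩ := NoetherianSpace.exists_finite_set_isClosed_irreducible hs
  have key : ∀ t ∈ S, ∃ g : X, g ∈ Z ∩ Ω ∧ ∀ a ∈ t, g ⤳ ((a : Ω) : X) := by
    intro t ht
    have hirr : IsIrreducible (closure ((Subtype.val : Ω → X) '' t)) :=
      ((hSirr t ht).image _ continuous_subtype_val.continuousOn).closure
    obtain ⟨g, hg⟩ := QuasiSober.sober hirr isClosed_closure
    have htZ : (Subtype.val : Ω → X) '' t ⊆ Z := by
      rintro _ ⟨a, ha, rfl⟩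
      have : a ∈ (Subtype.val : Ω → X) ⁻¹' Z := by
        rw [hSU]
        exact Set.mem_sUnion.2 ⟨t, ht, ha⟩
      exact this
    refine ⟨g, ⟨?_, ?_⟩, fun a ha => ?_⟩
    · exact (closure_minimal htZ hZ) hg.mem
    · rw [hg.mem_open_set_iff hΩ]
      obtain ⟨a, ha⟩ := (hSirr t ht).nonempty
      exact ⟨a, subset_closure ⟨a, ha, rfl⟩, a.2⟩
    · exact hg.specializes (subset_closure ⟨a, ha, rfl⟩)
  choose g hg using key
  haveI : Finite ↥S := hSf.to_subtype
  refine ⟨Set.range (fun t : S => g t.1 t.2), Set.finite_range _, ?_, ?_⟩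
  · rintro _ ⟨t, rfl⟩
    exact (hg t.1 t.2).1
  · rintro x ⟨hxZ, hxΩ⟩
    have : (⟨x, hxΩ⟩ : Ω) ∈ (Subtype.val : Ω → X) ⁻¹' Z := hxZ
    rw [hSU] at this
    obtain ⟨t, ht, hxt⟩ := Set.mem_sUnion.1 this
    exact ⟨g t ht, ⟨⟨t, ht⟩, rfl⟩, (hg t ht).2 _ hxt⟩

end Top

section Sch

variable {X Y : Scheme.{u}} (f : X ⟶ Y) (δX : X → ℤ) (δY : Y → ℤ)

/-- a point of the support lying over a generization of `y` lies over `y` and has dimension `k` -/
theorem eq_of_specializes (hY : Cyc.IsDimFun Y δY) (hδ : Cyc.DeltaCompat f δX δY) (k : ℤ)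
    (F : X.Modules) (hdim : ∀ x : X, Nontrivial (F.presheaf.stalk x) → δX x ≤ k) (y : Y)
    (hy : δY y = k) (ξ : X) (hξ : Nontrivial (F.presheaf.stalk ξ)) (hsp : f ξ ⤳ y) :
    f ξ = y ∧ δX ξ = k := by
  obtain ⟨n, -, hn⟩ := hδ ξ
  have h1 := hdim ξ hξ
  have hfy : f ξ = y := by
    by_contra hne
    have := (hY (f ξ) y hsp hne).1
    omega
  refine ⟨hfy, ?_⟩
  rw [hfy] at hn
  omega

/-- a point of the support in the fibre over `y` is closed in the fibre -/
theorem eq_of_specializes_fibre (hX : Cyc.IsDimFun X δX) (hY : Cyc.IsDimFun Y δY)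
    (hδ : Cyc.DeltaCompat f δX δY) (k : ℤ)
    (F : X.Modules) (hdim : ∀ x : X, Nontrivial (F.presheaf.stalk x) → δX x ≤ k) (y : Y)
    (hy : δY y = k) (x : X) (hx : f x = y) (hnt : Nontrivial (F.presheaf.stalk x)) (x' : X)
    (hsp : x ⤳ x') (hx' : f x' = y) : x' = x := by
  have h1 := (eq_of_specializes f δX δY hY hδ k F hdim y hy x hnt (by rw [hx])).2
  obtain ⟨n, -, hn⟩ := hδ x'
  rw [hx'] at hn
  by_contra hne
  have := (hX x x' hsp (fun h => hne h.symm)).1
  omega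

/-- the structure of the support near the fibre over `y` -/
theorem exists_data [IsProper f] (hX : Cyc.IsSetup X δX) (hY : Cyc.IsSetup Y δY)
    (hδ : Cyc.DeltaCompat f δX δY) (k : ℤ) (F : X.Modules) (hF : Coh.IsCoh F)
    (hdim : ∀ x : X, Nontrivial (F.presheaf.stalk x) → δX x ≤ k) (y : Y) (hy : δY y = k) :
    {x : X | f x = y ∧ Nontrivial (F.presheaf.stalk x)}.Finite ∧
    ∃ W₀ : Y.Opens, y ∈ W₀ ∧ ∀ x : X, f x ∈ W₀ → ¬ Subsingleton (F.presheaf.stalk x) →
      ∃ x₀ : X, (f x₀ = y ∧ Nontrivial (F.presheaf.stalk x₀)) ∧ x₀ ⤳ x := by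
  haveI : IsLocallyNoetherian X := hX.1
  have hy' : y ∈ (⊤ : Y.Opens) := trivial
  obtain ⟨V, hV, hyV, -⟩ := (Opens.isBasis_iff_nbhd.1 Y.isBasis_affineOpens) hy'
  have hV' : IsAffineOpen V := hV
  have hcomp : IsCompact ((f ⁻¹ᵁ V : X.Opens) : Set X) := f.isCompact_preimage hV'.isCompact
  haveI : CompactSpace ((f ⁻¹ᵁ V : X.Opens) : Scheme) := isCompact_iff_compactSpace.1 hcomp
  haveI : IsNoetherian ((f ⁻¹ᵁ V : X.Opens) : Scheme) := ⟨⟩
  haveI : NoetherianSpace ((f ⁻¹ᵁ V : X.Opens) : Set X) :=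
    IsNoetherian.noetherianSpace (X := ((f ⁻¹ᵁ V : X.Opens) : Scheme))
  have hZcl : IsClosed (CohB1.support F) := Groth.Agent.S0020.result X F hF.2
  obtain ⟨G, hGfin, hGsub, hGsp⟩ := exists_finite_generic ((f ⁻¹ᵁ V : X.Opens) : Set X)
    (f ⁻¹ᵁ V).isOpen (CohB1.support F) hZcl
  -- points of `G` over `y`
  have hgood : ∀ g ∈ G, f g ⤳ y → f g = y ∧ Nontrivial (F.presheaf.stalk g) := by
    intro g hg hsp
    have hnt : Nontrivial (F.presheaf.stalk g) := not_subsingleton_iff_nontrivial.1 (hGsub hg).1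
    exact ⟨(eq_of_specializes f δX δY hY.2.2 hδ k F hdim y hy g hnt hsp).1, hnt⟩
  constructor
  · refine hGfin.subset ?_
    rintro x ⟨hx, hnt⟩
    have hxZ : x ∈ CohB1.support F := not_subsingleton_iff_nontrivial.2 hnt
    have hxΩ : x ∈ ((f ⁻¹ᵁ V : X.Opens) : Set X) := by
      change f x ∈ V
      rw [hx]; exact hyV
    obtain ⟨g, hg, hgx⟩ := hGsp x ⟨hxZ, hxΩ⟩
    have hsp : f g ⤳ y := by
      rw [← hx]
      exact hgx.map f.continuous
    obtain ⟨hgy, hgnt⟩ := hgood g hg hsp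
    have := eq_of_specializes_fibre f δX δY hX.2.2 hY.2.2 hδ k F hdim y hy g hgy hgnt x hgx hx
    rw [this]
    exact hg
  · let Gbad : Set X := {g | g ∈ G ∧ ¬ f g ⤳ y}
    have hGbad : Gbad.Finite := hGfin.subset (fun g hg => hg.1)
    let K : Set Y := ⋃ g ∈ Gbad, closure {f g}
    have hKcl : IsClosed K := Set.Finite.isClosed_biUnion hGbad (fun g _ => isClosed_closure)
    have hyK : y ∉ K := by
      intro hmem
      obtain ⟨g, hg, hgy⟩ := Set.mem_iUnion₂.1 hmem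
      exact hg.2 (specializes_iff_mem_closure.2 hgy)
    refine ⟨V ⊓ ⟨Kᶜ, hKcl.isOpen_compl⟩, ⟨hyV, hyK⟩, fun x hx hns => ?_⟩
    have hxZ : x ∈ CohB1.support F := hns
    have hxΩ : x ∈ ((f ⁻¹ᵁ V : X.Opens) : Set X) := hx.1
    obtain ⟨g, hg, hgx⟩ := hGsp x ⟨hxZ, hxΩ⟩
    have hsp : f g ⤳ y := by
      by_contra hnsp
      apply hx.2
      refine Set.mem_iUnion₂.2 ⟨g, ⟨hg, hnsp⟩, ?_⟩
      exact specializes_iff_mem_closure.1 (hgx.map f.continuous)
    exact ⟨g, hgood g hg hsp, hgx⟩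

end Sch

end Groth.Agent.Lib.T3H4.PushSheaf
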