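import Mathlib
import Groth.Agent.Lib.T2H4PushDepth
import Groth.Agent.Lib.Helper6QCohQcqs
import Groth.Agent.Lib.Helper2QCoh
set_option backward.isDefEq.respectTransparency.types false

/-!
# The stalk of a direct image along a closed map when the support meets the fibre in finitely many
isolated points (helper4)

Namespace `Groth.Agent.Lib.T3H4.PushSheaf`.
-/

set_option autoImplicit false
set_option linter.style.haveILetI false
universe u
open CategoryTheory CategoryTheory.Limits AlgebraicGeometry TopologicalSpace Opposite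

namespace Groth.Agent.Lib.T3H4.PushSheaf

open Groth.Agent.Lib.Helper6 Groth.Agent.Lib.Helper2.QCoh Groth.Agent.Lib.T2H4.PushDepth
  Groth.Agent.Lib.T2H4.PushDepthSh

variable {X Y : Scheme.{u}} (f : X ⟶ Y) (F : X.Modules)

/-- a section all of whose germs vanish is zero -/
theorem eq_zero_of_germ_eq_zero {U : X.Opens} (s : Γ(F, U))
    (h : ∀ (x : X) (hx : x ∈ U), F.presheaf.germ U x hx s = 0) : s = 0 := by
  refine TopCat.Presheaf.section_ext ⟨F.presheaf, F.isSheaf⟩ U _ _ (fun x hx => ?_)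
  change F.presheaf.germ U x hx s = F.presheaf.germ U x hx 0
  rw [map_zero]
  exact h x hx

/-- the map from the stalk of the direct image at `y` to the stalk at a point of the fibre -/
noncomputable def phi (x : X) {y : Y} (hx : f x = y) :
    ((Scheme.Modules.pushforward f).obj F).presheaf.stalk y →+ F.presheaf.stalk x :=
  (TopCat.Presheaf.stalkPushforward Ab f.base F.presheaf x).hom.comp
    ((((Scheme.Modules.pushforward f).obj F).presheaf.stalkSpecializes
      (specializes_of_eq hx)).hom)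

/-- the ring map from the local ring at `y` to the local ring at a point of the fibre -/
noncomputable def psi (x : X) {y : Y} (hx : f x = y) :
    Y.presheaf.stalk y →+* X.presheaf.stalk x :=
  (f.stalkMap x).hom.comp (Y.presheaf.stalkSpecializes (specializes_of_eq hx)).hom

theorem mem_preimage_of_eq (x : X) {y : Y} (hx : f x = y) {V : Y.Opens} (hy : y ∈ V) :
    x ∈ f ⁻¹ᵁ V := by
  change f x ∈ V
  rw [hx]
  exact hy

theorem phi_germ (x : X) {y : Y} (hx : f x = y) {V : Y.Opens} (hy : y ∈ V)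
    (τ : Γ(F, f ⁻¹ᵁ V)) :
    phi f F x hx (germP f F hy τ) =
      F.presheaf.germ (f ⁻¹ᵁ V) x (mem_preimage_of_eq f x hx hy) τ := by
  unfold phi germP
  rw [AddMonoidHom.comp_apply]
  have h1 := TopCat.Presheaf.germ_stalkSpecializes_apply
    ((Scheme.Modules.pushforward f).obj F).presheaf hy (specializes_of_eq hx)
    (show Γ((Scheme.Modules.pushforward f).obj F, V) from τ)
  exact (congrArg (TopCat.Presheaf.stalkPushforward Ab f.base F.presheaf x).hom h1).trans
    (TopCat.Presheaf.stalkPushforward_germ_apply Ab f.base F.presheaf V x _ τ)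

theorem psi_germ (x : X) {y : Y} (hx : f x = y) {V : Y.Opens} (hy : y ∈ V) (a : Γ(Y, V)) :
    psi f x hx (Y.presheaf.germ V y hy a) =
      X.presheaf.germ (f ⁻¹ᵁ V) x (mem_preimage_of_eq f x hx hy) ((f.app V).hom a) := by
  unfold psi
  rw [RingHom.comp_apply]
  have h1 := TopCat.Presheaf.germ_stalkSpecializes_apply Y.presheaf hy (specializes_of_eq hx) a
  exact (congrArg (f.stalkMap x).hom h1).trans (Scheme.Hom.germ_stalkMap_apply f V x _ a)

theorem phi_smul (x : X) {y : Y} (hx : f x = y) (r : Y.presheaf.stalk y)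
    (p : ((Scheme.Modules.pushforward f).obj F).presheaf.stalk y) :
    phi f F x hx (r • p) = psi f x hx r • phi f F x hx p := by
  obtain ⟨W₁, hx₁, a, rfl⟩ := Y.presheaf.exists_germ_eq (x := y) r
  obtain ⟨W₂, hx₂, b, rfl⟩ := ((Scheme.Modules.pushforward f).obj F).presheaf.exists_germ_eq p
  have hxy : y ∈ W₁ ⊓ W₂ := ⟨hx₁, hx₂⟩
  rw [← TopCat.Presheaf.germ_res_apply Y.presheaf (homOfLE (inf_le_left : W₁ ⊓ W₂ ≤ W₁)) y hxy a,
    ← TopCat.Presheaf.germ_res_apply ((Scheme.Modules.pushforward f).obj F).presheaf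
      (homOfLE (inf_le_right : W₁ ⊓ W₂ ≤ W₂)) y hxy b]
  set a' := Y.presheaf.map (homOfLE (inf_le_left : W₁ ⊓ W₂ ≤ W₁)).op a with ha'
  obtain ⟨τ, hτ⟩ : ∃ τ : Γ(F, f ⁻¹ᵁ (W₁ ⊓ W₂)),
      τ = ((Scheme.Modules.pushforward f).obj F).presheaf.map
        (homOfLE (inf_le_right : W₁ ⊓ W₂ ≤ W₂)).op b := ⟨_, rfl⟩
  have e1 : ((Scheme.Modules.pushforward f).obj F).presheaf.germ (W₁ ⊓ W₂) y hxy
      (((Scheme.Modules.pushforward f).obj F).presheaf.map
        (homOfLE (inf_le_right : W₁ ⊓ W₂ ≤ W₂)).op b) = germP f F hxy τ := by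
    rw [hτ]
    rfl
  rw [e1, ← germP_act, act_le_rfl, phi_germ, phi_germ, germ_smul, psi_germ]

/-- **injectivity**: an element of the stalk of the direct image which dies at all points of the
fibre vanishes (for a closed map) -/
theorem eq_zero_of_phi_eq_zero (hcl : IsClosedMap f) {y : Y}
    (p : ((Scheme.Modules.pushforward f).obj F).presheaf.stalk y)
    (h : ∀ (x : X) (hx : f x = y), phi f F x hx p = 0) : p = 0 := by
  obtain ⟨V, hyV, t, rfl⟩ := ((Scheme.Modules.pushforward f).obj F).presheaf.exists_germ_eq p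
  obtain ⟨t', ht'⟩ : ∃ t' : Γ(F, f ⁻¹ᵁ V), t' = t := ⟨t, rfl⟩
  have hgerm : ((Scheme.Modules.pushforward f).obj F).presheaf.germ V y hyV t =
      germP f F hyV t' := by
    rw [ht']
    rfl
  rw [hgerm] at h ⊢
  let Wset : Set X := {x | ∃ hx : x ∈ f ⁻¹ᵁ V, F.presheaf.germ (f ⁻¹ᵁ V) x hx t' = 0}
  have hWopen : IsOpen Wset := by
    rw [isOpen_iff_forall_mem_open]
    rintro x ⟨hx, hx0⟩
    have h0' : F.presheaf.germ (f ⁻¹ᵁ V) x hx t' = F.presheaf.germ (f ⁻¹ᵁ V) x hx 0 := by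
      rw [hx0, map_zero]
    obtain ⟨W', hxW', i₁, i₂, hW'⟩ := F.presheaf.germ_eq x hx hx t' 0 h0'
    rw [map_zero] at hW'
    refine ⟨W', fun x' hx' => ?_, W'.isOpen, hxW'⟩
    refine ⟨i₁.le hx', ?_⟩
    rw [← TopCat.Presheaf.germ_res_apply F.presheaf i₁ x' hx' t', hW', map_zero]
  have hC : IsClosed (f '' Wsetᶜ) := hcl _ hWopen.isClosed_compl
  have hyC : y ∉ f '' Wsetᶜ := by
    rintro ⟨x, hxC, hxy⟩
    apply hxC
    refine ⟨mem_preimage_of_eq f x hxy hyV, ?_⟩
    rw [← phi_germ f F x hxy hyV t']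
    exact h x hxy
  let V' : Y.Opens := V ⊓ ⟨(f '' Wsetᶜ)ᶜ, hC.isOpen_compl⟩
  have hyV' : y ∈ V' := ⟨hyV, hyC⟩
  have hV'V : V' ≤ V := inf_le_left
  have hle : f ⁻¹ᵁ V' ≤ f ⁻¹ᵁ V := (Opens.map f.base).monotone hV'V
  have hres : germP f F hyV t' = germP f F hyV' (res F hle t') := by
    unfold germP
    exact (TopCat.Presheaf.germ_res_apply ((Scheme.Modules.pushforward f).obj F).presheaf
      (homOfLE hV'V) y hyV' _).symm
  have hzero : res F hle t' = 0 := by
    refine eq_zero_of_germ_eq_zero F _ (fun x hx => ?_)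
    rw [TopCat.Presheaf.germ_res_apply F.presheaf (homOfLE hle) x hx t']
    have hxW : x ∈ Wset := by
      by_contra hxW
      exact hx.2 ⟨x, hxW, rfl⟩
    obtain ⟨_, hx0⟩ := hxW
    exact hx0
  rw [hres, hzero, germP_zero]

section Surj

variable {y : Y} {ι : Type*} (pt : ι → X) (hinj : Function.Injective pt)
  (hpt : ∀ i, f (pt i) = y)
  (Hcl : ∀ (i : ι) (x : X), pt i ⤳ x → f x = y → x = pt i)
  (W₀ : Y.Opens) (hyW₀ : y ∈ W₀)
  (Hnbhd : ∀ x : X, f x ∈ W₀ → ¬ Subsingleton (F.presheaf.stalk x) → ∃ i, pt i ⤳ x)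

include hinj Hcl hyW₀ Hnbhd in
/-- **surjectivity onto one factor** -/
theorem exists_phi_eq [Finite ι] (hcl : IsClosedMap f) (i₀ : ι) (m : F.presheaf.stalk (pt i₀)) :
    ∃ p : ((Scheme.Modules.pushforward f).obj F).presheaf.stalk y,
      phi f F (pt i₀) (hpt i₀) p = m ∧ ∀ j, j ≠ i₀ → phi f F (pt j) (hpt j) p = 0 := by
  obtain ⟨U, hxU, t, rfl⟩ := F.presheaf.exists_germ_eq m
  -- the closures of the other points
  let Z' : Set X := ⋃ j ∈ {j : ι | j ≠ i₀}, closure {pt j}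
  have hZ'cl : IsClosed Z' :=
    Set.Finite.isClosed_biUnion (Set.toFinite _) (fun j _ => isClosed_closure)
  have hx₀Z' : pt i₀ ∉ Z' := by
    intro hmem
    obtain ⟨j, hj, hjm⟩ := Set.mem_iUnion₂.1 hmem
    have hsp : pt j ⤳ pt i₀ := specializes_iff_mem_closure.2 hjm
    have := Hcl j (pt i₀) hsp (hpt i₀)
    exact hj (hinj this).symm
  let U₁ : X.Opens := U ⊓ ⟨Z'ᶜ, hZ'cl.isOpen_compl⟩ ⊓ f ⁻¹ᵁ W₀
  have hx₀U₁ : pt i₀ ∈ U₁ :=
    ⟨⟨hxU, hx₀Z'⟩, mem_preimage_of_eq f (pt i₀) (hpt i₀) hyW₀⟩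
  have hU₁U : U₁ ≤ U := inf_le_left.trans inf_le_left
  let Z₀ : Set X := closure {pt i₀}
  let C : Set X := Z₀ ∩ (U₁ : Set X)ᶜ
  have hCcl : IsClosed C := isClosed_closure.inter U₁.isOpen.isClosed_compl
  have hfC : IsClosed (f '' C) := hcl _ hCcl
  have hyC : y ∉ f '' C := by
    rintro ⟨x, ⟨hxZ₀, hxU₁⟩, hxy⟩
    have hsp : pt i₀ ⤳ x := specializes_iff_mem_closure.2 hxZ₀
    have := Hcl i₀ x hsp hxy
    rw [this] at hxU₁
    exact hxU₁ hx₀U₁
  let W : Y.Opens := W₀ ⊓ ⟨(f '' C)ᶜ, hfC.isOpen_compl⟩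
  have hyW : y ∈ W := ⟨hyW₀, hyC⟩
  let A : X.Opens := U₁ ⊓ f ⁻¹ᵁ W
  let B : X.Opens := f ⁻¹ᵁ W ⊓ ⟨Z₀ᶜ, isClosed_closure.isOpen_compl⟩
  have hAΩ : A ≤ f ⁻¹ᵁ W := inf_le_right
  have hBΩ : B ≤ f ⁻¹ᵁ W := inf_le_left
  have hcov : f ⁻¹ᵁ W ≤ A ⊔ B := by
    intro x hx
    by_cases hxZ₀ : x ∈ Z₀
    · left
      refine ⟨?_, hx⟩
      by_contra hxU₁
      exact hx.2 ⟨x, ⟨hxZ₀, hxU₁⟩, rfl⟩
    · right
      exact ⟨hx, hxZ₀⟩
  have hAU : A ≤ U := inf_le_left.trans hU₁U
  -- the sections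
  have hcompat : res F (inf_le_left : A ⊓ B ≤ A) (res F hAU t) =
      res F (inf_le_right : A ⊓ B ≤ B) (0 : Γ(F, B)) := by
    rw [res_zero]
    refine eq_zero_of_germ_eq_zero F _ (fun x hx => ?_)
    have hsub : Subsingleton (F.presheaf.stalk x) := by
      by_contra hns
      have hxW₀ : f x ∈ W₀ := hx.1.1.2
      obtain ⟨j, hj⟩ := Hnbhd x hxW₀ hns
      by_cases hji : j = i₀
      · rw [hji] at hj
        exact hx.2.2 (specializes_iff_mem_closure.1 hj)
      · exact hx.1.1.1.2 (Set.mem_iUnion₂.2 ⟨j, hji, specializes_iff_mem_closure.1 hj⟩)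
    exact Subsingleton.elim _ _
  obtain ⟨s, hsA, hsB⟩ := exists_res_eq₂ F hAΩ hBΩ hcov (inf_le_left : A ⊓ B ≤ A)
    (inf_le_right : A ⊓ B ≤ B) le_rfl (res F hAU t) (0 : Γ(F, B)) hcompat
  refine ⟨germP f F hyW s, ?_, fun j hj => ?_⟩
  · rw [phi_germ]
    have hx₀A : pt i₀ ∈ A := ⟨hx₀U₁, mem_preimage_of_eq f (pt i₀) (hpt i₀) hyW⟩
    rw [← TopCat.Presheaf.germ_res_apply F.presheaf (homOfLE hAΩ) (pt i₀) hx₀A s]
    change F.presheaf.germ A (pt i₀) hx₀A (res F hAΩ s) = _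
    rw [hsA]
    exact TopCat.Presheaf.germ_res_apply F.presheaf (homOfLE hAU) (pt i₀) hx₀A t
  · rw [phi_germ]
    have hjB : pt j ∈ B := by
      refine ⟨mem_preimage_of_eq f (pt j) (hpt j) hyW, ?_⟩
      intro hmem
      have hsp : pt i₀ ⤳ pt j := specializes_iff_mem_closure.2 hmem
      exact hj (hinj (Hcl i₀ (pt j) hsp (hpt j)))
    rw [← TopCat.Presheaf.germ_res_apply F.presheaf (homOfLE hBΩ) (pt j) hjB s]
    change F.presheaf.germ B (pt j) hjB (res F hBΩ s) = _
    rw [hsB, map_zero]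

include hinj Hcl hyW₀ Hnbhd in
/-- **the length of the stalk of the direct image** is the sum of the lengths of the stalks at the
points of the fibre in the support -/
theorem length_stalk_push [Fintype ι] (hcl : IsClosedMap f) :
    letI : ∀ i, Module (Y.presheaf.stalk y) (F.presheaf.stalk (pt i)) :=
      fun i => Module.compHom _ (psi f (pt i) (hpt i))
    Module.length (Y.presheaf.stalk y)
        (((Scheme.Modules.pushforward f).obj F).presheaf.stalk y) =
      ∑ i, Module.length (Y.presheaf.stalk y) (F.presheaf.stalk (pt i)) := by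
  classical
  letI inst : ∀ i, Module (Y.presheaf.stalk y) (F.presheaf.stalk (pt i)) :=
    fun i => Module.compHom _ (psi f (pt i) (hpt i))
  let Φ : ((Scheme.Modules.pushforward f).obj F).presheaf.stalk y →ₗ[Y.presheaf.stalk y]
      (∀ i, F.presheaf.stalk (pt i)) :=
    { toFun := fun p i => phi f F (pt i) (hpt i) p
      map_add' := fun p q => funext fun i => map_add _ p q
      map_smul' := fun r p => funext fun i => phi_smul f F (pt i) (hpt i) r p }
  have hΦ : ∀ p i, Φ p i = phi f F (pt i) (hpt i) p := fun _ _ => rfl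
  have hinjΦ : Function.Injective Φ := by
    rw [← LinearMap.ker_eq_bot, LinearMap.ker_eq_bot']
    intro p hp
    refine eq_zero_of_phi_eq_zero f F hcl p (fun x hx => ?_)
    by_cases hex : ∃ i, pt i = x
    · obtain ⟨i, rfl⟩ := hex
      have := congrFun hp i
      exact this
    · have hsub : Subsingleton (F.presheaf.stalk x) := by
        by_contra hns
        have hxW₀ : f x ∈ W₀ := by rw [hx]; exact hyW₀
        obtain ⟨j, hj⟩ := Hnbhd x hxW₀ hns
        exact hex ⟨j, (Hcl j x hj hx).symm⟩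
      exact Subsingleton.elim _ _
  have hsurjΦ : Function.Surjective Φ := by
    intro g
    have hex : ∀ i, ∃ p : ((Scheme.Modules.pushforward f).obj F).presheaf.stalk y,
        phi f F (pt i) (hpt i) p = g i ∧ ∀ j, j ≠ i → phi f F (pt j) (hpt j) p = 0 :=
      fun i => exists_phi_eq f F pt hinj hpt Hcl W₀ hyW₀ Hnbhd hcl i (g i)
    choose q hq1 hq2 using hex
    refine ⟨∑ i, q i, funext fun j => ?_⟩
    rw [hΦ, map_sum, Finset.sum_eq_single j]
    · exact hq1 j
    · intro i _ hij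
      exact hq2 i j (Ne.symm hij)
    · intro hj
      exact absurd (Finset.mem_univ j) hj
  rw [(LinearEquiv.ofBijective Φ ⟨hinjΦ, hsurjΦ⟩).length_eq]
  exact Module.length_pi_of_fintype (Y.presheaf.stalk y) (fun i => F.presheaf.stalk (pt i))

end Surj

end Groth.Agent.Lib.T3H4.PushSheaf
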