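import Mathlib
import Groth.Prelude.Def_Cyc
import Groth.Prelude.Def_Coh
import Groth.Agent.Lib.T3H4PushSheafA
import Groth.Agent.Lib.T3H4PushSheafB
import Groth.Agent.Lib.T3H4GysinSheafB
import Groth.Agent.Lib.T3H4PushRatB
import Groth.Agent.Lib.T2H4PushPullB
import Groth.Agent.Lib.Helper5SuppDim
set_option backward.isDefEq.respectTransparency.types false

/-!
# Proper pushforward of the cycle of a coherent module (helper4)

`f_*[F]_k = [f_*F]_k` for `f` proper and `F` coherent with support of `δ`-dimension at most `k`.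

Namespace `Groth.Agent.Lib.T3H4.PushSheaf`.
-/

set_option autoImplicit false
set_option linter.style.haveILetI false
universe u
open CategoryTheory CategoryTheory.Limits AlgebraicGeometry TopologicalSpace Opposite

namespace Groth.Agent.Lib.T3H4.PushSheaf

open Groth.Agent.Lib.T2H4.LenMinPrimes Groth.Agent.Lib.T3H4.GysinSheaf

section Pt

variable {X Y : Scheme.{u}}

/-- the stalk of a coherent module at a maximal point of its support has finite length -/
theorem length_stalk_ne_top [IsLocallyNoetherian X] (F : X.Modules) (hF : Coh.IsCoh F)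
    (δ : X → ℤ) (hδ : Cyc.IsDimFun X δ) (k : ℤ)
    (hdim : ∀ x : X, Nontrivial (F.presheaf.stalk x) → δ x ≤ k) (x : X) (hx : δ x = k) :
    Module.length (X.presheaf.stalk x) (F.presheaf.stalk x) ≠ ⊤ := by
  haveI : F.IsQuasicoherent := hF.1
  haveI : Module.Finite (X.presheaf.stalk x) (F.presheaf.stalk x) :=
    Groth.Agent.Lib.T2H3.ReflexiveHom.finite_stalk_of_isCoh F hF x
  rw [Module.length_ne_top_iff]
  apply Groth.Agent.Lib.Helper5.isFiniteLength_of_supportDim_le_zero
  apply Groth.Agent.Lib.Helper5.supportDim_le_zero_of_forall_isMaximal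
  intro q hq
  have hsp : X.fromSpecStalk x q ⤳ x := fromSpecStalk_specializes x q
  have hqe : primeOf x (X.fromSpecStalk x q) hsp = q := primeOf_fromSpecStalk x q
  have hnt : Nontrivial (F.presheaf.stalk (X.fromSpecStalk x q)) := by
    rw [← mem_support_iff_nontrivial F hsp, hqe]
    exact hq
  have h1 := hdim _ hnt
  have hξx : X.fromSpecStalk x q = x := by
    by_contra hne
    have := (hδ _ x hsp hne).1
    omega
  have hm : q.asIdeal = IsLocalRing.maximalIdeal (X.presheaf.stalk x) := by
    rw [← hqe]
    exact (primeOf_eq_maximalIdeal_iff x _ hsp).2 hξx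
  rw [hm]
  exact IsLocalRing.maximalIdeal.isMaximal _

theorem length_congr_algebra {K L : Type*} [Field K] [Field L] (a1 a2 : Algebra K L)
    (h : a1 = a2) :
    @Module.length K L _ _ a1.toModule = @Module.length K L _ _ a2.toModule := by
  subst h
  rfl

/-- the length over the local ring of the image point -/
theorem length_restrict (f : X ⟶ Y) (F : X.Modules) (x : X) {y : Y} (hx : f x = y)
    (hfin : (f.residueFieldMap x).hom.Finite) :
    letI : Module (Y.presheaf.stalk y) (F.presheaf.stalk x) := Module.compHom _ (psi f x hx)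
    Module.length (Y.presheaf.stalk y) (F.presheaf.stalk x) =
      Module.length (X.presheaf.stalk x) (F.presheaf.stalk x) * (f.residueDegree x : ℕ∞) := by
  subst hx
  have hpsi : psi f x rfl = (f.stalkMap x).hom := by
    unfold psi
    have h1 : (Y.presheaf.stalkSpecializes (specializes_of_eq (rfl : f x = f x))).hom =
        RingHom.id _ := by
      rw [TopCat.Presheaf.stalkSpecializes_refl]
      rfl
    rw [h1, RingHom.comp_id]
  have key : ∀ ψ : Y.presheaf.stalk (f x) →+* X.presheaf.stalk x, ψ = (f.stalkMap x).hom →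
      (letI : Module (Y.presheaf.stalk (f x)) (F.presheaf.stalk x) := Module.compHom _ ψ
       Module.length (Y.presheaf.stalk (f x)) (F.presheaf.stalk x)) =
        Module.length (X.presheaf.stalk x) (F.presheaf.stalk x) * (f.residueDegree x : ℕ∞) := by
    rintro _ rfl
    letI alg : Algebra (Y.presheaf.stalk (f x)) (X.presheaf.stalk x) :=
      (f.stalkMap x).hom.toAlgebra
    letI : Module (Y.presheaf.stalk (f x)) (F.presheaf.stalk x) :=
      Module.compHom _ (f.stalkMap x).hom
    haveI : IsLocalHom (algebraMap (Y.presheaf.stalk (f x)) (X.presheaf.stalk x)) :=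
      inferInstanceAs (IsLocalHom (f.stalkMap x).hom)
    haveI : IsScalarTower (Y.presheaf.stalk (f x)) (X.presheaf.stalk x) (F.presheaf.stalk x) :=
      IsScalarTower.of_algebraMap_smul (fun r m => rfl)
    rw [IsLocalRing.length_restrictScalars (Y.presheaf.stalk (f x)) (X.presheaf.stalk x)
      (F.presheaf.stalk x)]
    congr 1
    letI a2 : Algebra (Y.residueField (f x)) (X.residueField x) :=
      (f.residueFieldMap x).hom.toAlgebra
    haveI : Module.Finite (Y.residueField (f x)) (X.residueField x) := hfin
    have h2 := Module.length_eq_finrank (Y.residueField (f x)) (X.residueField x)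
    have hinst : (inferInstance : Algebra (IsLocalRing.ResidueField (Y.presheaf.stalk (f x)))
        (IsLocalRing.ResidueField (X.presheaf.stalk x))) = a2 := by
      refine Algebra.algebra_ext _ _ (fun r => ?_)
      obtain ⟨a, rfl⟩ := IsLocalRing.residue_surjective r
      rfl
    exact (length_congr_algebra _ _ hinst).trans h2
  exact key _ hpsi

end Pt

section Main

variable {X Y : Scheme.{u}}

open Classical in
/-- **`f_*[F]_k = [f_*F]_k`** -/
theorem main (δX : X → ℤ) (δY : Y → ℤ) (hX : Cyc.IsSetup X δX) (hY : Cyc.IsSetup Y δY)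
    (f : X ⟶ Y) [IsProper f] (hδ : Cyc.DeltaCompat f δX δY) (k : ℤ) (F : X.Modules)
    (hF : Coh.IsCoh F) (hdim : ∀ x : X, Nontrivial (F.presheaf.stalk x) → δX x ≤ k)
    (α : AlgebraicCycle X ℤ) (hα : ⇑α = Cyc.sheafFun δX k F) :
    ⇑(AlgebraicCycle.map f δX δY α) = Cyc.sheafFun δY k ((Coh.push f).obj F) := by
  haveI : IsLocallyNoetherian X := hX.1
  funext y
  rw [Groth.Agent.Lib.T3H4.PushRat.map_apply]
  by_cases hy : δY y = k
  · obtain ⟨hTfin, W₀, hyW₀, Hnb⟩ := exists_data f δX δY hX hY hδ k F hF hdim y hy
    set T : Set X := {x | f x = y ∧ Nontrivial (F.presheaf.stalk x)} with hT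
    haveI : Fintype ↥T := hTfin.fintype
    have hlen := length_stalk_push f F (pt := (Subtype.val : T → X)) Subtype.val_injective
      (fun i => i.2.1)
      (fun i x hsp hx => eq_of_specializes_fibre f δX δY hX.2.2 hY.2.2 hδ k F hdim y hy i.1
        i.2.1 i.2.2 x hsp hx)
      W₀ hyW₀
      (fun x hx hns => by
        obtain ⟨x₀, hx₀, hsp⟩ := Hnb x hx hns
        exact ⟨⟨x₀, hx₀⟩, hsp⟩) f.isClosedMap
    -- the dimension at the points of `T`
    have hTk : ∀ i : T, δX i.1 = k := fun i =>
      (eq_of_specializes f δX δY hY.2.2 hδ k F hdim y hy i.1 i.2.2 (by rw [i.2.1])).2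
    -- the terms
    have hterm : ∀ i : T,
        (letI : Module (Y.presheaf.stalk y) (F.presheaf.stalk i.1) :=
          Module.compHom _ (psi f i.1 i.2.1)
         Module.length (Y.presheaf.stalk y) (F.presheaf.stalk i.1)) =
        (((Module.length (X.presheaf.stalk i.1) (F.presheaf.stalk i.1)).toNat *
          f.residueDegree i.1 : ℕ) : ℕ∞) := by
      intro i
      have hfin : (f.residueFieldMap i.1).hom.Finite :=
        Groth.Agent.Lib.T2H4.PushPull.finite_residueFieldMap_of_delta_eq f δX δY hδ i.1
          (by rw [hTk i, i.2.1, hy])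
      rw [length_restrict f F i.1 i.2.1 hfin]
      have hne := length_stalk_ne_top F hF δX hX.2.2 k hdim i.1 (hTk i)
      rw [Nat.cast_mul, ENat.natCast_toNat hne]
    have hR : Cyc.sheafFun δY k ((Coh.push f).obj F) y =
        ((Module.length (Y.presheaf.stalk y)
          (((Scheme.Modules.pushforward f).obj F).presheaf.stalk y)).toNat : ℤ) := by
      unfold Cyc.sheafFun
      rw [if_pos hy]
    rw [hR, hlen, Finset.sum_congr rfl (fun i _ => hterm i), ← Nat.cast_sum, ENat.toNat_natCast]
    -- the left-hand side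
    set g : X → ℤ := fun x => α x * ((AlgebraicCycle.mapCoeff f δX δY x : ℕ) : ℤ) with hg
    have hsupp : f ⁻¹' {y} ∩ Function.support g = T ∩ Function.support g := by
      ext x
      constructor
      · rintro ⟨hx, hs⟩
        refine ⟨⟨hx, ?_⟩, hs⟩
        have hαx : α x ≠ 0 := left_ne_zero_of_mul hs
        rw [hα] at hαx
        unfold Cyc.sheafFun at hαx
        by_contra hnt
        rw [not_nontrivial_iff_subsingleton] at hnt
        apply hαx
        rw [Module.length_eq_zero]
        simp
      · rintro ⟨hx, hs⟩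
        exact ⟨hx.1, hs⟩
    rw [finsum_mem_inter_support_eq g _ _ hsupp, ← finsum_set_coe_eq_finsum_mem T,
      finsum_eq_sum_of_fintype, Nat.cast_sum]
    refine Finset.sum_congr rfl (fun i _ => ?_)
    have h1 : α i.1 = ((Module.length (X.presheaf.stalk i.1) (F.presheaf.stalk i.1)).toNat : ℤ) := by
      rw [hα]
      unfold Cyc.sheafFun
      rw [if_pos (hTk i)]
    have h2 : AlgebraicCycle.mapCoeff f δX δY i.1 = f.residueDegree i.1 := by
      unfold AlgebraicCycle.mapCoeff
      rw [if_pos]
      change δX i.1 = δY (f i.1)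
      rw [hTk i, i.2.1, hy]
    simp only [hg]
    rw [h1, h2, Nat.cast_mul]
  · have hR : Cyc.sheafFun δY k ((Coh.push f).obj F) y = 0 := by
      unfold Cyc.sheafFun
      rw [if_neg hy]
    rw [hR]
    refine finsum_mem_eq_zero_of_forall_eq_zero (fun x hx => ?_)
    have hx' : f x = y := hx
    by_cases hxk : δX x = k
    · have h2 : AlgebraicCycle.mapCoeff f δX δY x = 0 := by
        unfold AlgebraicCycle.mapCoeff
        rw [if_neg]
        change ¬ δX x = δY (f x)
        rw [hxk, hx']
        exact fun h => hy h.symm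
      rw [h2, Nat.cast_zero, mul_zero]
    · have h1 : α x = 0 := by
        rw [hα]
        unfold Cyc.sheafFun
        rw [if_neg hxk]
      rw [h1, zero_mul]

end Main

end Groth.Agent.Lib.T3H4.PushSheaf
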