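import Mathlib

/-!
# Generic commutative algebra for the Oort–Tate eigenspaces (helper8)

* `subsingleton_of_forall_algClosure_tensor`: a finite module vanishing on all geometric points over
  maximal ideals is zero.
* `le_of_forall_baseChange_le`: equality of submodules tested on geometric fibres.
* `range_baseChange`, `baseChange_mul_le`, `baseChange_pow_le`.
* `comap_bot_algClosure`, `rankAtStalk_eq_finrank_algClosure`.
-/

set_option autoImplicit false
universe u v

namespace Groth.Agent.Lib.T3H8.OT

open TensorProduct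

section Geometric

variable {R : Type u} [CommRing R]

/-- The geometric point over a prime. -/
abbrev GeomPt (q : Ideal R) [q.IsPrime] : Type u := AlgebraicClosure q.ResidueField

/-- A finite module all of whose geometric fibres over maximal ideals vanish is zero. -/
theorem subsingleton_of_forall_algClosure_tensor {Q : Type v} [AddCommGroup Q] [Module R Q]
    [Module.Finite R Q]
    (h : ∀ (J : Ideal R) [J.IsMaximal], Subsingleton (GeomPt J ⊗[R] Q)) : Subsingleton Q := by
  by_contra hne
  rw [not_subsingleton_iff_nontrivial] at hne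
  obtain ⟨q, hq⟩ := Module.nonempty_support_of_nontrivial (R := R) (M := Q)
  obtain ⟨J, hJ, hqJ⟩ := Ideal.exists_le_maximal q.asIdeal q.2.ne_top
  have hJs : (⟨J, hJ.isPrime⟩ : PrimeSpectrum R) ∈ Module.support R Q :=
    Module.mem_support_mono (p := q) (q := ⟨J, hJ.isPrime⟩) hqJ hq
  rw [Module.mem_support_iff_nontrivial_residueField_tensorProduct] at hJs
  change Nontrivial (J.ResidueField ⊗[R] Q) at hJs
  let κ := J.ResidueField
  let K := GeomPt J
  have hpos : 0 < Module.finrank κ (κ ⊗[R] Q) := Module.finrank_pos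
  have h2 : Module.finrank K (K ⊗[κ] (κ ⊗[R] Q)) = Module.finrank κ (κ ⊗[R] Q) :=
    Module.finrank_baseChange
  let e : K ⊗[κ] (κ ⊗[R] Q) ≃ₗ[K] K ⊗[R] Q := AlgebraTensorModule.cancelBaseChange R κ K K Q
  have h3 : 0 < Module.finrank K (K ⊗[R] Q) := by
    rw [← e.finrank_eq, h2]; exact hpos
  haveI := h J
  rw [Module.finrank_zero_of_subsingleton] at h3
  exact lt_irrefl _ h3

end Geometric

section BaseChangeRange

variable {R : Type u} [CommRing R] {M : Type v} [AddCommGroup M] [Module R M]
  {M' : Type v} [AddCommGroup M'] [Module R M']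
  (S : Type u) [CommRing S] [Algebra R S]

theorem range_baseChange (E : M →ₗ[R] M') :
    LinearMap.range (E.baseChange S) = (LinearMap.range E).baseChange S := by
  apply le_antisymm
  · rintro _ ⟨z, rfl⟩
    induction z using TensorProduct.induction_on with
    | zero => rw [map_zero]; exact Submodule.zero_mem _
    | add a b ha hb => rw [map_add]; exact Submodule.add_mem _ ha hb
    | tmul s m =>
      rw [LinearMap.baseChange_tmul]
      exact Submodule.tmul_mem_baseChange_of_mem s ⟨m, rfl⟩
  · rw [Submodule.baseChange_eq_span, Submodule.span_le]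
    rintro _ ⟨_, ⟨m, rfl⟩, rfl⟩
    exact ⟨1 ⊗ₜ m, rfl⟩

/-- If `L` is a retract of `M`, then `S ⊗ L → S ⊗ M` is injective. -/
theorem baseChange_subtype_injective (L : Submodule R M) (s : M →ₗ[R] L)
    (hs : ∀ l : L, s l = l) : Function.Injective (L.subtype.baseChange S) := by
  have h : (s.baseChange S) ∘ₗ (L.subtype.baseChange S) = LinearMap.id := by
    rw [← LinearMap.baseChange_comp]
    have : s ∘ₗ L.subtype = LinearMap.id := LinearMap.ext hs
    rw [this, LinearMap.baseChange_id]
  intro a b hab
  have := congrArg (s.baseChange S) hab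
  rwa [← LinearMap.comp_apply, ← LinearMap.comp_apply, h] at this

end BaseChangeRange

section LocalGlobal

variable {R : Type u} [CommRing R] {M : Type v} [AddCommGroup M] [Module R M]

/-- Inclusion of submodules tested on geometric fibres over maximal ideals. -/
theorem le_of_forall_baseChange_le (L N : Submodule R M) (hNL : N ≤ L) (hfg : L.FG)
    (hinj : ∀ (J : Ideal R) [J.IsMaximal], Function.Injective (L.subtype.baseChange (GeomPt J)))
    (h : ∀ (J : Ideal R) [J.IsMaximal], L.baseChange (GeomPt J) ≤ N.baseChange (GeomPt J)) :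
    L ≤ N := by
  let N' : Submodule R L := N.comap L.subtype
  haveI : Module.Finite R L := Module.Finite.iff_fg.mpr hfg
  haveI : Subsingleton (L ⧸ N') := by
    apply subsingleton_of_forall_algClosure_tensor (R := R)
    intro J hJ
    let K := GeomPt J
    refine ⟨fun a b => ?_⟩
    suffices H : ∀ z : K ⊗[R] (L ⧸ N'), z = 0 by rw [H a, H b]
    intro z
    have hsurj : Function.Surjective (N'.mkQ.baseChange K) :=
      LinearMap.lTensor_surjective K (Submodule.mkQ_surjective N')
    obtain ⟨y, rfl⟩ := hsurj z
    have hy : L.subtype.baseChange K y ∈ N.baseChange K := h J ⟨y, rfl⟩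
    obtain ⟨w, hw⟩ := hy
    let incl : N →ₗ[R] L := Submodule.inclusion hNL
    have hcomp : N.subtype = L.subtype ∘ₗ incl := rfl
    rw [hcomp, LinearMap.baseChange_comp, LinearMap.comp_apply] at hw
    have hyw : y = incl.baseChange K w := (hinj J hw).symm
    rw [hyw, ← LinearMap.comp_apply, ← LinearMap.baseChange_comp]
    have hz : N'.mkQ ∘ₗ incl = 0 := by
      ext n
      simp only [LinearMap.comp_apply, Submodule.mkQ_apply, LinearMap.zero_apply,
        Submodule.Quotient.mk_eq_zero]
      exact n.2
    rw [hz, LinearMap.baseChange_zero, LinearMap.zero_apply]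
  intro l hl
  have h0 : N'.mkQ ⟨l, hl⟩ = 0 := Subsingleton.elim _ _
  rw [Submodule.mkQ_apply, Submodule.Quotient.mk_eq_zero] at h0
  exact h0

end LocalGlobal

section AlgMul

variable {R : Type u} [CommRing R] {A : Type v} [CommRing A] [Algebra R A]
  (S : Type u) [CommRing S] [Algebra R S]

theorem baseChange_mul_le (P Q : Submodule R A) :
    P.baseChange S * Q.baseChange S ≤ (P * Q).baseChange S := by
  rw [Submodule.baseChange_eq_span, Submodule.baseChange_eq_span, Submodule.span_mul_span,
    Submodule.span_le]
  rintro _ ⟨_, ⟨a, ha, rfl⟩, _, ⟨b, hb, rfl⟩, rfl⟩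
  have : (TensorProduct.mk R S A 1) a * (TensorProduct.mk R S A 1) b = (1 : S) ⊗ₜ[R] (a * b) := by
    simp
  change (TensorProduct.mk R S A 1) a * (TensorProduct.mk R S A 1) b ∈ _
  rw [this]
  exact Submodule.tmul_mem_baseChange_of_mem 1 (Submodule.mul_mem_mul ha hb)

theorem baseChange_pow_le (P : Submodule R A) (t : ℕ) (ht : 1 ≤ t) :
    (P.baseChange S) ^ t ≤ (P ^ t).baseChange S := by
  induction t, ht using Nat.le_induction with
  | base => rw [pow_one, pow_one]
  | succ n hn ih =>
    rw [pow_succ, pow_succ]
    exact le_trans (mul_le_mul' ih le_rfl) (baseChange_mul_le S _ _)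

end AlgMul

section Rank

variable {R : Type u} [CommRing R]

theorem comap_bot_algClosure (q : PrimeSpectrum R) :
    PrimeSpectrum.comap (algebraMap R (GeomPt q.asIdeal)) ⊥ = q := by
  ext x
  change algebraMap R (GeomPt q.asIdeal) x ∈ (⊥ : Ideal (GeomPt q.asIdeal)) ↔ x ∈ q.asIdeal
  rw [Ideal.mem_bot, IsScalarTower.algebraMap_apply R q.asIdeal.ResidueField (GeomPt q.asIdeal),
    map_eq_zero_iff _ (algebraMap q.asIdeal.ResidueField (GeomPt q.asIdeal)).injective,
    ← RingHom.mem_ker, Ideal.ker_algebraMap_residueField]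

theorem rankAtStalk_eq_finrank_algClosure {L : Type v} [AddCommGroup L] [Module R L]
    [Module.Finite R L] [Module.Flat R L] (q : PrimeSpectrum R) :
    Module.rankAtStalk L q = Module.finrank (GeomPt q.asIdeal) (GeomPt q.asIdeal ⊗[R] L) := by
  have h1 := Module.rankAtStalk_baseChange (R := R) (M := L) (S := GeomPt q.asIdeal)
    (⊥ : PrimeSpectrum (GeomPt q.asIdeal))
  rw [comap_bot_algClosure, Module.rankAtStalk_eq_finrank_of_free] at h1
  exact h1.symm

end Rank

end Groth.Agent.Lib.T3H8.OT
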