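import Mathlib
import Groth.Agent.Lib.T3H8OTh
import Groth.Agent.S18468

set_option autoImplicit false
universe u v

namespace Groth.Agent.Lib.T3H8.OT

open Coalgebra TensorProduct WithConv SGA3b Groth.Agent.Lib.T2H3.OortTate

section EigenGeneric

variable {R : Type u} [CommRing R] {A : Type u} [CommRing A] [HopfAlgebra R A]
  (p : ℕ) [hpp : Fact p.Prime] (χ : (ZMod p)ˣ →* Rˣ)

theorem eigenAug_le_ker (i : ℕ) : OortTate.eigenAug R A p χ i ≤
    LinearMap.ker (Bialgebra.counitAlgHom R A).toLinearMap := by
  unfold OortTate.eigenAug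
  exact inf_le_left

theorem mul_mem_eigenAug {i j : ℕ} {a b : A} (ha : a ∈ OortTate.eigenAug R A p χ i)
    (hb : b ∈ OortTate.eigenAug R A p χ j) : a * b ∈ OortTate.eigenAug R A p χ (i + j) := by
  rw [mem_eigenAug_iff] at ha hb ⊢
  refine ⟨?_, fun m => ?_⟩
  · rw [Bialgebra.counit_mul, ha.1, zero_mul]
  · rw [map_mul, ha.2 m, hb.2 m, smul_mul_smul_comm, pow_add]

theorem pow_mem_eigenAug {x : A} (hx : x ∈ OortTate.eigenAug R A p χ 1) :
    ∀ t : ℕ, 1 ≤ t → x ^ t ∈ OortTate.eigenAug R A p χ t := by
  intro t ht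
  induction t, ht using Nat.le_induction with
  | base => rwa [pow_one]
  | succ n hn ih =>
    rw [pow_succ]
    exact mul_mem_eigenAug p χ ih hx

theorem eigenAug_add_period (i : ℕ) :
    OortTate.eigenAug R A p χ (i + (p - 1)) = OortTate.eigenAug R A p χ i := by
  ext f
  rw [mem_eigenAug_iff, mem_eigenAug_iff]
  refine and_congr Iff.rfl (forall_congr' fun m => ?_)
  have : ((χ m : Rˣ) : R) ^ (p - 1) = 1 := by
    rw [← Units.val_pow_eq_pow_val, ← map_pow, ZMod.units_pow_card_sub_one_eq_one, map_one,
      Units.val_one]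
  rw [pow_add, this, mul_one]

theorem eigenAug_add_mul_period (i k : ℕ) :
    OortTate.eigenAug R A p χ (i + k * (p - 1)) = OortTate.eigenAug R A p χ i := by
  induction k with
  | zero => simp
  | succ k ih =>
    rw [Nat.succ_mul, ← add_assoc, eigenAug_add_period, ih]

theorem eigenAug_mod (i : ℕ) :
    OortTate.eigenAug R A p χ (i % (p - 1)) = OortTate.eigenAug R A p χ i := by
  conv_rhs => rw [← Nat.mod_add_div i (p - 1), mul_comm]
  exact (eigenAug_add_mul_period p χ _ _).symm

end EigenGeneric

section FieldKT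

variable {K : Type u} [Field K] [IsAlgClosed K] {B : Type u} [CommRing B] [HopfAlgebra K B]
  [Module.Finite K B]

/-- Over an algebraically closed field: a generator of `I₁` all of whose powers below `p` are
nonzero. -/
theorem exists_eigen_generator (p : ℕ) [hpp : Fact p.Prime] (u : K)
    (hu : u * ((p - 1 : ℕ) : K) = 1) (χ : (ZMod p)ˣ →* Kˣ)
    (hχp : ∀ m : (ZMod p)ˣ, ((χ m : Kˣ) : K) - (((m : ZMod p).val : ℕ) : K) ∈
      Ideal.span ({(p : K)} : Set K))
    (hfr : Module.finrank K B = p) (hp : (toConv (AlgHom.id K B)) ^ p = 1) :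
    ∃ x ∈ OortTate.eigenAug K B p χ 1, ∀ t < p, x ^ t ≠ 0 := by
  rcases isLocalRing_or_card_points (K := K) (A := B) hfr with hloc | hcard
  · haveI := hloc
    exact exists_eigen_generator_local p u hu χ hχp hfr hp
  · exact exists_eigen_generator_etale p χ hfr hcard

/-- Over an algebraically closed field all eigenspaces `I_i` are lines. -/
theorem finrank_eigenAug_field (p : ℕ) [hpp : Fact p.Prime] (u : K)
    (hu : u * ((p - 1 : ℕ) : K) = 1) (χ : (ZMod p)ˣ →* Kˣ)
    (hχ : ∀ m : (ZMod p)ˣ, m ≠ 1 → IsUnit ((χ m : K) - 1))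
    (hfr : Module.finrank K B = p) (hp : (toConv (AlgHom.id K B)) ^ p = 1)
    {x : B} (hx : x ∈ OortTate.eigenAug K B p χ 1) (hxt : ∀ t < p, x ^ t ≠ 0) (i : ℕ) :
    Module.finrank K (OortTate.eigenAug K B p χ i) = 1 := by
  classical
  obtain ⟨hind, hsup, -⟩ := Groth.Agent.S18468.result p K u hu χ hχ B hp
  have hp2 : 2 ≤ p := hpp.out.two_le
  have hp1 : 0 < p - 1 := by omega
  -- the vectors
  let ex : Fin (p - 1) → ℕ := fun k => if (k : ℕ) = 0 then p - 1 else (k : ℕ)
  have hex1 : ∀ k, 1 ≤ ex k := by
    intro k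
    simp only [ex]
    split_ifs with h <;> omega
  have hexp : ∀ k, ex k < p := by
    intro k
    have := k.2
    simp only [ex]
    split_ifs with h <;> omega
  let v : Fin (p - 1) → B := fun k => x ^ ex k
  have hvmem : ∀ k : Fin (p - 1), v k ∈ OortTate.eigenAug K B p χ (k : ℕ) := by
    intro k
    have h1 := pow_mem_eigenAug p χ hx (ex k) (hex1 k)
    simp only [ex] at h1
    by_cases hk : (k : ℕ) = 0
    · have h2 : v k = x ^ (p - 1) := by simp only [v, ex]; rw [if_pos hk]
      rw [if_pos hk] at h1
      rw [h2, hk]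
      have := eigenAug_add_period (R := K) (A := B) p χ 0
      rw [zero_add] at this
      rw [← this]
      exact h1
    · have h2 : v k = x ^ (k : ℕ) := by simp only [v, ex]; rw [if_neg hk]
      rw [if_neg hk] at h1
      rw [h2]
      exact h1
  have hvne : ∀ k, v k ≠ 0 := fun k => hxt _ (hexp k)
  have hli : LinearIndependent K v := hind.linearIndependent _ hvmem hvne
  -- dimension of the augmentation ideal
  have hker : Module.finrank K (LinearMap.ker (Bialgebra.counitAlgHom K B).toLinearMap) = p - 1 := by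
    have h1 := LinearMap.finrank_range_add_finrank_ker (Bialgebra.counitAlgHom K B).toLinearMap
    have h2 : LinearMap.range (Bialgebra.counitAlgHom K B).toLinearMap = ⊤ := by
      rw [LinearMap.range_eq_top]
      intro c
      exact ⟨algebraMap K B c, by simp⟩
    rw [h2, finrank_top, Module.finrank_self, hfr] at h1
    omega
  have hspan : Submodule.span K (Set.range v) =
      LinearMap.ker (Bialgebra.counitAlgHom K B).toLinearMap := by
    apply Submodule.eq_of_le_of_finrank_eq
    · rw [Submodule.span_le]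
      rintro _ ⟨k, rfl⟩
      exact eigenAug_le_ker p χ _ (hvmem k)
    · rw [finrank_span_eq_card hli, hker, Fintype.card_fin]
  -- reduce to an index in `Fin (p - 1)`
  rw [← eigenAug_mod p χ i]
  let j : Fin (p - 1) := ⟨i % (p - 1), Nat.mod_lt _ hp1⟩
  change Module.finrank K (OortTate.eigenAug K B p χ (j : ℕ)) = 1
  have heq : OortTate.eigenAug K B p χ (j : ℕ) = Submodule.span K {v j} := by
    apply le_antisymm
    · intro f hf
      have hf' : f ∈ Submodule.span K (Set.range v) := by
        rw [hspan]; exact eigenAug_le_ker p χ _ hf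
      obtain ⟨c, rfl⟩ := (Submodule.mem_span_range_iff_exists_fun K).mp hf'
      have hdis := (iSupIndep_def.mp hind j)
      rw [Submodule.disjoint_def] at hdis
      have hrest : ∑ k ∈ Finset.univ.erase j, c k • v k ∈
          ⨆ k, ⨆ (_ : k ≠ j), OortTate.eigenAug K B p χ (k : ℕ) := by
        apply Submodule.sum_mem
        intro k hk
        have hkj : k ≠ j := Finset.ne_of_mem_erase hk
        apply Submodule.smul_mem
        exact Submodule.mem_iSup_of_mem k (Submodule.mem_iSup_of_mem hkj (hvmem k))
      have hsplit : ∑ k, c k • v k = c j • v j + ∑ k ∈ Finset.univ.erase j, c k • v k :=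
        (Finset.add_sum_erase _ _ (Finset.mem_univ j)).symm
      have hrest' : ∑ k ∈ Finset.univ.erase j, c k • v k ∈ OortTate.eigenAug K B p χ (j : ℕ) := by
        have : ∑ k ∈ Finset.univ.erase j, c k • v k = ∑ k, c k • v k - c j • v j := by
          rw [hsplit]; abel
        rw [this]
        exact Submodule.sub_mem _ hf (Submodule.smul_mem _ _ (hvmem j))
      have hz := hdis _ hrest' hrest
      rw [hsplit, hz, add_zero]
      exact Submodule.smul_mem _ _ (Submodule.mem_span_singleton_self _)
    · rw [Submodule.span_singleton_le_iff_mem]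
      exact hvmem j
  rw [heq]
  exact finrank_span_singleton (hvne j)

end FieldKT

end Groth.Agent.Lib.T3H8.OT
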