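import Mathlib
import Groth.Agent.Lib.T3H8OTi
import Groth.Agent.Lib.T3H8OTj

/-!
# Base change of the Oort–Tate eigenspaces and the main theorem on `I_i` (helper8)
-/

set_option autoImplicit false
universe u v

namespace Groth.Agent.Lib.T3H8.OT

open Coalgebra TensorProduct WithConv SGA3b Groth.Agent.Lib.T2H3.OortTate
  Groth.Agent.Lib.Helper25.Tors

section EProj

variable {R : Type u} [CommRing R] {A : Type u} [CommRing A] [HopfAlgebra R A]
  (p : ℕ) [hpp : Fact p.Prime] (u : R) (χ : (ZMod p)ˣ →* Rˣ)

theorem powConv_zero_apply (a : A) : powConv R A 0 a = algebraMap R A (counit (R := R) a) := by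
  unfold powConv
  rw [pow_zero]
  rfl

variable (R A) in
/-- The projector of `A` onto the eigenspace `I_i`. -/
noncomputable def eproj (i : ℕ) : A →ₗ[R] A :=
  (OortTate.proj R A p u χ i) ∘ₗ (LinearMap.id - (powConv R A 0).toLinearMap)

theorem eproj_apply (i : ℕ) (f : A) : eproj R A p u χ i f =
    OortTate.proj R A p u χ i (f - algebraMap R A (counit (R := R) f)) := by
  unfold eproj
  rw [LinearMap.comp_apply, LinearMap.sub_apply, LinearMap.id_apply, AlgHom.toLinearMap_apply,
    powConv_zero_apply]

variable (hp : (toConv (AlgHom.id R A)) ^ p = 1) (hu : u * ((p - 1 : ℕ) : R) = 1)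

include hp in
theorem eproj_mem (i : ℕ) (f : A) : eproj R A p u χ i f ∈ OortTate.eigenAug R A p χ i := by
  rw [eproj_apply]
  apply proj_mem_eigenAug p hp
  rw [map_sub, Bialgebra.counit_algebraMap, sub_self]

include hp hu in
theorem eproj_eq_self (i : ℕ) {f : A} (hf : f ∈ OortTate.eigenAug R A p χ i) :
    eproj R A p u χ i f = f := by
  rw [eproj_apply]
  have h0 : counit (R := R) f = 0 := ((mem_eigenAug_iff p χ i f).mp hf).1
  rw [h0, map_zero, sub_zero]
  exact proj_eq_self p hp u χ hu i f hf

include hp hu in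
theorem range_eproj (i : ℕ) :
    LinearMap.range (eproj R A p u χ i) = OortTate.eigenAug R A p χ i := by
  apply le_antisymm
  · rintro _ ⟨f, rfl⟩
    exact eproj_mem p u χ hp i f
  · intro f hf
    exact ⟨f, eproj_eq_self p u χ hp hu i hf⟩

/-- The retraction of `A` onto `I_i`. -/
noncomputable def retr (i : ℕ) : A →ₗ[R] OortTate.eigenAug R A p χ i :=
  (eproj R A p u χ i).codRestrict _ (eproj_mem p u χ hp i)

include hu in
theorem retr_apply_coe (i : ℕ) (l : OortTate.eigenAug R A p χ i) :
    retr p u χ hp i l = l := by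
  apply Subtype.ext
  exact eproj_eq_self p u χ hp hu i l.2

include hp hu in
theorem finite_projective_eigenAug [Module.Finite R A] [Module.Projective R A] (i : ℕ) :
    Module.Finite R (OortTate.eigenAug R A p χ i) ∧
      Module.Projective R (OortTate.eigenAug R A p χ i) := by
  have hs : (retr p u χ hp i) ∘ₗ (OortTate.eigenAug R A p χ i).subtype = LinearMap.id :=
    LinearMap.ext (retr_apply_coe p u χ hp hu i)
  refine ⟨?_, ?_⟩
  · apply Module.Finite.of_surjective (retr p u χ hp i)
    intro l
    exact ⟨l, retr_apply_coe p u χ hp hu i l⟩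
  · exact Module.Projective.of_split _ _ hs

end EProj

section BC

variable {R : Type u} [CommRing R] {A : Type u} [CommRing A] [HopfAlgebra R A]
  (p : ℕ) [hpp : Fact p.Prime] (u : R) (χ : (ZMod p)ˣ →* Rˣ)
  (S : Type u) [CommRing S] [Algebra R S]

/-- Base change of the character. -/
noncomputable def chiBC : (ZMod p)ˣ →* Sˣ := (Units.map (algebraMap R S : R →* S)).comp χ

theorem chiBC_apply (m : (ZMod p)ˣ) :
    ((chiBC p χ S m : Sˣ) : S) = algebraMap R S ((χ m : Rˣ) : R) := rfl

omit hpp in
theorem id_pow_baseChange (hp : (toConv (AlgHom.id R A)) ^ p = 1) :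
    (toConv (AlgHom.id S (S ⊗[R] A))) ^ p = 1 := by
  have hk : Groth.Agent.Lib.Helper25.Tors.IsKilled R A p := by
    intro a
    unfold powConv
    rw [hp]
    rfl
  have hkS := hk.baseChange S
  apply WithConv.ext
  ext a
  exact hkS _

theorem proj_baseChange (i : ℕ) :
    OortTate.proj S (S ⊗[R] A) p (algebraMap R S u) (chiBC p χ S) i =
      (OortTate.proj R A p u χ i).baseChange S := by
  apply LinearMap.ext
  intro z
  induction z using TensorProduct.induction_on with
  | zero => rw [map_zero, map_zero]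
  | add a b ha hb => rw [map_add, map_add, ha, hb]
  | tmul t a =>
    rw [LinearMap.baseChange_tmul]
    unfold OortTate.proj
    simp only [LinearMap.smul_apply, LinearMap.sum_apply, AlgHom.toLinearMap_apply,
      powConv_baseChange, chiBC_apply, ← map_pow, algebraMap_smul, ← TensorProduct.tmul_smul,
      ← TensorProduct.tmul_sum]

theorem eproj_baseChange (i : ℕ) :
    eproj S (S ⊗[R] A) p (algebraMap R S u) (chiBC p χ S) i =
      (eproj R A p u χ i).baseChange S := by
  unfold eproj
  rw [LinearMap.baseChange_comp, proj_baseChange]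
  congr 1
  apply LinearMap.ext
  intro z
  induction z using TensorProduct.induction_on with
  | zero => rw [map_zero, map_zero]
  | add a b ha hb => rw [map_add, map_add, ha, hb]
  | tmul t a =>
    rw [LinearMap.baseChange_tmul]
    simp only [LinearMap.sub_apply, LinearMap.id_apply, AlgHom.toLinearMap_apply,
      powConv_baseChange, TensorProduct.tmul_sub]

theorem eigenAug_baseChange (hp : (toConv (AlgHom.id R A)) ^ p = 1)
    (hu : u * ((p - 1 : ℕ) : R) = 1) (i : ℕ) :
    (OortTate.eigenAug R A p χ i).baseChange S =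
      OortTate.eigenAug S (S ⊗[R] A) p (chiBC p χ S) i := by
  have huS : algebraMap R S u * ((p - 1 : ℕ) : S) = 1 := by
    rw [← map_natCast (algebraMap R S), ← map_mul, hu, map_one]
  rw [← range_eproj p u χ hp hu i, ← range_baseChange, ← eproj_baseChange,
    range_eproj p (algebraMap R S u) (chiBC p χ S) (id_pow_baseChange p S hp) huS i]

end BC

section Main

variable {R : Type u} [CommRing R] {A : Type u} [CommRing A] [HopfAlgebra R A]
  [Module.Finite R A] [Module.Projective R A]
  (p : ℕ) [hpp : Fact p.Prime] (u : R) (χ : (ZMod p)ˣ →* Rˣ)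

/-- The geometric fibres of the eigenspaces: lines, generated by the powers of one element. -/
theorem geometric_fibre (hu : u * ((p - 1 : ℕ) : R) = 1)
    (hχ : ∀ m : (ZMod p)ˣ, m ≠ 1 → IsUnit ((χ m : R) - 1))
    (hχp : ∀ m : (ZMod p)ˣ, ((χ m : Rˣ) : R) - (((m : ZMod p).val : ℕ) : R) ∈
      Ideal.span ({(p : R)} : Set R))
    (hrk : ∀ q : PrimeSpectrum R, Module.rankAtStalk A q = p)
    (hp : (toConv (AlgHom.id R A)) ^ p = 1)
    (K : Type u) [Field K] [IsAlgClosed K] [Algebra R K] :
    ∃ x ∈ (OortTate.eigenAug R A p χ 1).baseChange K, (∀ t < p, x ^ t ≠ 0) ∧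
      ∀ i, Module.finrank K ((OortTate.eigenAug R A p χ i).baseChange K) = 1 := by
  have hfr : Module.finrank K (K ⊗[R] A) = p := finrank_tensor_field_eq hrk K
  have hpK := id_pow_baseChange p K hp
  have huK : algebraMap R K u * ((p - 1 : ℕ) : K) = 1 := by
    rw [← map_natCast (algebraMap R K), ← map_mul, hu, map_one]
  have hχK : ∀ m : (ZMod p)ˣ, m ≠ 1 → IsUnit (((chiBC p χ K m : Kˣ) : K) - 1) := by
    intro m hm
    rw [chiBC_apply, ← map_one (algebraMap R K), ← map_sub]
    exact (hχ m hm).map _
  have hχpK : ∀ m : (ZMod p)ˣ, ((chiBC p χ K m : Kˣ) : K) - (((m : ZMod p).val : ℕ) : K) ∈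
      Ideal.span ({(p : K)} : Set K) := by
    intro m
    have := Ideal.mem_map_of_mem (algebraMap R K) (hχp m)
    rw [Ideal.map_span, Set.image_singleton, map_natCast, map_sub, map_natCast] at this
    exact this
  obtain ⟨x, hx, hxt⟩ := exists_eigen_generator (K := K) (B := K ⊗[R] A) p (algebraMap R K u) huK
    (chiBC p χ K) hχpK hfr hpK
  refine ⟨x, ?_, hxt, fun i => ?_⟩
  · rw [eigenAug_baseChange p u χ K hp hu 1]
    exact hx
  · rw [eigenAug_baseChange p u χ K hp hu i]
    exact finrank_eigenAug_field p (algebraMap R K u) huK (chiBC p χ K) hχK hfr hpK hx hxt i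

/-- **Oort–Tate**: the eigenspaces `I_i` are invertible modules and `I_1^t = I_t`. -/
theorem eigenAug_main (hu : u * ((p - 1 : ℕ) : R) = 1)
    (hχ : ∀ m : (ZMod p)ˣ, m ≠ 1 → IsUnit ((χ m : R) - 1))
    (hχp : ∀ m : (ZMod p)ˣ, ((χ m : Rˣ) : R) - (((m : ZMod p).val : ℕ) : R) ∈
      Ideal.span ({(p : R)} : Set R))
    (hrk : ∀ q : PrimeSpectrum R, Module.rankAtStalk A q = p) :
    (∀ i : ℕ, Module.Finite R (OortTate.eigenAug R A p χ i) ∧
        Module.Projective R (OortTate.eigenAug R A p χ i) ∧
        ∀ q : PrimeSpectrum R, Module.rankAtStalk (↥(OortTate.eigenAug R A p χ i)) q = 1) ∧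
      ∀ t : ℕ, 1 ≤ t → t ≤ p - 1 →
        (OortTate.eigenAug R A p χ 1) ^ t = OortTate.eigenAug R A p χ t := by
  haveI hcoc : Coalgebra.IsCocomm R A := isCocomm_of_rankAtStalk_eq_prime hrk
  have hp : (toConv (AlgHom.id R A)) ^ p = 1 := id_pow_eq_one_of_rankAtStalk hrk
  have hinj : ∀ (i : ℕ) (K : Type u) [Field K] [Algebra R K],
      Function.Injective ((OortTate.eigenAug R A p χ i).subtype.baseChange K) := by
    intro i K _ _
    exact baseChange_subtype_injective K _ (retr p u χ hp i) (retr_apply_coe p u χ hp hu i)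
  refine ⟨fun i => ?_, ?_⟩
  · obtain ⟨hfin, hproj⟩ := finite_projective_eigenAug p u χ hp hu (A := A) i
    refine ⟨hfin, hproj, fun q => ?_⟩
    haveI := hfin
    haveI := hproj
    rw [rankAtStalk_eq_finrank_algClosure q]
    obtain ⟨-, -, -, hK⟩ := geometric_fibre p u χ hu hχ hχp hrk hp (GeomPt q.asIdeal)
    rw [← hK i]
    exact (LinearEquiv.ofInjective _ (hinj i (GeomPt q.asIdeal))).finrank_eq
  · intro t ht1 htp
    apply le_antisymm
    · induction t, ht1 using Nat.le_induction with
      | base => rw [pow_one]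
      | succ n hn ih =>
        rw [pow_succ]
        refine le_trans (mul_le_mul' (ih (by omega)) le_rfl) ?_
        rw [Submodule.mul_le]
        intro a ha b hb
        exact mul_mem_eigenAug p χ ha hb
    · have hNL : (OortTate.eigenAug R A p χ 1) ^ t ≤ OortTate.eigenAug R A p χ t := by
        clear htp
        induction t, ht1 using Nat.le_induction with
        | base => rw [pow_one]
        | succ n hn ih =>
          rw [pow_succ]
          refine le_trans (mul_le_mul' ih le_rfl) ?_
          rw [Submodule.mul_le]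
          intro a ha b hb
          exact mul_mem_eigenAug p χ ha hb
      obtain ⟨hfin, -⟩ := finite_projective_eigenAug p u χ hp hu (A := A) t
      apply le_of_forall_baseChange_le _ _ hNL (Module.Finite.iff_fg.mp hfin)
      · intro J hJ
        exact hinj t (GeomPt J)
      · intro J hJ
        obtain ⟨x, hx, hxt, hK⟩ := geometric_fibre p u χ hu hχ hχp hrk hp (GeomPt J)
        have hxt' : x ^ t ∈ ((OortTate.eigenAug R A p χ 1) ^ t).baseChange (GeomPt J) :=
          baseChange_pow_le (GeomPt J) _ t ht1 (Submodule.pow_mem_pow _ hx t)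
        have hxL : x ^ t ∈ (OortTate.eigenAug R A p χ t).baseChange (GeomPt J) :=
          Submodule.baseChange_mono (GeomPt J) hNL hxt'
        have hne : (⟨x ^ t, hxL⟩ : (OortTate.eigenAug R A p χ t).baseChange (GeomPt J)) ≠ 0 := by
          intro h0
          exact hxt t (by have := hpp.out.two_le; omega) (congrArg Subtype.val h0)
        have h1 := (finrank_eq_one_iff_of_nonzero' _ hne).mp (hK t)
        intro w hw
        obtain ⟨c, hc⟩ := h1 ⟨w, hw⟩
        have : w = c • x ^ t := (congrArg Subtype.val hc).symm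
        rw [this]
        exact Submodule.smul_mem _ c hxt'

end Main

end Groth.Agent.Lib.T3H8.OT
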