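import Mathlib
import Groth.Agent.Lib.T3H8OTk
import Groth.Agent.S18468

set_option autoImplicit false
universe u v

namespace Groth.Agent.Lib.T3H8.OT

open Coalgebra TensorProduct WithConv SGA3b Groth.Agent.Lib.T2H3.OortTate
  Groth.Agent.Lib.Helper25.Tors

section TensorPowerInvertible

variable {R : Type u} [CommRing R] {L : Type v} [AddCommGroup L] [Module R L]
  [Module.Finite R L] [Module.Projective R L]

/-- Tensor powers of an invertible module are invertible. -/
theorem tensorPower_invertible (hr : ∀ q : PrimeSpectrum R, Module.rankAtStalk L q = 1) (n : ℕ) :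
    Module.Finite R (⨂[R]^n L) ∧ Module.Projective R (⨂[R]^n L) ∧
      ∀ q : PrimeSpectrum R, Module.rankAtStalk (⨂[R]^n L) q = 1 := by
  induction n with
  | zero =>
    let e0 : ⨂[R]^0 L ≃ₗ[R] R := PiTensorProduct.isEmptyEquiv (Fin 0)
    refine ⟨Module.Finite.equiv e0.symm, Module.Projective.of_equiv e0.symm, fun q => ?_⟩
    haveI : Nontrivial R := q.nontrivial
    rw [Module.rankAtStalk_eq_of_equiv e0, Module.rankAtStalk_self]
    rfl
  | succ n ih =>
    obtain ⟨h1, h2, h3⟩ := ih
    haveI := h1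
    haveI := h2
    let e1 : ⨂[R]^1 L ≃ₗ[R] L := PiTensorProduct.subsingletonEquiv (0 : Fin 1)
    let e : (⨂[R]^n L) ⊗[R] L ≃ₗ[R] ⨂[R]^(n + 1) L :=
      (TensorProduct.congr (LinearEquiv.refl R _) e1).symm ≪≫ₗ TensorPower.mulEquiv
    refine ⟨Module.Finite.equiv e, Module.Projective.of_equiv e, fun q => ?_⟩
    rw [← Module.rankAtStalk_eq_of_equiv e, Module.rankAtStalk_tensorProduct, Pi.mul_apply, h3, hr]

end TensorPowerInvertible

section Presentation

variable {R : Type u} [CommRing R] {A : Type u} [CommRing A] [HopfAlgebra R A]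
  (p : ℕ) [hpp : Fact p.Prime] (χ : (ZMod p)ˣ →* Rˣ)

/-- The canonical map from the tensor algebra of `I₁`. -/
noncomputable abbrev Phi : TensorAlgebra R (OortTate.eigenAug R A p χ 1) →ₐ[R] A :=
  TensorAlgebra.lift R (OortTate.eigenAug R A p χ 1).subtype

/-- Its restriction to the `n`-th tensor power. -/
noncomputable def phiN (n : ℕ) : ⨂[R]^n (OortTate.eigenAug R A p χ 1) →ₗ[R] A :=
  (Phi p χ).toLinearMap ∘ₗ TensorPower.toTensorAlgebra

theorem Phi_tprod {n : ℕ} (f : Fin n → OortTate.eigenAug R A p χ 1) :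
    Phi p χ ((List.ofFn fun i => TensorAlgebra.ι R (f i)).prod) = ∏ i, (f i : A) := by
  rw [map_list_prod, List.map_ofFn, ← List.prod_ofFn]
  congr 1
  apply congrArg
  funext i
  simp

theorem phiN_tprod {n : ℕ} (f : Fin n → OortTate.eigenAug R A p χ 1) :
    phiN p χ n (PiTensorProduct.tprod R f) = ∏ i, (f i : A) := by
  unfold phiN
  rw [LinearMap.comp_apply, TensorPower.toTensorAlgebra_tprod, TensorAlgebra.tprod_apply]
  exact Phi_tprod p χ f

theorem prod_mem_eigenAug {n : ℕ} (hn : 1 ≤ n) (f : Fin n → OortTate.eigenAug R A p χ 1) :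
    ∏ i, (f i : A) ∈ OortTate.eigenAug R A p χ n := by
  induction n, hn using Nat.le_induction with
  | base => simp
  | succ n hn ih =>
    rw [Fin.prod_univ_succ]
    have h := mul_mem_eigenAug p χ (f 0).2 (ih fun i => f i.succ)
    rwa [add_comm] at h

theorem range_phiN_le {n : ℕ} (hn : 1 ≤ n) :
    LinearMap.range (phiN p χ n) ≤ OortTate.eigenAug R A p χ n := by
  rintro _ ⟨z, rfl⟩
  induction z using PiTensorProduct.induction_on with
  | smul_tprod r f =>
    rw [map_smul, phiN_tprod]
    exact Submodule.smul_mem _ _ (prod_mem_eigenAug p χ hn f)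
  | add a b ha hb => rw [map_add]; exact Submodule.add_mem _ ha hb

theorem pow_le_range_phiN (n : ℕ) :
    (OortTate.eigenAug R A p χ 1) ^ n ≤ LinearMap.range (phiN p χ n) := by
  rw [Submodule.pow_eq_span_pow_set, Submodule.span_le]
  intro a ha
  obtain ⟨f, rfl⟩ := Set.mem_pow.mp ha
  refine ⟨PiTensorProduct.tprod R f, ?_⟩
  rw [phiN_tprod, List.prod_ofFn]

theorem phiN_zero_algebraMap₀ (r : R) :
    phiN p χ 0 (TensorPower.algebraMap₀ r) = algebraMap R A r := by
  unfold phiN
  rw [LinearMap.comp_apply, TensorPower.algebraMap₀_eq_smul_one, map_smul,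
    TensorPower.toTensorAlgebra_gOne, AlgHom.toLinearMap_apply, map_smul, map_one,
    Algebra.algebraMap_eq_smul_one]

theorem phiN_injective [Module.Finite R A] [Module.Projective R A] (u : R)
    (hu : u * ((p - 1 : ℕ) : R) = 1)
    (hχ : ∀ m : (ZMod p)ˣ, m ≠ 1 → IsUnit ((χ m : R) - 1))
    (hχp : ∀ m : (ZMod p)ˣ, ((χ m : Rˣ) : R) - (((m : ZMod p).val : ℕ) : R) ∈
      Ideal.span ({(p : R)} : Set R))
    (hrk : ∀ q : PrimeSpectrum R, Module.rankAtStalk A q = p) {n : ℕ} (hn : n < p) :
    Function.Injective (phiN (A := A) p χ n) := by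
  obtain ⟨h1, h2⟩ := eigenAug_main (A := A) p u χ hu hχ hχp hrk
  rcases Nat.eq_zero_or_pos n with rfl | hn1
  · rw [injective_iff_map_eq_zero]
    intro z hz
    obtain ⟨r, rfl⟩ := (TensorPower.algebraMap₀ (R := R)
      (M := OortTate.eigenAug R A p χ 1)).surjective z
    rw [phiN_zero_algebraMap₀] at hz
    have : r = 0 := by
      have := congrArg (counit (R := R)) hz
      rwa [Bialgebra.counit_algebraMap, map_zero] at this
    rw [this, map_zero]
  · have hn1' : 1 ≤ n := hn1
    have hnp : n ≤ p - 1 := by omega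
    obtain ⟨hf1, hp1, hr1⟩ := h1 1
    obtain ⟨hfn, hpn, hrn⟩ := h1 n
    haveI := hf1
    haveI := hp1
    haveI := hfn
    haveI := hpn
    obtain ⟨hft, hpt, hrt⟩ := tensorPower_invertible (R := R)
      (L := OortTate.eigenAug R A p χ 1) hr1 n
    haveI := hft
    haveI := hpt
    let g : ⨂[R]^n (OortTate.eigenAug R A p χ 1) →ₗ[R] OortTate.eigenAug R A p χ n :=
      (phiN p χ n).codRestrict _ (fun z => range_phiN_le p χ hn1' ⟨z, rfl⟩)
    have hs : Function.Surjective g := by
      intro l
      have hl : (l : A) ∈ (OortTate.eigenAug R A p χ 1) ^ n := by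
        rw [h2 n hn1' hnp]; exact l.2
      obtain ⟨z, hz⟩ := pow_le_range_phiN p χ n hl
      exact ⟨z, Subtype.ext hz⟩
    have hb : Function.Bijective g := by
      refine @Module.bijective_of_surjective_of_rankAtStalk_eq R _
        (⨂[R]^n (OortTate.eigenAug R A p χ 1)) (OortTate.eigenAug R A p χ n) _ _ _ _ _ _ _ _ g hs ?_
      intro m _
      rw [hrt, hrn]
    intro z z' hzz
    apply hb.1
    exact Subtype.ext hzz

variable (R A) in
/-- The set of relations `ι(x₁)⋯ι(x_p) − ι(x₁⋯x_p)`. -/
def relSet : Set (TensorAlgebra R (OortTate.eigenAug R A p χ 1)) :=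
  {x | ∃ (f : Fin p → OortTate.eigenAug R A p χ 1) (g : OortTate.eigenAug R A p χ 1),
    (g : A) = ∏ i, (f i : A) ∧
    x = (List.ofFn fun i => TensorAlgebra.ι R (f i)).prod - TensorAlgebra.ι R g}

variable (R A) in
/-- The `n`-th graded piece of the tensor algebra. -/
noncomputable def Gpc (n : ℕ) : Submodule R (TensorAlgebra R (OortTate.eigenAug R A p χ 1)) :=
  LinearMap.range (TensorPower.toTensorAlgebra (R := R) (M := OortTate.eigenAug R A p χ 1) (n := n))

theorem ι_eq_toTensorAlgebra (a : OortTate.eigenAug R A p χ 1) :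
    TensorAlgebra.ι R a =
      TensorPower.toTensorAlgebra (PiTensorProduct.tprod R (fun _ : Fin 1 => a)) := by
  rw [TensorPower.toTensorAlgebra_tprod, TensorAlgebra.tprod_apply]
  simp

theorem ι_mem_Gpc (a : OortTate.eigenAug R A p χ 1) : TensorAlgebra.ι R a ∈ Gpc R A p χ 1 :=
  ⟨_, (ι_eq_toTensorAlgebra p χ a).symm⟩

theorem ι_mul_mem_Gpc (a : OortTate.eigenAug R A p χ 1) {n : ℕ}
    {w : TensorAlgebra R (OortTate.eigenAug R A p χ 1)} (hw : w ∈ Gpc R A p χ n) :
    TensorAlgebra.ι R a * w ∈ Gpc R A p χ (1 + n) := by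
  obtain ⟨z, rfl⟩ := hw
  refine ⟨GradedMonoid.GMul.mul (A := fun n => ⨂[R]^n (OortTate.eigenAug R A p χ 1))
    (PiTensorProduct.tprod R (fun _ : Fin 1 => a)) z, ?_⟩
  rw [TensorPower.toTensorAlgebra_gMul, ← ι_eq_toTensorAlgebra]

/-- The candidate complement of the kernel. -/
noncomputable def Wsub : Submodule R (TensorAlgebra R (OortTate.eigenAug R A p χ 1)) :=
  (⨆ n ∈ Finset.range p, Gpc R A p χ n) ⊔ (Ideal.span (relSet R A p χ)).restrictScalars R

theorem Gpc_le_Wsub {n : ℕ} (hn : n < p) : Gpc R A p χ n ≤ Wsub p χ := by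
  unfold Wsub
  refine le_trans ?_ le_sup_left
  exact le_iSup₂_of_le n (Finset.mem_range.mpr hn) le_rfl

theorem span_le_Wsub : (Ideal.span (relSet R A p χ)).restrictScalars R ≤ Wsub p χ := le_sup_right

theorem Gpc_p_le_Wsub : Gpc R A p χ p ≤ Wsub p χ := by
  rintro _ ⟨z, rfl⟩
  induction z using PiTensorProduct.induction_on with
  | smul_tprod r f =>
    rw [map_smul]
    apply Submodule.smul_mem
    rw [TensorPower.toTensorAlgebra_tprod, TensorAlgebra.tprod_apply]
    have hmem : ∏ i, (f i : A) ∈ OortTate.eigenAug R A p χ 1 := by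
      have h1 := prod_mem_eigenAug p χ hpp.out.one_le f
      have h2 := eigenAug_add_period (R := R) (A := A) p χ 1
      have h3 : 1 + (p - 1) = p := by have := hpp.out.one_le; omega
      rw [h3] at h2
      rwa [h2] at h1
    let g : OortTate.eigenAug R A p χ 1 := ⟨∏ i, (f i : A), hmem⟩
    have hsplit : (List.ofFn fun i => TensorAlgebra.ι R (f i)).prod =
        ((List.ofFn fun i => TensorAlgebra.ι R (f i)).prod - TensorAlgebra.ι R g) +
          TensorAlgebra.ι R g := by abel
    rw [hsplit]
    apply Submodule.add_mem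
    · apply span_le_Wsub
      exact Ideal.subset_span ⟨f, g, rfl, rfl⟩
    · exact Gpc_le_Wsub p χ hpp.out.one_lt (ι_mem_Gpc p χ g)
  | add a b ha hb => rw [map_add]; exact Submodule.add_mem _ ha hb

theorem ι_mul_mem_Wsub (a : OortTate.eigenAug R A p χ 1)
    {w : TensorAlgebra R (OortTate.eigenAug R A p χ 1)} (hw : w ∈ Wsub p χ) :
    TensorAlgebra.ι R a * w ∈ Wsub p χ := by
  unfold Wsub at hw
  obtain ⟨y, hy, z, hz, rfl⟩ := Submodule.mem_sup.mp hw
  rw [mul_add]
  apply Submodule.add_mem
  · -- graded part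
    refine Submodule.iSup_induction (p := fun n => ⨆ (_ : n ∈ Finset.range p), Gpc R A p χ n)
      (motive := fun y => TensorAlgebra.ι R a * y ∈ Wsub p χ) hy ?_ ?_ ?_
    · intro n y hy
      by_cases hn : n ∈ Finset.range p
      · rw [iSup_pos hn] at hy
        have hn' : n < p := Finset.mem_range.mp hn
        have h1 := ι_mul_mem_Gpc p χ a hy
        by_cases hn1 : 1 + n < p
        · exact Gpc_le_Wsub p χ hn1 h1
        · have : 1 + n = p := by omega
          rw [this] at h1
          exact Gpc_p_le_Wsub p χ h1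
      · rw [iSup_neg hn, Submodule.mem_bot] at hy
        rw [hy, mul_zero]
        exact Submodule.zero_mem _
    · rw [mul_zero]; exact Submodule.zero_mem _
    · intro y z hy hz
      rw [mul_add]
      exact Submodule.add_mem _ hy hz
  · apply span_le_Wsub
    exact Ideal.mul_mem_left _ _ hz

theorem Wsub_eq_top : Wsub (R := R) (A := A) p χ = ⊤ := by
  let 𝒮 : Subalgebra R (TensorAlgebra R (OortTate.eigenAug R A p χ 1)) :=
    { carrier := {x | ∀ w ∈ Wsub p χ, x * w ∈ Wsub p χ}
      mul_mem' := by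
        intro x y hx hy w hw
        rw [mul_assoc]
        exact hx _ (hy _ hw)
      add_mem' := by
        intro x y hx hy w hw
        rw [add_mul]
        exact Submodule.add_mem _ (hx _ hw) (hy _ hw)
      algebraMap_mem' := by
        intro r w hw
        rw [← Algebra.smul_def]
        exact Submodule.smul_mem _ r hw }
  have h𝒮 : 𝒮 = ⊤ := by
    rw [eq_top_iff, ← TensorAlgebra.adjoin_range_ι, Algebra.adjoin_le_iff]
    rintro _ ⟨a, rfl⟩
    intro w hw
    exact ι_mul_mem_Wsub p χ a hw
  rw [eq_top_iff]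
  intro x _
  have hx : x ∈ 𝒮 := by rw [h𝒮]; trivial
  have h1 : (1 : TensorAlgebra R (OortTate.eigenAug R A p χ 1)) ∈ Wsub p χ := by
    apply Gpc_le_Wsub p χ hpp.out.pos
    refine ⟨GradedMonoid.GOne.one (A := fun n => ⨂[R]^n (OortTate.eigenAug R A p χ 1)), ?_⟩
    exact TensorPower.toTensorAlgebra_gOne
  have := hx 1 h1
  rwa [mul_one] at this

omit hpp in
theorem eq_zero_of_sum_eq_zero_of_iSupIndep {M : Type v} [AddCommGroup M] [Module R M]
    {ι : Type*} [Fintype ι] {V : ι → Submodule R M} (hV : iSupIndep V)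
    (v : ι → M) (hv : ∀ i, v i ∈ V i) (hsum : ∑ i, v i = 0) : ∀ i, v i = 0 := by
  classical
  intro j
  have hdis := iSupIndep_def.mp hV j
  rw [Submodule.disjoint_def] at hdis
  apply hdis _ (hv j)
  have hsplit : ∑ k, v k = v j + ∑ k ∈ Finset.univ.erase j, v k :=
    (Finset.add_sum_erase _ _ (Finset.mem_univ j)).symm
  have : v j = - ∑ k ∈ Finset.univ.erase j, v k := by
    rw [hsplit] at hsum
    exact eq_neg_of_add_eq_zero_left hsum
  rw [this]
  apply Submodule.neg_mem
  apply Submodule.sum_mem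
  intro k hk
  have hkj : k ≠ j := Finset.ne_of_mem_erase hk
  exact Submodule.mem_iSup_of_mem k (Submodule.mem_iSup_of_mem hkj (hv k))

theorem iSupIndep_shift (hind : iSupIndep (fun i : Fin (p - 1) =>
      OortTate.eigenAug R A p χ (i : ℕ))) :
    iSupIndep (fun j : Fin (p - 1) => OortTate.eigenAug R A p χ ((j : ℕ) + 1)) := by
  have hp1 : 0 < p - 1 := by have := hpp.out.two_le; omega
  let f : Fin (p - 1) → Fin (p - 1) := fun j => ⟨((j : ℕ) + 1) % (p - 1), Nat.mod_lt _ hp1⟩
  have hf : Function.Injective f := by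
    intro j k hjk
    have h1 : ((j : ℕ) + 1) % (p - 1) = ((k : ℕ) + 1) % (p - 1) := congrArg Fin.val hjk
    have hj := j.2
    have hk := k.2
    apply Fin.ext
    by_cases hj1 : (j : ℕ) + 1 = p - 1
    · by_cases hk1 : (k : ℕ) + 1 = p - 1
      · omega
      · rw [hj1, Nat.mod_self, Nat.mod_eq_of_lt (by omega)] at h1
        omega
    · by_cases hk1 : (k : ℕ) + 1 = p - 1
      · rw [hk1, Nat.mod_self, Nat.mod_eq_of_lt (by omega)] at h1
        omega
      · rw [Nat.mod_eq_of_lt (by omega), Nat.mod_eq_of_lt (by omega)] at h1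
        omega
  have h := hind.comp hf
  convert h using 1
  funext j
  exact (eigenAug_mod p χ ((j : ℕ) + 1)).symm

theorem span_relSet_le_ker :
    Ideal.span (relSet R A p χ) ≤ RingHom.ker (Phi (A := A) p χ) := by
  rw [Ideal.span_le]
  rintro _ ⟨f, g, hg, rfl⟩
  rw [SetLike.mem_coe, RingHom.mem_ker, map_sub, Phi_tprod, TensorAlgebra.lift_ι_apply,
    Submodule.subtype_apply, hg, sub_self]

/-- **Oort–Tate**: `A` is the quotient of the tensor algebra of `I₁` by the relations
`x₁ ⋯ x_p = (their product in I₁)`. -/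
theorem presentation [Module.Finite R A] [Module.Projective R A] (u : R)
    (hu : u * ((p - 1 : ℕ) : R) = 1)
    (hχ : ∀ m : (ZMod p)ˣ, m ≠ 1 → IsUnit ((χ m : R) - 1))
    (hχp : ∀ m : (ZMod p)ˣ, ((χ m : Rˣ) : R) - (((m : ZMod p).val : ℕ) : R) ∈
      Ideal.span ({(p : R)} : Set R))
    (hrk : ∀ q : PrimeSpectrum R, Module.rankAtStalk A q = p) :
    Function.Surjective (Phi (A := A) p χ) ∧
      RingHom.ker (Phi (A := A) p χ) = Ideal.span (relSet R A p χ) := by
  classical
  obtain ⟨h1, h2⟩ := eigenAug_main (A := A) p u χ hu hχ hχp hrk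
  haveI hcoc : Coalgebra.IsCocomm R A := isCocomm_of_rankAtStalk_eq_prime hrk
  have hp : (toConv (AlgHom.id R A)) ^ p = 1 := id_pow_eq_one_of_rankAtStalk hrk
  obtain ⟨hind, hsup, -⟩ := Groth.Agent.S18468.result p R u hu χ hχ A hp
  have hp2 : 2 ≤ p := hpp.out.two_le
  have hp1 : 0 < p - 1 := by omega
  refine ⟨?_, ?_⟩
  · -- surjectivity
    let S' : Subalgebra R A := (Phi (A := A) p χ).range
    have hL : OortTate.eigenAug R A p χ 1 ≤ Subalgebra.toSubmodule S' := by
      intro a ha
      refine ⟨TensorAlgebra.ι R (⟨a, ha⟩ : OortTate.eigenAug R A p χ 1), ?_⟩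
      simp [Phi]
    have hpow : ∀ t : ℕ, 1 ≤ t → (OortTate.eigenAug R A p χ 1) ^ t ≤ Subalgebra.toSubmodule S' := by
      intro t ht
      induction t, ht using Nat.le_induction with
      | base => rwa [pow_one]
      | succ n hn ih =>
        rw [pow_succ, Submodule.mul_le]
        intro a ha b hb
        exact S'.mul_mem (ih ha) (hL hb)
    have hI : ∀ i : Fin (p - 1), OortTate.eigenAug R A p χ (i : ℕ) ≤ Subalgebra.toSubmodule S' := by
      intro i
      by_cases hi : (i : ℕ) = 0
      · rw [hi]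
        have := eigenAug_add_period (R := R) (A := A) p χ 0
        rw [zero_add] at this
        rw [← this, ← h2 (p - 1) hp1 le_rfl]
        exact hpow _ hp1
      · have hi1 : 1 ≤ (i : ℕ) := Nat.one_le_iff_ne_zero.mpr hi
        rw [← h2 (i : ℕ) hi1 (le_of_lt i.2)]
        exact hpow _ hi1
    have hker : LinearMap.ker (Bialgebra.counitAlgHom R A).toLinearMap ≤
        Subalgebra.toSubmodule S' := by
      rw [← hsup]
      exact iSup_le hI
    intro a
    have h3 : a - algebraMap R A (counit (R := R) a) ∈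
        LinearMap.ker (Bialgebra.counitAlgHom R A).toLinearMap := by
      rw [LinearMap.mem_ker]
      change counit (R := R) (a - algebraMap R A (counit (R := R) a)) = 0
      rw [map_sub, Bialgebra.counit_algebraMap, sub_self]
    have h4 : a ∈ S' := by
      have : a = algebraMap R A (counit (R := R) a) + (a - algebraMap R A (counit (R := R) a)) := by
        abel
      rw [this]
      exact S'.add_mem (S'.algebraMap_mem _) (hker h3)
    exact h4
  · apply le_antisymm
    · intro x hx
      rw [RingHom.mem_ker] at hx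
      have hxW : x ∈ Wsub (R := R) (A := A) p χ := by rw [Wsub_eq_top]; trivial
      unfold Wsub at hxW
      obtain ⟨y, hy, z, hz, rfl⟩ := Submodule.mem_sup.mp hxW
      have hz' : Phi (A := A) p χ z = 0 := span_relSet_le_ker p χ hz
      rw [map_add, hz', add_zero] at hx
      obtain ⟨μ, hμ⟩ := (Submodule.mem_iSup_finset_iff_exists_sum _ _).mp hy
      have hw : ∀ n, ∃ w : ⨂[R]^n (OortTate.eigenAug R A p χ 1),
          TensorPower.toTensorAlgebra w = (μ n : TensorAlgebra R (OortTate.eigenAug R A p χ 1)) :=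
        fun n => (μ n).2
      choose w hw using hw
      -- the components in `A`
      let a : ℕ → A := fun n => phiN p χ n (w n)
      have ha_sum : ∑ n ∈ Finset.range p, a n = 0 := by
        rw [← hx, ← hμ, map_sum]
        refine Finset.sum_congr rfl fun n _ => ?_
        simp only [a, phiN, LinearMap.comp_apply, hw, AlgHom.toLinearMap_apply]
      have ha_mem : ∀ n, 1 ≤ n → a n ∈ OortTate.eigenAug R A p χ n :=
        fun n hn => range_phiN_le p χ hn ⟨w n, rfl⟩
      have ha_eps : ∀ n, 1 ≤ n → counit (R := R) (a n) = 0 :=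
        fun n hn => eigenAug_le_ker p χ n (ha_mem n hn)
      obtain ⟨r, hr⟩ := (TensorPower.algebraMap₀ (R := R)
        (M := OortTate.eigenAug R A p χ 1)).surjective (w 0)
      have ha0 : a 0 = algebraMap R A r := by
        simp only [a]
        rw [← hr, phiN_zero_algebraMap₀]
      -- split off the degree 0 term
      have hpp1 : p = (p - 1) + 1 := by omega
      have hsum2 : a 0 + ∑ j : Fin (p - 1), a ((j : ℕ) + 1) = 0 := by
        rw [hpp1, Finset.sum_range_succ', Finset.sum_range] at ha_sum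
        rw [add_comm]
        exact ha_sum
      have hr0 : r = 0 := by
        have := congrArg (counit (R := R)) hsum2
        rw [map_add, map_sum, ha0, Bialgebra.counit_algebraMap, map_zero,
          Finset.sum_eq_zero (fun j _ => ha_eps _ (Nat.succ_le_succ (Nat.zero_le _))),
          add_zero] at this
        exact this
      have ha0' : a 0 = 0 := by rw [ha0, hr0, map_zero]
      rw [ha0', zero_add] at hsum2
      have hzero := eq_zero_of_sum_eq_zero_of_iSupIndep (iSupIndep_shift p χ hind)
        (fun j : Fin (p - 1) => a ((j : ℕ) + 1))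
        (fun j => ha_mem _ (Nat.succ_le_succ (Nat.zero_le _))) hsum2
      have ha_all : ∀ n, n < p → a n = 0 := by
        intro n hn
        rcases Nat.eq_zero_or_pos n with rfl | hn1
        · exact ha0'
        · have := hzero ⟨n - 1, by omega⟩
          simp only at this
          rwa [Nat.sub_add_cancel hn1] at this
      have hw0 : ∀ n, n < p → w n = 0 := by
        intro n hn
        apply phiN_injective (A := A) p χ u hu hχ hχp hrk hn
        rw [map_zero]
        exact ha_all n hn
      have hy0 : y = 0 := by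
        rw [← hμ]
        apply Finset.sum_eq_zero
        intro n hn
        rw [← hw n, hw0 n (Finset.mem_range.mp hn), map_zero]
      rw [hy0, zero_add]
      exact hz
    · exact span_relSet_le_ker p χ

end Presentation

end Groth.Agent.Lib.T3H8.OT
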