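import Mathlib
import Groth.Agent.Lib.T3H8OTl

/-!
# The Hopf algebra of `μ_p`: the elements `y_i` (helper8, Oort–Tate cluster)
-/

set_option autoImplicit false
universe u v

namespace Groth.Agent.Lib.T3H8.OT

open Coalgebra TensorProduct WithConv SGA3b Groth.Agent.Lib.T2H3.OortTate
  Groth.Agent.Lib.Helper25.Tors

section MuP

variable (R : Type u) [CommRing R] (p : ℕ) [hpp : Fact p.Prime]

/-- The group algebra of `ℤ/p`. -/
abbrev MuAlg : Type u := MonoidAlgebra R (Multiplicative (ZMod p))

theorem rankAtStalk_muAlg (q : PrimeSpectrum R) : Module.rankAtStalk (MuAlg R p) q = p := by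
  haveI : Nontrivial R := q.nontrivial
  rw [Module.rankAtStalk_eq_finrank_of_free,
    Module.finrank_eq_card_basis (MonoidAlgebra.basis (Multiplicative (ZMod p)) R)]
  simp [ZMod.card]

theorem id_pow_muAlg : (toConv (AlgHom.id R (MuAlg R p))) ^ p = 1 := by
  haveI : Coalgebra.IsCocomm R (MuAlg R p) :=
    isCocomm_of_rankAtStalk_eq_prime (rankAtStalk_muAlg R p)
  exact id_pow_eq_one_of_rankAtStalk (rankAtStalk_muAlg R p)

variable {R p}

theorem counit_muT : counit (R := R) (OortTate.muT R p) = 1 :=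
  (MonoidAlgebra.isGroupLikeElem_of (R := R) (A := R)
    (Multiplicative.ofAdd (1 : ZMod p))).counit_eq_one

theorem counit_muT_sub_one : counit (R := R) (OortTate.muT R p - 1) = 0 := by
  rw [map_sub, counit_muT, Bialgebra.counit_one, sub_self]

theorem powConv_muT (n : ℕ) :
    powConv R (MuAlg R p) n (OortTate.muT R p) = OortTate.muT R p ^ n := by
  have hgl := MonoidAlgebra.isGroupLikeElem_of (R := R) (A := R)
    (Multiplicative.ofAdd (1 : ZMod p))
  exact powConv_groupLike n hgl.comul_eq_tmul_self hgl.counit_eq_one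

theorem rho_muT_sub_one (m : (ZMod p)ˣ) :
    rho R (MuAlg R p) p (id_pow_muAlg R p) m (OortTate.muT R p - 1) =
      MonoidAlgebra.single (Multiplicative.ofAdd (m : ZMod p)) (1 : R) - 1 := by
  rw [rho_apply, AlgHom.toLinearMap_apply, map_sub, map_one, powConv_muT]
  congr 1
  rw [← map_pow, ← ofAdd_nsmul, nsmul_eq_mul, mul_one, ZMod.natCast_zmod_val]
  rfl

/-- The augmentation ideal of `R[μ_p]` is spanned by the `[m](T - 1)`. -/
theorem ker_counit_muAlg_le :
    LinearMap.ker (Bialgebra.counitAlgHom R (MuAlg R p)).toLinearMap ≤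
      Submodule.span R (Set.range fun m : (ZMod p)ˣ =>
        rho R (MuAlg R p) p (id_pow_muAlg R p) m (OortTate.muT R p - 1)) := by
  intro f hf
  have hf' : counit (R := R) f = 0 := hf
  have hsingle : ∀ g : Multiplicative (ZMod p),
      (MonoidAlgebra.single g (1 : R) - 1 : MuAlg R p) ∈
      Submodule.span R (Set.range fun m : (ZMod p)ˣ =>
        rho R (MuAlg R p) p (id_pow_muAlg R p) m (OortTate.muT R p - 1)) := by
    intro g
    obtain ⟨k, rfl⟩ := Multiplicative.ofAdd.surjective g
    by_cases hk : k = 0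
    · rw [hk, ofAdd_zero]
      have : (MonoidAlgebra.single (1 : Multiplicative (ZMod p)) (1 : R) : MuAlg R p) = 1 := rfl
      rw [this, sub_self]
      exact Submodule.zero_mem _
    · apply Submodule.subset_span
      refine ⟨Units.mk0 k hk, ?_⟩
      simp only
      rw [rho_muT_sub_one, Units.val_mk0]
  let b := MonoidAlgebra.basis (Multiplicative (ZMod p)) R
  have h1 : f = ∑ g, f.coeff g • (MonoidAlgebra.single g (1 : R) : MuAlg R p) := by
    have := b.sum_repr f
    conv_lhs => rw [← this]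
    rfl
  have h2 : ∑ g, f.coeff g = 0 := by
    have := congrArg (counit (R := R)) h1
    rw [hf', map_sum] at this
    rw [this]
    refine Finset.sum_congr rfl fun g _ => ?_
    rw [map_smul, MonoidAlgebra.counit_single, CommSemiring.counit_apply, smul_eq_mul, mul_one]
  have hsum : f = ∑ g, f.coeff g • (MonoidAlgebra.single g (1 : R) - 1 : MuAlg R p) := by
    conv_lhs => rw [h1]
    simp only [smul_sub, Finset.sum_sub_distrib, ← Finset.sum_smul, h2, zero_smul, sub_zero]
  rw [hsum]
  exact Submodule.sum_mem _ fun g _ => Submodule.smul_mem _ _ (hsingle g)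

end MuP

section Ygen

variable {R : Type u} [CommRing R] {p : ℕ} [hpp : Fact p.Prime] (u : R) (χ : (ZMod p)ˣ →* Rˣ)

theorem ygen_mem (i : ℕ) :
    OortTate.ygen R p u χ i ∈ OortTate.eigenAug R (MuAlg R p) p χ i :=
  proj_mem_eigenAug p (id_pow_muAlg R p) u χ i _ counit_muT_sub_one

theorem eigenAug_muAlg_eq_span (hu : u * ((p - 1 : ℕ) : R) = 1) (i : ℕ) :
    OortTate.eigenAug R (MuAlg R p) p χ i = Submodule.span R {OortTate.ygen R p u χ i} := by
  apply le_antisymm
  · intro f hf
    have h1 := eigenAug_le_ker p χ i hf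
    have hfk := ker_counit_muAlg_le (R := R) (p := p) h1
    have key : ∀ g ∈ Submodule.span R (Set.range fun m : (ZMod p)ˣ =>
        rho R (MuAlg R p) p (id_pow_muAlg R p) m (OortTate.muT R p - 1)),
        OortTate.proj R (MuAlg R p) p u χ i g ∈ Submodule.span R {OortTate.ygen R p u χ i} := by
      intro g hg
      refine Submodule.span_induction (p := fun g _ =>
        OortTate.proj R (MuAlg R p) p u χ i g ∈ Submodule.span R {OortTate.ygen R p u χ i})
        ?_ ?_ ?_ ?_ hg
      · rintro _ ⟨m, rfl⟩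
        rw [proj_rho]
        exact Submodule.smul_mem _ _ (Submodule.mem_span_singleton_self _)
      · rw [map_zero]; exact Submodule.zero_mem _
      · intro a b _ _ ha hb
        rw [map_add]; exact Submodule.add_mem _ ha hb
      · intro c a _ ha
        rw [map_smul]; exact Submodule.smul_mem _ _ ha
    have := key f hfk
    rwa [proj_eq_self p (id_pow_muAlg R p) u χ hu i f hf] at this
  · rw [Submodule.span_singleton_le_iff_mem]
    exact ygen_mem u χ i

variable (hu : u * ((p - 1 : ℕ) : R) = 1)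
  (hχ : ∀ m : (ZMod p)ˣ, m ≠ 1 → IsUnit ((χ m : R) - 1))
  (hχp : ∀ m : (ZMod p)ˣ, ((χ m : Rˣ) : R) - (((m : ZMod p).val : ℕ) : R) ∈
      Ideal.span ({(p : R)} : Set R))

include hu hχ hχp in
theorem smul_ygen_eq_zero (i : ℕ) (r : R) (hr : r • OortTate.ygen R p u χ i = 0) : r = 0 := by
  obtain ⟨h1, -⟩ := eigenAug_main (A := MuAlg R p) p u χ hu hχ hχp (rankAtStalk_muAlg R p)
  obtain ⟨hf, hpj, hrk⟩ := h1 i
  haveI := hf
  haveI := hpj
  let y : OortTate.eigenAug R (MuAlg R p) p χ i := ⟨OortTate.ygen R p u χ i, ygen_mem u χ i⟩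
  let g : R →ₗ[R] OortTate.eigenAug R (MuAlg R p) p χ i := LinearMap.toSpanSingleton R _ y
  have hs : Function.Surjective g := by
    intro l
    have hl : (l : MuAlg R p) ∈ Submodule.span R {OortTate.ygen R p u χ i} := by
      rw [← eigenAug_muAlg_eq_span u χ hu i]; exact l.2
    obtain ⟨c, hc⟩ := Submodule.mem_span_singleton.mp hl
    exact ⟨c, Subtype.ext hc⟩
  have hb : Function.Bijective g := by
    refine @Module.bijective_of_surjective_of_rankAtStalk_eq R _ R
      (OortTate.eigenAug R (MuAlg R p) p χ i) _ _ _ _ _ _ _ _ g hs ?_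
    intro m hm
    haveI : Nontrivial R := (⟨m, hm.isPrime⟩ : PrimeSpectrum R).nontrivial
    rw [hrk, Module.rankAtStalk_self]
    rfl
  have h0 : g r = 0 := Subtype.ext hr
  rw [← map_zero g] at h0
  exact hb.1 h0

include hu hχ hχp in
/-- The elements `y_0, …, y_{p-2}` are a basis of the augmentation ideal of `R[μ_p]`, `y_1`
generates the algebra, and `y_1^p = w y_1` for a unique `w`. -/
theorem ygen_main :
    LinearIndependent R (fun i : Fin (p - 1) => OortTate.ygen R p u χ (i : ℕ)) ∧
      Submodule.span R (Set.range (fun i : Fin (p - 1) => OortTate.ygen R p u χ (i : ℕ))) =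
        LinearMap.ker (Bialgebra.counitAlgHom R (MuAlg R p)).toLinearMap ∧
      Algebra.adjoin R ({OortTate.ygen R p u χ 1} : Set (MuAlg R p)) = ⊤ ∧
      ∃! w : R, OortTate.ygen R p u χ 1 ^ p = w • OortTate.ygen R p u χ 1 := by
  obtain ⟨hind, hsup, -⟩ := Groth.Agent.S18468.result p R u hu χ hχ (MuAlg R p) (id_pow_muAlg R p)
  refine ⟨?_, ?_, ?_, ?_⟩
  · rw [Fintype.linearIndependent_iff]
    intro c hc i
    have hz := eq_zero_of_sum_eq_zero_of_iSupIndep hind
      (fun i : Fin (p - 1) => c i • OortTate.ygen R p u χ (i : ℕ))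
      (fun i => Submodule.smul_mem _ _ (ygen_mem u χ (i : ℕ))) hc i
    exact smul_ygen_eq_zero u χ hu hχ hχp (i : ℕ) (c i) hz
  · apply le_antisymm
    · rw [Submodule.span_le]
      rintro _ ⟨i, rfl⟩
      exact eigenAug_le_ker p χ _ (ygen_mem u χ (i : ℕ))
    · rw [← hsup]
      refine iSup_le fun i => ?_
      rw [eigenAug_muAlg_eq_span u χ hu (i : ℕ)]
      exact Submodule.span_mono (Set.singleton_subset_iff.mpr ⟨i, rfl⟩)
  · obtain ⟨hsurj, -⟩ := presentation (A := MuAlg R p) p χ u hu hχ hχp (rankAtStalk_muAlg R p)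
    rw [eq_top_iff]
    have h1 : (Phi (A := MuAlg R p) p χ).range = ⊤ := by
      rw [AlgHom.range_eq_top]; exact hsurj
    rw [← h1]
    unfold Phi
    rw [TensorAlgebra.range_lift, Algebra.adjoin_le_iff]
    rintro _ ⟨l, rfl⟩
    have hl : (l : MuAlg R p) ∈ Submodule.span R {OortTate.ygen R p u χ 1} := by
      rw [← eigenAug_muAlg_eq_span u χ hu 1]; exact l.2
    obtain ⟨c, hc⟩ := Submodule.mem_span_singleton.mp hl
    have hmem : c • OortTate.ygen R p u χ 1 ∈
        Algebra.adjoin R ({OortTate.ygen R p u χ 1} : Set (MuAlg R p)) :=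
      Subalgebra.smul_mem _ (Algebra.subset_adjoin (Set.mem_singleton _)) c
    rw [hc] at hmem
    exact hmem
  · have hmem : OortTate.ygen R p u χ 1 ^ p ∈ OortTate.eigenAug R (MuAlg R p) p χ 1 := by
      have h1 := pow_mem_eigenAug p χ (ygen_mem u χ 1) p hpp.out.one_le
      have h2 := eigenAug_add_period (R := R) (A := MuAlg R p) p χ 1
      have h3 : 1 + (p - 1) = p := by have := hpp.out.one_le; omega
      rw [h3] at h2
      rwa [h2] at h1
    rw [eigenAug_muAlg_eq_span u χ hu 1] at hmem
    obtain ⟨w, hw⟩ := Submodule.mem_span_singleton.mp hmem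
    refine ⟨w, hw.symm, ?_⟩
    intro w' hw'
    have : (w' - w) • OortTate.ygen R p u χ 1 = 0 := by
      rw [sub_smul, ← hw', hw, sub_self]
    exact sub_eq_zero.mp (smul_ygen_eq_zero u χ hu hχ hχp 1 _ this)

end Ygen

end Groth.Agent.Lib.T3H8.OT
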