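import Mathlib
import Groth.Prelude.Def_CartDual2
import Groth.Agent.Lib.T3H8OTm
import Groth.Agent.Lib.T2H3OortTateDual

/-!
# The isomorphism `A ⊗ A^D ≅ End(A)` and the Cartier pairing (helper8, Oort–Tate cluster)
-/

set_option autoImplicit false
universe u v

namespace Groth.Agent.Lib.T3H8.OT

open Coalgebra TensorProduct WithConv SGA3b CartDual Groth.Agent.Lib.T2H3.OortTate
  Groth.Agent.Lib.Helper25.Tors

section Theta

variable {R : Type u} [CommRing R] {A : Type v} [CommRing A] [Bialgebra R A]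

variable (R A) in
/-- The map `A ⊗ A^D → End(A)`, `a ⊗ ξ ↦ (b ↦ ξ(b) a)`. -/
noncomputable def theta : A ⊗[R] D R A →ₗ[R] (A →ₗ[R] A) :=
  dualTensorHom R A A ∘ₗ (TensorProduct.comm R A (Module.Dual R A)).toLinearMap ∘ₗ
    (LinearMap.lTensor A (toDual R A).toLinearMap)

theorem theta_tmul (a : A) (ξ : D R A) (b : A) : theta R A (a ⊗ₜ ξ) b = ξ b • a := rfl

theorem theta_bijective [Module.Finite R A] [Module.Projective R A] :
    Function.Bijective (theta R A) := by
  unfold theta
  have h1 : Function.Bijective (dualTensorHom R A A) := dualTensorHom_bijective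
  have h2 : Function.Bijective (TensorProduct.comm R A (Module.Dual R A)) :=
    (TensorProduct.comm R A (Module.Dual R A)).bijective
  have h3 : Function.Bijective (LinearMap.lTensor A (toDual R A).toLinearMap) :=
    (LinearEquiv.lTensor A (toDual R A)).bijective
  exact h1.comp (h2.comp h3)

theorem theta_mul (x y : A ⊗[R] D R A) :
    toConv (theta R A (x * y)) = toConv (theta R A x) * toConv (theta R A y) := by
  letI : Semiring (A ⊗[R] D R A) := inferInstance
  induction x using TensorProduct.induction_on with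
  | zero => simp
  | add x₁ x₂ h₁ h₂ => rw [add_mul, map_add, toConv_add, h₁, h₂, map_add, toConv_add, add_mul]
  | tmul a ξ =>
    induction y using TensorProduct.induction_on with
    | zero => simp
    | add y₁ y₂ h₁ h₂ => rw [mul_add, map_add, toConv_add, h₁, h₂, map_add, toConv_add, mul_add]
    | tmul a' ξ' =>
      apply WithConv.ext
      apply LinearMap.ext
      intro b
      rw [Algebra.TensorProduct.tmul_mul_tmul]
      change (ξ * ξ') b • (a * a') = (toConv (theta R A (a ⊗ₜ ξ)) * toConv (theta R A (a' ⊗ₜ ξ'))) b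
      rw [(ℛ R b).convMul_apply, (ℛ R b).convMul_apply, Finset.sum_smul]
      refine Finset.sum_congr rfl fun i _ => ?_
      change _ = (ξ ((ℛ R b).left i) • a) * (ξ' ((ℛ R b).right i) • a')
      rw [smul_mul_smul_comm]

theorem theta_one : toConv (theta R A 1) = 1 := by
  apply WithConv.ext
  apply LinearMap.ext
  intro b
  rw [Algebra.TensorProduct.one_def]
  change (1 : D R A) b • (1 : A) = (1 : WithConv (A →ₗ[R] A)) b
  rw [LinearMap.convOne_apply, LinearMap.convOne_apply, Algebra.algebraMap_self, RingHom.id_apply,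
    ← Algebra.algebraMap_eq_smul_one]

theorem theta_pow (x : A ⊗[R] D R A) (n : ℕ) :
    toConv (theta R A (x ^ n)) = (toConv (theta R A x)) ^ n := by
  induction n with
  | zero => rw [pow_zero, pow_zero, theta_one]
  | succ n ih => rw [pow_succ, pow_succ, theta_mul, ih]

/-- The characterization of the canonical element. -/
theorem rid_lTensor_eval_eq_theta (z : A ⊗[R] D R A) (a : A) :
    TensorProduct.rid R A
      (LinearMap.lTensor A ((Module.Dual.eval R A a) ∘ₗ (toDual R A).toLinearMap) z) =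
      theta R A z a := by
  induction z using TensorProduct.induction_on with
  | zero => simp
  | add x y hx hy => rw [map_add, map_add, hx, hy, map_add, LinearMap.add_apply]
  | tmul b ξ =>
    rw [LinearMap.lTensor_tmul, TensorProduct.rid_tmul, theta_tmul]
    rfl

end Theta

section YgenFormula

variable {R : Type u} [CommRing R] {p : ℕ} [hpp : Fact p.Prime] (u : R) (χ : (ZMod p)ˣ →* Rˣ)

theorem ygen_eq (i : ℕ) : OortTate.ygen R p u χ i =
    u • ∑ m : (ZMod p)ˣ, (((χ m⁻¹ : Rˣ) : R) ^ i) •
      (OortTate.muT R p ^ (m : ZMod p).val - 1 : MuAlg R p) := by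
  change OortTate.proj R (MuAlg R p) p u χ i (OortTate.muT R p - 1) = _
  rw [proj_apply p (id_pow_muAlg R p)]
  congr 1
  refine Finset.sum_congr rfl fun m _ => ?_
  congr 1
  rw [rho_apply, AlgHom.toLinearMap_apply, map_sub, map_one, powConv_muT]

end YgenFormula

section EprojFormula

variable {R : Type u} [CommRing R] {A : Type u} [CommRing A] [HopfAlgebra R A]
  (p : ℕ) [hpp : Fact p.Prime] (u : R) (χ : (ZMod p)ˣ →* Rˣ)

theorem eproj_eq (i : ℕ) : eproj R A p u χ i =
    u • ∑ m : (ZMod p)ˣ, (((χ m⁻¹ : Rˣ) : R) ^ i) •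
      ((powConv R A (m : ZMod p).val).toLinearMap - (powConv R A 0).toLinearMap) := by
  apply LinearMap.ext
  intro a
  have key : ∀ n : ℕ, powConv R A n (a - powConv R A 0 a) = powConv R A n a - powConv R A 0 a := by
    intro n
    rw [map_sub]
    congr 1
    have := AlgHom.congr_fun (powConv_comp (R := R) (A := A) n 0) a
    rw [mul_zero] at this
    exact this
  unfold eproj OortTate.proj
  simp only [LinearMap.comp_apply, LinearMap.smul_apply, LinearMap.sum_apply, LinearMap.sub_apply,
    LinearMap.id_apply, AlgHom.toLinearMap_apply, key]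

end EprojFormula

section Pairing

variable {R : Type u} [CommRing R] {A : Type u} [CommRing A] [HopfAlgebra R A]
  [Coalgebra.IsCocomm R A] [Module.Finite R A] [Module.Projective R A]
  (p : ℕ) [hpp : Fact p.Prime] (u : R) (χ : (ZMod p)ˣ →* Rˣ)
  (δ : A ⊗[R] D R A)
  (hδ : ∀ a : A, TensorProduct.rid R A
    (LinearMap.lTensor A ((Module.Dual.eval R A a) ∘ₗ (toDual R A).toLinearMap) δ) = a)
  (ϕ : MuAlg R p →ₐ[R] A ⊗[R] D R A) (hϕ : ϕ (OortTate.muT R p) = δ)

include hδ in
omit [Coalgebra.IsCocomm R A] [Module.Finite R A] [Module.Projective R A] in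
theorem theta_delta : theta R A δ = LinearMap.id := by
  apply LinearMap.ext
  intro a
  rw [← rid_lTensor_eval_eq_theta, hδ, LinearMap.id_apply]

include hδ hϕ in
omit [Coalgebra.IsCocomm R A] [Module.Finite R A] [Module.Projective R A] in
theorem theta_phi_muT_pow (n : ℕ) :
    theta R A (ϕ (OortTate.muT R p ^ n)) = (powConv R A n).toLinearMap := by
  have hpow : ϕ (OortTate.muT R p ^ n) = δ ^ n := by
    induction n with
    | zero => rw [pow_zero, pow_zero]; exact ϕ.map_one'
    | succ n ih =>
      rw [pow_succ, pow_succ]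
      have h1 : ϕ (OortTate.muT R p ^ n * OortTate.muT R p) =
          ϕ (OortTate.muT R p ^ n) * ϕ (OortTate.muT R p) := ϕ.map_mul' _ _
      rw [h1, ih, hϕ]
  rw [hpow, toLinearMap_powConv']
  have := theta_pow (R := R) (A := A) δ n
  rw [theta_delta δ hδ] at this
  exact congrArg WithConv.ofConv this

include hδ hϕ in
omit [Coalgebra.IsCocomm R A] [Module.Finite R A] [Module.Projective R A] in
theorem theta_phi_ygen (i : ℕ) :
    theta R A (ϕ (OortTate.ygen R p u χ i)) = eproj R A p u χ i := by
  rw [ygen_eq, eproj_eq, map_smul, map_smul, map_sum, map_sum]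
  congr 1
  refine Finset.sum_congr rfl fun m _ => ?_
  rw [map_smul, map_smul, map_sub, map_sub, theta_phi_muT_pow p δ hδ ϕ hϕ]
  congr 2
  have := theta_phi_muT_pow p δ hδ ϕ hϕ 0
  rwa [pow_zero] at this

end Pairing

section Pairing2

variable {R : Type u} [CommRing R] {A : Type u} [CommRing A] [HopfAlgebra R A]
  [Coalgebra.IsCocomm R A] [Module.Finite R A] [Module.Projective R A]
  (p : ℕ) [hpp : Fact p.Prime] (u : R) (χ : (ZMod p)ˣ →* Rˣ)
  (hp : (toConv (AlgHom.id R A)) ^ p = 1) (hu : u * ((p - 1 : ℕ) : R) = 1)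

omit [Coalgebra.IsCocomm R A] [Module.Finite R A] [Module.Projective R A] in
include hp in
theorem eproj_powConv (i : ℕ) (m : (ZMod p)ˣ) (a : A) :
    eproj R A p u χ i (powConv R A (m : ZMod p).val a) =
      ((χ m : Rˣ) : R) ^ i • eproj R A p u χ i a := by
  rw [eproj_apply, eproj_apply, counit_powConv]
  have h1 : powConv R A (m : ZMod p).val a - algebraMap R A (counit (R := R) a) =
      rho R A p hp m (a - algebraMap R A (counit (R := R) a)) := by
    rw [rho_apply, AlgHom.toLinearMap_apply, map_sub, AlgHom.commutes]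
  rw [h1, proj_rho]

omit [Coalgebra.IsCocomm R A] [Module.Finite R A] [Module.Projective R A] in
theorem eproj_one (i : ℕ) : eproj R A p u χ i 1 = 0 := by
  rw [eproj_apply, Bialgebra.counit_one, map_one, sub_self, map_zero]

omit [Coalgebra.IsCocomm R A] [Module.Finite R A] [Module.Projective R A] in
include hp hu in
theorem eproj_idem (i : ℕ) (a : A) :
    eproj R A p u χ i (eproj R A p u χ i a) = eproj R A p u χ i a :=
  eproj_eq_self p u χ hp hu i (eproj_mem p u χ hp i a)

/-- The transpose of the projector. -/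
noncomputable def etr (i : ℕ) : D R A →ₗ[R] D R A := transposeLin R (eproj R A p u χ i)

omit [Coalgebra.IsCocomm R A] in
theorem etr_apply (i : ℕ) (ξ : D R A) (a : A) : etr p u χ i ξ a = ξ (eproj R A p u χ i a) := rfl

include hp in
theorem etr_mem (i : ℕ) (ξ : D R A) :
    etr p u χ i ξ ∈ OortTate.eigenAug R (D R A) p χ i := by
  rw [mem_eigenAug_iff]
  refine ⟨?_, fun m => ?_⟩
  · change etr p u χ i ξ 1 = 0
    rw [etr_apply, eproj_one, map_zero]
  · apply WithConv.ext
    apply LinearMap.ext
    intro a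
    change (powConv R (D R A) (m : ZMod p).val (etr p u χ i ξ)) a =
      (((χ m : Rˣ) : R) ^ i • etr p u χ i ξ) a
    rw [powConv_dual_apply, etr_apply, eproj_powConv p u χ hp, map_smul]
    rfl

include hp hu in
theorem etr_eq_self (i : ℕ) {ξ : D R A} (hξ : ξ ∈ OortTate.eigenAug R (D R A) p χ i) :
    etr p u χ i ξ = ξ := by
  rw [mem_eigenAug_iff] at hξ
  have hξ1 : ξ 1 = 0 := hξ.1
  have hcard : Fintype.card (ZMod p)ˣ = p - 1 := ZMod.card_units p
  have hproj : ∀ b : A, ξ (OortTate.proj R A p u χ i b) = ξ b := by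
    intro b
    rw [proj_apply p hp, map_smul, map_sum]
    have : ∀ m : (ZMod p)ˣ, ξ ((((χ m⁻¹ : Rˣ) : R) ^ i) • rho R A p hp m b) = ξ b := by
      intro m
      rw [map_smul, rho_apply, AlgHom.toLinearMap_apply, ← powConv_dual_apply, hξ.2 m]
      change _ • (((χ m : Rˣ) : R) ^ i • ξ b) = ξ b
      rw [smul_smul, ← mul_pow, ← Units.val_mul, ← map_mul, inv_mul_cancel, map_one,
        Units.val_one, one_pow, one_smul]
    rw [Finset.sum_congr rfl fun m _ => this m, Finset.sum_const, Finset.card_univ, hcard,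
      ← Nat.cast_smul_eq_nsmul R, smul_smul, hu, one_smul]
  apply WithConv.ext
  apply LinearMap.ext
  intro a
  change etr p u χ i ξ a = ξ a
  rw [etr_apply, eproj_apply, hproj, map_sub, Algebra.algebraMap_eq_smul_one, map_smul, hξ1,
    smul_zero, sub_zero]

omit [Coalgebra.IsCocomm R A] [Module.Finite R A] [Module.Projective R A] in
theorem theta_map (f g : A →ₗ[R] A) (z : A ⊗[R] D R A) :
    theta R A (TensorProduct.map f (transposeLin R g) z) = f ∘ₗ theta R A z ∘ₗ g := by
  induction z using TensorProduct.induction_on with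
  | zero => simp
  | add x y hx hy => rw [map_add, map_add, hx, hy, map_add, LinearMap.add_comp, LinearMap.comp_add]
  | tmul a ξ =>
    apply LinearMap.ext
    intro b
    rw [TensorProduct.map_tmul, theta_tmul, LinearMap.comp_apply, LinearMap.comp_apply, theta_tmul,
      map_smul]
    rfl

end Pairing2

section Pairing3

variable {R : Type u} [CommRing R] {A : Type u} [CommRing A] [HopfAlgebra R A]
  [Coalgebra.IsCocomm R A] [Module.Finite R A] [Module.Projective R A]
  (p : ℕ) [hpp : Fact p.Prime] (u : R) (χ : (ZMod p)ˣ →* Rˣ)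
  (hp : (toConv (AlgHom.id R A)) ^ p = 1) (hu : u * ((p - 1 : ℕ) : R) = 1)

variable (R A) in
/-- The image of `I_i(A) ⊗ I_i(A^D)` in `A ⊗ A^D`. -/
noncomputable def pairImg (i : ℕ) : Submodule R (A ⊗[R] D R A) :=
  LinearMap.range (TensorProduct.map (OortTate.eigenAug R A p χ i).subtype
    (OortTate.eigenAug R (D R A) p χ i).subtype)

/-- The retraction of `A^D` onto `I_i(A^D)`. -/
noncomputable def retrD (i : ℕ) : D R A →ₗ[R] OortTate.eigenAug R (D R A) p χ i :=
  (etr p u χ i).codRestrict _ (etr_mem p u χ hp i)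

/-- The projector of `A ⊗ A^D` onto `pairImg`. -/
noncomputable def pairProj (i : ℕ) : A ⊗[R] D R A →ₗ[R] A ⊗[R] D R A :=
  TensorProduct.map (eproj R A p u χ i) (etr p u χ i)

theorem pairProj_eq (i : ℕ) : pairProj p u χ i =
    (TensorProduct.map (OortTate.eigenAug R A p χ i).subtype
      (OortTate.eigenAug R (D R A) p χ i).subtype) ∘ₗ
      (TensorProduct.map (retr p u χ hp i) (retrD p u χ hp i)) := by
  unfold pairProj
  rw [← TensorProduct.map_comp]
  rfl

include hp in
theorem pairProj_mem (i : ℕ) (z : A ⊗[R] D R A) : pairProj p u χ i z ∈ pairImg R A p χ i := by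
  rw [pairProj_eq p u χ hp i]
  exact ⟨_, rfl⟩

include hp hu in
theorem pairProj_eq_self (i : ℕ) {w : A ⊗[R] D R A} (hw : w ∈ pairImg R A p χ i) :
    pairProj p u χ i w = w := by
  obtain ⟨z, rfl⟩ := hw
  induction z using TensorProduct.induction_on with
  | zero => simp
  | add x y hx hy => rw [map_add, map_add, hx, hy]
  | tmul l ξ =>
    unfold pairProj
    rw [TensorProduct.map_tmul, TensorProduct.map_tmul, Submodule.subtype_apply,
      Submodule.subtype_apply, eproj_eq_self p u χ hp hu i l.2, etr_eq_self p u χ hp hu i ξ.2]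

/-- The retraction onto `pairImg`. -/
noncomputable def pairRetr (i : ℕ) : A ⊗[R] D R A →ₗ[R] pairImg R A p χ i :=
  (pairProj p u χ i).codRestrict _ (pairProj_mem p u χ hp i)

include hu in
theorem pairRetr_apply_coe (i : ℕ) (w : pairImg R A p χ i) : pairRetr p u χ hp i w = w :=
  Subtype.ext (pairProj_eq_self p u χ hp hu i w.2)

include hp hu in
theorem map_subtype_injective (i : ℕ) :
    Function.Injective (TensorProduct.map (OortTate.eigenAug R A p χ i).subtype
      (OortTate.eigenAug R (D R A) p χ i).subtype) := by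
  have h : (TensorProduct.map (retr p u χ hp i) (retrD p u χ hp i)) ∘ₗ
      (TensorProduct.map (OortTate.eigenAug R A p χ i).subtype
        (OortTate.eigenAug R (D R A) p χ i).subtype) = LinearMap.id := by
    rw [← TensorProduct.map_comp]
    have h1 : retr p u χ hp i ∘ₗ (OortTate.eigenAug R A p χ i).subtype = LinearMap.id :=
      LinearMap.ext (retr_apply_coe p u χ hp hu i)
    have h2 : retrD p u χ hp i ∘ₗ (OortTate.eigenAug R (D R A) p χ i).subtype = LinearMap.id := by
      apply LinearMap.ext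
      intro ξ
      exact Subtype.ext (etr_eq_self p u χ hp hu i ξ.2)
    rw [h1, h2, TensorProduct.map_id]
  intro a b hab
  have := congrArg (TensorProduct.map (retr p u χ hp i) (retrD p u χ hp i)) hab
  rwa [← LinearMap.comp_apply, ← LinearMap.comp_apply, h] at this

end Pairing3

section DualRank

variable {R : Type u} [CommRing R] {A : Type u} [CommRing A] [HopfAlgebra R A]
  [Module.Finite R A] [Module.Projective R A]

theorem rankAtStalk_cartDual {n : ℕ} (hrk : ∀ q : PrimeSpectrum R, Module.rankAtStalk A q = n)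
    (q : PrimeSpectrum R) : Module.rankAtStalk (D R A) q = n := by
  rw [rankAtStalk_eq_finrank_algClosure q]
  let k := GeomPt q.asIdeal
  let e := LinearEquiv.ofBijective (dualBC (R := R) (A := A) k).toLinearMap (dualBC_bijective k)
  change Module.finrank k (k ⊗[R] WithConv (A →ₗ[R] R)) = n
  rw [e.finrank_eq, finrank_withConv_dual', finrank_tensor_field_eq hrk k]

end DualRank

section PairingMain

variable {R : Type u} [CommRing R] {A : Type u} [CommRing A] [HopfAlgebra R A]
  [Coalgebra.IsCocomm R A] [Module.Finite R A] [Module.Projective R A]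
  (p : ℕ) [hpp : Fact p.Prime] (u : R) (χ : (ZMod p)ˣ →* Rˣ)

/-- **Oort–Tate**: the Cartier pairing sends `y₁` to a generator of `I₁(A) ⊗ I₁(A^D)`. -/
theorem pairing_main (hu : u * ((p - 1 : ℕ) : R) = 1)
    (hχ : ∀ m : (ZMod p)ˣ, m ≠ 1 → IsUnit ((χ m : R) - 1))
    (hχp : ∀ m : (ZMod p)ˣ, ((χ m : Rˣ) : R) - (((m : ZMod p).val : ℕ) : R) ∈
      Ideal.span ({(p : R)} : Set R))
    (hrk : ∀ q : PrimeSpectrum R, Module.rankAtStalk A q = p)
    (δ : A ⊗[R] D R A)
    (hδ : ∀ a : A, TensorProduct.rid R A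
      (LinearMap.lTensor A ((Module.Dual.eval R A a) ∘ₗ (toDual R A).toLinearMap) δ) = a)
    (ϕ : MuAlg R p →ₐ[R] A ⊗[R] D R A) (hϕ : ϕ (OortTate.muT R p) = δ) :
    Submodule.span R {ϕ (OortTate.ygen R p u χ 1)} = pairImg R A p χ 1 ∧
      ∀ r : R, r • ϕ (OortTate.ygen R p u χ 1) = 0 → r = 0 := by
  have hp : (toConv (AlgHom.id R A)) ^ p = 1 := id_pow_eq_one_of_rankAtStalk hrk
  set z₀ := ϕ (OortTate.ygen R p u χ 1) with hz₀
  have hθ : theta R A z₀ = eproj R A p u χ 1 := theta_phi_ygen p u χ δ hδ ϕ hϕ 1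
  -- `z₀` lies in the image
  have hz₀mem : z₀ ∈ pairImg R A p χ 1 := by
    have h1 : pairProj p u χ 1 z₀ = z₀ := by
      apply (theta_bijective (R := R) (A := A)).1
      unfold pairProj etr
      rw [theta_map, hθ]
      apply LinearMap.ext
      intro a
      simp only [LinearMap.comp_apply]
      rw [eproj_idem p u χ hp hu, eproj_idem p u χ hp hu]
    rw [← h1]
    exact pairProj_mem p u χ hp 1 z₀
  -- structure of the image
  obtain ⟨hA1, -⟩ := eigenAug_main (A := A) p u χ hu hχ hχp hrk
  obtain ⟨hD1, -⟩ := eigenAug_main (A := D R A) p u χ hu hχ hχp (rankAtStalk_cartDual hrk)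
  obtain ⟨hfA, hpA, hrA⟩ := hA1 1
  obtain ⟨hfD, hpD, hrD⟩ := hD1 1
  haveI := hfA
  haveI := hpA
  haveI := hfD
  haveI := hpD
  have hs : (pairRetr p u χ hp 1) ∘ₗ (pairImg R A p χ 1).subtype = LinearMap.id :=
    LinearMap.ext (pairRetr_apply_coe p u χ hp hu 1)
  haveI hfI : Module.Finite R (pairImg R A p χ 1) :=
    Module.Finite.of_surjective (pairRetr p u χ hp 1)
      (fun w => ⟨w, pairRetr_apply_coe p u χ hp hu 1 w⟩)
  haveI hpI : Module.Projective R (pairImg R A p χ 1) := Module.Projective.of_split _ _ hs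
  have hrI : ∀ q : PrimeSpectrum R, Module.rankAtStalk (pairImg R A p χ 1) q = 1 := by
    intro q
    let e := LinearEquiv.ofInjective _ (map_subtype_injective (A := A) p u χ hp hu 1)
    have h1 : Module.rankAtStalk (R := R) (↥(OortTate.eigenAug R A p χ 1) ⊗[R]
        ↥(OortTate.eigenAug R (D R A) p χ 1)) = Module.rankAtStalk (pairImg R A p χ 1) :=
      Module.rankAtStalk_eq_of_equiv e
    have h2 := congrFun h1 q
    have h3 : Module.rankAtStalk (R := R) (↥(OortTate.eigenAug R A p χ 1) ⊗[R]
        ↥(OortTate.eigenAug R (D R A) p χ 1)) q =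
        Module.rankAtStalk (↥(OortTate.eigenAug R A p χ 1)) q *
          Module.rankAtStalk (↥(OortTate.eigenAug R (D R A) p χ 1)) q :=
      congrFun (Module.rankAtStalk_tensorProduct (R := R)
        (M := ↥(OortTate.eigenAug R A p χ 1)) ↥(OortTate.eigenAug R (D R A) p χ 1)) q
    rw [hrA, hrD] at h3
    exact h2.symm.trans h3
  -- the geometric fibres
  have hne : ∀ (J : Ideal R) [J.IsMaximal],
      (1 : GeomPt J) ⊗ₜ[R] z₀ ≠ (0 : GeomPt J ⊗[R] (A ⊗[R] D R A)) := by
    intro J hJ h0
    let K := GeomPt J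
    let Ψ : K ⊗[R] (A ⊗[R] D R A) →ₗ[K] (K ⊗[R] A →ₗ[K] K ⊗[R] A) :=
      LinearMap.liftBaseChange K ((LinearMap.baseChangeHom R K A A) ∘ₗ theta R A)
    have h1 : Ψ ((1 : K) ⊗ₜ[R] z₀) = (eproj R A p u χ 1).baseChange K := by
      simp only [Ψ, LinearMap.liftBaseChange_tmul, LinearMap.comp_apply, one_smul, hθ]
      rfl
    rw [h0, map_zero] at h1
    obtain ⟨-, -, -, hK⟩ := geometric_fibre (A := A) p u χ hu hχ hχp hrk hp K
    have h2 := hK 1
    rw [← range_eproj p u χ hp hu 1, ← range_baseChange, ← h1, LinearMap.range_zero,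
      finrank_bot] at h2
    exact zero_ne_one h2
  have hle : pairImg R A p χ 1 ≤ Submodule.span R {z₀} := by
    apply le_of_forall_baseChange_le _ _
      ((Submodule.span_singleton_le_iff_mem _ _).mpr hz₀mem) (Module.Finite.iff_fg.mp hfI)
    · intro J hJ
      exact baseChange_subtype_injective (GeomPt J) _ (pairRetr p u χ hp 1)
        (pairRetr_apply_coe p u χ hp hu 1)
    · intro J hJ
      have hinj := baseChange_subtype_injective (GeomPt J) _ (pairRetr p u χ hp 1)
        (pairRetr_apply_coe p u χ hp hu 1)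
      have hfr : Module.finrank (GeomPt J) ((pairImg R A p χ 1).baseChange (GeomPt J)) = 1 := by
        have h1 := (LinearEquiv.ofInjective _ hinj).finrank_eq
        have h2 := rankAtStalk_eq_finrank_algClosure (L := pairImg R A p χ 1)
          (⟨J, hJ.isPrime⟩ : PrimeSpectrum R)
        rw [hrI] at h2
        exact h1.symm.trans h2.symm
      have hv : (1 : GeomPt J) ⊗ₜ[R] z₀ ∈ (pairImg R A p χ 1).baseChange (GeomPt J) :=
        Submodule.tmul_mem_baseChange_of_mem 1 hz₀mem
      have hvne : (⟨(1 : GeomPt J) ⊗ₜ[R] z₀, hv⟩ : (pairImg R A p χ 1).baseChange (GeomPt J)) ≠ 0 := by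
        intro h0
        exact hne J (congrArg Subtype.val h0)
      have h1 := (finrank_eq_one_iff_of_nonzero' (K := GeomPt J)
        (V := ↥((pairImg R A p χ 1).baseChange (GeomPt J))) ⟨_, hv⟩ hvne).mp hfr
      intro w hw
      obtain ⟨c, hc⟩ := h1 ⟨w, hw⟩
      have : w = c • ((1 : GeomPt J) ⊗ₜ[R] z₀) := (congrArg Subtype.val hc).symm
      rw [this]
      exact Submodule.smul_mem _ c
        (Submodule.tmul_mem_baseChange_of_mem 1 (Submodule.mem_span_singleton_self z₀))
  refine ⟨le_antisymm ((Submodule.span_singleton_le_iff_mem _ _).mpr hz₀mem) hle, ?_⟩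
  -- freeness
  intro r hr
  let y : pairImg R A p χ 1 := ⟨z₀, hz₀mem⟩
  let g : R →ₗ[R] pairImg R A p χ 1 := LinearMap.toSpanSingleton R _ y
  have hsurj : Function.Surjective g := by
    intro l
    obtain ⟨c, hc⟩ := Submodule.mem_span_singleton.mp (hle l.2)
    exact ⟨c, Subtype.ext hc⟩
  have hb : Function.Bijective g := by
    refine @Module.bijective_of_surjective_of_rankAtStalk_eq R _ R
      (pairImg R A p χ 1) _ _ _ _ _ _ _ _ g hsurj ?_
    intro m hm
    haveI : Nontrivial R := (⟨m, hm.isPrime⟩ : PrimeSpectrum R).nontrivial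
    rw [hrI, Module.rankAtStalk_self]
    rfl
  have h0 : g r = 0 := Subtype.ext hr
  rw [← map_zero g] at h0
  exact hb.1 h0

end PairingMain

end Groth.Agent.Lib.T3H8.OT
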