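import Mathlib
import Groth.Agent.Lib.T3H8OTn

/-!
# Algebra maps out of an Oort–Tate algebra from linear maps on `I₁` (helper8)
-/

set_option autoImplicit false
universe u v

namespace Groth.Agent.Lib.T3H8.OT

open Coalgebra TensorProduct WithConv SGA3b CartDual Groth.Agent.Lib.T2H3.OortTate
  Groth.Agent.Lib.Helper25.Tors

section LiftSurj

variable {R : Type*} [CommRing R] {T : Type*} [Ring T] [Algebra R T] {B : Type*} [Ring B]
  [Algebra R B] {C : Type*} [Ring C] [Algebra R C]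

/-- Descend an algebra map along a surjection (noncommutative source allowed). -/
theorem exists_algHom_of_surjective (Φ : T →ₐ[R] B) (hΦ : Function.Surjective Φ) (Ψ : T →ₐ[R] C)
    (H : RingHom.ker (Φ : T →+* B) ≤ RingHom.ker (Ψ : T →+* C)) :
    ∃ F : B →ₐ[R] C, ∀ t, F (Φ t) = Ψ t := by
  let F0 : B →+* C := (Φ : T →+* B).liftOfSurjective hΦ ⟨(Ψ : T →+* C), H⟩
  have hF0 : ∀ t, F0 (Φ t) = Ψ t := fun t =>
    RingHom.liftOfSurjective_comp_apply (Φ : T →+* B) hΦ ⟨(Ψ : T →+* C), H⟩ t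
  refine ⟨{ F0 with commutes' := ?_ }, hF0⟩
  intro r
  have := hF0 (algebraMap R T r)
  rw [AlgHom.commutes, AlgHom.commutes] at this
  exact this

end LiftSurj

section PartA

variable {R : Type u} [CommRing R] {A : Type u} [CommRing A] [HopfAlgebra R A]
  [Module.Finite R A] [Module.Projective R A]
  {A' : Type u} [CommRing A'] [HopfAlgebra R A']
  (p : ℕ) [hpp : Fact p.Prime] (u : R) (χ : (ZMod p)ˣ →* Rˣ)
  (hu : u * ((p - 1 : ℕ) : R) = 1)
  (hχ : ∀ m : (ZMod p)ˣ, m ≠ 1 → IsUnit ((χ m : R) - 1))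
  (hχp : ∀ m : (ZMod p)ˣ, ((χ m : Rˣ) : R) - (((m : ZMod p).val : ℕ) : R) ∈
      Ideal.span ({(p : R)} : Set R))
  (hrk : ∀ q : PrimeSpectrum R, Module.rankAtStalk A q = p)

include hu hχ hχp hrk in
/-- Algebra maps out of `A` are determined by their restriction to `I₁`. -/
theorem algHom_ext_eigenAug {C : Type*} [Ring C] [Algebra R C] (f g : A →ₐ[R] C)
    (h : ∀ x : OortTate.eigenAug R A p χ 1, f x = g x) : f = g := by
  obtain ⟨hsurj, -⟩ := presentation (A := A) p χ u hu hχ hχp hrk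
  have h1 : f.comp (Phi (A := A) p χ) = g.comp (Phi (A := A) p χ) := by
    apply TensorAlgebra.hom_ext
    apply LinearMap.ext
    intro x
    simp only [LinearMap.comp_apply, AlgHom.toLinearMap_apply, AlgHom.comp_apply, Phi,
      TensorAlgebra.lift_ι_apply, Submodule.subtype_apply]
    exact h x
  apply AlgHom.ext
  intro a
  obtain ⟨t, rfl⟩ := hsurj a
  exact AlgHom.congr_fun h1 t

include hu hχ hχp hrk in
/-- A linear map `I₁(A) → I₁(A')` compatible with `p`-fold products extends to an algebra map. -/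
theorem exists_algHom_of_theta
    (θ : OortTate.eigenAug R A p χ 1 →ₗ[R] OortTate.eigenAug R A' p χ 1)
    (hθ : ∀ (f : Fin p → OortTate.eigenAug R A p χ 1) (g : OortTate.eigenAug R A p χ 1),
      (g : A) = ∏ i, (f i : A) →
        ((θ g : OortTate.eigenAug R A' p χ 1) : A') = ∏ i, ((θ (f i)) : A')) :
    ∃ F : A →ₐ[R] A', ∀ x : OortTate.eigenAug R A p χ 1, F x = θ x := by
  obtain ⟨hsurj, hker⟩ := presentation (A := A) p χ u hu hχ hχp hrk
  let Ψ : TensorAlgebra R (OortTate.eigenAug R A p χ 1) →ₐ[R] A' :=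
    TensorAlgebra.lift R ((OortTate.eigenAug R A' p χ 1).subtype ∘ₗ θ)
  have hΨι : ∀ x, Ψ (TensorAlgebra.ι R x) = (θ x : A') := by
    intro x
    simp [Ψ]
  have H : RingHom.ker
      (Phi (A := A) p χ : TensorAlgebra R (OortTate.eigenAug R A p χ 1) →+* A) ≤
      RingHom.ker (Ψ : TensorAlgebra R (OortTate.eigenAug R A p χ 1) →+* A') := by
    have : RingHom.ker
        (Phi (A := A) p χ : TensorAlgebra R (OortTate.eigenAug R A p χ 1) →+* A) =
        Ideal.span (relSet R A p χ) := hker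
    rw [this, Ideal.span_le]
    rintro _ ⟨f, g, hg, rfl⟩
    rw [SetLike.mem_coe, RingHom.mem_ker]
    change Ψ ((List.ofFn fun i => TensorAlgebra.ι R (f i)).prod - TensorAlgebra.ι R g) = 0
    rw [map_sub, map_list_prod, List.map_ofFn, hΨι, hθ f g hg, sub_eq_zero, ← List.prod_ofFn]
    congr 1
    apply congrArg
    funext i
    exact hΨι (f i)
  obtain ⟨F, hF⟩ := exists_algHom_of_surjective (Phi (A := A) p χ) hsurj Ψ H
  refine ⟨F, fun x => ?_⟩
  have := hF (TensorAlgebra.ι R x)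
  rw [hΨι] at this
  rw [← this]
  congr 1
  simp [Phi]

end PartA

section PartA2

variable {R : Type u} [CommRing R] {A : Type u} [CommRing A] [HopfAlgebra R A]
  [Module.Finite R A] [Module.Projective R A]
  {A' : Type u} [CommRing A'] [HopfAlgebra R A'] [Module.Finite R A'] [Module.Projective R A']
  (p : ℕ) [hpp : Fact p.Prime] (u : R) (χ : (ZMod p)ˣ →* Rˣ)
  (hu : u * ((p - 1 : ℕ) : R) = 1)
  (hχ : ∀ m : (ZMod p)ˣ, m ≠ 1 → IsUnit ((χ m : R) - 1))
  (hχp : ∀ m : (ZMod p)ˣ, ((χ m : Rˣ) : R) - (((m : ZMod p).val : ℕ) : R) ∈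
      Ideal.span ({(p : R)} : Set R))
  (hrk : ∀ q : PrimeSpectrum R, Module.rankAtStalk A q = p)
  (hrk' : ∀ q : PrimeSpectrum R, Module.rankAtStalk A' q = p)

omit [Module.Finite R A] [Module.Projective R A] in
theorem prod_mem_eigenAug_one (f : Fin p → OortTate.eigenAug R A p χ 1) :
    ∏ i, (f i : A) ∈ OortTate.eigenAug R A p χ 1 := by
  have h1 := prod_mem_eigenAug p χ hpp.out.one_le f
  have h2 := eigenAug_add_period (R := R) (A := A) p χ 1
  have h3 : 1 + (p - 1) = p := by have := hpp.out.one_le; omega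
  rw [h3] at h2
  rwa [h2] at h1

omit [Module.Finite R A] [Module.Projective R A] [Module.Finite R A'] [Module.Projective R A'] in
/-- Compatibility with `p`-fold products passes to the inverse. -/
theorem theta_symm_compat
    (θ : OortTate.eigenAug R A p χ 1 ≃ₗ[R] OortTate.eigenAug R A' p χ 1)
    (hθ : ∀ (f : Fin p → OortTate.eigenAug R A p χ 1) (g : OortTate.eigenAug R A p χ 1),
      (g : A) = ∏ i, (f i : A) →
        ((θ g : OortTate.eigenAug R A' p χ 1) : A') = ∏ i, ((θ (f i)) : A'))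
    (f' : Fin p → OortTate.eigenAug R A' p χ 1) (g' : OortTate.eigenAug R A' p χ 1)
    (hg' : (g' : A') = ∏ i, (f' i : A')) :
    ((θ.symm g' : OortTate.eigenAug R A p χ 1) : A) = ∏ i, ((θ.symm (f' i)) : A) := by
  let g : OortTate.eigenAug R A p χ 1 :=
    ⟨∏ i, ((θ.symm (f' i)) : A), prod_mem_eigenAug_one p χ fun i => θ.symm (f' i)⟩
  have h1 := hθ (fun i => θ.symm (f' i)) g rfl
  simp only [LinearEquiv.apply_symm_apply] at h1
  have h2 : θ g = g' := Subtype.ext (h1.trans hg'.symm)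
  have h3 : θ.symm g' = g := by rw [← h2, LinearEquiv.symm_apply_apply]
  rw [h3]

include hu hχ hχp hrk hrk' in
/-- A linear isomorphism `I₁(A) ≃ I₁(A')` compatible with `p`-fold products extends to an algebra
isomorphism. -/
theorem exists_algEquiv_of_theta
    (θ : OortTate.eigenAug R A p χ 1 ≃ₗ[R] OortTate.eigenAug R A' p χ 1)
    (hθ : ∀ (f : Fin p → OortTate.eigenAug R A p χ 1) (g : OortTate.eigenAug R A p χ 1),
      (g : A) = ∏ i, (f i : A) →
        ((θ g : OortTate.eigenAug R A' p χ 1) : A') = ∏ i, ((θ (f i)) : A')) :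
    ∃ F : A ≃ₐ[R] A', ∀ x : OortTate.eigenAug R A p χ 1, F x = θ x := by
  obtain ⟨F, hF⟩ := exists_algHom_of_theta (A := A) (A' := A') p u χ hu hχ hχp hrk
    θ.toLinearMap hθ
  obtain ⟨F', hF'⟩ := exists_algHom_of_theta (A := A') (A' := A) p u χ hu hχ hχp hrk'
    θ.symm.toLinearMap (theta_symm_compat p χ θ hθ)
  have h1 : F.comp F' = AlgHom.id R A' := by
    apply algHom_ext_eigenAug (A := A') p u χ hu hχ hχp hrk'
    intro x
    rw [AlgHom.comp_apply, hF', AlgHom.id_apply]
    have := hF (θ.symm x)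
    simp only [LinearEquiv.coe_coe, LinearEquiv.apply_symm_apply] at this ⊢
    exact this
  have h2 : F'.comp F = AlgHom.id R A := by
    apply algHom_ext_eigenAug (A := A) p u χ hu hχ hχp hrk
    intro x
    rw [AlgHom.comp_apply, hF, AlgHom.id_apply]
    have := hF' (θ x)
    simp only [LinearEquiv.coe_coe, LinearEquiv.symm_apply_apply] at this ⊢
    exact this
  exact ⟨AlgEquiv.ofAlgHom F F' h1 h2, fun x => hF x⟩

end PartA2

end Groth.Agent.Lib.T3H8.OT
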