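import Mathlib
import Groth.Agent.Lib.T3H8OTo
import Groth.Agent.S18467

/-!
# The dual side of the Oort–Tate classification map (helper8)
-/

set_option autoImplicit false
universe u v

namespace Groth.Agent.Lib.T3H8.OT

open Coalgebra TensorProduct WithConv SGA3b CartDual Groth.Agent.Lib.T2H3.OortTate
  Groth.Agent.Lib.Helper25.Tors

section PartB

variable {R : Type u} [CommRing R] {A : Type u} [CommRing A] [HopfAlgebra R A]
  [Coalgebra.IsCocomm R A] [Module.Finite R A] [Module.Projective R A]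
  {A' : Type u} [CommRing A'] [HopfAlgebra R A'] [Coalgebra.IsCocomm R A']
  [Module.Finite R A'] [Module.Projective R A']
  (p : ℕ) [hpp : Fact p.Prime] (u : R) (χ : (ZMod p)ˣ →* Rˣ)
  (hp : (toConv (AlgHom.id R A)) ^ p = 1) (hp' : (toConv (AlgHom.id R A')) ^ p = 1)
  (hu : u * ((p - 1 : ℕ) : R) = 1)
  (θ : OortTate.eigenAug R A p χ 1 ≃ₗ[R] OortTate.eigenAug R A' p χ 1)

/-- The map `A' → A`, `a' ↦ θ⁻¹(e' a')`. -/
noncomputable def backMap : A' →ₗ[R] A :=
  (OortTate.eigenAug R A p χ 1).subtype ∘ₗ θ.symm.toLinearMap ∘ₗ (retr p u χ hp' 1)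

omit [Coalgebra.IsCocomm R A] [Module.Finite R A] [Module.Projective R A]
  [Coalgebra.IsCocomm R A'] [Module.Finite R A'] [Module.Projective R A'] in
theorem backMap_apply (a' : A') :
    backMap p u χ hp' θ a' = (θ.symm (retr p u χ hp' 1 a') : A) := rfl

omit [Coalgebra.IsCocomm R A] [Module.Finite R A] [Module.Projective R A]
  [Coalgebra.IsCocomm R A'] [Module.Finite R A'] [Module.Projective R A'] in
include hu in
theorem backMap_coe (x' : OortTate.eigenAug R A' p χ 1) :
    backMap p u χ hp' θ x' = (θ.symm x' : A) := by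
  rw [backMap_apply, retr_apply_coe p u χ hp' hu 1 x']

omit [Coalgebra.IsCocomm R A] [Module.Finite R A] [Module.Projective R A]
  [Coalgebra.IsCocomm R A'] [Module.Finite R A'] [Module.Projective R A'] in
include hu in
theorem backMap_eproj (a' : A') :
    backMap p u χ hp' θ (eproj R A' p u χ 1 a') = backMap p u χ hp' θ a' := by
  rw [backMap_apply, backMap_apply]
  congr 2
  apply Subtype.ext
  exact eproj_idem p u χ hp' hu 1 a'

include hp hu in
/-- Two elements of `I_i(A^D)` agreeing on `I_i(A)` are equal. -/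
theorem eigenAug_dual_ext (i : ℕ) {ξ η : D R A}
    (hξ : ξ ∈ OortTate.eigenAug R (D R A) p χ i) (hη : η ∈ OortTate.eigenAug R (D R A) p χ i)
    (h : ∀ x : OortTate.eigenAug R A p χ i, ξ (x : A) = η (x : A)) : ξ = η := by
  rw [← etr_eq_self p u χ hp hu i hξ, ← etr_eq_self p u χ hp hu i hη]
  apply WithConv.ext
  apply LinearMap.ext
  intro a
  change etr p u χ i ξ a = etr p u χ i η a
  rw [etr_apply, etr_apply]
  exact h ⟨_, eproj_mem p u χ hp i a⟩

include hu in
/-- The transpose of `θ⁻¹`, as a map `A^D → I₁(A'^D)`. -/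
theorem transpose_backMap_mem (ξ : D R A) :
    transposeLin R (backMap p u χ hp' θ) ξ ∈ OortTate.eigenAug R (D R A') p χ 1 := by
  have h : transposeLin R (backMap p u χ hp' θ) ξ =
      etr p u χ 1 (transposeLin R (backMap p u χ hp' θ) ξ) := by
    apply WithConv.ext
    apply LinearMap.ext
    intro a'
    change ξ (backMap p u χ hp' θ a') = ξ (backMap p u χ hp' θ (eproj R A' p u χ 1 a'))
    rw [backMap_eproj p u χ hp' hu θ]
  rw [h]
  exact etr_mem p u χ hp' 1 _

/-- The transpose of `θ⁻¹` on the dual eigenspaces. -/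
noncomputable def thetaD : OortTate.eigenAug R (D R A) p χ 1 →ₗ[R]
    OortTate.eigenAug R (D R A') p χ 1 :=
  ((transposeLin R (backMap p u χ hp' θ)).codRestrict _
    (transpose_backMap_mem p u χ hp' hu θ)) ∘ₗ (OortTate.eigenAug R (D R A) p χ 1).subtype

theorem thetaD_apply (ξ : OortTate.eigenAug R (D R A) p χ 1) (a' : A') :
    ((thetaD p u χ hp' hu θ ξ : OortTate.eigenAug R (D R A') p χ 1) : D R A') a' =
      (ξ : D R A) (backMap p u χ hp' θ a') := rfl

theorem thetaD_apply_theta (ξ : OortTate.eigenAug R (D R A) p χ 1)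
    (x : OortTate.eigenAug R A p χ 1) :
    ((thetaD p u χ hp' hu θ ξ : OortTate.eigenAug R (D R A') p χ 1) : D R A') ((θ x : _) : A') =
      (ξ : D R A) (x : A) := by
  rw [thetaD_apply, backMap_coe p u χ hp' hu θ, LinearEquiv.symm_apply_apply]

end PartB

section PartB2

variable {R : Type u} [CommRing R] {A : Type u} [CommRing A] [HopfAlgebra R A]
  [Coalgebra.IsCocomm R A] [Module.Finite R A] [Module.Projective R A]
  {A' : Type u} [CommRing A'] [HopfAlgebra R A'] [Coalgebra.IsCocomm R A']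
  [Module.Finite R A'] [Module.Projective R A']
  (p : ℕ) [hpp : Fact p.Prime] (u : R) (χ : (ZMod p)ˣ →* Rˣ)
  (hp : (toConv (AlgHom.id R A)) ^ p = 1) (hp' : (toConv (AlgHom.id R A')) ^ p = 1)
  (hu : u * ((p - 1 : ℕ) : R) = 1)
  (θ : OortTate.eigenAug R A p χ 1 ≃ₗ[R] OortTate.eigenAug R A' p χ 1)
  (hθD : ∀ (φ : Fin p → OortTate.eigenAug R (CartDual.D R A) p χ 1)
      (φ' : Fin p → OortTate.eigenAug R (CartDual.D R A') p χ 1)
      (ψ : OortTate.eigenAug R (CartDual.D R A) p χ 1)
      (ψ' : OortTate.eigenAug R (CartDual.D R A') p χ 1),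
      (∀ i, ∀ x : OortTate.eigenAug R A p χ 1,
        CartDual.toDual R A (φ i : CartDual.D R A) (x : A) =
          CartDual.toDual R A' (φ' i : CartDual.D R A')
            ((θ x : OortTate.eigenAug R A' p χ 1) : A')) →
      (ψ : CartDual.D R A) = ∏ i, (φ i : CartDual.D R A) →
      (ψ' : CartDual.D R A') = ∏ i, (φ' i : CartDual.D R A') →
      ∀ x : OortTate.eigenAug R A p χ 1,
        CartDual.toDual R A (ψ : CartDual.D R A) (x : A) =
          CartDual.toDual R A' (ψ' : CartDual.D R A')
            ((θ x : OortTate.eigenAug R A' p χ 1) : A'))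

include hθD in
/-- The transpose of `θ⁻¹` is compatible with `p`-fold products. -/
theorem thetaD_compat (φ : Fin p → OortTate.eigenAug R (D R A) p χ 1)
    (ψ : OortTate.eigenAug R (D R A) p χ 1) (hψ : (ψ : D R A) = ∏ i, (φ i : D R A)) :
    ((thetaD p u χ hp' hu θ ψ : OortTate.eigenAug R (D R A') p χ 1) : D R A') =
      ∏ i, ((thetaD p u χ hp' hu θ (φ i) : OortTate.eigenAug R (D R A') p χ 1) : D R A') := by
  let φ' : Fin p → OortTate.eigenAug R (D R A') p χ 1 := fun i => thetaD p u χ hp' hu θ (φ i)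
  let ψ' : OortTate.eigenAug R (D R A') p χ 1 :=
    ⟨∏ i, (φ' i : D R A'), prod_mem_eigenAug_one p χ φ'⟩
  have h1 : ∀ i, ∀ x : OortTate.eigenAug R A p χ 1,
      CartDual.toDual R A (φ i : CartDual.D R A) (x : A) =
        CartDual.toDual R A' (φ' i : CartDual.D R A')
          ((θ x : OortTate.eigenAug R A' p χ 1) : A') := by
    intro i x
    exact (thetaD_apply_theta p u χ hp' hu θ (φ i) x).symm
  have h2 := hθD φ φ' ψ ψ' h1 hψ rfl
  have h3 : (thetaD p u χ hp' hu θ ψ : OortTate.eigenAug R (D R A') p χ 1) = ψ' := by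
    apply Subtype.ext
    apply eigenAug_dual_ext (A := A') p u χ hp' hu 1 (Subtype.mem _) ψ'.2
    intro x'
    have h4 := h2 (θ.symm x')
    rw [LinearEquiv.apply_symm_apply] at h4
    rw [thetaD_apply, backMap_coe p u χ hp' hu θ]
    exact h4
  rw [h3]

end PartB2

section Universal

variable {R : Type u} [CommRing R] {p : ℕ} [hpp : Fact p.Prime] (u : R) (χ : (ZMod p)ˣ →* Rˣ)
  (hu : u * ((p - 1 : ℕ) : R) = 1)
  (hχ : ∀ m : (ZMod p)ˣ, m ≠ 1 → IsUnit ((χ m : R) - 1))
  (hχp : ∀ m : (ZMod p)ˣ, ((χ m : Rˣ) : R) - (((m : ZMod p).val : ℕ) : R) ∈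
      Ideal.span ({(p : R)} : Set R))

include hu hχ in
/-- The projectors sum to the identity. -/
theorem sum_proj_eq_one {A : Type u} [CommRing A] [HopfAlgebra R A]
    (hp : (toConv (AlgHom.id R A)) ^ p = 1) :
    ∑ j : Fin (p - 1), OortTate.proj R A p u χ (j : ℕ) = 1 := by
  have h := (Groth.Agent.S18467.result p R u hu χ hχ).map
    (groupAlgHom R A p hp : MonoidAlgebra R (ZMod p)ˣ →+* Module.End R A)
  have h2 := h.complete
  rw [← h2]
  refine Finset.sum_congr rfl fun j _ => ?_
  exact (groupAlgHom_idem p hp u χ (j : ℕ)).symm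

include hu hχ hχp in
/-- The universal identity `T = 1 + Σ c_j y₁^{n_j}` in `R[μ_p]`. -/
theorem exists_muT_eq : ∃ (c : Fin (p - 1) → R) (n : Fin (p - 1) → ℕ),
    OortTate.muT R p = 1 + ∑ j, c j • (OortTate.ygen R p u χ 1) ^ (n j) := by
  have hp2 : 2 ≤ p := hpp.out.two_le
  have hp1 : 0 < p - 1 := by omega
  obtain ⟨-, h2⟩ := eigenAug_main (A := MuAlg R p) p u χ hu hχ hχp (rankAtStalk_muAlg R p)
  let n : Fin (p - 1) → ℕ := fun j => if (j : ℕ) = 0 then p - 1 else (j : ℕ)
  have hn1 : ∀ j, 1 ≤ n j := by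
    intro j
    simp only [n]
    split_ifs with h <;> omega
  have hnp : ∀ j, n j ≤ p - 1 := by
    intro j
    have := j.2
    simp only [n]
    split_ifs with h <;> omega
  have hmem : ∀ j : Fin (p - 1), OortTate.ygen R p u χ (j : ℕ) ∈
      Submodule.span R {(OortTate.ygen R p u χ 1) ^ (n j)} := by
    intro j
    have h3 : OortTate.eigenAug R (MuAlg R p) p χ (j : ℕ) =
        OortTate.eigenAug R (MuAlg R p) p χ (n j) := by
      simp only [n]
      split_ifs with h
      · rw [h]
        have := eigenAug_add_period (R := R) (A := MuAlg R p) p χ 0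
        rw [zero_add] at this
        exact this.symm
      · rfl
    have h4 := ygen_mem u χ (j : ℕ)
    rw [h3, ← h2 (n j) (hn1 j) (hnp j), eigenAug_muAlg_eq_span u χ hu 1, Submodule.span_pow,
      Set.singleton_pow] at h4
    exact h4
  choose c hc using fun j => Submodule.mem_span_singleton.mp (hmem j)
  refine ⟨c, n, ?_⟩
  have hsum := sum_proj_eq_one (A := MuAlg R p) u χ hu hχ (id_pow_muAlg R p)
  have h5 := LinearMap.congr_fun hsum (OortTate.muT R p - 1)
  rw [LinearMap.sum_apply, Module.End.one_apply] at h5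
  have h6 : OortTate.muT R p = 1 + (OortTate.muT R p - 1) := by abel
  rw [h6, ← h5]
  congr 1
  refine Finset.sum_congr rfl fun j _ => ?_
  exact (hc j).symm

end Universal

section PhiConstruction

/-- A monoid hom out of `ℤ/p` from an element of order dividing `p`. -/
noncomputable def zmodPowHom {M : Type*} [Monoid M] (p : ℕ) [NeZero p] (x : M) (hx : x ^ p = 1) :
    Multiplicative (ZMod p) →* M where
  toFun k := x ^ (Multiplicative.toAdd k).val
  map_one' := by
    change x ^ (0 : ZMod p).val = 1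
    rw [ZMod.val_zero, pow_zero]
  map_mul' a b := by
    change x ^ (Multiplicative.toAdd a + Multiplicative.toAdd b).val = _
    rw [ZMod.val_add, ← pow_eq_pow_mod _ hx, pow_add]

theorem zmodPowHom_ofAdd_one {M : Type*} [Monoid M] (p : ℕ) [Fact p.Prime] (x : M)
    (hx : x ^ p = 1) : zmodPowHom p x hx (Multiplicative.ofAdd 1) = x := by
  change x ^ (1 : ZMod p).val = x
  rw [ZMod.val_one, pow_one]

variable {R : Type u} [CommRing R] {A : Type u} [CommRing A] [HopfAlgebra R A]
  [Module.Finite R A] [Module.Projective R A]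

variable (R A) in
/-- The canonical element of `A ⊗ A^D`. -/
noncomputable def canonElt : A ⊗[R] D R A :=
  (LinearEquiv.ofBijective (theta R A) theta_bijective).symm LinearMap.id

theorem theta_canonElt : theta R A (canonElt R A) = LinearMap.id :=
  (LinearEquiv.ofBijective (theta R A) theta_bijective).apply_symm_apply LinearMap.id

theorem canonElt_spec (a : A) : TensorProduct.rid R A
    (LinearMap.lTensor A ((Module.Dual.eval R A a) ∘ₗ (toDual R A).toLinearMap) (canonElt R A)) =
      a := by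
  rw [rid_lTensor_eval_eq_theta, theta_canonElt, LinearMap.id_apply]

theorem canonElt_pow (p : ℕ) (hp : (toConv (AlgHom.id R A)) ^ p = 1) :
    (canonElt R A) ^ p = 1 := by
  apply (theta_bijective (R := R) (A := A)).1
  apply WithConv.toConv_injective
  rw [theta_pow, theta_one, theta_canonElt]
  have := AlgHom.toLinearMap_convPow (toConv (AlgHom.id R A)) p
  rw [hp] at this
  exact this.symm

end PhiConstruction

section PhiA

variable {R : Type u} [CommRing R] {A : Type u} [CommRing A] [HopfAlgebra R A]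
  [Module.Finite R A] [Module.Projective R A] (p : ℕ) [hpp : Fact p.Prime]
  (hp : (toConv (AlgHom.id R A)) ^ p = 1)

/-- The comorphism of the Cartier pairing `R[μ_p] → A ⊗ A^D`. -/
noncomputable def phiA : MuAlg R p →ₐ[R] A ⊗[R] D R A :=
  MonoidAlgebra.lift R (A ⊗[R] D R A) (Multiplicative (ZMod p))
    (zmodPowHom p (canonElt R A) (canonElt_pow p hp))

theorem phiA_muT : phiA p hp (OortTate.muT R p) = canonElt R A := by
  unfold phiA OortTate.muT
  rw [MonoidAlgebra.lift_of, zmodPowHom_ofAdd_one]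

end PhiA

end Groth.Agent.Lib.T3H8.OT
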