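import Mathlib
import Groth.Agent.Lib.T3H8OTp

/-!
# Injectivity of the Oort–Tate classification map (helper8)
-/

set_option autoImplicit false
universe u v

namespace Groth.Agent.Lib.T3H8.OT

open Coalgebra TensorProduct WithConv SGA3b CartDual Groth.Agent.Lib.T2H3.OortTate
  Groth.Agent.Lib.Helper25.Tors

section AlgHomPow

variable {R : Type*} [CommSemiring R] {X Y : Type*} [Semiring X] [Semiring Y] [Algebra R X]
  [Algebra R Y]

theorem algHom_pow' (f : X →ₐ[R] Y) (x : X) (n : ℕ) : f (x ^ n) = (f x) ^ n := by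
  induction n with
  | zero => rw [pow_zero, pow_zero]; exact f.map_one'
  | succ n ih =>
    rw [pow_succ, pow_succ]
    have h1 : f (x ^ n * x) = f (x ^ n) * f x := f.map_mul' _ _
    rw [h1, ih]

end AlgHomPow

section ThetaT

variable {R : Type u} [CommRing R] {A : Type v} [CommRing A] [Bialgebra R A]

variable (R A) in
/-- The map `A ⊗ A^D → End(A^D)`, `a ⊗ ξ ↦ (η ↦ η(a) ξ)`. -/
noncomputable def thetaT : A ⊗[R] D R A →ₗ[R] (D R A →ₗ[R] D R A) :=
  dualTensorHom R (D R A) (D R A) ∘ₗ
    LinearMap.rTensor (D R A) ((toDual R A).toLinearMap.dualMap ∘ₗ Module.Dual.eval R A)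

theorem thetaT_tmul (a : A) (ξ η : D R A) : thetaT R A (a ⊗ₜ ξ) η = η a • ξ := rfl

theorem thetaT_pair (z : A ⊗[R] D R A) (η : D R A) (a : A) :
    (thetaT R A z η) a = η (theta R A z a) := by
  induction z using TensorProduct.induction_on with
  | zero => simp
  | add x y hx hy =>
    rw [map_add, LinearMap.add_apply, map_add, LinearMap.add_apply, map_add]
    change (thetaT R A x η) a + (thetaT R A y η) a = _
    rw [hx, hy]
  | tmul b ξ =>
    rw [thetaT_tmul, theta_tmul, map_smul]
    change η b * ξ a = ξ a * η b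
    exact mul_comm _ _

end ThetaT

section Main78a

variable {R : Type u} [CommRing R] {A : Type u} [CommRing A] [HopfAlgebra R A]
  [Coalgebra.IsCocomm R A] [Module.Finite R A] [Module.Projective R A]
  {A' : Type u} [CommRing A'] [HopfAlgebra R A'] [Coalgebra.IsCocomm R A']
  [Module.Finite R A'] [Module.Projective R A']
  (p : ℕ) [hpp : Fact p.Prime] (u : R) (χ : (ZMod p)ˣ →* Rˣ)
  (hp : (toConv (AlgHom.id R A)) ^ p = 1) (hp' : (toConv (AlgHom.id R A')) ^ p = 1)
  (hu : u * ((p - 1 : ℕ) : R) = 1)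
  (θ : OortTate.eigenAug R A p χ 1 ≃ₗ[R] OortTate.eigenAug R A' p χ 1)

/-- The map `A → A'`, `a ↦ θ(e a)`. -/
noncomputable def fwdMap : A →ₗ[R] A' :=
  (OortTate.eigenAug R A' p χ 1).subtype ∘ₗ θ.toLinearMap ∘ₗ (retr p u χ hp 1)

omit [Coalgebra.IsCocomm R A] [Module.Finite R A] [Module.Projective R A]
  [Coalgebra.IsCocomm R A'] [Module.Finite R A'] [Module.Projective R A'] in
theorem fwdMap_apply (a : A) : fwdMap p u χ hp θ a = (θ (retr p u χ hp 1 a) : A') := rfl

include hu in
theorem theta_algMap (F : A →ₐ[R] A') (H : D R A →ₐ[R] D R A')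
    (hF : ∀ x : OortTate.eigenAug R A p χ 1, F x = θ x)
    (hH : ∀ ξ : OortTate.eigenAug R (D R A) p χ 1, H ξ = thetaD p u χ hp' hu θ ξ)
    (w : OortTate.eigenAug R A p χ 1 ⊗[R] OortTate.eigenAug R (D R A) p χ 1) :
    theta R A' (Algebra.TensorProduct.map F H
      (TensorProduct.map (OortTate.eigenAug R A p χ 1).subtype
        (OortTate.eigenAug R (D R A) p χ 1).subtype w)) =
      fwdMap p u χ hp θ ∘ₗ theta R A (TensorProduct.map (OortTate.eigenAug R A p χ 1).subtype
        (OortTate.eigenAug R (D R A) p χ 1).subtype w) ∘ₗ backMap p u χ hp' θ := by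
  induction w using TensorProduct.induction_on with
  | zero => simp
  | add x y hx hy =>
    simp only [map_add] at hx hy ⊢
    rw [hx, hy, LinearMap.add_comp, LinearMap.comp_add]
  | tmul l ξ =>
    apply LinearMap.ext
    intro a'
    rw [TensorProduct.map_tmul, Algebra.TensorProduct.map_tmul, theta_tmul,
      Submodule.subtype_apply, Submodule.subtype_apply, hF, hH, thetaD_apply,
      LinearMap.comp_apply, LinearMap.comp_apply, theta_tmul, map_smul, fwdMap_apply,
      retr_apply_coe p u χ hp hu 1 l]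

end Main78a

section Kappa

variable {R : Type u} [CommRing R] {A : Type u} [CommRing A] [HopfAlgebra R A]
  [Coalgebra.IsCocomm R A] [Module.Finite R A] [Module.Projective R A]
  (p : ℕ) [hpp : Fact p.Prime] (u : R) (χ : (ZMod p)ˣ →* Rˣ)
  (hp : (toConv (AlgHom.id R A)) ^ p = 1)

/-- The canonical element of `I₁(A) ⊗ I₁(A^D)`. -/
noncomputable def kappa : A ⊗[R] D R A := phiA p hp (OortTate.ygen R p u χ 1)

omit [Coalgebra.IsCocomm R A] in
theorem theta_kappa : theta R A (kappa p u χ hp) = eproj R A p u χ 1 :=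
  theta_phi_ygen p u χ (canonElt R A) canonElt_spec (phiA p hp) (phiA_muT p hp) 1

theorem kappa_mem (hu : u * ((p - 1 : ℕ) : R) = 1)
    (hχ : ∀ m : (ZMod p)ˣ, m ≠ 1 → IsUnit ((χ m : R) - 1))
    (hχp : ∀ m : (ZMod p)ˣ, ((χ m : Rˣ) : R) - (((m : ZMod p).val : ℕ) : R) ∈
      Ideal.span ({(p : R)} : Set R))
    (hrk : ∀ q : PrimeSpectrum R, Module.rankAtStalk A q = p) :
    kappa p u χ hp ∈ pairImg R A p χ 1 := by
  have := (pairing_main p u χ hu hχ hχp hrk (canonElt R A) canonElt_spec (phiA p hp)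
    (phiA_muT p hp)).1
  rw [← this]
  exact Submodule.mem_span_singleton_self _

omit [Coalgebra.IsCocomm R A] in
/-- The canonical element in terms of `κ` and universal constants. -/
theorem canonElt_eq (c : Fin (p - 1) → R) (n : Fin (p - 1) → ℕ)
    (hcn : OortTate.muT R p = 1 + ∑ j, c j • (OortTate.ygen R p u χ 1) ^ (n j)) :
    canonElt R A = 1 + ∑ j, c j • (kappa p u χ hp) ^ (n j) := by
  have h1 := congrArg (phiA (A := A) p hp) hcn
  rw [phiA_muT] at h1
  rw [h1, map_add, map_sum]
  congr 1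
  · exact (phiA (A := A) p hp).map_one'
  · refine Finset.sum_congr rfl fun j _ => ?_
    rw [map_smul, algHom_pow']
    rfl

end Kappa

end Groth.Agent.Lib.T3H8.OT
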