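import Mathlib
import Groth.Agent.Lib.T3H8OTq

/-!
# Injectivity of the Oort–Tate classification map, II (helper8)
-/

set_option autoImplicit false
universe u v

namespace Groth.Agent.Lib.T3H8.OT

open Coalgebra TensorProduct WithConv SGA3b CartDual Groth.Agent.Lib.T2H3.OortTate
  Groth.Agent.Lib.Helper25.Tors

section PairGeneric

variable {R : Type u} [CommRing R] {A : Type v} [CommRing A] [Bialgebra R A]
  {A' : Type v} [CommRing A'] [Bialgebra R A']

theorem pair_algMap (F : A ≃ₐ[R] A') (H : D R A →ₐ[R] D R A') (z : A ⊗[R] D R A) (ξ : D R A)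
    (a : A) :
    (H (thetaT R A z ξ)) (F a) =
      ξ (F.symm (theta R A' (Algebra.TensorProduct.map (F : A →ₐ[R] A') H z) (F a))) := by
  induction z using TensorProduct.induction_on with
  | zero => simp
  | add x y hx hy =>
    simp only [map_add, LinearMap.add_apply] at hx hy ⊢
    change (H (thetaT R A x ξ)) (F a) + (H (thetaT R A y ξ)) (F a) = _
    rw [hx, hy]
  | tmul b η =>
    rw [thetaT_tmul, Algebra.TensorProduct.map_tmul, theta_tmul, map_smul, map_smul, map_smul]
    change ξ b * (H η) (F a) = (H η) (F a) * ξ (F.symm (F b))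
    rw [AlgEquiv.symm_apply_apply, mul_comm]

variable [Module.Finite R A] [Module.Projective R A] [Module.Finite R A'] [Module.Projective R A']

theorem thetaT_canonElt {A : Type u} [CommRing A] [HopfAlgebra R A] [Module.Finite R A]
    [Module.Projective R A] (ξ : D R A) : thetaT R A (canonElt R A) ξ = ξ := by
  apply WithConv.ext
  apply LinearMap.ext
  intro a
  change (thetaT R A (canonElt R A) ξ) a = ξ a
  rw [thetaT_pair, theta_canonElt, LinearMap.id_apply]

end PairGeneric

section Transp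

variable {R : Type u} [CommRing R] {A : Type v} [CommRing A] [HopfAlgebra R A]
  [Module.Finite R A] [Module.Projective R A] {A' : Type v} [CommRing A'] [HopfAlgebra R A']

omit [Module.Finite R A] [Module.Projective R A] in
theorem mul'_map_algMap (G : A' →ₐ[R] A) (φ ψ : A →ₗ[R] R) (t : A' ⊗[R] A') :
    LinearMap.mul' R R (TensorProduct.map φ ψ (Algebra.TensorProduct.map G G t)) =
      LinearMap.mul' R R (TensorProduct.map (φ ∘ₗ G.toLinearMap) (ψ ∘ₗ G.toLinearMap) t) := by
  induction t using TensorProduct.induction_on with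
  | zero => simp
  | add x y hx hy => simp only [map_add, hx, hy]
  | tmul a b => simp

/-- An algebra isomorphism whose transpose is an algebra map is a bialgebra isomorphism. -/
theorem nonempty_bialgEquiv_of_transpose (G : A' ≃ₐ[R] A) (H : D R A →ₐ[R] D R A')
    (hH : ∀ (ξ : D R A) (a' : A'), (H ξ) a' = ξ (G a')) : Nonempty (A' ≃ₐc[R] A) := by
  refine ⟨BialgEquiv.ofAlgEquiv G ?_ ?_⟩
  · apply AlgHom.ext
    intro a'
    change Coalgebra.counit (G a') = Coalgebra.counit a'
    have h1 := hH 1 a'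
    have e1 : H 1 = 1 := H.map_one'
    rw [e1] at h1
    change (1 : WithConv (A' →ₗ[R] R)) a' = (1 : WithConv (A →ₗ[R] R)) (G a') at h1
    rw [LinearMap.convOne_apply, LinearMap.convOne_apply] at h1
    simpa using h1.symm
  · apply AlgHom.ext
    intro a'
    change Algebra.TensorProduct.map (G : A' →ₐ[R] A) (G : A' →ₐ[R] A) (Coalgebra.comul a') =
      Coalgebra.comul (G a')
    rw [← sub_eq_zero]
    apply eq_zero_of_pair_eq_zero
    intro φ ψ
    rw [map_sub, map_sub, sub_eq_zero, mul'_map_algMap]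
    have h1 := hH (toConv φ * toConv ψ) a'
    have e2 : H (toConv φ * toConv ψ) = H (toConv φ) * H (toConv ψ) := H.map_mul' _ _
    rw [e2] at h1
    change (H (toConv φ) * H (toConv ψ) : WithConv (A' →ₗ[R] R)) a' =
      (toConv φ * toConv ψ : WithConv (A →ₗ[R] R)) (G a') at h1
    rw [LinearMap.convMul_apply, LinearMap.convMul_apply] at h1
    rw [← h1]
    have e3 : φ ∘ₗ (G : A' →ₐ[R] A).toLinearMap = (H (toConv φ)).ofConv :=
      LinearMap.ext fun b => (hH (toConv φ) b).symm
    have e4 : ψ ∘ₗ (G : A' →ₐ[R] A).toLinearMap = (H (toConv ψ)).ofConv :=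
      LinearMap.ext fun b => (hH (toConv ψ) b).symm
    rw [e3, e4]

end Transp

section Main78b

variable {R : Type u} [CommRing R] {A : Type u} [CommRing A] [HopfAlgebra R A]
  [Coalgebra.IsCocomm R A] [Module.Finite R A] [Module.Projective R A]
  {A' : Type u} [CommRing A'] [HopfAlgebra R A'] [Coalgebra.IsCocomm R A']
  [Module.Finite R A'] [Module.Projective R A']
  (p : ℕ) [hpp : Fact p.Prime] (u : R) (χ : (ZMod p)ˣ →* Rˣ)
  (hp : (toConv (AlgHom.id R A)) ^ p = 1) (hp' : (toConv (AlgHom.id R A')) ^ p = 1)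
  (hu : u * ((p - 1 : ℕ) : R) = 1)
  (hχ : ∀ m : (ZMod p)ˣ, m ≠ 1 → IsUnit ((χ m : R) - 1))
  (hχp : ∀ m : (ZMod p)ˣ, ((χ m : Rˣ) : R) - (((m : ZMod p).val : ℕ) : R) ∈
      Ideal.span ({(p : R)} : Set R))
  (hrk : ∀ q : PrimeSpectrum R, Module.rankAtStalk A q = p)
  (θ : OortTate.eigenAug R A p χ 1 ≃ₗ[R] OortTate.eigenAug R A' p χ 1)

include hu hχ hχp hrk in
theorem map_kappa (F : A →ₐ[R] A') (H : D R A →ₐ[R] D R A')
    (hF : ∀ x : OortTate.eigenAug R A p χ 1, F x = θ x)
    (hH : ∀ ξ : OortTate.eigenAug R (D R A) p χ 1, H ξ = thetaD p u χ hp' hu θ ξ) :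
    Algebra.TensorProduct.map F H (kappa p u χ hp) = kappa p u χ hp' := by
  obtain ⟨w, hw⟩ := kappa_mem p u χ hp hu hχ hχp hrk
  apply (theta_bijective (R := R) (A := A')).1
  rw [← hw, theta_algMap p u χ hp hp' hu θ F H hF hH w, hw, theta_kappa, theta_kappa]
  apply LinearMap.ext
  intro a'
  rw [LinearMap.comp_apply, LinearMap.comp_apply, fwdMap_apply]
  have h1 : backMap p u χ hp' θ a' ∈ OortTate.eigenAug R A p χ 1 := by
    rw [backMap_apply]
    exact Subtype.mem _
  rw [eproj_eq_self p u χ hp hu 1 h1]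
  have h2 : retr p u χ hp 1 (backMap p u χ hp' θ a') = θ.symm (retr p u χ hp' 1 a') := by
    rw [backMap_apply]
    exact retr_apply_coe p u χ hp hu 1 _
  rw [h2, LinearEquiv.apply_symm_apply]
  rfl

include hp hu hχ hχp hrk in
theorem map_canonElt (F : A →ₐ[R] A') (H : D R A →ₐ[R] D R A')
    (hF : ∀ x : OortTate.eigenAug R A p χ 1, F x = θ x)
    (hH : ∀ ξ : OortTate.eigenAug R (D R A) p χ 1, H ξ = thetaD p u χ hp' hu θ ξ) :
    Algebra.TensorProduct.map F H (canonElt R A) = canonElt R A' := by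
  obtain ⟨c, n, hcn⟩ := exists_muT_eq (R := R) (p := p) u χ hu hχ hχp
  rw [canonElt_eq p u χ hp c n hcn, canonElt_eq p u χ hp' c n hcn, map_add, map_sum]
  congr 1
  · exact (Algebra.TensorProduct.map F H).map_one'
  · refine Finset.sum_congr rfl fun j _ => ?_
    rw [map_smul, algHom_pow', map_kappa p u χ hp hp' hu hχ hχp hrk θ F H hF hH]

end Main78b

section Main78c

variable {R : Type u} [CommRing R] {A : Type u} [CommRing A] [HopfAlgebra R A]
  [Coalgebra.IsCocomm R A] [Module.Finite R A] [Module.Projective R A]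
  {A' : Type u} [CommRing A'] [HopfAlgebra R A'] [Coalgebra.IsCocomm R A']
  [Module.Finite R A'] [Module.Projective R A']
  (p : ℕ) [hpp : Fact p.Prime] (u : R) (χ : (ZMod p)ˣ →* Rˣ)
  (hu : u * ((p - 1 : ℕ) : R) = 1)
  (hχ : ∀ m : (ZMod p)ˣ, m ≠ 1 → IsUnit ((χ m : R) - 1))
  (hχp : ∀ m : (ZMod p)ˣ, ((χ m : Rˣ) : R) - (((m : ZMod p).val : ℕ) : R) ∈
      Ideal.span ({(p : R)} : Set R))
  (hrk : ∀ q : PrimeSpectrum R, Module.rankAtStalk A q = p)
  (hrk' : ∀ q : PrimeSpectrum R, Module.rankAtStalk A' q = p)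
  (θ : OortTate.eigenAug R A p χ 1 ≃ₗ[R] OortTate.eigenAug R A' p χ 1)
  (hθ : ∀ (f : Fin p → OortTate.eigenAug R A p χ 1) (g : OortTate.eigenAug R A p χ 1),
      (g : A) = ∏ i, (f i : A) →
        ((θ g : OortTate.eigenAug R A' p χ 1) : A') = ∏ i, ((θ (f i)) : A'))
  (hθD : ∀ (φ : Fin p → OortTate.eigenAug R (CartDual.D R A) p χ 1)
      (φ' : Fin p → OortTate.eigenAug R (CartDual.D R A') p χ 1)
      (ψ : OortTate.eigenAug R (CartDual.D R A) p χ 1)
      (ψ' : OortTate.eigenAug R (CartDual.D R A') p χ 1),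
      (∀ i, ∀ x : OortTate.eigenAug R A p χ 1,
        CartDual.toDual R A (φ i : CartDual.D R A) (x : A) =
          CartDual.toDual R A' (φ' i : CartDual.D R A')
            ((θ x : OortTate.eigenAug R A' p χ 1) : A')) →
      (ψ : CartDual.D R A) = ∏ i, (φ i : CartDual.D R A) →
      (ψ' : CartDual.D R A') = ∏ i, (φ' i : CartDual.D R A') →
      ∀ x : OortTate.eigenAug R A p χ 1,
        CartDual.toDual R A (ψ : CartDual.D R A) (x : A) =
          CartDual.toDual R A' (ψ' : CartDual.D R A')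
            ((θ x : OortTate.eigenAug R A' p χ 1) : A'))

include hu hχ hχp hrk hrk' hθ hθD in
/-- Injectivity of the Oort–Tate classification map. -/
theorem injectivity_main : Nonempty (A ≃ₐc[R] A') := by
  have hp : (toConv (AlgHom.id R A)) ^ p = 1 := id_pow_eq_one_of_rankAtStalk hrk
  have hp' : (toConv (AlgHom.id R A')) ^ p = 1 := id_pow_eq_one_of_rankAtStalk hrk'
  obtain ⟨F, hF⟩ := exists_algEquiv_of_theta p u χ hu hχ hχp hrk hrk' θ hθ
  obtain ⟨H, hH⟩ := exists_algHom_of_theta (A := D R A) (A' := D R A') p u χ hu hχ hχp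
    (rankAtStalk_cartDual hrk) (thetaD p u χ hp' hu θ)
    (fun φ ψ hψ => thetaD_compat p u χ hp' hu θ hθD φ ψ hψ)
  have hpair : ∀ (ξ : D R A) (a : A), (H ξ) (F a) = ξ a := by
    intro ξ a
    have h1 := pair_algMap F H (canonElt R A) ξ a
    rw [thetaT_canonElt, map_canonElt p u χ hp hp' hu hχ hχp hrk θ (F : A →ₐ[R] A') H
      (fun x => hF x) hH, theta_canonElt, LinearMap.id_apply, AlgEquiv.symm_apply_apply] at h1
    exact h1
  have hH' : ∀ (ξ : D R A) (a' : A'), (H ξ) a' = ξ (F.symm a') := by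
    intro ξ a'
    have := hpair ξ (F.symm a')
    rwa [AlgEquiv.apply_symm_apply] at this
  obtain ⟨e⟩ := nonempty_bialgEquiv_of_transpose F.symm H hH'
  exact ⟨e.symm⟩

end Main78c

end Groth.Agent.Lib.T3H8.OT
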