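import Mathlib
import Groth.Agent.Lib.T3H8OTr

/-!
# Injectivity of the Oort–Tate classification map: the free case (helper8)
-/

set_option autoImplicit false
universe u v

namespace Groth.Agent.Lib.T3H8.OT

open Coalgebra TensorProduct WithConv SGA3b CartDual Groth.Agent.Lib.T2H3.OortTate
  Groth.Agent.Lib.Helper25.Tors

section Cyc

variable {R : Type*} [CommRing R] {M : Type*} [AddCommGroup M] [Module R M]

/-- A free cyclic submodule is isomorphic to `R`. -/
noncomputable def genEquiv (N : Submodule R M) (y : M) (hy : Submodule.span R {y} = N)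
    (hfree : ∀ r : R, r • y = 0 → r = 0) : R ≃ₗ[R] N :=
  LinearEquiv.ofBijective ((LinearMap.toSpanSingleton R M y).codRestrict N (fun r => by
    rw [← hy]
    exact Submodule.smul_mem _ _ (Submodule.mem_span_singleton_self y))) ⟨by
    intro a b h
    have h1 : a • y = b • y := congrArg Subtype.val h
    have h2 : (a - b) • y = 0 := by rw [sub_smul, sub_eq_zero]; exact h1
    exact sub_eq_zero.mp (hfree _ h2), by
    rintro ⟨n, hn⟩
    rw [← hy] at hn
    obtain ⟨r, hr⟩ := Submodule.mem_span_singleton.mp hn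
    exact ⟨r, Subtype.ext hr⟩⟩

theorem genEquiv_apply (N : Submodule R M) (y : M) (hy : Submodule.span R {y} = N)
    (hfree : ∀ r : R, r • y = 0 → r = 0) (r : R) : (genEquiv N y hy hfree r : M) = r • y := rfl

theorem coe_eq_symm_smul (N : Submodule R M) (y : M) (hy : Submodule.span R {y} = N)
    (hfree : ∀ r : R, r • y = 0 → r = 0) (n : N) :
    (n : M) = (genEquiv N y hy hfree).symm n • y := by
  conv_lhs => rw [← (genEquiv N y hy hfree).apply_symm_apply n]
  rfl

theorem prod_smul_const {B : Type*} [CommRing B] [Algebra R B] {p : ℕ} (r : Fin p → R) (y : B) :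
    ∏ i, (r i • y) = (∏ i, r i) • y ^ p := by
  rw [Finset.prod_smul, Finset.prod_const, Finset.card_univ, Fintype.card_fin]

end Cyc

section Free75

variable {R : Type u} [CommRing R] {A : Type u} [CommRing A] [HopfAlgebra R A]
  [Coalgebra.IsCocomm R A] [Module.Finite R A] [Module.Projective R A]
  {A' : Type u} [CommRing A'] [HopfAlgebra R A'] [Coalgebra.IsCocomm R A']
  [Module.Finite R A'] [Module.Projective R A']
  (p : ℕ) [hpp : Fact p.Prime] (u : R) (χ : (ZMod p)ˣ →* Rˣ)

theorem free_case (hu : u * ((p - 1 : ℕ) : R) = 1)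
    (hχ : ∀ m : (ZMod p)ˣ, m ≠ 1 → IsUnit ((χ m : R) - 1))
    (hχp : ∀ m : (ZMod p)ˣ, ((χ m : Rˣ) : R) - (((m : ZMod p).val : ℕ) : R) ∈
      Ideal.span ({(p : R)} : Set R))
    (hrk : ∀ q : PrimeSpectrum R, Module.rankAtStalk A q = p)
    (hrk' : ∀ q : PrimeSpectrum R, Module.rankAtStalk A' q = p)
    (x : A) (hx : Submodule.span R {x} = OortTate.eigenAug R A p χ 1)
    (ξ : CartDual.D R A) (hξ : Submodule.span R {ξ} = OortTate.eigenAug R (CartDual.D R A) p χ 1)
    (hxξ : CartDual.toDual R A ξ x = 1)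
    (x' : A') (hx' : Submodule.span R {x'} = OortTate.eigenAug R A' p χ 1)
    (ξ' : CartDual.D R A')
    (hξ' : Submodule.span R {ξ'} = OortTate.eigenAug R (CartDual.D R A') p χ 1)
    (hxξ' : CartDual.toDual R A' ξ' x' = 1)
    (α β α' β' : R) (hα : x ^ p = α • x) (hβ : ξ ^ p = β • ξ) (hα' : x' ^ p = α' • x')
    (hβ' : ξ' ^ p = β' • ξ')
    (v : Rˣ) (hαv : α' = ((v ^ (p - 1) : Rˣ) : R) * α)
    (hβv : β' = ((v⁻¹ ^ (p - 1) : Rˣ) : R) * β) :
    Nonempty (A ≃ₐc[R] A') := by
  have hp1 : p = (p - 1) + 1 := by have := hpp.out.one_le; omega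
  have hfx : ∀ r : R, r • x = 0 → r = 0 := by
    intro r h
    have h1 := congrArg (CartDual.toDual R A ξ) h
    rw [map_smul, hxξ, map_zero, smul_eq_mul, mul_one] at h1
    exact h1
  have hfx' : ∀ r : R, r • x' = 0 → r = 0 := by
    intro r h
    have h1 := congrArg (CartDual.toDual R A' ξ') h
    rw [map_smul, hxξ', map_zero, smul_eq_mul, mul_one] at h1
    exact h1
  have hfξ : ∀ r : R, r • ξ = 0 → r = 0 := by
    intro r h
    have h1 := congrArg (fun η => CartDual.toDual R A η x) h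
    simp only [map_smul, LinearMap.smul_apply, hxξ, map_zero, LinearMap.zero_apply, smul_eq_mul,
      mul_one] at h1
    exact h1
  have hfξ' : ∀ r : R, r • ξ' = 0 → r = 0 := by
    intro r h
    have h1 := congrArg (fun η => CartDual.toDual R A' η x') h
    simp only [map_smul, LinearMap.smul_apply, hxξ', map_zero, LinearMap.zero_apply, smul_eq_mul,
      mul_one] at h1
    exact h1
  obtain ⟨V, W, hVW, hαV, hβW⟩ : ∃ V W : R, W * V = 1 ∧ α' = V ^ (p - 1) * α ∧
      β' = W ^ (p - 1) * β := by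
    refine ⟨(v : R), ((v⁻¹ : Rˣ) : R), by simp, ?_, ?_⟩
    · rw [hαv, Units.val_pow_eq_pow_val]
    · rw [hβv, Units.val_pow_eq_pow_val]
  have hWu : IsUnit W := IsUnit.of_mul_eq_one _ hVW
  have hy' : Submodule.span R {W • x'} = OortTate.eigenAug R A' p χ 1 := by
    rw [← hx']
    exact Submodule.span_singleton_smul_eq hWu x'
  have hfy' : ∀ r : R, r • (W • x') = 0 → r = 0 := by
    intro r h
    rw [smul_smul] at h
    have h1 := hfx' _ h
    calc r = r * W * V := by rw [mul_assoc, hVW, mul_one]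
      _ = 0 := by rw [h1, zero_mul]
  let e := genEquiv (OortTate.eigenAug R A p χ 1) x hx hfx
  let e' := genEquiv (OortTate.eigenAug R A' p χ 1) (W • x') hy' hfy'
  let θ : OortTate.eigenAug R A p χ 1 ≃ₗ[R] OortTate.eigenAug R A' p χ 1 := e.symm.trans e'
  have hθc : ∀ g : OortTate.eigenAug R A p χ 1, ((θ g : _) : A') = (e.symm g) • (W • x') :=
    fun g => rfl
  have hgc : ∀ g : OortTate.eigenAug R A p χ 1, (g : A) = (e.symm g) • x :=
    coe_eq_symm_smul _ x hx hfx
  have hW : W ^ p = W ^ (p - 1) * W := by conv_lhs => rw [hp1, pow_succ]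
  have hWV : W ^ (p - 1) * V ^ (p - 1) = 1 := by rw [← mul_pow, hVW, one_pow]
  apply injectivity_main p u χ hu hχ hχp hrk hrk' θ
  · intro f g hg
    have hfc : ∀ i, (f i : A) = e.symm (f i) • x := fun i => hgc (f i)
    have h1 : e.symm g = (∏ i, e.symm (f i)) * α := by
      apply sub_eq_zero.mp
      apply hfx
      rw [sub_smul, sub_eq_zero, ← hgc g, hg]
      simp_rw [hfc]
      rw [prod_smul_const, hα, smul_smul]
    have hfc' : ∀ i, ((θ (f i) : _) : A') = e.symm (f i) • (W • x') := fun i => hθc (f i)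
    rw [hθc, h1]
    simp_rw [hfc']
    rw [prod_smul_const, smul_pow, hα', hαV, smul_smul, smul_smul, smul_smul]
    congr 1
    rw [hW]
    linear_combination (-((∏ i, e.symm (f i)) * α * W)) * hWV
  · intro φ φ' ψ ψ' h hψ hψ' y
    let d := genEquiv (OortTate.eigenAug R (D R A) p χ 1) ξ hξ hfξ
    let d' := genEquiv (OortTate.eigenAug R (D R A') p χ 1) ξ' hξ' hfξ'
    have hφc : ∀ i, (φ i : D R A) = d.symm (φ i) • ξ :=
      fun i => coe_eq_symm_smul _ ξ hξ hfξ (φ i)
    have hφc' : ∀ i, (φ' i : D R A') = d'.symm (φ' i) • ξ' :=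
      fun i => coe_eq_symm_smul _ ξ' hξ' hfξ' (φ' i)
    have hrel : ∀ i, d.symm (φ i) = d'.symm (φ' i) * W := by
      intro i
      have h1 := h i (e 1)
      rw [hφc i, hφc' i, hθc] at h1
      have h2 : ((e 1 : _) : A) = x := by
        change (1 : R) • x = x
        rw [one_smul]
      have h3 : e.symm (e 1) = 1 := e.symm_apply_apply 1
      rw [h2, h3, one_smul] at h1
      have hxξo : ξ.ofConv x = 1 := hxξ
      have hxξo' : ξ'.ofConv x' = 1 := hxξ'
      have h4 : d.symm (φ i) * ξ.ofConv x = W * (d'.symm (φ' i) * ξ'.ofConv x') := by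
        simpa using h1
      rw [hxξo, hxξo', mul_one, mul_one] at h4
      rw [h4, mul_comm]
    rw [hψ, hψ']
    simp_rw [hφc, hφc']
    rw [prod_smul_const, prod_smul_const, hβ, hβ', hgc y, hθc]
    simp only [map_smul, LinearMap.smul_apply, hxξ, hxξ', smul_eq_mul, mul_one]
    simp_rw [hrel]
    rw [Finset.prod_mul_distrib, Finset.prod_const, Finset.card_univ, Fintype.card_fin, hβW, hW]
    ring

end Free75

end Groth.Agent.Lib.T3H8.OT
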