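import Mathlib

set_option autoImplicit false
universe u
open CategoryTheory AlgebraicGeometry TopologicalSpace Opposite

namespace Groth.Agent.Lib.T3H9.CI

variable {k : Type u} [Field k] [IsAlgClosed k] {X Y : Scheme.{u}}

/-- the residue field of a closed point of a locally finite type scheme over an algebraically closed field `k`
is `k`. -/
theorem exists_residue_eq (pX : X ⟶ Spec (CommRingCat.of k)) [LocallyOfFiniteType pX] (P : X)
    (hP : IsClosed ({P} : Set X)) :
    ∃ φ : CommRingCat.of k ⟶ X.residueField P, Spec.map φ = X.fromSpecResidueField P ≫ pX ∧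
      Function.Surjective φ.hom := by
  have hfin : IsFinite (X.fromSpecResidueField P ≫ pX) := by
    rw [isClosed_singleton_iff_isClosedImmersion] at hP
    rw [isFinite_iff_locallyOfFiniteType_of_jacobsonSpace]
    infer_instance
  obtain ⟨φ, hφ⟩ : ∃ φ : CommRingCat.of k ⟶ X.residueField P,
      Spec.map φ = X.fromSpecResidueField P ≫ pX := ⟨Spec.preimage _, Spec.map_preimage _⟩
  refine ⟨φ, hφ, ?_⟩
  have hint : φ.hom.IsIntegral := by
    rw [← IsIntegralHom.SpecMap_iff, hφ]; infer_instance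
  algebraize [φ.hom]
  have : Algebra.IsIntegral k (X.residueField P) := ⟨hint⟩
  exact (IsAlgClosed.algebraMap_bijective_of_isIntegral (k := k) (K := X.residueField P)).2

theorem residueFieldMap_surjective (pX : X ⟶ Spec (CommRingCat.of k)) (pY : Y ⟶ Spec (CommRingCat.of k))
    [LocallyOfFiniteType pX] (f : X ⟶ Y) (hf : f ≫ pY = pX) (P : X) (hP : IsClosed ({P} : Set X)) :
    Function.Surjective (f.residueFieldMap P).hom := by
  obtain ⟨φ, hφ, hsurj⟩ := exists_residue_eq pX P hP
  obtain ⟨ψ, hψ⟩ : ∃ ψ : CommRingCat.of k ⟶ Y.residueField (f P),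
      Spec.map ψ = Y.fromSpecResidueField (f P) ≫ pY := ⟨Spec.preimage _, Spec.map_preimage _⟩
  have h1 : Spec.map (ψ ≫ f.residueFieldMap P) = Spec.map φ := by
    rw [Spec.map_comp, hψ, hφ, Scheme.Hom.SpecMap_residueFieldMap_fromSpecResidueField_assoc, hf]
  have h2 : ψ ≫ f.residueFieldMap P = φ := Spec.map_injective h1
  intro x
  obtain ⟨c, hc⟩ := hsurj x
  refine ⟨ψ.hom c, ?_⟩
  rw [← hc, ← h2]
  rfl


section ci2



theorem quasiFiniteAt_of_map_maximalIdeal (f : X ⟶ Y) [LocallyOfFiniteType f] (P : X)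
    (hres : Function.Surjective (f.residueFieldMap P).hom)
    (hmax : (IsLocalRing.maximalIdeal (Y.presheaf.stalk (f P))).map (f.stalkMap P).hom =
      IsLocalRing.maximalIdeal (X.presheaf.stalk P)) :
    f.QuasiFiniteAt P := by
  unfold Scheme.Hom.QuasiFiniteAt
  algebraize [(f.stalkMap P).hom]
  have : IsLocalHom (algebraMap (Y.presheaf.stalk (f P)) (X.presheaf.stalk P)) :=
    inferInstanceAs <| IsLocalHom (f.stalkMap P).hom
  have : Algebra.EssFiniteType (Y.presheaf.stalk (f P)) (X.presheaf.stalk P) := by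
    rw [← RingHom.essFiniteType_algebraMap, RingHom.algebraMap_toAlgebra]
    exact LocallyOfFiniteType.stalkMap f P
  have hsep : Algebra.IsSeparable (IsLocalRing.ResidueField (Y.presheaf.stalk (f P)))
      (IsLocalRing.ResidueField (X.presheaf.stalk P)) := by
    refine ⟨fun x => ?_⟩
    obtain ⟨y, hy⟩ := hres x
    have hy' : algebraMap (IsLocalRing.ResidueField (Y.presheaf.stalk (f P)))
        (IsLocalRing.ResidueField (X.presheaf.stalk P)) y = x := hy
    rw [← hy']
    exact isSeparable_algebraMap (F := IsLocalRing.ResidueField (Y.presheaf.stalk (f P)))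
      (K := IsLocalRing.ResidueField (X.presheaf.stalk P)) y
  have hunr : Algebra.FormallyUnramified (Y.presheaf.stalk (f P)) (X.presheaf.stalk P) :=
    Algebra.FormallyUnramified.of_map_maximalIdeal hmax
  rw [RingHom.QuasiFinite]
  infer_instance


theorem isFinite_of_closedPoints (f : X ⟶ Y) [IsProper f] [CompactSpace X]
    (h : ∀ P : X, IsClosed ({P} : Set X) → f.QuasiFiniteAt P) : IsFinite f := by
  have htop : f.quasiFiniteLocus = ⊤ := by
    by_contra hne
    have hne' : ((f.quasiFiniteLocus : Set X)ᶜ).Nonempty := by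
      rw [Set.nonempty_compl]
      intro h2
      exact hne (TopologicalSpace.Opens.ext h2)
    obtain ⟨x, hx, hxc⟩ := IsClosed.exists_closed_singleton
      (f.quasiFiniteLocus.isOpen.isClosed_compl) hne'
    exact hx (h x hxc)
  haveI : LocallyQuasiFinite f := (Scheme.Hom.quasiFiniteLocus_eq_top_iff f).mp htop
  exact IsFinite.of_isProper_of_locallyQuasiFinite f


end ci2


section ci3


/-- a finite module `C` with `C = m C` for all maximal ideals `m` is zero. -/
theorem subsingleton_of_forall_maximal {A C : Type u} [CommRing A] [AddCommGroup C] [Module A C]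
    [Module.Finite A C] (h : ∀ m : Ideal A, m.IsMaximal → (⊤ : Submodule A C) ≤ m • ⊤) :
    Subsingleton C := by
  by_contra hC
  rw [not_subsingleton_iff_nontrivial] at hC
  have hann : Module.annihilator A C ≠ ⊤ := by
    intro htop
    have h1 : (1 : A) ∈ Module.annihilator A C := htop ▸ Submodule.mem_top
    rw [Module.mem_annihilator] at h1
    obtain ⟨x, y, hxy⟩ := hC
    exact hxy (by rw [← one_smul A x, ← one_smul A y, h1 x, h1 y])
  obtain ⟨m, hm, hle⟩ := Ideal.exists_le_maximal _ hann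
  obtain ⟨r, hr1, hr2⟩ := Submodule.exists_sub_one_mem_and_smul_eq_zero_of_fg_of_le_smul m
    (⊤ : Submodule A C) Module.Finite.fg_top (h m hm)
  have hr : r ∈ m := hle (Module.mem_annihilator.mpr fun c => hr2 c Submodule.mem_top)
  have : (1 : A) ∈ m := by
    have := m.sub_mem hr hr1
    simpa using this
  exact hm.ne_top ((Ideal.eq_top_iff_one m).mpr this)

theorem surjective_of_finite_of_maximal {A B : Type u} [CommRing A] [CommRing B] (φ : A →+* B)
    (hfin : φ.Finite)
    (ha : ∀ q : Ideal B, q.IsMaximal → ∀ c ∈ q, ∃ s, s ∉ q ∧ s * c ∈ (q.comap φ).map φ)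
    (hb : ∀ q : Ideal B, q.IsMaximal → ∀ b : B, ∃ a : A, b - φ a ∈ q)
    (hc : ∀ q q' : Ideal B, q.IsMaximal → q'.IsMaximal → q.comap φ = q'.comap φ → q = q') :
    Function.Surjective φ := by
  algebraize [φ]
  have hφ : ∀ a, φ a = algebraMap A B a := fun a => rfl
  -- key: every `b` lies in `φ A + m B`
  have key : ∀ m : Ideal A, m.IsMaximal → ∀ b : B, ∃ a : A, b - φ a ∈ m.map φ := by
    intro m hm b
    by_cases htop : m.map φ = ⊤
    · exact ⟨0, htop ▸ Submodule.mem_top⟩
    obtain ⟨q, hq, hle⟩ := Ideal.exists_le_maximal _ htop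
    have hqm : q.comap φ = m := by
      refine (hm.eq_of_le ?_ (Ideal.map_le_iff_le_comap.mp hle)).symm
      exact Ideal.comap_ne_top φ hq.ne_top
    obtain ⟨a, hab⟩ := hb q hq b
    obtain ⟨s, hsq, hsc⟩ := ha q hq _ hab
    rw [hqm] at hsc
    refine ⟨a, ?_⟩
    -- `s` is a unit mod `m B`
    have hsup : Ideal.span {s} ⊔ m.map φ = ⊤ := by
      by_contra hne
      obtain ⟨q', hq', hle'⟩ := Ideal.exists_le_maximal _ hne
      have hq'm : q'.comap φ = m := by
        refine (hm.eq_of_le ?_ (Ideal.map_le_iff_le_comap.mp (le_sup_right.trans hle'))).symm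
        exact Ideal.comap_ne_top φ hq'.ne_top
      have : q = q' := hc q q' hq hq' (hqm.trans hq'm.symm)
      exact hsq (this ▸ hle' (Ideal.mem_sup_left (Ideal.subset_span rfl)))
    obtain ⟨u, hu, e, he, hue⟩ := Submodule.mem_sup.mp (hsup ▸ Submodule.mem_top : (1 : B) ∈ _)
    obtain ⟨t, rfl⟩ := Ideal.mem_span_singleton'.mp hu
    have : b - φ a = t * (s * (b - φ a)) + e * (b - φ a) := by
      linear_combination (-(b - φ a)) * hue
    rw [this]
    exact add_mem (Ideal.mul_mem_left _ _ hsc) (Ideal.mul_mem_right _ _ he)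
  -- the cokernel vanishes
  let N : Submodule A B := LinearMap.range (Algebra.linearMap A B)
  have hfinB : Module.Finite A B := hfin
  have hsub : Subsingleton (B ⧸ N) := by
    refine subsingleton_of_forall_maximal (A := A) fun m hm => ?_
    rintro x -
    obtain ⟨b, rfl⟩ := Submodule.Quotient.mk_surjective N x
    obtain ⟨a, hab⟩ := key m hm b
    have h1 : (Submodule.Quotient.mk b : B ⧸ N) = Submodule.Quotient.mk (b - φ a) := by
      rw [Submodule.Quotient.eq]
      exact ⟨a, by simp [hφ]⟩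
    rw [h1]
    -- `m.map φ` maps into `m • ⊤`
    have h2 : ∀ z ∈ m.map φ, (Submodule.Quotient.mk z : B ⧸ N) ∈ m • (⊤ : Submodule A (B ⧸ N)) := by
      intro z hz
      have hz' : z ∈ m • (⊤ : Submodule A B) := by
        rw [Ideal.smul_top_eq_map]; exact hz
      have h3 : N.mkQ z ∈ (m • (⊤ : Submodule A B)).map N.mkQ := Submodule.mem_map_of_mem hz'
      rw [Submodule.map_smul''] at h3
      exact Submodule.smul_mono le_rfl le_top h3
    exact h2 _ hab
  intro b
  have : (Submodule.Quotient.mk b : B ⧸ N) = 0 := Subsingleton.elim _ _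
  rw [Submodule.Quotient.mk_eq_zero] at this
  obtain ⟨a, ha⟩ := this
  exact ⟨a, ha⟩


end ci3


section ci4



theorem exists_closedPoint_of_isMaximal [JacobsonSpace X] {V : X.Opens} (hV : IsAffineOpen V)
    (q : Ideal Γ(X, V)) (hq : q.IsMaximal) :
    ∃ (P : X) (hP : P ∈ V), IsClosed ({P} : Set X) ∧ (hV.primeIdealOf ⟨P, hP⟩).asIdeal = q := by
  let y : PrimeSpectrum Γ(X, V) := ⟨q, hq.isPrime⟩
  have hyV : hV.fromSpec y ∈ V := by
    have := hV.range_fromSpec
    have h2 : hV.fromSpec y ∈ Set.range hV.fromSpec := ⟨y, rfl⟩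
    rw [this] at h2
    exact h2
  refine ⟨hV.fromSpec y, hyV, ?_, ?_⟩
  · apply isClosed_singleton_of_isLocallyClosed_singleton
    have hcl : IsClosed ({y} : Set (PrimeSpectrum Γ(X, V))) :=
      (PrimeSpectrum.isClosed_singleton_iff_isMaximal y).mpr hq
    have hemb : Topology.IsOpenEmbedding hV.fromSpec := hV.fromSpec.isOpenEmbedding
    have := hcl.isLocallyClosed.image hemb.isInducing hemb.isOpen_range.isLocallyClosed
    rwa [Set.image_singleton] at this
  · have h1 : hV.fromSpec (hV.primeIdealOf ⟨hV.fromSpec y, hyV⟩) = hV.fromSpec y :=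
      hV.fromSpec_primeIdealOf ⟨hV.fromSpec y, hyV⟩
    have h2 := hV.fromSpec.isOpenEmbedding.injective h1
    rw [h2]


end ci4


section ci5



theorem comap_primeIdealOf_app (f : X ⟶ Y) {U : Y.Opens} (hU : IsAffineOpen U)
    (hV : IsAffineOpen (f ⁻¹ᵁ U)) (P : X) (hP : P ∈ f ⁻¹ᵁ U) :
    ((hV.primeIdealOf ⟨P, hP⟩).asIdeal).comap (f.app U).hom = (hU.primeIdealOf ⟨f P, hP⟩).asIdeal := by
  have h := IsAffineOpen.comap_primeIdealOf_appLE (f := f) U hU (f ⁻¹ᵁ U) hV le_rfl hP
  have h2 := congrArg PrimeSpectrum.asIdeal h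
  rw [← h2]
  rw [Scheme.Hom.app_eq_appLE]
  rfl

theorem exists_mul_mem_of_map_maximalIdeal (f : X ⟶ Y) {U : Y.Opens} (hU : IsAffineOpen U)
    (hV : IsAffineOpen (f ⁻¹ᵁ U)) (P : X) (hP : P ∈ f ⁻¹ᵁ U)
    (hmax : (IsLocalRing.maximalIdeal (Y.presheaf.stalk (f P))).map (f.stalkMap P).hom =
      IsLocalRing.maximalIdeal (X.presheaf.stalk P))
    (c : Γ(X, f ⁻¹ᵁ U)) (hc : c ∈ (hV.primeIdealOf ⟨P, hP⟩).asIdeal) :
    ∃ s, s ∉ (hV.primeIdealOf ⟨P, hP⟩).asIdeal ∧
      s * c ∈ (((hV.primeIdealOf ⟨P, hP⟩).asIdeal).comap (f.app U).hom).map (f.app U).hom := by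
  rw [comap_primeIdealOf_app f hU hV P hP]
  set q := (hV.primeIdealOf ⟨P, hP⟩).asIdeal with hq
  set m := (hU.primeIdealOf ⟨f P, hP⟩).asIdeal with hm
  letI := X.presheaf.algebra_section_stalk (U := f ⁻¹ᵁ U) ⟨P, hP⟩
  haveI := hV.isLocalization_stalk ⟨P, hP⟩
  letI := Y.presheaf.algebra_section_stalk (U := U) ⟨f P, hP⟩
  haveI := hU.isLocalization_stalk ⟨f P, hP⟩
  have h1 : m.map (Y.presheaf.germ U (f P) hP).hom = IsLocalRing.maximalIdeal (Y.presheaf.stalk (f P)) :=
    IsLocalization.AtPrime.map_eq_maximalIdeal m (Y.presheaf.stalk (f P))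
  have h2 : (X.presheaf.germ (f ⁻¹ᵁ U) P hP).hom c ∈ IsLocalRing.maximalIdeal (X.presheaf.stalk P) :=
    (IsLocalization.AtPrime.to_map_mem_maximal_iff (X.presheaf.stalk P) q c).mpr hc
  rw [← hmax, ← h1, Ideal.map_map] at h2
  have h3 : (f.stalkMap P).hom.comp (Y.presheaf.germ U (f P) hP).hom =
      (X.presheaf.germ (f ⁻¹ᵁ U) P hP).hom.comp (f.app U).hom := by
    rw [← CommRingCat.hom_comp, ← CommRingCat.hom_comp, Scheme.Hom.germ_stalkMap]
  rw [h3, ← Ideal.map_map] at h2
  have h4 := (IsLocalization.mem_map_algebraMap_iff q.primeCompl (X.presheaf.stalk P)).mp h2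
  obtain ⟨⟨⟨i, hi⟩, ⟨s, hs⟩⟩, h5⟩ := h4
  simp only at h5
  have h6 : algebraMap Γ(X, f ⁻¹ᵁ U) (X.presheaf.stalk P) (c * s) =
      algebraMap Γ(X, f ⁻¹ᵁ U) (X.presheaf.stalk P) i := by
    rw [map_mul]; exact h5
  obtain ⟨⟨t, ht⟩, h7⟩ := (IsLocalization.eq_iff_exists q.primeCompl (X.presheaf.stalk P)).mp h6
  simp only at h7
  refine ⟨t * s, ?_, ?_⟩
  · exact fun h => (Ideal.IsPrime.mem_or_mem inferInstance h).elim ht hs
  · have : t * s * c = t * i := by rw [← h7]; ring
    rw [this]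
    exact Ideal.mul_mem_left _ _ hi


theorem exists_sub_mem_of_residue_surjective (f : X ⟶ Y) {U : Y.Opens} (hU : IsAffineOpen U)
    (hV : IsAffineOpen (f ⁻¹ᵁ U)) (P : X) (hP : P ∈ f ⁻¹ᵁ U)
    (hres : Function.Surjective (f.residueFieldMap P).hom)
    (hmaxm : (hU.primeIdealOf ⟨f P, hP⟩).asIdeal.IsMaximal)
    (b : Γ(X, f ⁻¹ᵁ U)) :
    ∃ a : Γ(Y, U), b - (f.app U).hom a ∈ (hV.primeIdealOf ⟨P, hP⟩).asIdeal := by
  have hcomap := comap_primeIdealOf_app f hU hV P hP
  set q := (hV.primeIdealOf ⟨P, hP⟩).asIdeal with hq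
  set m := (hU.primeIdealOf ⟨f P, hP⟩).asIdeal with hm
  letI := X.presheaf.algebra_section_stalk (U := f ⁻¹ᵁ U) ⟨P, hP⟩
  haveI := hV.isLocalization_stalk ⟨P, hP⟩
  letI := Y.presheaf.algebra_section_stalk (U := U) ⟨f P, hP⟩
  haveI := hU.isLocalization_stalk ⟨f P, hP⟩
  obtain ⟨w, hw⟩ := hres ((X.residue P).hom ((X.presheaf.germ (f ⁻¹ᵁ U) P hP).hom b))
  obtain ⟨u, rfl⟩ := Y.residue_surjective (f P) w
  have h1 : (X.residue P).hom ((f.stalkMap P).hom u) =
      (X.residue P).hom ((X.presheaf.germ (f ⁻¹ᵁ U) P hP).hom b) := by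
    rw [← hw]
    have := Scheme.residue_residueFieldMap f P
    exact (congrArg (fun g => g.hom u) this).symm
  have h2 : (X.presheaf.germ (f ⁻¹ᵁ U) P hP).hom b - (f.stalkMap P).hom u ∈
      IsLocalRing.maximalIdeal (X.presheaf.stalk P) := by
    rw [← IsLocalRing.residue_eq_zero_iff, map_sub, sub_eq_zero]
    exact h1.symm
  obtain ⟨⟨a0, ⟨t0, ht0⟩⟩, h3⟩ := IsLocalization.surj m.primeCompl u
  simp only at h3
  -- h3 : u * germ t0 = germ a0
  have h4 : (X.presheaf.germ (f ⁻¹ᵁ U) P hP).hom (b * (f.app U).hom t0 - (f.app U).hom a0) ∈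
      IsLocalRing.maximalIdeal (X.presheaf.stalk P) := by
    have e1 : (f.stalkMap P).hom ((Y.presheaf.germ U (f P) hP).hom t0) =
        (X.presheaf.germ (f ⁻¹ᵁ U) P hP).hom ((f.app U).hom t0) :=
      Scheme.Hom.germ_stalkMap_apply f U P hP t0
    have e2 : (f.stalkMap P).hom ((Y.presheaf.germ U (f P) hP).hom a0) =
        (X.presheaf.germ (f ⁻¹ᵁ U) P hP).hom ((f.app U).hom a0) :=
      Scheme.Hom.germ_stalkMap_apply f U P hP a0
    have e3 : (f.stalkMap P).hom u * (f.stalkMap P).hom ((Y.presheaf.germ U (f P) hP).hom t0) =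
        (f.stalkMap P).hom ((Y.presheaf.germ U (f P) hP).hom a0) := by
      rw [← map_mul]; exact congrArg _ h3
    rw [map_sub, map_mul, ← e1, ← e2, ← e3, ← sub_mul]
    exact Ideal.mul_mem_right _ _ h2
  have h5 : b * (f.app U).hom t0 - (f.app U).hom a0 ∈ q :=
    (IsLocalization.AtPrime.to_map_mem_maximal_iff (X.presheaf.stalk P) q _).mp h4
  obtain ⟨t1, i, hi, h6⟩ := hmaxm.exists_inv ht0
  refine ⟨t1 * a0, ?_⟩
  have hiq : (f.app U).hom i ∈ q := by
    have : i ∈ q.comap (f.app U).hom := hcomap ▸ hi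
    exact this
  have h7 : (f.app U).hom t1 * (f.app U).hom t0 + (f.app U).hom i = 1 := by
    rw [← map_mul, ← map_add, h6, map_one]
  have : b - (f.app U).hom (t1 * a0) =
      (f.app U).hom t1 * (b * (f.app U).hom t0 - (f.app U).hom a0) + b * (f.app U).hom i := by
    rw [map_mul]
    linear_combination (-b) * h7
  rw [this]
  exact add_mem (Ideal.mul_mem_left _ _ h5) (Ideal.mul_mem_left _ _ hiq)


end ci5


section main

theorem app_surjective (pX : X ⟶ Spec (CommRingCat.of k)) (pY : Y ⟶ Spec (CommRingCat.of k))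
    [LocallyOfFiniteType pX] (f : X ⟶ Y) (hf : f ≫ pY = pX) [IsFinite f]
    (hinj : ∀ P Q : X, IsClosed ({P} : Set X) → IsClosed ({Q} : Set X) → f P = f Q → P = Q)
    (hmax : ∀ P : X, IsClosed ({P} : Set X) →
      (IsLocalRing.maximalIdeal (Y.presheaf.stalk (f P))).map (f.stalkMap P).hom =
        IsLocalRing.maximalIdeal (X.presheaf.stalk P))
    (U : Y.Opens) (hU : IsAffineOpen U) : Function.Surjective (f.app U) := by
  have hV : IsAffineOpen (f ⁻¹ᵁ U) := hU.preimage f
  haveI : JacobsonSpace X := LocallyOfFiniteType.jacobsonSpace pX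
  have hfin : (f.app U).hom.Finite := IsFinite.finite_app f U hU
  -- data attached to a maximal ideal
  have hdata : ∀ q : Ideal Γ(X, f ⁻¹ᵁ U), q.IsMaximal →
      ∃ (P : X) (hP : P ∈ f ⁻¹ᵁ U), IsClosed ({P} : Set X) ∧
        (hV.primeIdealOf ⟨P, hP⟩).asIdeal = q := fun q hq =>
    exists_closedPoint_of_isMaximal hV q hq
  refine surjective_of_finite_of_maximal (f.app U).hom hfin ?_ ?_ ?_
  · intro q hq c hc
    obtain ⟨P, hP, hPc, rfl⟩ := hdata q hq
    exact exists_mul_mem_of_map_maximalIdeal f hU hV P hP (hmax P hPc) c hc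
  · intro q hq b
    obtain ⟨P, hP, hPc, rfl⟩ := hdata q hq
    have hm : (hU.primeIdealOf ⟨f P, hP⟩).asIdeal.IsMaximal := by
      rw [← comap_primeIdealOf_app f hU hV P hP]
      exact Ideal.isMaximal_comap_of_isIntegral_of_isMaximal' (f.app U).hom hfin.to_isIntegral _
    exact exists_sub_mem_of_residue_surjective f hU hV P hP
      (residueFieldMap_surjective pX pY f hf P hPc) hm b
  · intro q q' hq hq' hqq'
    obtain ⟨P, hP, hPc, rfl⟩ := hdata q hq
    obtain ⟨P', hP', hPc', rfl⟩ := hdata q' hq'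
    rw [comap_primeIdealOf_app f hU hV P hP, comap_primeIdealOf_app f hU hV P' hP'] at hqq'
    have h1 : hU.primeIdealOf ⟨f P, hP⟩ = hU.primeIdealOf ⟨f P', hP'⟩ := PrimeSpectrum.ext hqq'
    have h2 : f P = f P' := by
      have := congrArg (fun z => hU.fromSpec z) h1
      simpa only [IsAffineOpen.fromSpec_primeIdealOf] using this
    have h3 : P = P' := hinj P P' hPc hPc' h2
    subst h3
    rfl

/-- **Closed immersion criterion**: a morphism from a proper `k`-scheme to a separated `k`-scheme (`k`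
algebraically closed) which is injective on closed points and unramified at closed points
(`𝔪_{f P} 𝒪_{X,P} = 𝔪_P`) is a closed immersion. -/
theorem isClosedImmersion_of_closedPoints (pX : X ⟶ Spec (CommRingCat.of k))
    (pY : Y ⟶ Spec (CommRingCat.of k)) [IsProper pX] [IsSeparated pY] (f : X ⟶ Y) (hf : f ≫ pY = pX)
    (hinj : ∀ P Q : X, IsClosed ({P} : Set X) → IsClosed ({Q} : Set X) → f P = f Q → P = Q)
    (hmax : ∀ P : X, IsClosed ({P} : Set X) →
      (IsLocalRing.maximalIdeal (Y.presheaf.stalk (f P))).map (f.stalkMap P).hom =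
        IsLocalRing.maximalIdeal (X.presheaf.stalk P)) :
    IsClosedImmersion f := by
  haveI : IsProper (f ≫ pY) := hf ▸ inferInstance
  haveI : IsProper f := IsProper.of_comp f pY
  haveI : CompactSpace X := QuasiCompact.compactSpace_of_compactSpace pX
  haveI : IsFinite f := by
    refine isFinite_of_closedPoints f fun P hP => ?_
    exact quasiFiniteAt_of_map_maximalIdeal f P (residueFieldMap_surjective pX pY f hf P hP) (hmax P hP)
  rw [isClosedImmersion_iff_isAffineHom]
  exact ⟨inferInstance, fun U hU => app_surjective pX pY f hf hinj hmax U hU⟩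

end main

end Groth.Agent.Lib.T3H9.CI
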