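import Groth.Agent.Lib.T2H9PicPn1
import Groth.Agent.Lib.Helper13ProjUPb
import Groth.Agent.Lib.Helper27PnSections

set_option autoImplicit false
set_option linter.unusedSectionVars false
set_option linter.style.haveILetI false
universe u

open CategoryTheory CategoryTheory.Limits AlgebraicGeometry TopologicalSpace Opposite
  HomogeneousLocalization MvPolynomial
open Groth.Agent.Helper13Dehom Groth.Agent.Helper13ProjUP

namespace Groth.Agent.Lib.T3H9.CI

open Groth.Agent.Lib.T2H9.PicPn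

section poly

variable {σ : Type*} {k : Type*} [CommRing k]

theorem sub_C_eval_mem_span (a : σ → k) (p : MvPolynomial σ k) :
    p - C (eval a p) ∈ Ideal.span (Set.range fun j : σ => (X j - C (a j) : MvPolynomial σ k)) := by
  induction p using MvPolynomial.induction_on with
  | C c => simp
  | add p q hp hq =>
    have : p + q - C (eval a (p + q)) = (p - C (eval a p)) + (q - C (eval a q)) := by
      rw [map_add, map_add]; ring
    rw [this]
    exact add_mem hp hq
  | mul_X p j hp =>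
    have : p * X j - C (eval a (p * X j)) = (p - C (eval a p)) * X j + C (eval a p) * (X j - C (a j)) := by
      rw [map_mul, eval_X, map_mul]; ring
    rw [this]
    exact add_mem (Ideal.mul_mem_right _ _ hp)
      (Ideal.mul_mem_left _ _ (Ideal.subset_span ⟨j, rfl⟩))

end poly


section chart

variable (n : ℕ) (k : Type u) [Field k] [IsAlgClosed k]

/-- a closed point of `D₊(T_i) ⊆ P^n_k` is cut out by the functions `T_j/T_i - a_j`. -/
theorem exists_primeIdealOf_eq_span (i : Fin (n + 1)) (y : PS n k) (hy : y ∈ U n k i)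
    (hyc : IsClosed ({y} : Set (PS n k))) :
    ∃ a : Fin (n + 1) → k,
      ((isAffineOpen_basicOpen (hX n k i)).primeIdealOf ⟨y, hy⟩).asIdeal =
        Ideal.span (Set.range fun j => dehom (hX n k i) (X j - C (a j))) := by
  set hU := isAffineOpen_basicOpen (hX n k i) with hU_def
  set 𝔮 := (hU.primeIdealOf ⟨y, hy⟩).asIdeal with h𝔮
  have hmax : 𝔮.IsMaximal := hU.primeIdealOf_isMaximal_of_isClosed ⟨y, hy⟩ hyc
  let δ := dehom (hX n k i)
  letI : Field (Γ(PS n k, U n k i) ⧸ 𝔮) := Ideal.Quotient.field 𝔮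
  let ψ : MvPolynomial (Fin (n + 1)) k →+* (Γ(PS n k, U n k i) ⧸ 𝔮) := (Ideal.Quotient.mk 𝔮).comp δ
  have hψ : Function.Surjective ψ := by
    intro z
    obtain ⟨b, rfl⟩ := Ideal.Quotient.mk_surjective z
    obtain ⟨j, a, -, rfl⟩ := exists_dehom_eq (hX n k i) b
    exact ⟨a, rfl⟩
  letI : Algebra k (Γ(PS n k, U n k i) ⧸ 𝔮) := (ψ.comp C).toAlgebra
  let ψa : MvPolynomial (Fin (n + 1)) k →ₐ[k] (Γ(PS n k, U n k i) ⧸ 𝔮) :=
    { ψ with commutes' := fun c => rfl }
  haveI : Algebra.FiniteType k (Γ(PS n k, U n k i) ⧸ 𝔮) :=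
    Algebra.FiniteType.of_surjective ψa hψ
  haveI : Module.Finite k (Γ(PS n k, U n k i) ⧸ 𝔮) := finite_of_finite_type_of_isJacobsonRing k _
  have hbij := IsAlgClosed.algebraMap_bijective_of_isIntegral (k := k)
    (K := Γ(PS n k, U n k i) ⧸ 𝔮)
  choose a ha using fun j => hbij.2 (ψ (X j))
  refine ⟨a, ?_⟩
  have hmem : ∀ j, δ (X j - C (a j)) ∈ 𝔮 := by
    intro j
    rw [← Ideal.Quotient.eq_zero_iff_mem]
    change ψ (X j - C (a j)) = 0
    rw [map_sub, sub_eq_zero]
    exact (ha j).symm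
  apply le_antisymm
  · intro b hb
    obtain ⟨j, p, -, rfl⟩ := exists_dehom_eq (hX n k i) b
    have h1 := sub_C_eval_mem_span a p
    have h2 : δ (p - C (eval a p)) ∈
        Ideal.span (Set.range fun j => δ (X j - C (a j))) := by
      have := Ideal.mem_map_of_mem δ h1
      rw [Ideal.map_span] at this
      convert this using 2
      ext z
      simp only [Set.mem_range, Set.mem_image]
      constructor
      · rintro ⟨j, rfl⟩; exact ⟨_, ⟨j, rfl⟩, rfl⟩
      · rintro ⟨_, ⟨j, rfl⟩, rfl⟩; exact ⟨j, rfl⟩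
    have h3 : δ (C (eval a p)) ∈ 𝔮 := by
      have h4 : δ (p - C (eval a p)) ∈ 𝔮 :=
        (Ideal.span_le.mpr (by rintro _ ⟨j, rfl⟩; exact hmem j)) h2
      have : δ (C (eval a p)) = δ p - δ (p - C (eval a p)) := by rw [map_sub]; ring
      rw [this]
      exact sub_mem hb h4
    have h5 : eval a p = 0 := by
      by_contra hne
      have : δ (C (eval a p)) * δ (C (eval a p)⁻¹) = 1 := by
        rw [← map_mul, ← map_mul, mul_inv_cancel₀ hne, map_one, map_one]
      exact hmax.ne_top ((Ideal.eq_top_iff_one _).mpr (this ▸ Ideal.mul_mem_right _ _ h3))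
    rw [h5, map_zero, sub_zero] at h2
    exact h2
  · exact Ideal.span_le.mpr (by rintro _ ⟨j, rfl⟩; exact hmem j)

/-- for a linear form `ℓ`, the function `ℓ/T_i` vanishes at `y` iff `ℓ` lies in the homogeneous prime of `y`. -/
theorem dehom_mem_primeIdealOf_iff (i : Fin (n + 1)) (y : PS n k) (hy : y ∈ U n k i)
    {ℓ : MvPolynomial (Fin (n + 1)) k} (hℓ : ℓ ∈ PG n k 1) :
    dehom (hX n k i) ℓ ∈ ((isAffineOpen_basicOpen (hX n k i)).primeIdealOf ⟨y, hy⟩).asIdeal ↔
      ℓ ∈ (y : ProjectiveSpectrum (PG n k)).asHomogeneousIdeal := by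
  set hU := isAffineOpen_basicOpen (hX n k i) with hU_def
  letI := (PS n k).presheaf.algebra_section_stalk (U := U n k i) ⟨y, hy⟩
  haveI := hU.isLocalization_stalk ⟨y, hy⟩
  rw [← IsLocalization.AtPrime.to_map_mem_maximal_iff ((PS n k).presheaf.stalk y)
    (hU.primeIdealOf ⟨y, hy⟩).asIdeal]
  rw [IsLocalRing.mem_maximalIdeal, mem_nonunits_iff]
  have h1 : IsUnit (algebraMap Γ(PS n k, U n k i) ((PS n k).presheaf.stalk y) (dehom (hX n k i) ℓ)) ↔
      y ∈ (PS n k).basicOpen (dehom (hX n k i) ℓ) :=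
    ((PS n k).mem_basicOpen (dehom (hX n k i) ℓ) y hy).symm
  rw [h1, basicOpen_dehom hℓ (hX n k i)]
  constructor
  · intro h
    by_contra hne
    exact h ⟨(Proj.mem_basicOpen _ _ _).mpr hne, hy⟩
  · intro h h2
    exact (Proj.mem_basicOpen _ _ _).mp h2.1 h

/-- the linear form `T_j - a_j T_i`. -/
noncomputable def lf (i : Fin (n + 1)) (a : Fin (n + 1) → k) (j : Fin (n + 1)) :
    MvPolynomial (Fin (n + 1)) k := X j - C (a j) * X i

theorem lf_mem (i : Fin (n + 1)) (a : Fin (n + 1) → k) (j : Fin (n + 1)) : lf n k i a j ∈ PG n k 1 := by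
  unfold lf
  refine Submodule.sub_mem _ (hX n k j) ?_
  have := (isHomogeneous_C (Fin (n + 1)) (a j)).mul (isHomogeneous_X k i)
  simpa using this

theorem dehom_lf (i : Fin (n + 1)) (a : Fin (n + 1) → k) (j : Fin (n + 1)) :
    dehom (hX n k i) (lf n k i a j) = dehom (hX n k i) (X j - C (a j)) := by
  unfold lf
  rw [map_sub, map_sub, map_mul, dehom_self, mul_one]

/-- the closed points of `P^n_k` are `k`-rational: the prime of functions on `D₊(T_i)` vanishing at `y` is generated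
by the `ℓ/T_i` for linear forms `ℓ` vanishing at `y`. -/
theorem exists_lf (i : Fin (n + 1)) (y : PS n k) (hy : y ∈ U n k i)
    (hyc : IsClosed ({y} : Set (PS n k))) :
    ∃ a : Fin (n + 1) → k,
      ((isAffineOpen_basicOpen (hX n k i)).primeIdealOf ⟨y, hy⟩).asIdeal =
        Ideal.span (Set.range fun j => dehom (hX n k i) (lf n k i a j)) ∧
      ∀ j, lf n k i a j ∈ (y : ProjectiveSpectrum (PG n k)).asHomogeneousIdeal := by
  obtain ⟨a, ha⟩ := exists_primeIdealOf_eq_span n k i y hy hyc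
  have ha' : ((isAffineOpen_basicOpen (hX n k i)).primeIdealOf ⟨y, hy⟩).asIdeal =
        Ideal.span (Set.range fun j => dehom (hX n k i) (lf n k i a j)) := by
    rw [ha]
    congr 2
    funext j
    exact (dehom_lf n k i a j).symm
  refine ⟨a, ha', fun j => ?_⟩
  rw [← dehom_mem_primeIdealOf_iff n k i y hy (lf_mem n k i a j), ha']
  exact Ideal.subset_span ⟨j, rfl⟩

/-- linear forms separate the closed points of `P^n_k`. -/
theorem exists_linear_separating (y y' : PS n k) (hyc : IsClosed ({y} : Set (PS n k)))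
    (hne : y ≠ y') :
    ∃ ℓ ∈ PG n k 1, ℓ ∈ (y : ProjectiveSpectrum (PG n k)).asHomogeneousIdeal ∧
      ℓ ∉ (y' : ProjectiveSpectrum (PG n k)).asHomogeneousIdeal := by
  by_contra hcon
  push Not at hcon
  obtain ⟨i, hi⟩ := Groth.Agent.Lib.Helper27PnSections.exists_X_not_mem n k y
  have hy : y ∈ U n k i := (Proj.mem_basicOpen _ _ _).mpr hi
  obtain ⟨a, ha, hmem⟩ := exists_lf n k i y hy hyc
  have hmem' : ∀ j, lf n k i a j ∈ (y' : ProjectiveSpectrum (PG n k)).asHomogeneousIdeal :=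
    fun j => hcon _ (lf_mem n k i a j) (hmem j)
  have hi' : (X i : MvPolynomial (Fin (n + 1)) k) ∉
      (y' : ProjectiveSpectrum (PG n k)).asHomogeneousIdeal := by
    intro hXi
    obtain ⟨j, hj⟩ := Groth.Agent.Lib.Helper27PnSections.exists_X_not_mem n k y'
    apply hj
    have : (X j : MvPolynomial (Fin (n + 1)) k) = lf n k i a j + C (a j) * X i := by
      unfold lf; ring
    rw [this]
    exact add_mem (hmem' j) (Ideal.mul_mem_left _ _ hXi)
  have hy' : y' ∈ U n k i := (Proj.mem_basicOpen _ _ _).mpr hi'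
  set hU := isAffineOpen_basicOpen (hX n k i) with hU_def
  have hle : (hU.primeIdealOf ⟨y, hy⟩).asIdeal ≤ (hU.primeIdealOf ⟨y', hy'⟩).asIdeal := by
    rw [ha, Ideal.span_le]
    rintro _ ⟨j, rfl⟩
    exact (dehom_mem_primeIdealOf_iff n k i y' hy' (lf_mem n k i a j)).mpr (hmem' j)
  have hmax : (hU.primeIdealOf ⟨y, hy⟩).asIdeal.IsMaximal :=
    hU.primeIdealOf_isMaximal_of_isClosed ⟨y, hy⟩ hyc
  have heq : (hU.primeIdealOf ⟨y, hy⟩).asIdeal = (hU.primeIdealOf ⟨y', hy'⟩).asIdeal :=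
    hmax.eq_of_le (hU.primeIdealOf ⟨y', hy'⟩).isPrime.ne_top hle
  have h1 : hU.primeIdealOf ⟨y, hy⟩ = hU.primeIdealOf ⟨y', hy'⟩ := PrimeSpectrum.ext heq
  have h2 := congrArg (fun z => hU.fromSpec z) h1
  simp only [IsAffineOpen.fromSpec_primeIdealOf] at h2
  exact hne h2

/-- the maximal ideal of the local ring of `P^n_k` at a closed point `y ∈ D₊(T_i)` is generated by the germs of
`ℓ/T_i`, `ℓ` a linear form vanishing at `y`. -/
theorem maximalIdeal_eq_span (i : Fin (n + 1)) (y : PS n k) (hy : y ∈ U n k i)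
    (hyc : IsClosed ({y} : Set (PS n k))) :
    IsLocalRing.maximalIdeal ((PS n k).presheaf.stalk y) =
      Ideal.span {t | ∃ ℓ ∈ PG n k 1, ℓ ∈ (y : ProjectiveSpectrum (PG n k)).asHomogeneousIdeal ∧
        t = ((PS n k).presheaf.germ (U n k i) y hy).hom (dehom (hX n k i) ℓ)} := by
  obtain ⟨a, ha, hmem⟩ := exists_lf n k i y hy hyc
  set hU := isAffineOpen_basicOpen (hX n k i) with hU_def
  letI := (PS n k).presheaf.algebra_section_stalk (U := U n k i) ⟨y, hy⟩
  haveI := hU.isLocalization_stalk ⟨y, hy⟩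
  have h1 : (hU.primeIdealOf ⟨y, hy⟩).asIdeal.map ((PS n k).presheaf.germ (U n k i) y hy).hom =
      IsLocalRing.maximalIdeal ((PS n k).presheaf.stalk y) :=
    IsLocalization.AtPrime.map_eq_maximalIdeal (hU.primeIdealOf ⟨y, hy⟩).asIdeal
      ((PS n k).presheaf.stalk y)
  apply le_antisymm
  · rw [← h1, ha, Ideal.map_span, Ideal.span_le]
    rintro _ ⟨_, ⟨j, rfl⟩, rfl⟩
    exact Ideal.subset_span ⟨lf n k i a j, lf_mem n k i a j, hmem j, rfl⟩
  · rw [Ideal.span_le]
    rintro _ ⟨ℓ, hℓ, hℓy, rfl⟩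
    rw [← h1]
    exact Ideal.mem_map_of_mem _ ((dehom_mem_primeIdealOf_iff n k i y hy hℓ).mpr hℓy)

end chart

end Groth.Agent.Lib.T3H9.CI
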