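import Groth.Agent.Lib.T2H9AutPn3
import Groth.Agent.Lib.T2H4PullStalk
import Groth.Agent.Lib.Helper13ProjUPb

set_option autoImplicit false
set_option linter.unusedSectionVars false
set_option linter.style.haveILetI false
set_option linter.unusedVariables false
universe u

open CategoryTheory CategoryTheory.Limits AlgebraicGeometry TopologicalSpace Opposite
  HomogeneousLocalization MvPolynomial
open Groth.Agent.Helper13Dehom Groth.Agent.Helper13ProjUP
open Groth.Agent.Lib.Helper27GrTildeSect Groth.Agent.Lib.Helper6 Groth.Agent.Lib.Helper23.SecTw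
open Groth.Agent.Lib.T3H9.Rig Groth.Agent.Lib.T3H9.Hyp Groth.Agent.Lib.T2H4.PullStalk

namespace Groth.Agent.Lib.T3H9.CI

open Groth.Agent.Lib.T2H9.PicPn

variable (n : ℕ) (k : Type u) [Field k] {S : Scheme.{u}}

/-- the linear form with coefficients `c`. -/
noncomputable def lin (c : Fin (n + 1) → k) : MvPolynomial (Fin (n + 1)) k :=
  ∑ j ∈ Finset.univ, c j • (X j : MvPolynomial (Fin (n + 1)) k)

theorem lin_mem (c : Fin (n + 1) → k) : lin n k c ∈ PG n k 1 :=
  Submodule.sum_mem _ (fun j _ => Submodule.smul_mem _ (c j) (hX n k j))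

/-- the section `Σ c_j f^* T_j` of `f^* O(1)`. -/
noncomputable def sc (pX : S ⟶ Spec (CommRingCat.of k)) (f : S ⟶ CohB1.ProjSpace n k)
    (c : Fin (n + 1) → k) :
    ProjUP.Γm ((Scheme.Modules.pullback f).obj (Twist.twistProjSpace n k 1)) :=
  ∑ j, ProjUP.toGlobal pX (c j) • ProjUP.pullSec f (Twist.twistProjSpace n k 1) (ProjUP.coord n k j)

theorem sc_eq_pullSec (pX : S ⟶ Spec (CommRingCat.of k)) (f : S ⟶ CohB1.ProjSpace n k)
    (hf : f ≫ CohB1.ProjSpace.toSpec n k = pX) (c : Fin (n + 1) → k) :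
    sc n k pX f c = ProjUP.pullSec f (Twist.twistProjSpace n k 1)
      (gsec (PG n k) 1 ⊤ (lin_mem n k c)) := by
  have h1 := pullSec_comb f (CohB1.ProjSpace.toSpec n k) (Dat.univ n k) c
  rw [Groth.Agent.Lib.T2H9.AutPn.comb_eq_gsec] at h1
  rw [hf] at h1
  exact h1.symm.trans (by congr 1)


/-- the generator of the stalk of `f^* O(1)` at `P` attached to the chart `D₊(T_i) ∋ f P`. -/
noncomputable def eps (f : S ⟶ CohB1.ProjSpace n k) (P : S) (i : Fin (n + 1)) (hP : f P ∈ U n k i) :
    ((Scheme.Modules.pullback f).obj (Twist.twistProjSpace n k 1)).presheaf.stalk P :=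
  (pullStalk f (Twist.twistProjSpace n k 1) P).hom
    ((Twist.twistProjSpace n k 1).presheaf.germ (U n k i) (f P) hP
      (gsec (PG n k) 1 (U n k i) (hX n k i)))

theorem germ_sc (pX : S ⟶ Spec (CommRingCat.of k)) (f : S ⟶ CohB1.ProjSpace n k)
    (hf : f ≫ CohB1.ProjSpace.toSpec n k = pX) (P : S) (i : Fin (n + 1)) (hP : f P ∈ U n k i)
    (c : Fin (n + 1) → k) :
    (((Scheme.Modules.pullback f).obj (Twist.twistProjSpace n k 1)).presheaf.germ ⊤ P trivial).hom
        (sc n k pX f c) =
      (f.stalkMap P).hom (((CohB1.ProjSpace n k).presheaf.germ (U n k i) (f P) hP).hom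
        (dehom (hX n k i) (lin n k c))) • eps n k f P i hP := by
  rw [sc_eq_pullSec n k pX f hf, pullSec_eq_unitSec]
  have h1 := pullStalk_germ f (Twist.twistProjSpace n k 1) P ⊤ trivial
    (gsec (PG n k) 1 ⊤ (lin_mem n k c))
  refine h1.symm.trans ?_
  have h2 : (Twist.twistProjSpace n k 1).presheaf.germ ⊤ (f P) trivial
        (gsec (PG n k) 1 ⊤ (lin_mem n k c)) =
      ((CohB1.ProjSpace n k).presheaf.germ (U n k i) (f P) hP).hom (dehom (hX n k i) (lin n k c)) •
        (Twist.twistProjSpace n k 1).presheaf.germ (U n k i) (f P) hP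
          (gsec (PG n k) 1 (U n k i) (hX n k i)) := by
    have e1 : (Twist.twistProjSpace n k 1).presheaf.germ ⊤ (f P) trivial
        (gsec (PG n k) 1 ⊤ (lin_mem n k c)) =
        (Twist.twistProjSpace n k 1).presheaf.germ (U n k i) (f P) hP
          (gsec (PG n k) 1 (U n k i) (lin_mem n k c)) :=
      (TopCat.Presheaf.germ_res_apply (Twist.twistProjSpace n k 1).presheaf
        (homOfLE (le_top : U n k i ≤ ⊤)) (f P) hP (gsec (PG n k) 1 ⊤ (lin_mem n k c))).symm
    rw [e1]
    have e2 := gsec_eq_smul (hX n k i) (lin_mem n k c) (le_refl (U n k i))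
    have e3 : resO (le_refl (U n k i)) (dehom (hX n k i) (lin n k c)) = dehom (hX n k i) (lin n k c) := by
      change ((PS n k).presheaf.map (𝟙 _)).hom _ = _
      rw [(PS n k).presheaf.map_id]
      rfl
    rw [e3] at e2
    have e4 := Groth.Agent.Lib.Helper2.QCoh.germ_smul (Twist.twistProjSpace n k 1) (f P) (U n k i) hP
      (dehom (hX n k i) (lin n k c)) (gsec (PG n k) 1 (U n k i) (hX n k i))
    exact (congrArg _ e2).trans e4
  rw [h2]
  exact pullStalk_smul f (Twist.twistProjSpace n k 1) P _ _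


theorem bijective_smul_eps (f : S ⟶ CohB1.ProjSpace n k) (P : S) (i : Fin (n + 1))
    (hP : f P ∈ U n k i) :
    Function.Bijective (fun t : S.presheaf.stalk P => t • eps n k f P i hP) := by
  have he := isGen_gsec (𝒜 := PG n k) 1 (hX n k i)
  have hb := bijective_smul_germ_of_isGen (Twist.twistProjSpace n k 1) (U n k i)
    (gsec (PG n k) 1 (U n k i) (hX n k i)) he (f P) hP
  exact bijective_smul_pullStalk f (Twist.twistProjSpace n k 1)
    (Groth.Agent.Lib.T2H5.Twist.isInvertible_twist n k 1) P _ hb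

end Groth.Agent.Lib.T3H9.CI
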