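import Mathlib

set_option autoImplicit false
universe u

namespace Groth.Agent.Lib.T3H9.CI

section modgen

variable {R M : Type*} [CommRing R] [AddCommGroup M] [Module R M] (ε : M)
  (hε : Function.Bijective (fun t : R => t • ε))

include hε

theorem smul_top_eq_map (I : Ideal R) :
    (I • (⊤ : Submodule R M)) = Submodule.map (LinearMap.toSpanSingleton R M ε) I := by
  have hsurj : LinearMap.range (LinearMap.toSpanSingleton R M ε) = ⊤ :=
    LinearMap.range_eq_top.mpr hε.2
  rw [← hsurj, LinearMap.range_eq_map, ← Submodule.map_smul'']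
  congr 1
  simp

theorem smul_mem_smul_top_iff (I : Ideal R) (t : R) :
    t • ε ∈ (I • (⊤ : Submodule R M)) ↔ t ∈ I := by
  rw [smul_top_eq_map ε hε]
  constructor
  · rintro ⟨u, hu, hut⟩
    have : u = t := hε.1 hut
    exact this ▸ hu
  · intro ht
    exact ⟨t, ht, rfl⟩

theorem smul_top_le_iff (I J : Ideal R) (T : Set R) :
    (I • (⊤ : Submodule R M)) ≤ Submodule.span R {v | ∃ t ∈ T, v = t • ε} ⊔ J • (⊤ : Submodule R M) ↔
      I ≤ Ideal.span T ⊔ J := by
  have hspan : Submodule.span R {v | ∃ t ∈ T, v = t • ε} =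
      Submodule.map (LinearMap.toSpanSingleton R M ε) (Ideal.span T) := by
    rw [Ideal.span, Submodule.map_span]
    congr 1
    ext v
    simp only [Set.mem_setOf_eq, Set.mem_image, LinearMap.toSpanSingleton_apply]
    constructor
    · rintro ⟨t, ht, rfl⟩; exact ⟨t, ht, rfl⟩
    · rintro ⟨t, ht, rfl⟩; exact ⟨t, ht, rfl⟩
  rw [hspan, smul_top_eq_map ε hε, smul_top_eq_map ε hε, ← Submodule.map_sup]
  exact Submodule.map_le_map_iff_of_injective (f := LinearMap.toSpanSingleton R M ε) hε.1 _ _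

end modgen

section localhom

variable {A B : Type*} [CommRing A] [CommRing B] [IsLocalRing A] [IsLocalRing B] (φ : A →+* B)
  [IsLocalHom φ]

theorem map_mem_maximalIdeal_iff (a : A) :
    φ a ∈ IsLocalRing.maximalIdeal B ↔ a ∈ IsLocalRing.maximalIdeal A := by
  rw [IsLocalRing.mem_maximalIdeal, IsLocalRing.mem_maximalIdeal, mem_nonunits_iff, mem_nonunits_iff,
    isUnit_map_iff]

theorem map_maximalIdeal_le : (IsLocalRing.maximalIdeal A).map φ ≤ IsLocalRing.maximalIdeal B := by
  rw [Ideal.map_le_iff_le_comap]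
  intro a ha
  exact (map_mem_maximalIdeal_iff φ a).mpr ha

theorem map_maximalIdeal_eq_of_surjective (hφ : Function.Surjective φ) :
    (IsLocalRing.maximalIdeal A).map φ = IsLocalRing.maximalIdeal B := by
  apply le_antisymm (map_maximalIdeal_le φ)
  intro b hb
  obtain ⟨a, rfl⟩ := hφ b
  exact Ideal.mem_map_of_mem φ ((map_mem_maximalIdeal_iff φ a).mp hb)

/-- Nakayama: `𝔪_B ≤ 𝔪_A B + 𝔪_B²` implies `𝔪_A B = 𝔪_B`. -/
theorem map_maximalIdeal_eq_of_le_sup [IsNoetherianRing B]
    (h : IsLocalRing.maximalIdeal B ≤ (IsLocalRing.maximalIdeal A).map φ ⊔ IsLocalRing.maximalIdeal B ^ 2) :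
    (IsLocalRing.maximalIdeal A).map φ = IsLocalRing.maximalIdeal B := by
  apply le_antisymm (map_maximalIdeal_le φ)
  refine Submodule.le_of_le_smul_of_le_jacobson_bot (I := IsLocalRing.maximalIdeal B)
    (IsNoetherian.noetherian _) (IsLocalRing.maximalIdeal_le_jacobson _) ?_
  rw [pow_two] at h
  exact h

end localhom

end Groth.Agent.Lib.T3H9.CI
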