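import Groth.Agent.Lib.T3H9CI1
import Groth.Agent.Lib.T3H9CI2
import Groth.Agent.Lib.T3H9CI3
import Groth.Agent.Lib.T3H9CI4
import Groth.Agent.S9705

set_option autoImplicit false
set_option linter.unusedSectionVars false
set_option linter.style.haveILetI false
set_option linter.unusedVariables false
universe u

open CategoryTheory CategoryTheory.Limits AlgebraicGeometry TopologicalSpace Opposite
  HomogeneousLocalization MvPolynomial
open Groth.Agent.Helper13Dehom Groth.Agent.Helper13ProjUP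
open Groth.Agent.Lib.Helper27GrTildeSect Groth.Agent.Lib.Helper6 Groth.Agent.Lib.Helper23.SecTw

namespace Groth.Agent.Lib.T3H9.CI

open Groth.Agent.Lib.T2H9.PicPn

variable (n : ℕ) (k : Type u) [Field k] [IsAlgClosed k] {S : Scheme.{u}}

/-- abbreviation: the stalk of `f^* O(1)`. -/
noncomputable abbrev LP (f : S ⟶ CohB1.ProjSpace n k) : S.Modules :=
  (Scheme.Modules.pullback f).obj (Twist.twistProjSpace n k 1)

/-- abbreviation: `𝔪_P L_P`. -/
noncomputable abbrev mL (f : S ⟶ CohB1.ProjSpace n k) (P : S) :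
    Submodule ↑(S.presheaf.stalk P) ↑((LP n k f).presheaf.stalk P) :=
  IsLocalRing.maximalIdeal ↑(S.presheaf.stalk P) • (⊤ : Submodule ↑(S.presheaf.stalk P) ↑((LP n k f).presheaf.stalk P))

/-- **Lemma K**: the germ of `Σ c_j f^*T_j` at `P` lies in `𝔪_P L_P` iff the linear form `Σ c_j T_j` vanishes at `f P`. -/
theorem germ_sc_mem_iff (pX : S ⟶ Spec (CommRingCat.of k)) (f : S ⟶ CohB1.ProjSpace n k)
    (hf : f ≫ CohB1.ProjSpace.toSpec n k = pX) (P : S) (c : Fin (n + 1) → k) :
    ((LP n k f).presheaf.germ ⊤ P trivial).hom (sc n k pX f c) ∈ mL n k f P ↔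
      lin n k c ∈ (f P : ProjectiveSpectrum (PG n k)).asHomogeneousIdeal := by
  obtain ⟨i, hi⟩ := Groth.Agent.Lib.Helper27PnSections.exists_X_not_mem n k (f P)
  have hP : f P ∈ U n k i := (Proj.mem_basicOpen _ _ _).mpr hi
  rw [germ_sc n k pX f hf P i hP c]
  rw [smul_mem_smul_top_iff _ (bijective_smul_eps n k f P i hP)]
  rw [map_mem_maximalIdeal_iff]
  rw [← dehom_mem_primeIdealOf_iff n k i (f P) hP (lin_mem n k c)]
  set hU := isAffineOpen_basicOpen (hX n k i) with hU_def
  letI := (PS n k).presheaf.algebra_section_stalk (U := U n k i) ⟨f P, hP⟩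
  haveI := hU.isLocalization_stalk ⟨f P, hP⟩
  exact IsLocalization.AtPrime.to_map_mem_maximal_iff ((PS n k).presheaf.stalk (f P))
    (hU.primeIdealOf ⟨f P, hP⟩).asIdeal _

/-- every linear form is `lin c`. -/
theorem exists_lin_eq (ℓ : MvPolynomial (Fin (n + 1)) k) (hℓ : ℓ ∈ PG n k 1) :
    ∃ c : Fin (n + 1) → k, lin n k c = ℓ := by
  have hb' : ℓ ∈ Submodule.span k (Set.range (MvPolynomial.X : Fin (n + 1) → MvPolynomial (Fin (n + 1)) k)) := by
    rw [← MvPolynomial.homogeneousSubmodule_one_eq_span_X]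
    exact hℓ
  obtain ⟨a, ha⟩ := (Submodule.mem_span_range_iff_exists_fun k).1 hb'
  exact ⟨a, ha⟩

/-- the set of tangent-separating germs, rewritten via the stalk generator. -/
theorem tangentSet_eq (pX : S ⟶ Spec (CommRingCat.of k)) (f : S ⟶ CohB1.ProjSpace n k)
    (hf : f ≫ CohB1.ProjSpace.toSpec n k = pX) (P : S) (i : Fin (n + 1)) (hP : f P ∈ U n k i) :
    {v | ∃ c : Fin (n + 1) → k,
        v = ((LP n k f).presheaf.germ ⊤ P trivial).hom (sc n k pX f c) ∧ v ∈ mL n k f P} =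
      {v | ∃ t ∈ {t | ∃ ℓ ∈ PG n k 1, ℓ ∈ (f P : ProjectiveSpectrum (PG n k)).asHomogeneousIdeal ∧
          t = (f.stalkMap P).hom (((CohB1.ProjSpace n k).presheaf.germ (U n k i) (f P) hP).hom
            (dehom (hX n k i) ℓ))}, v = t • eps n k f P i hP} := by
  ext v
  constructor
  · rintro ⟨c, rfl, hc⟩
    rw [germ_sc_mem_iff n k pX f hf P c] at hc
    exact ⟨_, ⟨lin n k c, lin_mem n k c, hc, rfl⟩, germ_sc n k pX f hf P i hP c⟩
  · rintro ⟨t, ⟨ℓ, hℓ, hmem, rfl⟩, rfl⟩
    obtain ⟨c, rfl⟩ := exists_lin_eq n k ℓ hℓ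
    refine ⟨c, (germ_sc n k pX f hf P i hP c).symm, ?_⟩
    rw [← germ_sc n k pX f hf P i hP c, germ_sc_mem_iff n k pX f hf P c]
    exact hmem


/-- germs of dehomogenized linear forms vanishing at `y` lie in the maximal ideal. -/
theorem germ_dehom_mem_maximalIdeal (i : Fin (n + 1)) (y : PS n k) (hy : y ∈ U n k i)
    (ℓ : MvPolynomial (Fin (n + 1)) k) (hℓ : ℓ ∈ PG n k 1)
    (hmem : ℓ ∈ (y : ProjectiveSpectrum (PG n k)).asHomogeneousIdeal) :
    ((PS n k).presheaf.germ (U n k i) y hy).hom (dehom (hX n k i) ℓ) ∈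
      IsLocalRing.maximalIdeal ((PS n k).presheaf.stalk y) := by
  rw [← dehom_mem_primeIdealOf_iff n k i y hy hℓ] at hmem
  set hU := isAffineOpen_basicOpen (hX n k i) with hU_def
  letI := (PS n k).presheaf.algebra_section_stalk (U := U n k i) ⟨y, hy⟩
  haveI := hU.isLocalization_stalk ⟨y, hy⟩
  exact (IsLocalization.AtPrime.to_map_mem_maximal_iff ((PS n k).presheaf.stalk y)
    (hU.primeIdealOf ⟨y, hy⟩).asIdeal _).mpr hmem

/-- **Theorem A** (the "if" direction of Hartshorne II.7.3, for `X` proper over `k`). -/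
theorem isClosedImmersion_of_separates (pX : S ⟶ Spec (CommRingCat.of k)) [IsProper pX]
    (f : S ⟶ CohB1.ProjSpace n k) (hf : f ≫ CohB1.ProjSpace.toSpec n k = pX)
    (h1 : ∀ P Q : S, IsClosed ({P} : Set S) → IsClosed ({Q} : Set S) → P ≠ Q →
      ∃ c : Fin (n + 1) → k,
        (((LP n k f).presheaf.germ ⊤ P trivial).hom (sc n k pX f c) ∈ mL n k f P ∧
          ((LP n k f).presheaf.germ ⊤ Q trivial).hom (sc n k pX f c) ∉ mL n k f Q) ∨
        (((LP n k f).presheaf.germ ⊤ Q trivial).hom (sc n k pX f c) ∈ mL n k f Q ∧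
          ((LP n k f).presheaf.germ ⊤ P trivial).hom (sc n k pX f c) ∉ mL n k f P))
    (h2 : ∀ P : S, IsClosed ({P} : Set S) →
      mL n k f P ≤ Submodule.span ↑(S.presheaf.stalk P)
        {v | ∃ c : Fin (n + 1) → k,
          v = ((LP n k f).presheaf.germ ⊤ P trivial).hom (sc n k pX f c) ∧ v ∈ mL n k f P} ⊔
        (IsLocalRing.maximalIdeal ↑(S.presheaf.stalk P) ^ 2 •
          (⊤ : Submodule ↑(S.presheaf.stalk P) ↑((LP n k f).presheaf.stalk P)))) :
    IsClosedImmersion f := by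
  haveI : IsProper (CohB1.ProjSpace.toSpec n k) := Groth.Agent.S9705.isProper_projSpace_toSpec n k
  haveI : IsLocallyNoetherian S := LocallyOfFiniteType.isLocallyNoetherian pX
  refine isClosedImmersion_of_closedPoints pX (CohB1.ProjSpace.toSpec n k) f hf ?_ ?_
  · intro P Q hP hQ hPQ
    by_contra hne
    obtain ⟨c, hc⟩ := h1 P Q hP hQ hne
    rw [germ_sc_mem_iff n k pX f hf P c, germ_sc_mem_iff n k pX f hf Q c, hPQ] at hc
    tauto
  · intro P hP
    obtain ⟨i, hi⟩ := Groth.Agent.Lib.Helper27PnSections.exists_X_not_mem n k (f P)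
    have hfP : f P ∈ U n k i := (Proj.mem_basicOpen _ _ _).mpr hi
    have h := h2 P hP
    rw [tangentSet_eq n k pX f hf P i hfP] at h
    rw [smul_top_le_iff _ (bijective_smul_eps n k f P i hfP)] at h
    apply map_maximalIdeal_eq_of_le_sup
    refine h.trans (sup_le_sup_right ?_ _)
    rw [Ideal.span_le]
    rintro t ⟨ℓ, hℓ, hmem, rfl⟩
    exact Ideal.mem_map_of_mem _ (germ_dehom_mem_maximalIdeal n k i (f P) hfP ℓ hℓ hmem)


/-- **Theorem B, part 1** (closed immersions separate points, in the strong asymmetric form). -/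
theorem separates_points_of_isClosedImmersion (pX : S ⟶ Spec (CommRingCat.of k))
    (f : S ⟶ CohB1.ProjSpace n k) [IsClosedImmersion f] (hf : f ≫ CohB1.ProjSpace.toSpec n k = pX)
    (P Q : S) (hP : IsClosed ({P} : Set S)) (hne : P ≠ Q) :
    ∃ c : Fin (n + 1) → k,
      ((LP n k f).presheaf.germ ⊤ P trivial).hom (sc n k pX f c) ∈ mL n k f P ∧
        ((LP n k f).presheaf.germ ⊤ Q trivial).hom (sc n k pX f c) ∉ mL n k f Q := by
  have hfP : IsClosed ({f P} : Set (PS n k)) := by
    have := f.isClosedEmbedding.isClosedMap _ hP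
    rwa [Set.image_singleton] at this
  have hne' : f P ≠ f Q := fun h => hne (f.isClosedEmbedding.injective h)
  obtain ⟨ℓ, hℓ, h1, h2⟩ := exists_linear_separating n k (f P) (f Q) hfP hne'
  obtain ⟨c, rfl⟩ := exists_lin_eq n k ℓ hℓ
  refine ⟨c, ?_, ?_⟩
  · rw [germ_sc_mem_iff n k pX f hf P c]; exact h1
  · rw [germ_sc_mem_iff n k pX f hf Q c]; exact h2

/-- **Theorem B, part 2** (closed immersions separate tangent vectors). -/
theorem separates_tangents_of_isClosedImmersion (pX : S ⟶ Spec (CommRingCat.of k))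
    (f : S ⟶ CohB1.ProjSpace n k) [IsClosedImmersion f] (hf : f ≫ CohB1.ProjSpace.toSpec n k = pX)
    (P : S) (hP : IsClosed ({P} : Set S)) :
    mL n k f P ≤ Submodule.span ↑(S.presheaf.stalk P)
        {v | ∃ c : Fin (n + 1) → k,
          v = ((LP n k f).presheaf.germ ⊤ P trivial).hom (sc n k pX f c) ∧ v ∈ mL n k f P} ⊔
        (IsLocalRing.maximalIdeal ↑(S.presheaf.stalk P) ^ 2 •
          (⊤ : Submodule ↑(S.presheaf.stalk P) ↑((LP n k f).presheaf.stalk P))) := by
  have hfPc : IsClosed ({f P} : Set (PS n k)) := by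
    have := f.isClosedEmbedding.isClosedMap _ hP
    rwa [Set.image_singleton] at this
  obtain ⟨i, hi⟩ := Groth.Agent.Lib.Helper27PnSections.exists_X_not_mem n k (f P)
  have hfP : f P ∈ U n k i := (Proj.mem_basicOpen _ _ _).mpr hi
  rw [tangentSet_eq n k pX f hf P i hfP]
  rw [smul_top_le_iff _ (bijective_smul_eps n k f P i hfP)]
  refine le_sup_of_le_left ?_
  have hsurj : Function.Surjective (f.stalkMap P).hom := f.stalkMap_surjective P
  rw [← map_maximalIdeal_eq_of_surjective (f.stalkMap P).hom hsurj]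
  have hm := maximalIdeal_eq_span n k i (f P) hfP hfPc
  refine (Ideal.map_mono (le_of_eq hm)).trans ?_
  rw [Ideal.map_span]
  apply Ideal.span_mono
  rintro _ ⟨t, ⟨ℓ, hℓ, hmem, rfl⟩, rfl⟩
  exact ⟨ℓ, hℓ, hmem, rfl⟩


/-- properness of `pX` from a closed immersion into a projective space. -/
theorem isProper_of_hproj (pX : S ⟶ Spec (CommRingCat.of k))
    (hproj : ∃ (N : ℕ) (ι : S ⟶ CohB1.ProjSpace N k),
      IsClosedImmersion ι ∧ ι ≫ CohB1.ProjSpace.toSpec N k = pX) : IsProper pX := by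
  obtain ⟨N, ι, hι, rfl⟩ := hproj
  haveI : IsProper (CohB1.ProjSpace.toSpec N k) := Groth.Agent.S9705.isProper_projSpace_toSpec N k
  infer_instance

/-- Hartshorne II.7.3, symmetric form of point separation. -/
theorem isClosedImmersion_iff_sym (pX : S ⟶ Spec (CommRingCat.of k)) [IsProper pX]
    (f : S ⟶ CohB1.ProjSpace n k) (hf : f ≫ CohB1.ProjSpace.toSpec n k = pX) :
    IsClosedImmersion f ↔
      ((∀ P Q : S, IsClosed ({P} : Set S) → IsClosed ({Q} : Set S) → P ≠ Q →
        ∃ c : Fin (n + 1) → k,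
          (((LP n k f).presheaf.germ ⊤ P trivial).hom (sc n k pX f c) ∈ mL n k f P ∧
            ((LP n k f).presheaf.germ ⊤ Q trivial).hom (sc n k pX f c) ∉ mL n k f Q) ∨
          (((LP n k f).presheaf.germ ⊤ Q trivial).hom (sc n k pX f c) ∈ mL n k f Q ∧
            ((LP n k f).presheaf.germ ⊤ P trivial).hom (sc n k pX f c) ∉ mL n k f P)) ∧
      ∀ P : S, IsClosed ({P} : Set S) →
        mL n k f P ≤ Submodule.span ↑(S.presheaf.stalk P)
          {v | ∃ c : Fin (n + 1) → k,
            v = ((LP n k f).presheaf.germ ⊤ P trivial).hom (sc n k pX f c) ∧ v ∈ mL n k f P} ⊔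
          (IsLocalRing.maximalIdeal ↑(S.presheaf.stalk P) ^ 2 •
            (⊤ : Submodule ↑(S.presheaf.stalk P) ↑((LP n k f).presheaf.stalk P)))) := by
  constructor
  · intro h
    refine ⟨fun P Q hP hQ hne => ?_, fun P hP => separates_tangents_of_isClosedImmersion n k pX f hf P hP⟩
    obtain ⟨c, hc⟩ := separates_points_of_isClosedImmersion n k pX f hf P Q hP hne
    exact ⟨c, Or.inl hc⟩
  · rintro ⟨h1, h2⟩
    exact isClosedImmersion_of_separates n k pX f hf h1 h2

/-- Hartshorne II.7.3, asymmetric form of point separation. -/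
theorem isClosedImmersion_iff_asym (pX : S ⟶ Spec (CommRingCat.of k)) [IsProper pX]
    (f : S ⟶ CohB1.ProjSpace n k) (hf : f ≫ CohB1.ProjSpace.toSpec n k = pX) :
    IsClosedImmersion f ↔
      ((∀ P Q : S, IsClosed ({P} : Set S) → IsClosed ({Q} : Set S) → P ≠ Q →
        ∃ c : Fin (n + 1) → k,
          ((LP n k f).presheaf.germ ⊤ P trivial).hom (sc n k pX f c) ∈ mL n k f P ∧
            ((LP n k f).presheaf.germ ⊤ Q trivial).hom (sc n k pX f c) ∉ mL n k f Q) ∧
      ∀ P : S, IsClosed ({P} : Set S) →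
        mL n k f P ≤ Submodule.span ↑(S.presheaf.stalk P)
          {v | ∃ c : Fin (n + 1) → k,
            v = ((LP n k f).presheaf.germ ⊤ P trivial).hom (sc n k pX f c) ∧ v ∈ mL n k f P} ⊔
          (IsLocalRing.maximalIdeal ↑(S.presheaf.stalk P) ^ 2 •
            (⊤ : Submodule ↑(S.presheaf.stalk P) ↑((LP n k f).presheaf.stalk P)))) := by
  constructor
  · intro h
    exact ⟨fun P Q hP hQ hne => separates_points_of_isClosedImmersion n k pX f hf P Q hP hne,
      fun P hP => separates_tangents_of_isClosedImmersion n k pX f hf P hP⟩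
  · rintro ⟨h1, h2⟩
    refine isClosedImmersion_of_separates n k pX f hf (fun P Q hP hQ hne => ?_) h2
    obtain ⟨c, hc⟩ := h1 P Q hP hQ hne
    exact ⟨c, Or.inl hc⟩

end Groth.Agent.Lib.T3H9.CI
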