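import Mathlib

/-!
# Rigidity of isomorphisms on the closed fibre, I: commutative algebra (helper9)

For `A`-algebras `R → S` with `R` Noetherian, `S` finite over `R` and flat over `A`, such that `R/𝔪R → S/𝔪S` is bijective,
and a prime `𝔭 ⊇ 𝔪R`: there is `g ∉ 𝔭` with `g S ⊆ im(R)` and `g · ker = 0` (`exists_good_element`: Nakayama for the
cokernel, equational criterion of flatness + determinant trick for the kernel), so that `R_g → S_g` is bijective
(`bijective_of_good_element`).
-/

set_option autoImplicit false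
set_option linter.style.haveILetI false
set_option linter.unusedVariables false
set_option linter.unusedSectionVars false

namespace Groth.Agent.Lib.T3H9.Rig

open Polynomial

section alg

variable {A R S R₀ S₀ : Type*} [CommRing A] [CommRing R] [CommRing S] [CommRing R₀] [CommRing S₀]
  [Algebra A R] [Algebra A S] [Algebra R S] [IsScalarTower A R S]

/-- an element `≡ 1` modulo an ideal contained in a prime is not in the prime -/
theorem notMem_of_sub_one_mem {I 𝔭 : Ideal R} [𝔭.IsPrime] (hI : I ≤ 𝔭) {r : R} (hr : r - 1 ∈ I) :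
    r ∉ 𝔭 := by
  intro h
  have h1 : (1 : R) ∈ 𝔭 := by
    have := 𝔭.sub_mem h (hI hr)
    simpa using this
  exact (Ideal.IsPrime.ne_top ‹_›) ((Ideal.eq_top_iff_one _).2 h1)

/-- Step A: the cokernel of `R → S` is killed by an element outside `𝔭`. -/
theorem exists_smul_mem_range [Module.Finite R S] (𝔪 : Ideal A)
    (pR : R →+* R₀) (pS : S →+* S₀) (ψ₀ : R₀ →+* S₀)
    (hsq : ψ₀.comp pR = pS.comp (algebraMap R S))
    (hkS : RingHom.ker pS = 𝔪.map (algebraMap A S))
    (hψ₀ : Function.Surjective ψ₀) (hpR : Function.Surjective pR)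
    (𝔭 : Ideal R) [𝔭.IsPrime] (h𝔭 : 𝔪.map (algebraMap A R) ≤ 𝔭) :
    ∃ g : R, g ∉ 𝔭 ∧ ∀ s : S, ∃ t : R, algebraMap R S t = g • s := by
  set I : Ideal R := 𝔪.map (algebraMap A R) with hI
  let N : Submodule R S := LinearMap.range (Algebra.linearMap R S)
  let C := S ⧸ N
  have hfg : (⊤ : Submodule R C).FG := Module.Finite.fg_top
  have hle : (⊤ : Submodule R C) ≤ I • (⊤ : Submodule R C) := by
    intro c _
    obtain ⟨s, rfl⟩ := Submodule.Quotient.mk_surjective N c
    -- `s = ψ t + element of 𝔪 S`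
    obtain ⟨t₀, ht₀⟩ := hψ₀ (pS s)
    obtain ⟨t, rfl⟩ := hpR t₀
    have h1 : pS (s - algebraMap R S t) = 0 := by
      rw [map_sub, ← ht₀]
      have := congrArg (fun φ => φ t) hsq
      simp only [RingHom.comp_apply] at this
      rw [this, sub_self]
    have h2 : s - algebraMap R S t ∈ 𝔪.map (algebraMap A S) := by
      rw [← hkS]; exact h1
    have h3 : Submodule.Quotient.mk (p := N) s =
        Submodule.Quotient.mk (p := N) (s - algebraMap R S t) := by
      rw [Submodule.Quotient.mk_sub]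
      have : Submodule.Quotient.mk (p := N) (algebraMap R S t) = 0 :=
        (Submodule.Quotient.mk_eq_zero N).2 ⟨t, rfl⟩
      rw [this, sub_zero]
    rw [h3]
    -- elements of `𝔪 S` map into `I • ⊤`
    have h4 : ∀ z ∈ (𝔪 • ⊤ : Submodule A S),
        Submodule.Quotient.mk (p := N) z ∈ I • (⊤ : Submodule R C) := by
      intro z hz
      refine Submodule.smul_induction_on hz (fun a ha x _ => ?_) (fun x y hx hy => ?_)
      · have : Submodule.Quotient.mk (p := N) (a • x) =
            (algebraMap A R a) • Submodule.Quotient.mk (p := N) x := by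
          rw [← Submodule.Quotient.mk_smul, algebraMap_smul]
        rw [this]
        exact Submodule.smul_mem_smul (Ideal.mem_map_of_mem _ ha) Submodule.mem_top
      · rw [Submodule.Quotient.mk_add]
        exact Submodule.add_mem _ hx hy
    have h5 : s - algebraMap R S t ∈ (𝔪 • ⊤ : Submodule A S) := by
      rw [Ideal.smul_top_eq_map]
      exact h2
    exact h4 _ h5
  obtain ⟨r, hr1, hr2⟩ :=
    Submodule.exists_sub_one_mem_and_smul_eq_zero_of_fg_of_le_smul I ⊤ hfg hle
  refine ⟨r, notMem_of_sub_one_mem h𝔭 hr1, fun s => ?_⟩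
  have h := hr2 (Submodule.Quotient.mk s) Submodule.mem_top
  rw [← Submodule.Quotient.mk_smul, Submodule.Quotient.mk_eq_zero] at h
  obtain ⟨t, ht⟩ := h
  exact ⟨t, ht⟩

/-- Step B (equational criterion of flatness): if `S` is flat over `A` and `g S ⊆ ψ(R)`, then
`g (ker ψ ∩ 𝔪R) ⊆ 𝔪R · ker ψ`. -/
theorem mul_mem_mul_ker [Module.Flat A S] (𝔪 : Ideal A) (g : R)
    (hg : ∀ s : S, ∃ t : R, algebraMap R S t = g • s)
    (x : R) (hx : x ∈ RingHom.ker (algebraMap R S)) (hx' : x ∈ 𝔪.map (algebraMap A R)) :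
    g * x ∈ 𝔪.map (algebraMap A R) * RingHom.ker (algebraMap R S) := by
  classical
  have h1 : x ∈ (𝔪 • Submodule.span A (Set.range (id : R → R)) : Submodule A R) := by
    rw [Set.range_id, Submodule.span_univ, Ideal.smul_top_eq_map]
    exact hx'
  obtain ⟨a, ha, hax⟩ := (Submodule.mem_ideal_smul_span_iff_exists_sum 𝔪 (id : R → R) x).1 h1
  -- the finite index type
  let ι := {i : R // i ∈ a.support}
  have hsum : x = ∑ i : ι, a i.1 • (i.1 : R) := by
    rw [← hax, Finsupp.sum, ← Finset.sum_coe_sort a.support]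
    rfl
  have hrel : ∑ i : ι, a i.1 • algebraMap R S i.1 = 0 := by
    have : algebraMap R S x = 0 := hx
    rw [hsum, map_sum] at this
    rw [← this]
    refine Finset.sum_congr rfl (fun i _ => ?_)
    rw [Algebra.smul_def, Algebra.smul_def, map_mul, ← IsScalarTower.algebraMap_apply]
  obtain ⟨k, b, y, hy, hb⟩ := Module.Flat.isTrivialRelation_of_sum_smul_eq_zero (R := A) (M := S)
    (f := fun i : ι => a i.1) (x := fun i : ι => algebraMap R S i.1) hrel
  choose t ht using fun j => hg (y j)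
  have hy' : ∀ i : ι, algebraMap R S i.1 = ∑ j, b i j • y j := hy
  have hb' : ∀ j, ∑ i : ι, a i.1 * b i j = 0 := hb
  let κ : ι → R := fun i => g * i.1 - ∑ j, b i j • t j
  have hκ : ∀ i, κ i ∈ RingHom.ker (algebraMap R S) := by
    intro i
    rw [RingHom.mem_ker]
    simp only [κ, map_sub, map_mul, map_sum]
    have h2 : ∀ j, algebraMap R S (b i j • t j) = algebraMap R S g * (b i j • y j) := by
      intro j
      rw [Algebra.smul_def, map_mul, ← IsScalarTower.algebraMap_apply, ht j, Algebra.smul_def g,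
        Algebra.smul_def (b i j) (y j)]
      ring
    simp only [h2]
    rw [hy' i, Finset.mul_sum, sub_self]
  have hgx : g * x = ∑ i : ι, algebraMap A R (a i.1) * κ i := by
    have h3 : ∑ i : ι, algebraMap A R (a i.1) * ∑ j, b i j • t j = 0 := by
      simp only [Finset.mul_sum]
      rw [Finset.sum_comm]
      refine Finset.sum_eq_zero (fun j _ => ?_)
      have h4 : ∀ i : ι, algebraMap A R (a i.1) * b i j • t j = (a i.1 * b i j) • t j := by
        intro i
        rw [Algebra.smul_def, Algebra.smul_def, map_mul, mul_assoc]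
      simp only [h4]
      rw [← Finset.sum_smul, hb' j, zero_smul]
    simp only [κ, mul_sub, Finset.sum_sub_distrib, h3, sub_zero]
    rw [hsum, Finset.mul_sum]
    refine Finset.sum_congr rfl (fun i _ => ?_)
    rw [Algebra.smul_def]
    ring
  rw [hgx]
  refine Ideal.sum_mem _ (fun i _ => ?_)
  exact Ideal.mul_mem_mul (Ideal.mem_map_of_mem _ (ha i.1)) (hκ i)

/-- Step C (determinant trick): if `g K ⊆ I K` for a finitely generated ideal `K`, `I ≤ 𝔭` and `g ∉ 𝔭`, then `K` is
killed by an element outside `𝔭`. -/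
theorem exists_mul_eq_zero_of_mul_mem_mul [IsNoetherianRing R] (I K 𝔭 : Ideal R) [𝔭.IsPrime] (hI : I ≤ 𝔭)
    (g : R) (hg : g ∉ 𝔭) (h : ∀ x ∈ K, g * x ∈ I * K) :
    ∃ g' : R, g' ∉ 𝔭 ∧ ∀ x ∈ K, g' * x = 0 := by
  haveI : Module.Finite R K := Module.IsNoetherian.finite R K
  let f : Module.End R K := algebraMap R (Module.End R K) g
  have hf : LinearMap.range f ≤ I • (⊤ : Submodule R K) := by
    rintro _ ⟨z, rfl⟩
    rw [Submodule.mem_smul_top_iff]
    have : ((f z : K) : R) = g * (z : R) := rfl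
    rw [this]
    exact h _ z.2
  obtain ⟨p, hp, -, hc, hz⟩ :=
    LinearMap.exists_monic_and_natDegree_eq_and_coeff_mem_pow_and_aeval_eq_zero R f I hf
  refine ⟨p.eval g, ?_, fun x hx => ?_⟩
  · intro hmem
    rw [Polynomial.eval_eq_sum_range, Finset.sum_range_succ, hp.coeff_natDegree, one_mul] at hmem
    have h1 : ∑ i ∈ Finset.range p.natDegree, p.coeff i * g ^ i ∈ 𝔭 := by
      refine Ideal.sum_mem _ (fun i hi => ?_)
      have hi' : i < p.natDegree := Finset.mem_range.1 hi
      have h2 : p.coeff i ∈ I := by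
        have := hc i
        exact Ideal.pow_le_self (by omega) this
      exact Ideal.mul_mem_right _ _ (hI h2)
    have h3 : g ^ p.natDegree ∈ 𝔭 := by
      have := 𝔭.sub_mem hmem h1
      simpa using this
    exact hg (Ideal.IsPrime.mem_of_pow_mem ‹_› _ h3)
  · have h4 : Polynomial.aeval f p = algebraMap R (Module.End R K) (p.eval g) :=
      Polynomial.aeval_algebraMap_apply_eq_algebraMap_eval g p
    rw [h4] at hz
    have h5 := congrArg (fun φ : Module.End R K => ((φ ⟨x, hx⟩ : K) : R)) hz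
    exact h5

/-- **flat + isomorphism modulo `𝔪` ⇒ isomorphism near the primes over `𝔪`**: ring form, with witnesses. -/
theorem exists_good_element [IsNoetherianRing R] [Module.Finite R S] [Module.Flat A S] (𝔪 : Ideal A)
    (pR : R →+* R₀) (pS : S →+* S₀) (ψ₀ : R₀ →+* S₀)
    (hsq : ψ₀.comp pR = pS.comp (algebraMap R S))
    (hpR : Function.Surjective pR) (hkR : RingHom.ker pR = 𝔪.map (algebraMap A R))
    (hkS : RingHom.ker pS = 𝔪.map (algebraMap A S))
    (hψ₀ : Function.Bijective ψ₀)
    (𝔭 : Ideal R) [𝔭.IsPrime] (h𝔭 : 𝔪.map (algebraMap A R) ≤ 𝔭) :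
    ∃ g : R, g ∉ 𝔭 ∧ (∀ s : S, ∃ t : R, algebraMap R S t = g • s) ∧
      ∀ x ∈ RingHom.ker (algebraMap R S), g * x = 0 := by
  obtain ⟨g₁, hg₁, hs⟩ := exists_smul_mem_range 𝔪 pR pS ψ₀ hsq hkS hψ₀.2 hpR 𝔭 h𝔭
  have hK : RingHom.ker (algebraMap R S) ≤ 𝔪.map (algebraMap A R) := by
    intro x hx
    rw [← hkR, RingHom.mem_ker]
    apply hψ₀.1
    have := congrArg (fun φ => φ x) hsq
    simp only [RingHom.comp_apply] at this
    rw [this, (RingHom.mem_ker).1 hx, map_zero, map_zero]
  obtain ⟨g₂, hg₂, hk⟩ := exists_mul_eq_zero_of_mul_mem_mul (𝔪.map (algebraMap A R))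
    (RingHom.ker (algebraMap R S)) 𝔭 h𝔭 g₁ hg₁
    (fun x hx => mul_mem_mul_ker 𝔪 g₁ hs x hx (hK hx))
  refine ⟨g₁ * g₂, fun h => ?_, fun s => ?_, fun x hx => ?_⟩
  · rcases Ideal.IsPrime.mem_or_mem ‹_› h with h | h
    · exact hg₁ h
    · exact hg₂ h
  · obtain ⟨t, ht⟩ := hs s
    refine ⟨g₂ * t, ?_⟩
    rw [map_mul, ht, Algebra.smul_def, Algebra.smul_def, map_mul]
    ring
  · rw [mul_assoc, hk x hx, mul_zero]

/-- the localized map is bijective -/
theorem bijective_of_good_element {R' S' : Type*} [CommRing R'] [CommRing S'] [Algebra R R'] [Algebra S S']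
    (g : R) [IsLocalization.Away g R'] [IsLocalization.Away (algebraMap R S g) S']
    (ψ' : R' →+* S') (hψ' : ψ'.comp (algebraMap R R') = (algebraMap S S').comp (algebraMap R S))
    (h1 : ∀ s : S, ∃ t : R, algebraMap R S t = g • s)
    (h2 : ∀ x ∈ RingHom.ker (algebraMap R S), g * x = 0) : Function.Bijective ψ' := by
  have hc : ∀ x : R, ψ' (algebraMap R R' x) = algebraMap S S' (algebraMap R S x) := fun x =>
    congrArg (fun φ => φ x) hψ'
  have hug : IsUnit (algebraMap R R' g) := IsLocalization.Away.algebraMap_isUnit g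
  have hus : IsUnit (algebraMap S S' (algebraMap R S g)) :=
    IsLocalization.Away.algebraMap_isUnit (algebraMap R S g)
  constructor
  · rw [injective_iff_map_eq_zero]
    intro z hz
    obtain ⟨n, x, hx⟩ := IsLocalization.Away.surj g z
    -- `z * g^n = x`
    have h3 : algebraMap S S' (algebraMap R S x) = 0 := by
      rw [← hc, ← hx, map_mul, hz, zero_mul]
    obtain ⟨⟨m, k, rfl⟩, hm⟩ := (IsLocalization.map_eq_zero_iff
      (Submonoid.powers (algebraMap R S g)) S' (algebraMap R S x)).1 h3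
    have h4 : g ^ k * x ∈ RingHom.ker (algebraMap R S) := by
      rw [RingHom.mem_ker, map_mul, map_pow]
      exact hm
    have h5 : g * (g ^ k * x) = 0 := h2 _ h4
    have h6 : algebraMap R R' g ^ (k + 1) * algebraMap R R' x = 0 := by
      rw [← map_pow, ← map_mul, pow_succ', mul_assoc, h5, map_zero]
    have h7 : algebraMap R R' x = 0 := ((hug.pow (k + 1)).mul_right_eq_zero).1 h6
    rw [h7] at hx
    exact ((hug.pow n).mul_left_eq_zero).1 hx
  · intro w
    obtain ⟨n, s, hs⟩ := IsLocalization.Away.surj (algebraMap R S g) w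
    obtain ⟨t, ht⟩ := h1 s
    obtain ⟨u, hu⟩ := hug
    have hv : ψ' (↑u⁻¹ : R') * algebraMap S S' (algebraMap R S g) = 1 := by
      rw [← hc, ← hu, ← map_mul, Units.inv_mul, map_one]
    refine ⟨algebraMap R R' t * (↑u⁻¹ : R') ^ (n + 1), ?_⟩
    rw [map_mul, map_pow, hc, ht, Algebra.smul_def, map_mul, ← hs]
    set G := algebraMap S S' (algebraMap R S g) with hG
    set V := ψ' (↑u⁻¹ : R') with hV
    calc G * (w * G ^ n) * V ^ (n + 1) = w * (V * G) ^ (n + 1) := by ring
      _ = w := by rw [hv, one_pow, mul_one]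

end alg

end Groth.Agent.Lib.T3H9.Rig
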