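import Mathlib
import Groth.Agent.Lib.T3H9Rig1
import Groth.Agent.Lib.T2H9FibLift10

/-!
Rigidity of projective space (SGA1 III), part 2: closed fibre of a scheme over a local ring, finiteness of a morphism of proper schemes which is an isomorphism on closed fibres, helper lemmas on sections.
-/

set_option autoImplicit false
set_option linter.style.haveILetI false
set_option linter.unusedVariables false
set_option linter.unusedSectionVars false
universe u
open CategoryTheory CategoryTheory.Limits Opposite AlgebraicGeometry TopologicalSpace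

namespace Groth.Agent.Lib.T3H9.Rig

open Groth.Agent.Lib.T2H9.FFGeom Groth.Agent.Lib.T2H9.FlatFib Groth.Agent.Lib.T2H9.FibQuot Groth.Agent.Lib.T2H9.FibVan

section top

variable (A : Type u) [CommRing A] [IsLocalRing A]

/-- the closed point `Spec k → Spec A` -/
noncomputable abbrev rk : Spec (CommRingCat.of (IsLocalRing.ResidueField A)) ⟶ Spec (CommRingCat.of A) :=
  Spec.map (CommRingCat.ofHom (IsLocalRing.residue A))

theorem range_rk : Set.range (rk A) = {IsLocalRing.closedPoint A} := by
  ext x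
  constructor
  · rintro ⟨t, rfl⟩
    exact IsLocalRing.PrimeSpectrum.comap_residue A t
  · rintro rfl
    haveI : Nonempty (Spec (CommRingCat.of (IsLocalRing.ResidueField A))) :=
      inferInstanceAs (Nonempty (PrimeSpectrum (IsLocalRing.ResidueField A)))
    obtain ⟨t⟩ := this
    exact ⟨t, IsLocalRing.PrimeSpectrum.comap_residue A t⟩

instance : IsClosedImmersion (rk A) :=
  IsClosedImmersion.spec_of_surjective _ Ideal.Quotient.mk_surjective

theorem ker_φT_rk : RingHom.ker (φT (rk A)) = IsLocalRing.maximalIdeal A := by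
  rw [ker_φT_SpecMap]
  exact IsLocalRing.ker_residue

variable {A}

/-- a nonempty closed subset of the spectrum of a local ring contains the closed point -/
theorem closedPoint_mem_of_isClosed {C : Set (Spec (CommRingCat.of A))} (hC : IsClosed C) (hne : C.Nonempty) :
    IsLocalRing.closedPoint A ∈ C := by
  by_contra h
  let U : TopologicalSpace.Opens (PrimeSpectrum A) := ⟨Cᶜ, hC.isOpen_compl⟩
  have hU : IsLocalRing.closedPoint A ∈ U := h
  have := (IsLocalRing.closedPoint_mem_iff U).1 hU
  obtain ⟨c, hc⟩ := hne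
  have hc' : c ∈ U := by rw [this]; trivial
  exact hc' hc

variable {X X₀ : Scheme.{u}} (f : X ⟶ Spec (CommRingCat.of A))
  (i : X₀ ⟶ X) (q : X₀ ⟶ Spec (CommRingCat.of (IsLocalRing.ResidueField A)))
  (hpb : IsPullback i q f (rk A))

include hpb in
theorem range_closedFibre : Set.range i = f ⁻¹' {IsLocalRing.closedPoint A} := by
  have h1 : hpb.isoPullback.hom ≫ pullback.fst f (rk A) = i := hpb.isoPullback_hom_fst
  rw [← range_rk, ← Scheme.Pullback.range_fst, ← h1]
  ext x
  constructor
  · rintro ⟨a, rfl⟩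
    exact ⟨hpb.isoPullback.hom a, rfl⟩
  · rintro ⟨b, rfl⟩
    refine ⟨hpb.isoPullback.inv b, ?_⟩
    rw [← Scheme.Hom.comp_apply, ← Category.assoc, Iso.inv_hom_id, Category.id_comp]

/-- a nonempty closed subset of a scheme universally closed over a local ring meets the closed fibre -/
theorem exists_mem_closedFibre [UniversallyClosed f] {Z : Set X} (hZ : IsClosed Z) (hne : Z.Nonempty) :
    ∃ z ∈ Z, f z = IsLocalRing.closedPoint A := by
  have h1 : IsClosed (f '' Z) := f.isClosedMap _ hZ
  have h2 := closedPoint_mem_of_isClosed h1 (hne.image _)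
  obtain ⟨z, hz, hfz⟩ := h2
  exact ⟨z, hz, hfz⟩

end top

section fin

variable {A : Type u} [CommRing A] [IsLocalRing A]
  {X P X₀ P₀ : Scheme.{u}} (f : X ⟶ Spec (CommRingCat.of A)) (π : P ⟶ Spec (CommRingCat.of A))
  (φ : X ⟶ P) (hφ : φ ≫ π = f)
  (iX : X₀ ⟶ X) (qX : X₀ ⟶ Spec (CommRingCat.of (IsLocalRing.ResidueField A)))
  (iP : P₀ ⟶ P) (qP : P₀ ⟶ Spec (CommRingCat.of (IsLocalRing.ResidueField A)))
  (hX : IsPullback iX qX f (rk A)) (hP : IsPullback iP qP π (rk A))
  (φ₀ : X₀ ⟶ P₀) [IsIso φ₀] (hφ₀ : φ₀ ≫ iP = iX ≫ φ)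

include hφ hX hP hφ₀ in
theorem preimage_singleton_subset (y₀ : P₀) : φ ⁻¹' {iP y₀} ⊆ {iX ((inv φ₀) y₀)} := by
  intro x hx
  have hx' : φ x = iP y₀ := hx
  have h1 : f x = IsLocalRing.closedPoint A := by
    have h2 : π (iP y₀) = IsLocalRing.closedPoint A := by
      have : iP y₀ ∈ Set.range iP := ⟨y₀, rfl⟩
      rw [range_closedFibre π iP qP hP] at this
      exact this
    rw [← hφ, Scheme.Hom.comp_apply, hx', h2]
  have h3 : x ∈ Set.range iX := by
    rw [range_closedFibre f iX qX hX]
    exact h1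
  obtain ⟨x₀, rfl⟩ := h3
  haveI : IsClosedImmersion iP := MorphismProperty.of_isPullback hP.flip inferInstance
  have h4 : iP (φ₀ x₀) = iP y₀ := by
    rw [← Scheme.Hom.comp_apply, hφ₀, Scheme.Hom.comp_apply, hx']
  have h5 : φ₀ x₀ = y₀ := iP.isClosedEmbedding.injective h4
  have h6 : x₀ = (inv φ₀) y₀ := by
    rw [← h5, ← Scheme.Hom.comp_apply, IsIso.hom_inv_id]
    rfl
  rw [h6]
  rfl

include hφ hX hP hφ₀ in
theorem isFinite_of_closedFibre [IsProper f] [IsProper π] : IsFinite φ := by
  haveI : IsProper (φ ≫ π) := by rw [hφ]; infer_instance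
  haveI : IsProper φ := IsProper.of_comp φ π
  have hV : ∀ y : {y : P // π y = IsLocalRing.closedPoint A},
      ∃ V : P.Opens, y.1 ∈ V ∧ IsFinite (φ ∣_ V) := by
    rintro ⟨y, hy⟩
    have h1 : y ∈ Set.range iP := by
      rw [range_closedFibre π iP qP hP]
      exact hy
    obtain ⟨y₀, rfl⟩ := h1
    exact exists_isFinite_morphismRestrict_of_finite_preimage_singleton φ (iP y₀)
      ((Set.finite_singleton _).subset
        (preimage_singleton_subset f π φ hφ iX qX iP qP hX hP φ₀ hφ₀ y₀))
  choose V hyV hV using hV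
  have htop : iSup V = ⊤ := by
    by_contra hne
    have hcl : IsClosed ((iSup V : P.Opens) : Set P)ᶜ := (iSup V).2.isClosed_compl
    have hnonempty : (((iSup V : P.Opens) : Set P)ᶜ).Nonempty := by
      rw [Set.nonempty_compl]
      intro h
      apply hne
      ext x
      simp only [h, Set.mem_univ]
      exact ⟨fun _ => trivial, fun _ => trivial⟩
    obtain ⟨z, hz, hzc⟩ := exists_mem_closedFibre π hcl hnonempty
    apply hz
    exact (le_iSup V ⟨z, hzc⟩) (hyV ⟨z, hzc⟩)
  exact IsZariskiLocalAtTarget.of_iSup_eq_top (P := @IsFinite) V htop hV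

end fin

section helpers

variable {X Y : Scheme.{u}}

theorem ker_appLE_of_eq (f : X ⟶ Y) (U : Y.Opens) (W : X.Opens) (hW : W = f ⁻¹ᵁ U) :
    RingHom.ker (f.appLE U W (le_of_eq hW)).hom = RingHom.ker (f.app U).hom := by
  subst hW
  simp [Scheme.Hom.appLE]

theorem bijective_app_of_bijective_appLE (f : X ⟶ Y) (U : Y.Opens) (W : X.Opens) (hW : W = f ⁻¹ᵁ U)
    (h : Function.Bijective (f.appLE U W (le_of_eq hW)).hom) : Function.Bijective (f.app U).hom := by
  subst hW
  simpa [Scheme.Hom.appLE] using h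

theorem bijective_app_congr (f : X ⟶ Y) {U U' : Y.Opens} (h : U = U')
    (hb : Function.Bijective (f.app U).hom) : Function.Bijective (f.app U').hom := by
  subst h
  exact hb

theorem appLE_congr_hom {f g : X ⟶ Y} (h : f = g) (U : Y.Opens) (W : X.Opens) (e : W ≤ f ⁻¹ᵁ U) :
    f.appLE U W e = g.appLE U W (h ▸ e) := by
  subst h
  rfl

/-- a morphism which is bijective on the sections over an affine open with affine preimage is an isomorphism over it -/
theorem isIso_morphismRestrict_of_bijective_app (f : X ⟶ Y) (D : Y.Opens) (hD : IsAffineOpen D)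
    (hD' : IsAffineOpen (f ⁻¹ᵁ D)) (hb : Function.Bijective (f.app D).hom) : IsIso (f ∣_ D) := by
  haveI : IsAffine (D : Scheme.{u}) := hD
  haveI : IsAffine ((f ⁻¹ᵁ D : X.Opens) : Scheme.{u}) := hD'
  have h1 : (MorphismProperty.isomorphisms Scheme.{u}) (f ∣_ D) := by
    rw [HasAffineProperty.iff_of_isAffine (P := MorphismProperty.isomorphisms Scheme.{u})]
    refine ⟨inferInstance, ?_⟩
    rw [morphismRestrict_appTop]
    have h2 : Function.Bijective (f.app (D.ι ''ᵁ ⊤)).hom :=
      bijective_app_congr f (by simp) hb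
    have h4 : IsIso (f.app (D.ι ''ᵁ ⊤)) := (ConcreteCategory.isIso_iff_bijective _).2 h2
    have h3 : IsIso (X.presheaf.map (eqToHom (image_morphismRestrict_preimage f D ⊤)).op) :=
      inferInstance
    exact @IsIso.comp_isIso _ _ _ _ _ _ _ h4 h3
  exact h1

end helpers

end Groth.Agent.Lib.T3H9.Rig
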