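import Mathlib
import Groth.Agent.Lib.T3H9Rig2
import Groth.Agent.Lib.T2H9Alg8

/-!
Rigidity of projective space (SGA1 III), part 3: a morphism of proper schemes over a Noetherian local ring, with flat source, which is an isomorphism on closed fibres is an isomorphism (isIso_of_closedFibre).
-/

set_option autoImplicit false
set_option linter.style.haveILetI false
set_option linter.unusedVariables false
set_option linter.unusedSectionVars false
universe u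
open CategoryTheory CategoryTheory.Limits Opposite AlgebraicGeometry TopologicalSpace

namespace Groth.Agent.Lib.T3H9.Rig

open Groth.Agent.Lib.T2H9.FFGeom Groth.Agent.Lib.T2H9.FlatFib Groth.Agent.Lib.T2H9.FibQuot Groth.Agent.Lib.T2H9.FibVan

section iso

theorem bijective_appLE_of_isIso {X Y : Scheme.{u}} (f : X ⟶ Y) [IsIso f] (U : Y.Opens) (W : X.Opens)
    (hW : W = f ⁻¹ᵁ U) : Function.Bijective (f.appLE U W (le_of_eq hW)).hom := by
  subst hW
  have : f.appLE U (f ⁻¹ᵁ U) le_rfl = f.app U := (Scheme.Hom.app_eq_appLE ..).symm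
  rw [this]
  exact ConcreteCategory.bijective_of_isIso (f.app U)

variable {A : Type u} [CommRing A] [IsLocalRing A] [IsNoetherianRing A]
  {X P X₀ P₀ : Scheme.{u}} (f : X ⟶ Spec (CommRingCat.of A)) (π : P ⟶ Spec (CommRingCat.of A))
  (φ : X ⟶ P) (hφ : φ ≫ π = f)
  (iX : X₀ ⟶ X) (qX : X₀ ⟶ Spec (CommRingCat.of (IsLocalRing.ResidueField A)))
  (iP : P₀ ⟶ P) (qP : P₀ ⟶ Spec (CommRingCat.of (IsLocalRing.ResidueField A)))
  (hX : IsPullback iX qX f (rk A)) (hP : IsPullback iP qP π (rk A))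
  (φ₀ : X₀ ⟶ P₀) [IsIso φ₀] (hφ₀ : φ₀ ≫ iP = iX ≫ φ)

include hφ hX hP hφ₀ in
theorem exists_isIso_restrict [IsFinite φ] [Flat f] [LocallyOfFiniteType π] (y : P)
    (hy : π y = IsLocalRing.closedPoint A) :
    ∃ D : P.Opens, y ∈ D ∧ IsIso (φ ∣_ D) := by
  letI : X.Over (Spec (CommRingCat.of A)) := ⟨f⟩
  letI : P.Over (Spec (CommRingCat.of A)) := ⟨π⟩
  haveI : IsLocallyNoetherian P := LocallyOfFiniteType.isLocallyNoetherian π
  obtain ⟨U, hU, hyU, -⟩ := exists_isAffineOpen_mem_and_subset (x := y) (U := ⊤) trivial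
  have hV : IsAffineOpen (φ ⁻¹ᵁ U) := hU.preimage φ
  letI : Algebra A Γ(P, U) := (ρU P U).toAlgebra
  letI : Algebra A Γ(X, φ ⁻¹ᵁ U) := (ρU X (φ ⁻¹ᵁ U)).toAlgebra
  letI : Algebra Γ(P, U) Γ(X, φ ⁻¹ᵁ U) := (φ.app U).hom.toAlgebra
  haveI : IsScalarTower A Γ(P, U) Γ(X, φ ⁻¹ᵁ U) :=
    IsScalarTower.of_algebraMap_eq (fun a => (Groth.Agent.Lib.T2H9.Alg.ρU_comp (A := A) P φ hφ U a).symm)
  haveI : IsNoetherianRing Γ(P, U) := IsLocallyNoetherian.component_noetherian ⟨U, hU⟩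
  haveI : Module.Finite Γ(P, U) Γ(X, φ ⁻¹ᵁ U) := IsFinite.finite_app φ U hU
  haveI : Module.Flat A Γ(X, φ ⁻¹ᵁ U) := by
    have h1 : (f.appLE ⊤ (φ ⁻¹ᵁ U) le_top).hom.Flat :=
      HasRingHomProperty.appLE (P := @Flat) f inferInstance ⟨⊤, isAffineOpen_top _⟩ ⟨φ ⁻¹ᵁ U, hV⟩ le_top
    have h2 : (Scheme.ΓSpecIso (CommRingCat.of A)).inv.hom.Flat :=
      RingHom.Flat.of_bijective (ConcreteCategory.bijective_of_isIso (Scheme.ΓSpecIso (CommRingCat.of A)).inv)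
    exact RingHom.Flat.comp h2 h1
  -- the closed fibre
  haveI : IsClosedImmersion iP := MorphismProperty.of_isPullback hP.flip inferInstance
  haveI : IsClosedImmersion iX := MorphismProperty.of_isPullback hX.flip inferInstance
  have hpR : Function.Surjective (iP.app U).hom := iP.app_surjective U hU
  have hkR : RingHom.ker (iP.app U).hom = (IsLocalRing.maximalIdeal A).map (algebraMap A Γ(P, U)) := by
    rw [← ker_φT_rk A]
    exact Groth.Agent.Lib.T2H9.FibQuot.ker_app_eq P iP qP (rk A) hP hU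
  have hkS : RingHom.ker (iX.app (φ ⁻¹ᵁ U)).hom =
      (IsLocalRing.maximalIdeal A).map (algebraMap A Γ(X, φ ⁻¹ᵁ U)) := by
    rw [← ker_φT_rk A]
    exact Groth.Agent.Lib.T2H9.FibQuot.ker_app_eq X iX qX (rk A) hX hV
  have hW : iX ⁻¹ᵁ (φ ⁻¹ᵁ U) = φ₀ ⁻¹ᵁ (iP ⁻¹ᵁ U) := by
    rw [← Scheme.Hom.comp_preimage, ← Scheme.Hom.comp_preimage, hφ₀]
  have hψ₀ : Function.Bijective (φ₀.appLE (iP ⁻¹ᵁ U) (iX ⁻¹ᵁ (φ ⁻¹ᵁ U)) (le_of_eq hW)).hom :=
    bijective_appLE_of_isIso φ₀ _ _ hW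
  have hsq : (φ₀.appLE (iP ⁻¹ᵁ U) (iX ⁻¹ᵁ (φ ⁻¹ᵁ U)) (le_of_eq hW)).hom.comp (iP.app U).hom =
      (iX.app (φ ⁻¹ᵁ U)).hom.comp (algebraMap Γ(P, U) Γ(X, φ ⁻¹ᵁ U)) := by
    have e1 : iP.app U ≫ φ₀.appLE (iP ⁻¹ᵁ U) (iX ⁻¹ᵁ (φ ⁻¹ᵁ U)) (le_of_eq hW) =
        φ.app U ≫ iX.app (φ ⁻¹ᵁ U) := by
      rw [Scheme.Hom.app_eq_appLE, Scheme.Hom.app_eq_appLE, Scheme.Hom.app_eq_appLE,
        Scheme.Hom.appLE_comp_appLE, Scheme.Hom.appLE_comp_appLE]
      exact appLE_congr_hom hφ₀ _ _ _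
    exact congrArg CommRingCat.Hom.hom e1
  have h𝔭 : (IsLocalRing.maximalIdeal A).map (algebraMap A Γ(P, U)) ≤
      (hU.primeIdealOf ⟨y, hyU⟩).asIdeal :=
    Ideal.map_le_iff_le_comap.2 (fun a ha =>
      Groth.Agent.Lib.T2H9.FibLift.ρU_mem_primeIdealOf (A := A) P hU y hyU hy a ha)
  obtain ⟨g, hg𝔭, hg1, hg2⟩ := exists_good_element (IsLocalRing.maximalIdeal A)
    (iP.app U).hom (iX.app (φ ⁻¹ᵁ U)).hom _ hsq hpR hkR hkS hψ₀
    (hU.primeIdealOf ⟨y, hyU⟩).asIdeal h𝔭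
  have hyD : y ∈ P.basicOpen g :=
    (Groth.Agent.Lib.Helper14.mem_basicOpen_iff_notMem_primeIdealOf hU y hyU g).2 hg𝔭
  refine ⟨P.basicOpen g, hyD, ?_⟩
  have hD : IsAffineOpen (P.basicOpen g) := hU.basicOpen g
  have hD' : IsAffineOpen (φ ⁻¹ᵁ (P.basicOpen g)) := hD.preimage φ
  apply isIso_morphismRestrict_of_bijective_app φ _ hD hD'
  have hW' : X.basicOpen ((φ.app U).hom g) = φ ⁻¹ᵁ (P.basicOpen g) :=
    (Scheme.preimage_basicOpen φ g).symm
  apply bijective_app_of_bijective_appLE φ (P.basicOpen g) (X.basicOpen ((φ.app U).hom g)) hW'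
  haveI := hU.isLocalization_basicOpen g
  haveI : IsLocalization.Away (algebraMap Γ(P, U) Γ(X, φ ⁻¹ᵁ U) g)
      Γ(X, X.basicOpen ((φ.app U).hom g)) := hV.isLocalization_basicOpen ((φ.app U).hom g)
  refine bijective_of_good_element (R := Γ(P, U)) (S := Γ(X, φ ⁻¹ᵁ U)) g _ ?_ hg1 hg2
  have e1 : P.presheaf.map (homOfLE (P.basicOpen_le g)).op ≫
      φ.appLE (P.basicOpen g) (X.basicOpen ((φ.app U).hom g)) (le_of_eq hW') =
      φ.app U ≫ X.presheaf.map (homOfLE (X.basicOpen_le ((φ.app U).hom g))).op := by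
    rw [Scheme.Hom.map_appLE]
    rfl
  exact congrArg CommRingCat.Hom.hom e1

theorem iSup_eq_top_of_closedFibre [UniversallyClosed π]
    (D : {y : P // π y = IsLocalRing.closedPoint A} → P.Opens) (h : ∀ y, y.1 ∈ D y) : iSup D = ⊤ := by
  by_contra hne
  have hcl : IsClosed ((iSup D : P.Opens) : Set P)ᶜ := (iSup D).2.isClosed_compl
  have hnonempty : (((iSup D : P.Opens) : Set P)ᶜ).Nonempty := by
    rw [Set.nonempty_compl]
    intro h
    apply hne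
    ext x
    simp only [h, Set.mem_univ]
    exact ⟨fun _ => trivial, fun _ => trivial⟩
  obtain ⟨z, hz, hzc⟩ := exists_mem_closedFibre π hcl hnonempty
  apply hz
  exact (le_iSup D ⟨z, hzc⟩) (h ⟨z, hzc⟩)

include hφ hX hP hφ₀ in
/-- **Rigidity**: a morphism between proper schemes over a Noetherian local ring, with flat source, which induces an
isomorphism on the closed fibres, is an isomorphism. -/
theorem isIso_of_closedFibre [IsProper f] [IsProper π] [Flat f] : IsIso φ := by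
  haveI : IsFinite φ := isFinite_of_closedFibre f π φ hφ iX qX iP qP hX hP φ₀ hφ₀
  have hD : ∀ y : {y : P // π y = IsLocalRing.closedPoint A},
      ∃ D : P.Opens, y.1 ∈ D ∧ IsIso (φ ∣_ D) := fun y =>
    exists_isIso_restrict f π φ hφ iX qX iP qP hX hP φ₀ hφ₀ y.1 y.2
  choose D hyD hD using hD
  have htop : iSup D = ⊤ := iSup_eq_top_of_closedFibre π D hyD
  exact IsZariskiLocalAtTarget.of_iSup_eq_top (P := MorphismProperty.isomorphisms Scheme.{u}) D htop hD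

end iso

end Groth.Agent.Lib.T3H9.Rig
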