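import Mathlib
import Groth.Agent.Lib.T3H9Rig2
import Groth.Agent.Lib.T2H9FibLift4
import Groth.Agent.Lib.T2H9Alg1
import Groth.Agent.Lib.T2H5PushEdge
import Groth.Agent.S0028
import Groth.Agent.Lib.Helper4PPSch

/-!
Rigidity of projective space (SGA1 III), part 4: cohomology of pullbacks along isomorphisms of schemes, lifting morphisms O -> G/mG to O -> G, lifting global sections from the closed fibre (exists_lift_section_closedFibre).
-/

set_option autoImplicit false
set_option linter.style.haveILetI false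
set_option linter.unusedVariables false
set_option linter.unusedSectionVars false
universe u
open CategoryTheory CategoryTheory.Limits Opposite AlgebraicGeometry TopologicalSpace

namespace Groth.Agent.Lib.T3H9.Rig

open Groth.Agent.Lib.T2H9.FFGeom Groth.Agent.Lib.T2H9.FlatFib Groth.Agent.Lib.T2H9.FibQuot Groth.Agent.Lib.T2H9.FibVan
open Groth.Agent.Lib.T2H9.FibLift Groth.Agent.Lib.T2H9.DualHom Groth.Agent.Lib.T2H9.BridgeH0
open Groth.Agent.Lib.T2H9.Alg Groth.Agent.Lib.Helper23.SecTw

section iso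

variable {Z X : Scheme.{u}}

/-- cohomology of the pullback along an isomorphism of schemes -/
theorem subsingleton_HH_pullback_of_isIso (a : Z ⟶ X) [IsIso a] (N : X.Modules) [N.IsQuasicoherent] (n : ℕ)
    (h : Subsingleton (Coh.HH X N n)) :
    Subsingleton (Coh.HH Z ((Scheme.Modules.pullback a).obj N) n) := by
  haveI : ((Scheme.Modules.pullback a).obj N).IsQuasicoherent :=
    Groth.Agent.Lib.Helper2.PullbackSec.isQuasicoherent_pullback a N
  have hb := Groth.Agent.Lib.T2H5.PushEdge.pushEdge_bijective_of_RpushAb a ((Scheme.Modules.pullback a).obj N)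
    (fun q => Groth.Agent.S0028.result a ((Scheme.Modules.pullback a).obj N) (q + 1) (Nat.succ_pos q)) n
  haveI := Groth.Agent.Lib.Helper4.PPSch.isIso_unit_app a N
  have h1 : Subsingleton (Coh.HH X ((Scheme.Modules.pushforward a).obj ((Scheme.Modules.pullback a).obj N)) n) :=
    Groth.Agent.Lib.T2H5.PnStruct.subsingleton_HH_of_iso
      (asIso ((Scheme.Modules.pullbackPushforwardAdjunction a).unit.app N)) n h
  haveI := h1
  exact hb.2.subsingleton

end iso

section lift

variable {A : Type u} [CommRing A] [IsNoetherianRing A]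
variable (X : Scheme.{u}) [X.Over (Spec (CommRingCat.of A))] [IsProper (X ↘ Spec (CommRingCat.of A))]
variable (𝔪 : Ideal A) [h𝔪 : 𝔪.IsMaximal]

include h𝔪 in
/-- lifting morphisms `O ⟶ G/𝔪G` to `O ⟶ G` when `H^1(X, G/𝔪G) = 0` -/
theorem exists_lift_unit_hom (G : X.Modules) (hG : Coh.IsCoh G)
    (hfl : FlatMod.IsFlatOver (X ↘ Spec (CommRingCat.of A)) G)
    (hvan : Subsingleton (Coh.HH X (cokernel (Formal.smulFamily 𝔪 G)) 1))
    (w : Coh.structureModule X ⟶ cokernel (Formal.smulFamily 𝔪 G)) :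
    ∃ u : Coh.structureModule X ⟶ G, u ≫ cokernel.π (Formal.smulFamily 𝔪 G) = w := by
  haveI := hG.1
  have hs : ∀ k, Function.Surjective (Groth.Agent.Lib.T2H9.FFMain.tL 𝔪 G 0 k) := fun k =>
    surjective_tL X G hfl 𝔪 0 hvan k
  have hsurj : Function.Surjective (Formal.toHHmodPow 𝔪 G 0 0) :=
    surjective_toHHmodPow X G 𝔪 hG 0 hs 0
  let t := tJ X G (𝔪 ^ (0 + 1)) 𝔪 (le_of_eq (by rw [zero_add, pow_one]))
  haveI : IsIso t := isIso_tJ_of_eq X G _ _ (by rw [zero_add, pow_one])
  have ht : Formal.modPowπ 𝔪 (0 + 1) G ≫ t = cokernel.π (Formal.smulFamily 𝔪 G) := π_tJ X G _ _ _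
  let πG := cokernel.π (Formal.smulFamily 𝔪 G)
  let ψ : preadditiveCoyoneda.obj (op (Coh.structureModule X)) ≅ CohIII.HAb X 0 :=
    unitGammaIso A ≪≫ (H0Iso A).symm
  have hsurj2 : Function.Surjective ((CohIII.HAb X 0).map πG).hom := by
    intro y
    let y' := ((CohIII.HAb X 0).map (inv t)).hom y
    obtain ⟨x, hx⟩ := hsurj y'
    refine ⟨x, ?_⟩
    have hfac : πG = Formal.modPowπ 𝔪 (0 + 1) G ≫ t := ht.symm
    rw [hfac, CategoryTheory.Functor.map_comp]
    change ((CohIII.HAb X 0).map t).hom (Formal.toHHmodPow 𝔪 G 0 0 x) = y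
    rw [hx]
    change ((CohIII.HAb X 0).map (inv t) ≫ (CohIII.HAb X 0).map t).hom y = y
    rw [← CategoryTheory.Functor.map_comp, IsIso.inv_hom_id, CategoryTheory.Functor.map_id]
    rfl
  obtain ⟨x, hx⟩ := hsurj2 ((ψ.hom.app _).hom w)
  refine ⟨(ψ.inv.app G).hom x, ?_⟩
  have hinj : Function.Injective (ψ.hom.app (cokernel (Formal.smulFamily 𝔪 G))).hom :=
    Function.LeftInverse.injective (g := (ψ.inv.app _).hom)
      (fun z => congrArg (fun φ => φ.hom z) (ψ.hom_inv_id_app _))
  apply hinj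
  have hnat := congrArg (fun φ => φ.hom ((ψ.inv.app G).hom x)) (ψ.hom.naturality πG)
  simp only [AddCommGrpCat.hom_comp, AddMonoidHom.comp_apply] at hnat
  have h2 : (ψ.hom.app G).hom ((ψ.inv.app G).hom x) = x :=
    congrArg (fun φ => φ.hom x) (ψ.inv_hom_id_app G)
  rw [h2] at hnat
  exact hnat.trans hx

end lift

section closed

variable {A : Type u} [CommRing A] [IsNoetherianRing A] [IsLocalRing A]
variable (X : Scheme.{u}) [X.Over (Spec (CommRingCat.of A))] [IsProper (X ↘ Spec (CommRingCat.of A))]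
variable {X₀ : Scheme.{u}} (i : X₀ ⟶ X) (q : X₀ ⟶ Spec (CommRingCat.of (IsLocalRing.ResidueField A)))
  (hpb : IsPullback i q (X ↘ Spec (CommRingCat.of A)) (rk A))

include hpb in
/-- **lifting sections from the closed fibre**: for `L` coherent and flat over `A` on `X` proper over the Noetherian local
ring `A`, with `H^1(X₀, L|X₀) = 0`, every global section of `L|X₀` lifts to `L`. -/
theorem exists_lift_section_closedFibre (L : X.Modules) (hL : Coh.IsCoh L)
    (hfl : FlatMod.IsFlatOver (X ↘ Spec (CommRingCat.of A)) L)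
    (hvan : Subsingleton (Coh.HH X₀ ((Scheme.Modules.pullback i).obj L) 1))
    (s₀ : ProjUP.Γm ((Scheme.Modules.pullback i).obj L)) :
    ∃ s : ProjUP.Γm L, ProjUP.pullSec i L s = s₀ := by
  haveI := hL.1
  haveI : IsClosedImmersion i := MorphismProperty.of_isPullback hpb.flip inferInstance
  have hv : Subsingleton (Coh.HH X (cokernel (Formal.smulFamily (IsLocalRing.maximalIdeal A) L)) 1) :=
    subsingleton_HH_cokernel X L i q (rk A) hpb (IsLocalRing.maximalIdeal A) (ker_φT_rk A) _ (Iso.refl _) 1 hvan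
  obtain ⟨c, hc⟩ := exists_iso_pushPull_compat X i q (rk A) hpb (IsLocalRing.maximalIdeal A) (ker_φT_rk A) L
  let u' : ProjUP.Γm ((Scheme.Modules.pushforward i).obj ((Scheme.Modules.pullback i).obj L)) := s₀
  obtain ⟨t, ht⟩ := exists_lift_unit_hom X (IsLocalRing.maximalIdeal A) L hL hfl hv (secHom _ u' ≫ c.inv)
  refine ⟨homSec t, ?_⟩
  rw [pullSec_eq]
  have h1 : homSec (t ≫ η i L) = (η i L).app ⊤ (homSec t) := homSec_comp t (η i L)
  rw [← h1]
  have h2 : t ≫ η i L = secHom _ u' := by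
    rw [← hc, ← Category.assoc, ht, Category.assoc, c.inv_hom_id, Category.comp_id]
  rw [h2, homSec_secHom]

end closed

end Groth.Agent.Lib.T3H9.Rig
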