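import Mathlib
import Groth.Agent.Lib.T3H9Rig5
import Groth.Agent.Lib.T3H9Rig4
import Groth.Agent.Lib.T3H9Rig3
import Groth.Agent.Lib.T3H9PicLift2
import Groth.Agent.Lib.T2H5PnStruct
import Groth.Agent.Lib.Helper13ProjUPb
import Groth.Agent.S9705

/-!
Rigidity of projective space (SGA1 III), part 6: base change of projective space in terms of the universal property (exists_isIso_lift_projSpace), and the main theorem: a proper flat scheme over a complete Noetherian local ring whose closed fibre is P^r_k is P^r_A.
-/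

set_option autoImplicit false
set_option linter.style.haveILetI false
set_option linter.unusedVariables false
set_option linter.unusedSectionVars false
universe u
open CategoryTheory CategoryTheory.Limits Opposite AlgebraicGeometry TopologicalSpace

namespace Groth.Agent.Lib.T3H9.Rig

open Dat

section bc

variable (n : ℕ) (A B : Type u) [CommRing A] [CommRing B]
  (g : Spec (CommRingCat.of B) ⟶ Spec (CommRingCat.of A))

/-- **base change of projective space**: `P^n_B ≅ P^n_A ×_A B`, compatibly with the universal data. -/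
theorem exists_isIso_lift_projSpace :
    ∃ (b : CohB1.ProjSpace n B ⟶ CohB1.ProjSpace n A)
      (hb : b ≫ CohB1.ProjSpace.toSpec n A = CohB1.ProjSpace.toSpec n B ≫ g),
      Equiv (pull b (univ n A)) (univ n B) ∧
      IsIso (pullback.lift b (CohB1.ProjSpace.toSpec n B) hb) := by
  obtain ⟨b, hb, hbe⟩ := exists_mor (R := A) (CohB1.ProjSpace.toSpec n B ≫ g) (univ n B)
    (isInvertible_univ n B) (generatedBy_univ n B)
  refine ⟨b, hb, hbe, ?_⟩
  set iP := pullback.fst (CohB1.ProjSpace.toSpec n A) g with hiP
  set qP := pullback.snd (CohB1.ProjSpace.toSpec n A) g with hqP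
  set v := pullback.lift b (CohB1.ProjSpace.toSpec n B) hb with hv
  have hv1 : v ≫ iP = b := pullback.lift_fst _ _ _
  have hv2 : v ≫ qP = CohB1.ProjSpace.toSpec n B := pullback.lift_snd _ _ _
  have hcond : iP ≫ CohB1.ProjSpace.toSpec n A = qP ≫ g := pullback.condition
  obtain ⟨u, hu, hue⟩ := exists_mor (R := B) qP (pull iP (univ n A))
    (isInvertible_pull iP _ (isInvertible_univ n A)) (generatedBy_pull_univ iP)
  have h1 : v ≫ u = 𝟙 _ := by
    apply ext (R := B)
    · rw [Category.assoc, hu, hv2, Category.id_comp]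
    · refine (pull_comp v u _).symm.trans ?_
      refine (pull_equiv v hue).trans ?_
      refine (pull_comp v iP _).trans ?_
      refine (pull_congr hv1 _).trans ?_
      refine hbe.trans ?_
      exact (pull_id _).symm
  have h2 : u ≫ b = iP := by
    apply ext (R := A)
    · rw [Category.assoc, hb, ← Category.assoc, hu, hcond]
    · refine (pull_comp u b _).symm.trans ?_
      refine (pull_equiv u hbe).trans ?_
      exact hue
  have h3 : u ≫ v = 𝟙 _ := by
    apply pullback.hom_ext
    · rw [Category.assoc, Category.id_comp]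
      exact (congrArg (fun t => u ≫ t) hv1).trans h2
    · rw [Category.assoc, Category.id_comp]
      exact (congrArg (fun t => u ≫ t) hv2).trans hu
  exact ⟨u, h1, h3⟩

end bc

section main

open Groth.Agent.Lib.Helper23.SecTw

variable (A : Type u) [CommRing A] [IsLocalRing A] [IsNoetherianRing A]
  [IsAdicComplete (IsLocalRing.maximalIdeal A) A] (r : ℕ) {X : Scheme.{u}}
  (f : X ⟶ Spec (CommRingCat.of A)) [IsProper f] [Flat f]
  (e₀ : pullback f (rk A) ≅ CohB1.ProjSpace r (IsLocalRing.ResidueField A))
  (he₀ : e₀.hom ≫ CohB1.ProjSpace.toSpec r (IsLocalRing.ResidueField A) = pullback.snd f (rk A))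

include he₀ in
/-- **SGA1 III 7.x**: a proper flat scheme over a complete Noetherian local ring whose closed fibre is a projective space
is a projective space. -/
theorem main : ∃ e : X ≅ CohB1.ProjSpace r A, e.hom ≫ CohB1.ProjSpace.toSpec r A = f := by
  letI : X.Over (Spec (CommRingCat.of A)) := ⟨f⟩
  haveI : IsProper (X ↘ Spec (CommRingCat.of A)) := ‹IsProper f›
  set i := pullback.fst f (rk A) with hi
  set q := pullback.snd f (rk A) with hq
  have hpb : IsPullback i q f (rk A) := IsPullback.of_hasPullback _ _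
  -- the datum on the closed fibre
  let D₀ : Dat (pullback f (rk A)) r := pull e₀.hom (univ r (IsLocalRing.ResidueField A))
  have hD₀inv : PicF.IsInvertible D₀.N := isInvertible_pull _ _ (isInvertible_univ r _)
  have hD₀gen : ProjUP.GeneratedBy D₀.N D₀.σ := generatedBy_pull_univ e₀.hom
  -- lifting the invertible module
  have h2 : Subsingleton (Coh.HH (pullback f (rk A)) (Coh.structureModule _) 2) :=
    Groth.Agent.Lib.T3H9.PicLift.subsingleton_HH_structure_of_isIso e₀.inv 2
      (Groth.Agent.Lib.T2H5.PnStruct.subsingleton_HH_structure r _ 2 (by norm_num))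
  obtain ⟨L, hL, ⟨ε⟩⟩ := Groth.Agent.Lib.T3H9.PicLift.main A f h2 D₀.N hD₀inv
  have hLf : FlatMod.IsFinLocFree L := Groth.Agent.Helper18PBUnit.isFinLocFree_of_isInvertible hL
  have hLc : Coh.IsCoh L := Groth.Agent.Lib.T2H5.RegPush.isCoh_of_isFinLocFree L hLf
  have hLfl : FlatMod.IsFlatOver f L := Groth.Agent.Lib.T2H5.RegPush.isFlatOver_of_isFinLocFree f L hLf
  -- vanishing of `H¹`
  have h1 : Subsingleton (Coh.HH (pullback f (rk A)) ((Scheme.Modules.pullback i).obj L) 1) := by
    apply Groth.Agent.Lib.T2H5.PnStruct.subsingleton_HH_of_iso ε.symm 1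
    haveI : (Twist.twistProjSpace r (IsLocalRing.ResidueField A) 1).IsQuasicoherent :=
      Groth.Agent.Lib.Helper23.SecTw.isQuasicoherent_of_isInvertible _ (isInvertible_univ r _)
    exact subsingleton_HH_pullback_of_isIso e₀.hom (Twist.twistProjSpace r (IsLocalRing.ResidueField A) 1) 1
      (Groth.Agent.Lib.T2H5.PnVanish.subsingleton_HH_twist r _ 1 1 (fun h => by omega)
        (fun h => by have := h.2; omega))
  -- lifting the sections
  have hlift : ∀ j, ∃ s : ProjUP.Γm L, ProjUP.pullSec i L s = ε.inv.app ⊤ (D₀.σ j) := fun j =>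
    exists_lift_section_closedFibre X i q hpb L hLc hLfl h1 _
  choose s hs using hlift
  let D : Dat X r := ⟨L, s⟩
  have hDe : Equiv (pull i D) D₀ := ⟨ε, fun j => by
    change ε.hom.app ⊤ (ProjUP.pullSec i L (s j)) = _
    rw [hs j]
    change (ε.inv ≫ ε.hom).app ⊤ _ = _
    rw [ε.inv_hom_id]
    rfl⟩
  -- generation
  have hgen : ProjUP.GeneratedBy L s := by
    apply Groth.Agent.Lib.T2H6.VAmple.generatedBy_of_cover L s
    set W : X.Opens := ⨆ j, CohB1.genLocus L (secHom L (s j)) with hW
    have hfib : ∀ z : X, f z = IsLocalRing.closedPoint A → z ∈ W := by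
      intro z hz
      have hz' : z ∈ Set.range i := by
        rw [range_closedFibre f i q hpb]
        exact hz
      obtain ⟨x₀, rfl⟩ := hz'
      obtain ⟨j, hj⟩ := Groth.Agent.Helper13ProjUP.exists_mem_genLocus D₀.N hD₀inv D₀.σ hD₀gen x₀
      obtain ⟨τ, hτ⟩ := hDe
      have hcomp := Groth.Agent.Lib.T2H9.Alg.genLocus_of_compat i L hL D₀.N τ (s j) (D₀.σ j) (hτ j)
      rw [hcomp] at hj
      exact TopologicalSpace.Opens.mem_iSup.2 ⟨j, hj⟩
    have htop : W = ⊤ := by
      by_contra hne
      have hcl : IsClosed ((W : Set X))ᶜ := W.2.isClosed_compl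
      have hnonempty : ((W : Set X)ᶜ).Nonempty := by
        rw [Set.nonempty_compl]
        intro h
        apply hne
        ext x
        simp only [h, Set.mem_univ]
        exact ⟨fun _ => trivial, fun _ => trivial⟩
      obtain ⟨z, hz, hzc⟩ := exists_mem_closedFibre f hcl hnonempty
      exact hz (hfib z hzc)
    intro x
    have hx : x ∈ W := by rw [htop]; trivial
    exact TopologicalSpace.Opens.mem_iSup.1 hx
  -- the morphism to projective space
  obtain ⟨φ, hφ, hφe⟩ := exists_mor (R := A) f D hL hgen
  obtain ⟨b, hb, hbe, hviso⟩ := exists_isIso_lift_projSpace r A (IsLocalRing.ResidueField A) (rk A)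
  have hkey : i ≫ φ = e₀.hom ≫ b := by
    apply ext (R := A)
    · rw [Category.assoc, hφ, Category.assoc, hb, ← Category.assoc, he₀]
      exact pullback.condition
    · refine (pull_comp i φ _).symm.trans ?_
      refine (pull_equiv i hφe).trans ?_
      refine hDe.trans ?_
      refine Dat.Equiv.trans ?_ (pull_comp e₀.hom b _)
      exact (pull_equiv e₀.hom hbe).symm
  let φ₀ := e₀.hom ≫ pullback.lift b (CohB1.ProjSpace.toSpec r (IsLocalRing.ResidueField A)) hb
  haveI : IsIso φ₀ := inferInstance
  have hφ₀ : φ₀ ≫ pullback.fst (CohB1.ProjSpace.toSpec r A) (rk A) = i ≫ φ := by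
    rw [Category.assoc, pullback.lift_fst, hkey]
  haveI : IsProper (CohB1.ProjSpace.toSpec r A) := Groth.Agent.S9705.isProper_projSpace_toSpec r A
  haveI : IsIso φ := isIso_of_closedFibre f (CohB1.ProjSpace.toSpec r A) φ hφ i q
    (pullback.fst _ _) (pullback.snd _ _) hpb (IsPullback.of_hasPullback _ _) φ₀ hφ₀
  exact ⟨asIso φ, hφ⟩

end main

end Groth.Agent.Lib.T3H9.Rig
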